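import Mathlib
import Cfsg.Prelude.Def_Characters
import Cfsg.Agent.Lib.Helper2.CharBridge
import Cfsg.Agent.Lib.Helper8.SchurAux

set_option autoImplicit false

namespace Cfsg.Agent.Lib.Helper25

open Cfsg.Agent.Lib.Helper2 Cfsg.Agent.Lib.Helper8 Module

variable {G : Type*} [Group G] {V : Type*} [AddCommGroup V] [Module ℂ V] [FiniteDimensional ℂ V]

/-- Schur: a central element acts as a scalar in an irreducible representation -/
theorem central_scalar (ρ : Representation ℂ G V) (hρ : ρ.IsIrreducible) (z : G)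
    (hz : z ∈ Subgroup.center G) : ∃ ω : ℂ, ρ z = ω • 1 := by
  apply schur_scalar ρ hρ
  intro g
  change ρ z * ρ g = ρ g * ρ z
  rw [← map_mul, ← map_mul, Subgroup.mem_center_iff.mp hz g]

omit [FiniteDimensional ℂ V] in
/-- if `z` acts as the scalar `ω` then `χ (z h) = ω χ h` -/
theorem char_scalar_mul (ρ : Representation ℂ G V) {z : G} {ω : ℂ} (hω : ρ z = ω • 1) (h : G) :
    ρ.character (z * h) = ω * ρ.character h := by
  unfold Representation.character
  rw [map_mul, hω, smul_mul_assoc, one_mul, map_smul, smul_eq_mul]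

omit [FiniteDimensional ℂ V] in
theorem char_mul_scalar (ρ : Representation ℂ G V) {z : G} {ω : ℂ} (hω : ρ z = ω • 1) (h : G) :
    ρ.character (h * z) = ρ.character h * ω := by
  unfold Representation.character
  rw [map_mul, hω, mul_smul_comm, mul_one, map_smul, smul_eq_mul, mul_comm]

omit [FiniteDimensional ℂ V] in
/-- the scalar by which an element of finite order acts is a root of unity -/
theorem scalar_pow_orderOf [Nontrivial V] (ρ : Representation ℂ G V) {z : G} {ω : ℂ}
    (hω : ρ z = ω • 1) : ω ^ orderOf z = 1 := by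
  have hpow : (ρ z) ^ orderOf z = 1 := by rw [← map_pow, pow_orderOf_eq_one, map_one]
  rw [hω, smul_pow, one_pow] at hpow
  obtain ⟨x, hx⟩ := exists_ne (0 : V)
  have h2 : (ω ^ orderOf z • (1 : Module.End ℂ V)) x = (1 : Module.End ℂ V) x := by rw [hpow]
  simp only [LinearMap.smul_apply, Module.End.one_apply] at h2
  have h3 : (ω ^ orderOf z - 1) • x = 0 := by rw [sub_smul, one_smul, h2, sub_self]
  rcases smul_eq_zero.mp h3 with h4 | h4
  · exact sub_eq_zero.mp h4
  · exact absurd h4 hx

omit [FiniteDimensional ℂ V] in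
theorem scalar_norm [Finite G] [Nontrivial V] (ρ : Representation ℂ G V) {z : G} {ω : ℂ}
    (hω : ρ z = ω • 1) : ‖ω‖ = 1 :=
  norm_eq_one_of_pow_eq_one (orderOf_pos z) (scalar_pow_orderOf ρ hω)

omit [FiniteDimensional ℂ V] in
theorem scalar_mul [Nontrivial V] (ρ : Representation ℂ G V) {z w : G} {a b c : ℂ}
    (ha : ρ z = a • 1) (hb : ρ w = b • 1) (hc : ρ (z * w) = c • 1) : c = a * b := by
  rw [map_mul, ha, hb, smul_mul_smul_comm, one_mul] at hc
  obtain ⟨x, hx⟩ := exists_ne (0 : V)
  have h2 : ((a * b) • (1 : Module.End ℂ V)) x = (c • (1 : Module.End ℂ V)) x := by rw [hc]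
  simp only [LinearMap.smul_apply, Module.End.one_apply] at h2
  have h3 : (a * b - c) • x = 0 := by rw [sub_smul, h2, sub_self]
  rcases smul_eq_zero.mp h3 with h4 | h4
  · exact (sub_eq_zero.mp h4).symm
  · exact absurd h4 hx

end Cfsg.Agent.Lib.Helper25
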