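import Mathlib
import Cfsg.Prelude
import Cfsg.Agent.Lib.Helper2.GoingDown
import Cfsg.Agent.Lib.Helper2.ItoConv
import Cfsg.Agent.Lib.Helper2.CharMore
import Cfsg.Agent.Lib.Helper2.CharBasic
import Cfsg.Agent.Lib.Helper2.CharProd
import Cfsg.Agent.Lib.Helper2.IndFun

set_option autoImplicit false

/-!
Kernels of the irreducible characters of degree prime to `p`, part 2: general facts on
constituents.  A character of degree prime to `p` has an irreducible constituent of degree prime
to `p`; an irreducible character of degree prime to `p` of a subgroup of index prime to `p` lies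
under an irreducible character of degree prime to `p`; constituents of a character inherit its
kernel; transitivity of "lying over"; Clifford's theorem for the trivial character.
-/

namespace Cfsg.Agent.Lib.Helper25

open Cfsg Cfsg.Agent.Lib.Helper2
open scoped ComplexConjugate

/-- a character of degree prime to `p` has an irreducible constituent of degree prime to `p` -/
theorem kerpd_constituent {G : Type*} [Group G] [Fintype G] (p : ℕ) {Θ : G → ℂ}
    (hΘ : IsCharacter G Θ) (n : ℕ) (hn : Θ 1 = (n : ℂ)) (hpn : ¬ p ∣ n) :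
    ∃ ψ : G → ℂ, IsIrrCharacter G ψ ∧ classInner Θ ψ ≠ 0 ∧
      ∃ e : ℕ, ψ 1 = (e : ℂ) ∧ ¬ p ∣ e := by
  classical
  have := Fintype.ofFinite (IrrCharacter G)
  by_contra hcon
  push Not at hcon
  apply hpn
  have h1 := char_apply_one_eq_sum hΘ
  have h2 : ∀ ψ : IrrCharacter G, ∃ k : ℕ,
      classInner Θ ψ * (ψ : G → ℂ) 1 = ((p * k : ℕ) : ℂ) := by
    intro ψ
    obtain ⟨m, hm⟩ := classInner_isCharacter_nat hΘ (isCharacter_of_isIrrCharacter ψ.2)
    obtain ⟨e, -, he⟩ := irr_apply_one ψ.2
    by_cases h0 : m = 0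
    · exact ⟨0, by rw [hm, h0]; simp⟩
    · have h3 : classInner Θ ψ ≠ 0 := by
        rw [hm]
        exact_mod_cast h0
      obtain ⟨k, hk⟩ := hcon ψ ψ.2 h3 e he
      exact ⟨m * k, by rw [hm, he, hk]; push_cast; ring⟩
  choose k hk using h2
  rw [hn] at h1
  have h4 : (n : ℂ) = ((p * ∑ ψ : IrrCharacter G, k ψ : ℕ) : ℂ) := by
    rw [h1, Finset.mul_sum]
    push_cast
    apply Finset.sum_congr rfl
    intro ψ _
    rw [hk ψ]
    push_cast
    ring
  have h5 : n = p * ∑ ψ : IrrCharacter G, k ψ := by exact_mod_cast h4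
  exact Dvd.intro _ h5.symm

/-- an irreducible character of degree prime to `p` of a subgroup of index prime to `p` lies
under an irreducible character of degree prime to `p` -/
theorem kerpd_exists_over {G : Type*} [Group G] [Fintype G] (p : ℕ) [hp : Fact p.Prime]
    (H : Subgroup G) [Fintype H] (hidx : ¬ p ∣ H.index) {ψ : H → ℂ}
    (hψ : IsIrrCharacter H ψ) (e : ℕ) (he : ψ 1 = (e : ℂ)) (hpe : ¬ p ∣ e) :
    ∃ χ : G → ℂ, IsIrrCharacter G χ ∧ classInner (fun h : H => χ h) ψ ≠ 0 ∧
      ∃ d : ℕ, χ 1 = (d : ℂ) ∧ ¬ p ∣ d := by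
  classical
  have hΦ : IsCharacter G (indFun H ψ) :=
    indFun_isCharacter H (isCharacter_of_isIrrCharacter hψ)
  have h1 : indFun H ψ 1 = ((H.index * e : ℕ) : ℂ) := by
    rw [indFun_apply_one, he]
    push_cast
    ring
  have hpn : ¬ p ∣ H.index * e := fun h => (hp.out.dvd_mul.mp h).elim hidx hpe
  obtain ⟨χ, hχ, hne, d, hd, hpd⟩ := kerpd_constituent p hΦ _ h1 hpn
  refine ⟨χ, hχ, ?_, d, hd, hpd⟩
  rw [frobenius_reciprocity H ψ χ (isClassFunction_of_isIrrCharacter hχ)] at hne
  intro h0
  apply hne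
  rw [← classInner_conj_symm, h0, map_zero]

/-- the irreducible constituents of a character inherit its kernel -/
theorem kerpd_ker_constituent {H : Type*} [Group H] [Fintype H] {Θ : H → ℂ}
    (hΘ : IsCharacter H Θ) {x : H} (hx : Θ x = Θ 1) {ψ : H → ℂ} (hψ : IsIrrCharacter H ψ)
    (hne : classInner Θ ψ ≠ 0) : ψ x = ψ 1 := by
  have hΔ := IsCharacter.sub_irr hΘ hψ hne
  obtain ⟨n, ρ, hρ⟩ := hΔ
  obtain ⟨m, σ, hσ⟩ := isCharacter_of_isIrrCharacter hψ
  have h1 : ‖ρ.character x‖ ≤ (n : ℝ) := by simpa using norm_char_le ρ x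
  have h2 : ‖σ.character x‖ ≤ (m : ℝ) := by simpa using norm_char_le σ x
  have h3 : ρ.character 1 = (n : ℂ) := by
    rw [Representation.char_one]
    simp
  have h4 : σ.character 1 = (m : ℂ) := by
    rw [Representation.char_one]
    simp
  have h5 : Θ = ψ + ρ.character := by
    rw [hρ]
    abel
  have h6 : ψ x + ρ.character x = ψ 1 + ρ.character 1 := by
    have h := hx
    rw [h5] at h
    simpa using h
  rw [← hσ] at h6 ⊢
  rw [h3, h4] at h6
  rw [h4]
  have hre1 : (σ.character x).re ≤ m := (Complex.re_le_norm _).trans h2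
  have hre2 : (ρ.character x).re ≤ n := (Complex.re_le_norm _).trans h1
  have hre : (σ.character x).re + (ρ.character x).re = m + n := by
    have h := congrArg Complex.re h6
    simpa using h
  have hre3 : (σ.character x).re = m := by linarith
  have him : (σ.character x).im = 0 := by
    have h7 := Complex.sq_norm (σ.character x)
    rw [Complex.normSq_apply] at h7
    have h8 : ‖σ.character x‖ ^ 2 ≤ (m : ℝ) ^ 2 := pow_le_pow_left₀ (norm_nonneg _) h2 2
    rw [hre3] at h7
    nlinarith [sq_nonneg (σ.character x).im]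
  apply Complex.ext
  · simpa using hre3
  · simpa using him

/-- transitivity of lying over, along homomorphisms -/
theorem kerpd_over_trans {G M N : Type*} [Group G] [Group M] [Fintype M] [Group N] [Fintype N]
    (f : M →* G) (g : N →* M) {χ : G → ℂ} (hχ : IsCharacter G χ) {η : M → ℂ}
    (hη : IsIrrCharacter M η) {θ : N → ℂ} (hθ : IsIrrCharacter N θ)
    (h1 : classInner (χ ∘ f) η ≠ 0) (h2 : classInner (η ∘ g) θ ≠ 0) :
    classInner ((χ ∘ f) ∘ g) θ ≠ 0 := by
  have hΘ : IsCharacter M (χ ∘ f) := IsCharacter.comp_hom hχ f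
  have hΔ := IsCharacter.sub_irr hΘ hη h1
  have hΔN : IsCharacter N ((χ ∘ f - η) ∘ g) := IsCharacter.comp_hom hΔ g
  have hηN : IsCharacter N (η ∘ g) :=
    IsCharacter.comp_hom (isCharacter_of_isIrrCharacter hη) g
  have hθc := isCharacter_of_isIrrCharacter hθ
  obtain ⟨n1, hn1⟩ := classInner_isCharacter_nat hηN hθc
  obtain ⟨n2, hn2⟩ := classInner_isCharacter_nat hΔN hθc
  have e : (χ ∘ f) ∘ g = η ∘ g + (χ ∘ f - η) ∘ g := by
    funext x
    simp only [Function.comp_apply, Pi.add_apply, Pi.sub_apply]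
    ring
  rw [e, classInner_add_left, hn1, hn2]
  rw [hn1] at h2
  have h3 : n1 ≠ 0 := by
    intro h0
    apply h2
    rw [h0]
    simp
  have h : ((n1 + n2 : ℕ) : ℂ) ≠ 0 := by
    exact_mod_cast (by omega : n1 + n2 ≠ 0)
  push_cast at h
  exact h

/-- Clifford: an irreducible character whose restriction to a normal subgroup contains the
trivial character is trivial on that subgroup -/
theorem kerpd_clifford_ker {G : Type*} [Group G] [Fintype G] (K : Subgroup G) [hK : K.Normal]
    [Fintype K] {χ : G → ℂ} (hχ : IsIrrCharacter G χ)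
    (hcon : classInner (fun k : K => χ k) (fun _ => (1 : ℂ)) ≠ 0) : ∀ k ∈ K, χ k = χ 1 := by
  classical
  obtain ⟨e, he0, he⟩ := clifford_sum K hχ (isIrrCharacter_one (G := K)) hcon
  have h1 : Finset.univ.image (fun k : G => Helper2.conjFun K (fun _ : K => (1 : ℂ)) k)
      = {fun _ => 1} := by
    ext ψ
    simp only [Finset.mem_image, Finset.mem_univ, true_and, Finset.mem_singleton]
    constructor
    · rintro ⟨k, rfl⟩
      funext n
      rw [conjFun_apply]
    · rintro rfl
      exact ⟨1, by funext n; rw [conjFun_apply]⟩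
  rw [h1, Finset.sum_singleton] at he
  intro k hk
  have h2 := congrFun he ⟨k, hk⟩
  have h3 := congrFun he 1
  simp only [Pi.smul_apply, smul_eq_mul, mul_one] at h2 h3
  rw [h2]
  exact h3.symm

end Cfsg.Agent.Lib.Helper25
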