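import Mathlib
import Cfsg.Agent.Lib.Helper25.BrauerPair9
import Cfsg.Agent.Lib.Helper8.InducedBlock

set_option autoImplicit false

/-!
The block of the stabilizer of a Brauer pair, and the block over a normal `p`-subgroup as the
trace of a block of its centralizer.
-/

namespace Cfsg.Agent.Lib.Helper25

open Cfsg Cfsg.Agent.Lib.Helper2 Cfsg.Agent.Lib.Helper8

section stab

variable {G : Type*} [Group G]

theorem nIrr_eq_self_of_mem (H : Subgroup G) [Fintype H]
    (n : ↥(Subgroup.normalizer (H : Set G))) (hn : (n : G) ∈ H) (ξ : IrrCharacter H) :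
    nIrr H n ξ = ξ := by
  apply Subtype.ext
  funext c
  rw [nIrr_apply]
  have hcf := isClassFunction_of_isIrrCharacter ξ.2
  have h1 := hcf c (⟨(n : G), hn⟩ : H)⁻¹
  rw [← h1]
  refine congrArg _ (Subtype.ext ?_)
  rfl

theorem nIrr_eq_self_of_comm (H : Subgroup G) [Fintype H]
    (n : ↥(Subgroup.normalizer (H : Set G))) (hn : ∀ h ∈ H, (n : G) * h = h * (n : G))
    (ξ : IrrCharacter H) : nIrr H n ξ = ξ := by
  apply Subtype.ext
  funext c
  rw [nIrr_apply]
  refine congrArg _ (Subtype.ext ?_)
  change (n : G)⁻¹ * (c : G) * (n : G)⁻¹⁻¹ = c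
  rw [inv_inv, mul_assoc, ← hn c c.2, inv_mul_cancel_left]

theorem conjSet_eq_self_of_forall (H : Subgroup G) [Fintype H]
    (n : ↥(Subgroup.normalizer (H : Set G))) (f : Set (IrrCharacter H))
    (h : ∀ ξ : IrrCharacter H, nIrr H n ξ = ξ) : conjSet H n f = f := by
  unfold conjSet
  have : nIrr H n = id := funext h
  rw [this, Set.image_id]

theorem stabilizesBlock_of_mem_centralizer [Finite G] (Q : Subgroup G)
    (f : Set (IrrCharacter (Subgroup.centralizer (Q : Set G)))) {c : G}
    (hc : c ∈ Subgroup.centralizer (Q : Set G)) :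
    StabilizesBlock (Subgroup.centralizer (Q : Set G)) f c := by
  classical
  have : Fintype (Subgroup.centralizer (Q : Set G)) := Fintype.ofFinite _
  have hcN : c ∈ Subgroup.normalizer ((Subgroup.centralizer (Q : Set G) : Subgroup G) : Set G) :=
    Subgroup.le_normalizer hc
  have := (stabilizesBlock_iff (Subgroup.centralizer (Q : Set G)) ⟨c, hcN⟩ f).mpr (by
    rw [conjSet_eq_self_of_forall _ _ f (fun ξ => nIrr_eq_self_of_mem _ _ hc ξ)])
  exact this

theorem stabilizesBlock_of_mem [Finite G] (Q : Subgroup G)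
    (f : Set (IrrCharacter (Subgroup.centralizer (Q : Set G)))) {u : G} (hu : u ∈ Q) :
    StabilizesBlock (Subgroup.centralizer (Q : Set G)) f u := by
  classical
  have : Fintype (Subgroup.centralizer (Q : Set G)) := Fintype.ofFinite _
  have huN : u ∈ Subgroup.normalizer ((Subgroup.centralizer (Q : Set G) : Subgroup G) : Set G) :=
    normalizer_le_normalizer_centralizer Q (Subgroup.le_normalizer hu)
  have := (stabilizesBlock_iff (Subgroup.centralizer (Q : Set G)) ⟨u, huN⟩ f).mpr (by
    rw [conjSet_eq_self_of_forall _ _ f (fun ξ => nIrr_eq_self_of_comm _ _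
      (fun h hh => Subgroup.mem_centralizer_iff.mp hh u hu) ξ)])
  exact this

variable [Fintype G] {p : ℕ} {M : Ideal AlgInt}

/-- the block of the stabilizer `T` of a block `f` of the centralizer of a `p`-subgroup `Q`
whose idempotent is that of `f` -/
theorem exists_block_of_stabilizer [Fact p.Prime] (hM : IsPModular p M) (Q : Subgroup G)
    (hQ : IsPGroup p Q) (f : Set (IrrCharacter (Subgroup.centralizer (Q : Set G))))
    (hf : IsPBlock M f) (T : Subgroup G) [Fintype T]
    (hT : ∀ y : G, y ∈ T ↔ y ∈ Subgroup.normalizer (Q : Set G) ∧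
      StabilizesBlock (Subgroup.centralizer (Q : Set G)) f y) :
    ∃ F : Set (IrrCharacter T), IsPBlock M F ∧
      (∀ t : T, blockCoeff F t = subgroupBlockCoeff (Subgroup.centralizer (Q : Set G)) f (t : G)) ∧
      ∀ ψ ∈ F, ∀ ξ ∈ f, ∀ r : T → ℂ, IsClassFunction T r → (∀ x, MemLocalRing M (r x)) →
        MemLocalIdeal M (brauerOmega Q (extendByZero T r)
          (ξ : Subgroup.centralizer (Q : Set G) → ℂ) - omegaFun (ψ : T → ℂ) r) := by
  classical
  have : Fintype (Subgroup.centralizer (Q : Set G)) := Fintype.ofFinite _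
  have hQT : Q ≤ T := fun u hu =>
    (hT u).mpr ⟨Subgroup.le_normalizer hu, stabilizesBlock_of_mem Q f hu⟩
  have hCT : Subgroup.centralizer (Q : Set G) ≤ T := fun c hc =>
    (hT c).mpr ⟨Subgroup.centralizer_le_normalizer _ hc, stabilizesBlock_of_mem_centralizer Q f hc⟩
  have hTN : T ≤ Subgroup.normalizer (Q : Set G) := fun y hy => ((hT y).mp hy).1
  have hNC := normalizer_le_normalizer_centralizer Q
  obtain ⟨b, hb, hbcoef, hbom⟩ := exists_block_over hM Q T hQ hQT hCT hTN f hf
  have hO : orbitSet (Subgroup.centralizer (Q : Set G)) T (hTN.trans hNC) f = f := by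
    apply Set.Subset.antisymm
    · rintro ξ' ⟨n, hn⟩
      have h1 := ((hT n).mp n.2).2
      have h2 := (stabilizesBlock_iff (Subgroup.centralizer (Q : Set G))
        (Subgroup.inclusion (hTN.trans hNC) n) f).mp h1
      exact h2 hn
    · exact subset_orbitSet _ _ _ f
  rw [hO] at hbcoef
  refine ⟨b, hb, fun t => ?_, hbom⟩
  have := congrFun hbcoef (t : G)
  rwa [extendByZero_coe] at this

/-- a block induced from a subgroup that is the whole group has the same idempotent -/
theorem blockCoeff_eq_of_induced_top [Fact p.Prime] (hM : IsPModular p M) (N : Subgroup G)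
    [Fintype N] (hN : ∀ g : G, g ∈ N) {b : Set (IrrCharacter N)} {B : Set (IrrCharacter G)}
    (hind : IsInducedBlock M N b B) (g : G) : blockCoeff B g = blockCoeff b ⟨g, hN g⟩ := by
  classical
  have hpr := isPrime_of_isPModular hM
  let φ : ↥N ≃* G :=
    { toFun := fun n => (n : G)
      invFun := fun g => ⟨g, hN g⟩
      left_inv := fun n => rfl
      right_inv := fun g => rfl
      map_mul' := fun a b => rfl }
  have hb := hind.1
  have hB := hind.2.1
  have hB' : IsPBlock M (isoIrr φ '' b) := isPBlock_image_isoIrr φ hb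
  obtain ⟨ξ, hξ⟩ := isPBlock_nonempty hM hb
  obtain ⟨χ, hχ⟩ := isPBlock_nonempty hM hB
  have hcc : ∀ g : G, centralChar (isoIrr φ ξ : G → ℂ) g = inducedCentralChar N (ξ : N → ℂ) g := by
    intro g
    rw [inducedCentralChar_eq_omegaFun, ← omegaFun_indicator_isConj]
    unfold omegaFun
    have h1 : (isoIrr φ ξ : G → ℂ) 1 = (ξ : N → ℂ) 1 := by
      rw [isoIrr_apply, map_one]
    rw [h1]
    congr 1
    symm
    apply Fintype.sum_equiv φ.toEquiv
    intro n
    have h2 : (isoIrr φ ξ : G → ℂ) (φ.toEquiv n) = (ξ : N → ℂ) n := by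
      change (ξ : N → ℂ) (φ.symm (φ n)) = _
      rw [MulEquiv.symm_apply_apply]
    rw [h2]
    rfl
  have hs : SameBlock M (χ : G → ℂ) (isoIrr φ ξ : G → ℂ) := by
    intro g
    have h1 := hind.2.2 ξ hξ χ hχ g
    rw [hcc g]
    have := MemLocalIdeal.neg M h1
    rwa [neg_sub] at this
  have hmem : isoIrr φ ξ ∈ B := blockClosed_of_isPBlock M hB χ hχ _ hs
  have hBB : isoIrr φ '' b = B := isPBlock_eq_of_mem hM hB' hB ⟨ξ, hξ, rfl⟩ hmem
  rw [← hBB]
  exact blockCoeff_image_isoIrr φ b ⟨g, hN g⟩

omit [Fintype G] in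
/-- the extended idempotent of a union of blocks is the sum of those of the blocks in it -/
theorem subgroupBlockCoeff_eq_sum_blocks [Fact p.Prime] (hM : IsPModular p M) (H : Subgroup G)
    [Fintype H] (O : Set (IrrCharacter H)) (hO : BlockClosed M O)
    [Fintype {f : Set (IrrCharacter H) // IsPBlock M f}]
    [DecidablePred (fun f : Set (IrrCharacter H) => f ⊆ O)] (g : G) :
    subgroupBlockCoeff H O g = ∑ f : {f : Set (IrrCharacter H) // IsPBlock M f},
      if f.1 ⊆ O then subgroupBlockCoeff H f.1 g else 0 := by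
  rw [subgroupBlockCoeff_eq]
  by_cases hg : g ∈ H
  · rw [extendByZero_of_mem _ _ hg]
    have h3 := congrFun (blockCoeff_eq_sum_blocks H hM O hO) ⟨g, hg⟩
    rw [h3, Finset.sum_apply]
    apply Finset.sum_congr rfl
    intro f _
    by_cases hfO : f.1 ⊆ O
    · rw [if_pos hfO, if_pos hfO, subgroupBlockCoeff_eq, extendByZero_of_mem _ _ hg]
    · rw [if_neg hfO, if_neg hfO]
      rfl
  · rw [extendByZero_of_not_mem _ _ hg]
    symm
    apply Finset.sum_eq_zero
    intro f _
    split_ifs
    · rw [subgroupBlockCoeff_eq, extendByZero_of_not_mem _ _ hg]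
    · rfl

/-- over a normal `p`-subgroup `P`, the idempotent of a block `B` is the sum of the distinct
conjugates of the idempotent of a block `e` of `C(P)` with `(P, e)` a Brauer pair of `B` -/
theorem blockCoeff_eq_orbit_sum_of_normal [Fact p.Prime] (hM : IsPModular p M) (P : Subgroup G)
    [hPn : P.Normal] {B : Set (IrrCharacter G)}
    {e : Set (IrrCharacter (Subgroup.centralizer (P : Set G)))}
    (hBe : IsBrauerPairOf p M B P e) (T : Subgroup G)
    (hT : ∀ x : G, x ∈ T ↔ StabilizesBlock (Subgroup.centralizer (P : Set G)) e x) (g : G) :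
    blockCoeff B g = (Nat.card T : ℂ)⁻¹ *
      ∑ x : G, subgroupBlockCoeff (Subgroup.centralizer (P : Set G)) e (x⁻¹ * g * x) := by
  classical
  have hpr := isPrime_of_isPModular hM
  have hPp : IsPGroup p P := hBe.1.1
  have he : IsPBlock M e := hBe.1.2
  have : Fintype (Subgroup.centralizer (P : Set G)) := Fintype.ofFinite _
  have : Fintype (Subgroup.normalizer (P : Set G)) := Fintype.ofFinite _
  have : Fintype (IrrCharacter (Subgroup.centralizer (P : Set G))) := Fintype.ofFinite _
  have : Fintype {f : Set (IrrCharacter (Subgroup.centralizer (P : Set G))) // IsPBlock M f} :=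
    Fintype.ofFinite _
  have hNtop : ∀ x : G, x ∈ Subgroup.normalizer (P : Set G) := by
    intro x
    rw [Subgroup.mem_normalizer_iff]
    intro h
    constructor
    · intro hh
      exact hPn.conj_mem h hh x
    · intro hh
      have := hPn.conj_mem _ hh x⁻¹
      have e1 : x⁻¹ * (x * h * x⁻¹) * x⁻¹⁻¹ = h := by group
      rwa [e1] at this
  have hPN : P ≤ Subgroup.normalizer (P : Set G) := Subgroup.le_normalizer
  have hCN : Subgroup.centralizer (P : Set G) ≤ Subgroup.normalizer (P : Set G) :=
    Subgroup.centralizer_le_normalizer _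
  have hNC := normalizer_le_normalizer_centralizer P
  have hCtop : ∀ x : G, x ∈ Subgroup.normalizer
      ((Subgroup.centralizer (P : Set G) : Subgroup G) : Set G) := fun x => hNC (hNtop x)
  obtain ⟨b, hb, hbcoef, hbom⟩ := exists_block_over hM P (Subgroup.normalizer (P : Set G)) hPp
    hPN hCN le_rfl e he
  have hind : IsInducedBlock M (Subgroup.normalizer (P : Set G)) b B :=
    isInducedBlock_of_block_over hM _ hBe hPN hCN le_rfl b hb hbom
  let O : Set (IrrCharacter (Subgroup.centralizer (P : Set G))) :=
    orbitSet (Subgroup.centralizer (P : Set G)) (Subgroup.normalizer (P : Set G)) hNC e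
  have hOcl : BlockClosed M O := blockClosed_orbitSet _ _ hNC he
  have h1 : blockCoeff B g = subgroupBlockCoeff (Subgroup.centralizer (P : Set G)) O g := by
    rw [blockCoeff_eq_of_induced_top hM _ hNtop hind g]
    have h := congrFun hbcoef g
    rw [extendByZero_of_mem _ _ (hNtop g)] at h
    exact h
  have h2 := subgroupBlockCoeff_eq_sum_blocks hM (Subgroup.centralizer (P : Set G)) O hOcl g
  let mk : G → ↥(Subgroup.normalizer ((Subgroup.centralizer (P : Set G) : Subgroup G) : Set G)) :=
    fun x => ⟨x, hCtop x⟩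
  have h3 : ∀ x : G, subgroupBlockCoeff (Subgroup.centralizer (P : Set G)) e (x⁻¹ * g * x)
      = subgroupBlockCoeff (Subgroup.centralizer (P : Set G))
        (conjSet (Subgroup.centralizer (P : Set G)) (mk x) e) g :=
    fun x => (subgroupBlockCoeff_conjSet (Subgroup.centralizer (P : Set G)) (mk x) e g).symm
  let γ : G → {f : Set (IrrCharacter (Subgroup.centralizer (P : Set G))) // IsPBlock M f} :=
    fun x => ⟨conjSet (Subgroup.centralizer (P : Set G)) (mk x) e, conjSet_isPBlock _ _ he⟩
  have hstabiff : ∀ y : G, y ∈ T ↔ conjSet (Subgroup.centralizer (P : Set G)) (mk y) e = e := by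
    intro y
    rw [hT]
    constructor
    · intro h
      exact conjSet_eq_of_subset _ hM (mk y) he
        ((stabilizesBlock_iff (Subgroup.centralizer (P : Set G)) (mk y) e).mp h)
    · intro h
      exact (stabilizesBlock_iff (Subgroup.centralizer (P : Set G)) (mk y) e).mpr (by rw [h])
  have hTne : (Nat.card T : ℂ) ≠ 0 := card_ne_zero_complex T
  have h5 : ∀ f : {f : Set (IrrCharacter (Subgroup.centralizer (P : Set G))) // IsPBlock M f},
      ∑ x ∈ Finset.univ.filter (fun x => γ x = f),
        subgroupBlockCoeff (Subgroup.centralizer (P : Set G)) (γ x).1 g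
      = if f.1 ⊆ O then (Nat.card T : ℂ)
          * subgroupBlockCoeff (Subgroup.centralizer (P : Set G)) f.1 g else 0 := by
    intro f
    have e1 : ∑ x ∈ Finset.univ.filter (fun x => γ x = f),
        subgroupBlockCoeff (Subgroup.centralizer (P : Set G)) (γ x).1 g
        = ∑ x ∈ Finset.univ.filter (fun x => γ x = f),
          subgroupBlockCoeff (Subgroup.centralizer (P : Set G)) f.1 g :=
      Finset.sum_congr rfl (fun x hx => by rw [(Finset.mem_filter.mp hx).2])
    rw [e1, Finset.sum_const, nsmul_eq_mul]
    by_cases hfO : f.1 ⊆ O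
    · rw [if_pos hfO]
      congr 1
      obtain ⟨n, hn⟩ := exists_conj_of_subset_orbitSet (Subgroup.centralizer (P : Set G)) hM
        (Subgroup.normalizer (P : Set G)) hNC he f.2 hfO
      have hfilter : ∀ x : G, γ x = f ↔ (n : G)⁻¹ * x ∈ T := by
        intro x
        rw [hstabiff]
        have hmk : mk ((n : G)⁻¹ * x) = (Subgroup.inclusion hNC n)⁻¹ * mk x := Subtype.ext rfl
        constructor
        · intro h
          have h' : conjSet (Subgroup.centralizer (P : Set G)) (mk x) e
              = conjSet (Subgroup.centralizer (P : Set G)) (Subgroup.inclusion hNC n) e := by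
            rw [← hn]
            exact congrArg Subtype.val h
          rw [hmk, conjSet_mul, h', conjSet_inv_conjSet]
        · intro h
          apply Subtype.ext
          change conjSet (Subgroup.centralizer (P : Set G)) (mk x) e = f.1
          rw [hn]
          have hmk' : mk x = Subgroup.inclusion hNC n * mk ((n : G)⁻¹ * x) := by
            rw [hmk, mul_inv_cancel_left]
          rw [hmk', conjSet_mul, h]
      rw [Finset.filter_congr (fun x _ => hfilter x), ← Fintype.card_subtype,
        ← Nat.card_eq_fintype_card]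
      have := Nat.card_congr (Equiv.subtypeEquiv (p := fun t : G => t ∈ T)
        (q := fun x : G => (n : G)⁻¹ * x ∈ T) (Equiv.mulLeft (n : G)) (fun t => by simp))
      rw [← this]
    · rw [if_neg hfO]
      have hempty : Finset.univ.filter (fun x => γ x = f) = ∅ := by
        apply Finset.filter_eq_empty_iff.mpr
        intro x _ h
        apply hfO
        rw [← h]
        intro ξ' hξ'
        exact ⟨⟨x, hNtop x⟩, hξ'⟩
      rw [hempty, Finset.card_empty, Nat.cast_zero, zero_mul]
  rw [h1, h2, Finset.sum_congr rfl (fun x _ => h3 x)]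
  have h4 : ∑ x : G, subgroupBlockCoeff (Subgroup.centralizer (P : Set G))
        (conjSet (Subgroup.centralizer (P : Set G)) (mk x) e) g
      = ∑ f : {f : Set (IrrCharacter (Subgroup.centralizer (P : Set G))) // IsPBlock M f},
        ∑ x ∈ Finset.univ.filter (fun x => γ x = f),
          subgroupBlockCoeff (Subgroup.centralizer (P : Set G)) (γ x).1 g :=
    (Finset.sum_fiberwise Finset.univ γ
      (fun x => subgroupBlockCoeff (Subgroup.centralizer (P : Set G)) (γ x).1 g)).symm
  rw [h4, Finset.sum_congr rfl (fun f _ => h5 f), Finset.mul_sum]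
  apply Finset.sum_congr rfl
  intro f _
  split_ifs
  · field_simp
  · rw [mul_zero]

end stab

end Cfsg.Agent.Lib.Helper25
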