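import Mathlib
import Cfsg.Agent.Lib.Helper25.BrauerPair10

set_option autoImplicit false

/-!
Brauer pairs of the local blocks: the Brauer pairs of a block `f` of `C(Q)`, and of the block of
the stabilizer `T` of `(Q, f)` with the idempotent of `f`, correspond to the Brauer pairs of `G`
that contain `(Q, f)` normally.
-/

namespace Cfsg.Agent.Lib.Helper25

open Cfsg Cfsg.Agent.Lib.Helper2 Cfsg.Agent.Lib.Helper8

section sub

variable {G : Type*} [Group G]

theorem mem_centralizer_sup_iff (Q D : Subgroup G) (g : G) :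
    g ∈ Subgroup.centralizer ((Q ⊔ D : Subgroup G) : Set G)
      ↔ g ∈ Subgroup.centralizer (Q : Set G) ∧ g ∈ Subgroup.centralizer (D : Set G) := by
  constructor
  · intro h
    exact ⟨Subgroup.centralizer_le (show (Q : Set G) ⊆ ((Q ⊔ D : Subgroup G) : Set G) from
        fun x hx => (le_sup_left : Q ≤ Q ⊔ D) hx) h,
      Subgroup.centralizer_le (show (D : Set G) ⊆ ((Q ⊔ D : Subgroup G) : Set G) from
        fun x hx => (le_sup_right : D ≤ Q ⊔ D) hx) h⟩
  · rintro ⟨h1, h2⟩
    have hQ : Q ≤ Subgroup.centralizer ({g} : Set G) := by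
      intro q hq
      rw [Subgroup.mem_centralizer_iff]
      intro z hz
      rw [Set.mem_singleton_iff] at hz
      subst hz
      exact (Subgroup.mem_centralizer_iff.mp h1 q hq).symm
    have hD : D ≤ Subgroup.centralizer ({g} : Set G) := by
      intro q hq
      rw [Subgroup.mem_centralizer_iff]
      intro z hz
      rw [Set.mem_singleton_iff] at hz
      subst hz
      exact (Subgroup.mem_centralizer_iff.mp h2 q hq).symm
    rw [Subgroup.mem_centralizer_iff]
    intro u hu
    have := Subgroup.mem_centralizer_iff.mp (sup_le hQ hD hu) g (Set.mem_singleton g)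
    exact this.symm

/-- identification of the centralizer of a subgroup `R'` of the subgroup `H` with the
centralizer in the whole group of a subgroup `R` -/
def subCentIso (H : Subgroup G) (R' : Subgroup H) (R : Subgroup G)
    (h1 : Subgroup.centralizer (R : Set G) ≤ H)
    (h2 : ∀ h : H, h ∈ Subgroup.centralizer (R' : Set H)
      ↔ (h : G) ∈ Subgroup.centralizer (R : Set G)) :
    ↥(Subgroup.centralizer (R' : Set H)) ≃* ↥(Subgroup.centralizer (R : Set G)) where
  toFun x := ⟨((x : H) : G), (h2 x.1).mp x.2⟩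
  invFun c := ⟨⟨(c : G), h1 c.2⟩, (h2 _).mpr c.2⟩
  left_inv x := rfl
  right_inv c := rfl
  map_mul' a b := rfl

variable [Finite G]

theorem isoIrr_isoIrr_symm {K H : Type*} [Group K] [Group H] [Finite K] [Finite H]
    (φ : K ≃* H) (ξ : IrrCharacter H) : isoIrr φ (isoIrr φ.symm ξ) = ξ := by
  apply Subtype.ext
  funext h
  rw [isoIrr_apply, isoIrr_apply]
  simp

theorem image_isoIrr_symm {K H : Type*} [Group K] [Group H] [Finite K] [Finite H]
    (φ : K ≃* H) (g : Set (IrrCharacter H)) : isoIrr φ '' (isoIrr φ.symm '' g) = g := by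
  rw [Set.image_image]
  have : (fun ξ => isoIrr φ (isoIrr φ.symm ξ)) = id := funext (isoIrr_isoIrr_symm φ)
  rw [this, Set.image_id]

theorem brauerOmega_subgroup (H : Subgroup G) (R' : Subgroup H) (R : Subgroup G)
    (h1 : Subgroup.centralizer (R : Set G) ≤ H)
    (h2 : ∀ h : H, h ∈ Subgroup.centralizer (R' : Set H)
      ↔ (h : G) ∈ Subgroup.centralizer (R : Set G))
    (F : Set (IrrCharacter H)) (a : G → ℂ) (ha : ∀ h : H, a h = blockCoeff F h)
    (ξ' : IrrCharacter (Subgroup.centralizer (R' : Set H))) :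
    brauerOmega R a (isoIrr (subCentIso H R' R h1 h2) ξ' : Subgroup.centralizer (R : Set G) → ℂ)
      = brauerOmega R' (blockCoeff F) (ξ' : Subgroup.centralizer (R' : Set H) → ℂ) := by
  unfold brauerOmega
  rw [← finsum_comp_equiv (subCentIso H R' R h1 h2).toEquiv]
  apply finsum_congr
  intro x
  have e1 : (isoIrr (subCentIso H R' R h1 h2) ξ' : Subgroup.centralizer (R : Set G) → ℂ)
      ((subCentIso H R' R h1 h2).toEquiv x)
      = (ξ' : Subgroup.centralizer (R' : Set H) → ℂ) x := by
    change (ξ' : Subgroup.centralizer (R' : Set H) → ℂ)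
      ((subCentIso H R' R h1 h2).symm (subCentIso H R' R h1 h2 x)) = _
    rw [MulEquiv.symm_apply_apply]
  have e2 : (isoIrr (subCentIso H R' R h1 h2) ξ' : Subgroup.centralizer (R : Set G) → ℂ) 1
      = (ξ' : Subgroup.centralizer (R' : Set H) → ℂ) 1 := by
    rw [isoIrr_apply, map_one]
  have e3 : a (((subCentIso H R' R h1 h2).toEquiv x : ↥(Subgroup.centralizer (R : Set G))) : G)
      = blockCoeff F (x : H) := ha (x : H)
  rw [e1, e2, e3]

theorem isBrauerPairOf_sub_iff {p : ℕ} {M : Ideal AlgInt} (H : Subgroup G) (R' : Subgroup H)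
    (R : Subgroup G) (h1 : Subgroup.centralizer (R : Set G) ≤ H)
    (h2 : ∀ h : H, h ∈ Subgroup.centralizer (R' : Set H)
      ↔ (h : G) ∈ Subgroup.centralizer (R : Set G))
    (F : Set (IrrCharacter H)) (a : G → ℂ) (ha : ∀ h : H, a h = blockCoeff F h)
    (g' : Set (IrrCharacter (Subgroup.centralizer (R' : Set H)))) :
    IsBrauerPairOf p M F R' g' ↔ (IsPGroup p R' ∧ IsPBlock M g') ∧ IsPBlock M F ∧
      ∀ ξ ∈ isoIrr (subCentIso H R' R h1 h2) '' g',
        MemLocalIdeal M (brauerOmega R a (ξ : Subgroup.centralizer (R : Set G) → ℂ) - 1) := by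
  unfold IsBrauerPairOf IsBrauerPair
  constructor
  · rintro ⟨hp, hF, hom⟩
    refine ⟨hp, hF, ?_⟩
    rintro ξ ⟨ξ', hξ', rfl⟩
    rw [brauerOmega_subgroup H R' R h1 h2 F a ha ξ']
    exact hom ξ' hξ'
  · rintro ⟨hp, hF, hom⟩
    refine ⟨hp, hF, ?_⟩
    intro ξ' hξ'
    rw [← brauerOmega_subgroup H R' R h1 h2 F a ha ξ']
    exact hom _ ⟨ξ', hξ', rfl⟩

end sub

section stabsub

variable {G : Type*} [Group G] [Fintype G] {p : ℕ} {M : Ideal AlgInt}

/-- the stabilizer in `N(Q)` of a block of `C(Q)`, as a subgroup -/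
def pairStab (hM : IsPModular p M) (Q : Subgroup G)
    (f : Set (IrrCharacter (Subgroup.centralizer (Q : Set G)))) (hf : IsPBlock M f) :
    Subgroup G where
  carrier := {y | y ∈ Subgroup.normalizer (Q : Set G) ∧
    StabilizesBlock (Subgroup.centralizer (Q : Set G)) f y}
  mul_mem' := by
    classical
    have : Fintype (Subgroup.centralizer (Q : Set G)) := Fintype.ofFinite _
    rintro a b ⟨ha, hsa⟩ ⟨hb, hsb⟩
    refine ⟨Subgroup.mul_mem _ ha hb, ?_⟩
    have hNC := normalizer_le_normalizer_centralizer Q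
    have h1 := (stabilizesBlock_iff (Subgroup.centralizer (Q : Set G)) ⟨a, hNC ha⟩ f).mp hsa
    have h2 := (stabilizesBlock_iff (Subgroup.centralizer (Q : Set G)) ⟨b, hNC hb⟩ f).mp hsb
    have h3 := (stabilizesBlock_iff (Subgroup.centralizer (Q : Set G))
      (⟨a, hNC ha⟩ * ⟨b, hNC hb⟩) f).mpr (by
        rw [conjSet_mul]
        exact (conjSet_mono _ _ h2).trans h1)
    exact h3
  one_mem' := by
    classical
    have : Fintype (Subgroup.centralizer (Q : Set G)) := Fintype.ofFinite _
    refine ⟨Subgroup.one_mem _, ?_⟩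
    have h3 := (stabilizesBlock_iff (Subgroup.centralizer (Q : Set G)) 1 f).mpr (by
      rw [conjSet_one])
    exact h3
  inv_mem' := by
    classical
    have : Fintype (Subgroup.centralizer (Q : Set G)) := Fintype.ofFinite _
    rintro a ⟨ha, hsa⟩
    refine ⟨Subgroup.inv_mem _ ha, ?_⟩
    have hNC := normalizer_le_normalizer_centralizer Q
    have h1 := conjSet_eq_of_subset _ hM ⟨a, hNC ha⟩ hf
      ((stabilizesBlock_iff (Subgroup.centralizer (Q : Set G)) ⟨a, hNC ha⟩ f).mp hsa)
    have h3 := (stabilizesBlock_iff (Subgroup.centralizer (Q : Set G))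
      (⟨a, hNC ha⟩ : ↥(Subgroup.normalizer
        ((Subgroup.centralizer (Q : Set G) : Subgroup G) : Set G)))⁻¹ f).mpr (by
        have h4 := conjSet_inv_conjSet (Subgroup.centralizer (Q : Set G)) ⟨a, hNC ha⟩ f
        rw [h1] at h4
        rw [h4])
    exact h3

theorem mem_pairStab (hM : IsPModular p M) (Q : Subgroup G)
    (f : Set (IrrCharacter (Subgroup.centralizer (Q : Set G)))) (hf : IsPBlock M f) (y : G) :
    y ∈ pairStab hM Q f hf ↔ y ∈ Subgroup.normalizer (Q : Set G) ∧
      StabilizesBlock (Subgroup.centralizer (Q : Set G)) f y := Iff.rfl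

theorem le_pairStab (hM : IsPModular p M) (Q : Subgroup G)
    (f : Set (IrrCharacter (Subgroup.centralizer (Q : Set G)))) (hf : IsPBlock M f) :
    Q ≤ pairStab hM Q f hf := fun u hu =>
  ⟨Subgroup.le_normalizer hu, stabilizesBlock_of_mem Q f hu⟩

theorem centralizer_le_pairStab (hM : IsPModular p M) (Q : Subgroup G)
    (f : Set (IrrCharacter (Subgroup.centralizer (Q : Set G)))) (hf : IsPBlock M f) :
    Subgroup.centralizer (Q : Set G) ≤ pairStab hM Q f hf := fun c hc =>
  ⟨Subgroup.centralizer_le_normalizer _ hc, stabilizesBlock_of_mem_centralizer Q f hc⟩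

/-- every pair is normally contained in itself -/
theorem isNormalSubpair_refl (hM : IsPModular p M) (Q : Subgroup G) (hQ : IsPGroup p Q)
    (f : Set (IrrCharacter (Subgroup.centralizer (Q : Set G)))) (hf : IsPBlock M f) :
    IsNormalSubpair p M Q f Q f := by
  classical
  have hpr := isPrime_of_isPModular hM
  have : Fintype (Subgroup.centralizer (Q : Set G)) := Fintype.ofFinite _
  have : Fintype (IrrCharacter (Subgroup.centralizer (Q : Set G))) := Fintype.ofFinite _
  refine ⟨⟨hQ, hf⟩, ⟨hQ, hf⟩, le_rfl, Subgroup.le_normalizer,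
    fun x hx => stabilizesBlock_of_mem Q f hx, ?_⟩
  intro ξ hξ
  rw [brauerOmega_eq']
  have e1 : (fun c : Subgroup.centralizer (Q : Set G) =>
      subgroupBlockCoeff (Subgroup.centralizer (Q : Set G)) f (c : G)) = blockCoeff f := by
    funext c
    rw [subgroupBlockCoeff_eq, extendByZero_coe]
  rw [e1, Cfsg.Agent.Lib.Helper25.omegaFun_blockCoeff f ξ, if_pos hξ, sub_self]
  exact memLocalIdeal_zero M

end stabsub

end Cfsg.Agent.Lib.Helper25
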