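import Mathlib
import Cfsg.Agent.Lib.Helper25.BrauerPair11

set_option autoImplicit false

/-!
Transport between the Brauer pairs of `G` containing `(Q, f)` normally and the Brauer pairs of
the local blocks; the centralizer `C_P(Q)` and the defect groups of `f`.
-/

namespace Cfsg.Agent.Lib.Helper25

open Cfsg Cfsg.Agent.Lib.Helper2 Cfsg.Agent.Lib.Helper8

section transports

variable {G : Type*} [Group G] [Fintype G] {p : ℕ} {M : Ideal AlgInt}

/-- a pair of `G` normally above `(Q, f)` gives a pair of the block of the stabilizer -/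
theorem exists_pair_of_normal_stab {Q R : Subgroup G}
    {f : Set (IrrCharacter (Subgroup.centralizer (Q : Set G)))}
    {g : Set (IrrCharacter (Subgroup.centralizer (R : Set G)))}
    (hn : IsNormalSubpair p M Q f R g) (T : Subgroup G)
    (hT : ∀ y : G, y ∈ T ↔ y ∈ Subgroup.normalizer (Q : Set G) ∧
      StabilizesBlock (Subgroup.centralizer (Q : Set G)) f y)
    (F : Set (IrrCharacter T)) (hF : IsPBlock M F)
    (hFc : ∀ t : T, blockCoeff F t
      = subgroupBlockCoeff (Subgroup.centralizer (Q : Set G)) f (t : G)) :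
    ∃ g' : Set (IrrCharacter (Subgroup.centralizer ((R.subgroupOf T : Subgroup T) : Set T))),
      IsBrauerPairOf p M F (R.subgroupOf T) g' := by
  obtain ⟨⟨hQ, hf⟩, ⟨hR, hg⟩, hQR, hRN, hstab, hom⟩ := hn
  have hRT : R ≤ T := fun x hx => (hT x).mpr ⟨hRN hx, hstab x hx⟩
  have hCC : Subgroup.centralizer (R : Set G) ≤ Subgroup.centralizer (Q : Set G) :=
    Subgroup.centralizer_le (fun x hx => hQR hx)
  have h1 : Subgroup.centralizer (R : Set G) ≤ T := fun c hc =>
    (hT c).mpr ⟨Subgroup.centralizer_le_normalizer _ (hCC hc),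
      stabilizesBlock_of_mem_centralizer Q f (hCC hc)⟩
  have h2 : ∀ h : T, h ∈ Subgroup.centralizer ((R.subgroupOf T : Subgroup T) : Set T)
      ↔ (h : G) ∈ Subgroup.centralizer (R : Set G) := by
    intro h
    rw [Subgroup.mem_centralizer_iff, Subgroup.mem_centralizer_iff]
    constructor
    · intro hh u hu
      have := hh ⟨u, hRT hu⟩ (Subgroup.mem_subgroupOf.mpr hu)
      exact congrArg Subtype.val this
    · intro hh u hu
      apply Subtype.ext
      exact hh (u : G) (Subgroup.mem_subgroupOf.mp hu)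
  refine ⟨isoIrr (subCentIso T _ R h1 h2).symm '' g, ?_⟩
  rw [isBrauerPairOf_sub_iff T _ R h1 h2 F
    (subgroupBlockCoeff (Subgroup.centralizer (Q : Set G)) f) (fun t => (hFc t).symm)]
  refine ⟨⟨hR.comap_subtype, isPBlock_image_isoIrr _ hg⟩, hF, ?_⟩
  rw [image_isoIrr_symm]
  exact hom

/-- a pair of the block of the stabilizer containing `Q` gives a pair of `G` normally above
`(Q, f)` -/
theorem exists_normal_of_pair_stab (Q : Subgroup G) (hQ : IsPGroup p Q)
    (f : Set (IrrCharacter (Subgroup.centralizer (Q : Set G)))) (hf : IsPBlock M f)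
    (T : Subgroup G)
    (hT : ∀ y : G, y ∈ T ↔ y ∈ Subgroup.normalizer (Q : Set G) ∧
      StabilizesBlock (Subgroup.centralizer (Q : Set G)) f y)
    (F : Set (IrrCharacter T))
    (hFc : ∀ t : T, blockCoeff F t
      = subgroupBlockCoeff (Subgroup.centralizer (Q : Set G)) f (t : G))
    {R' : Subgroup T} {g' : Set (IrrCharacter (Subgroup.centralizer (R' : Set T)))}
    (h : IsBrauerPairOf p M F R' g') (hQR : Q.subgroupOf T ≤ R') :
    ∃ g : Set (IrrCharacter (Subgroup.centralizer ((R'.map T.subtype : Subgroup G) : Set G))),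
      IsNormalSubpair p M Q f (R'.map T.subtype) g := by
  have hQT : Q ≤ T := fun u hu =>
    (hT u).mpr ⟨Subgroup.le_normalizer hu, stabilizesBlock_of_mem Q f hu⟩
  have hQ_le : Q ≤ R'.map T.subtype := fun u hu =>
    Subgroup.mem_map.mpr ⟨⟨u, hQT hu⟩, hQR (Subgroup.mem_subgroupOf.mpr hu), rfl⟩
  have hRT : R'.map T.subtype ≤ T := Subgroup.map_subtype_le R'
  have hCC : Subgroup.centralizer ((R'.map T.subtype : Subgroup G) : Set G)
      ≤ Subgroup.centralizer (Q : Set G) := Subgroup.centralizer_le (fun x hx => hQ_le hx)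
  have h1 : Subgroup.centralizer ((R'.map T.subtype : Subgroup G) : Set G) ≤ T := fun c hc =>
    (hT c).mpr ⟨Subgroup.centralizer_le_normalizer _ (hCC hc),
      stabilizesBlock_of_mem_centralizer Q f (hCC hc)⟩
  have h2 : ∀ h : T, h ∈ Subgroup.centralizer (R' : Set T)
      ↔ (h : G) ∈ Subgroup.centralizer ((R'.map T.subtype : Subgroup G) : Set G) := by
    intro h
    rw [Subgroup.mem_centralizer_iff, Subgroup.mem_centralizer_iff]
    constructor
    · intro hh u hu
      obtain ⟨u', hu', rfl⟩ := Subgroup.mem_map.mp hu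
      exact congrArg Subtype.val (hh u' hu')
    · intro hh u hu
      apply Subtype.ext
      exact hh (u : G) (Subgroup.mem_map.mpr ⟨u, hu, rfl⟩)
  have h3 := (isBrauerPairOf_sub_iff T R' _ h1 h2 F
    (subgroupBlockCoeff (Subgroup.centralizer (Q : Set G)) f) (fun t => (hFc t).symm) g').mp h
  obtain ⟨⟨hR'p, hg'⟩, -, hom⟩ := h3
  exact ⟨isoIrr (subCentIso T R' _ h1 h2) '' g', ⟨hQ, hf⟩,
    ⟨hR'p.map _, isPBlock_image_isoIrr _ hg'⟩, hQ_le,
    fun x hx => ((hT x).mp (hRT hx)).1, fun x hx => ((hT x).mp (hRT hx)).2, hom⟩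

/-- a pair of `G` on `Q D₀` normally above `(Q, f)`, with `D₀ ≤ C(Q)`, gives a pair of the
block `f` of `C(Q)` on `D₀` -/
theorem exists_pair_of_normal_cent {Q R : Subgroup G}
    {f : Set (IrrCharacter (Subgroup.centralizer (Q : Set G)))}
    {g : Set (IrrCharacter (Subgroup.centralizer (R : Set G)))}
    (hn : IsNormalSubpair p M Q f R g) (D₀ : Subgroup G)
    (hD₀ : D₀ ≤ Subgroup.centralizer (Q : Set G)) (hR : R = Q ⊔ D₀) :
    ∃ g' : Set (IrrCharacter (Subgroup.centralizer
        ((D₀.subgroupOf (Subgroup.centralizer (Q : Set G)) :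
          Subgroup (Subgroup.centralizer (Q : Set G))) :
            Set (Subgroup.centralizer (Q : Set G))))),
      IsBrauerPairOf p M f (D₀.subgroupOf (Subgroup.centralizer (Q : Set G))) g' := by
  subst hR
  obtain ⟨⟨hQ, hf⟩, ⟨hR, hg⟩, hQR, hRN, hstab, hom⟩ := hn
  have h1 : Subgroup.centralizer ((Q ⊔ D₀ : Subgroup G) : Set G)
      ≤ Subgroup.centralizer (Q : Set G) := fun c hc =>
    ((mem_centralizer_sup_iff Q D₀ c).mp hc).1
  have h2 : ∀ c : Subgroup.centralizer (Q : Set G),
      c ∈ Subgroup.centralizer ((D₀.subgroupOf (Subgroup.centralizer (Q : Set G)) :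
        Subgroup (Subgroup.centralizer (Q : Set G))) : Set (Subgroup.centralizer (Q : Set G)))
      ↔ (c : G) ∈ Subgroup.centralizer ((Q ⊔ D₀ : Subgroup G) : Set G) := by
    intro c
    constructor
    · intro hh
      rw [mem_centralizer_sup_iff]
      refine ⟨c.2, ?_⟩
      rw [Subgroup.mem_centralizer_iff]
      intro u hu
      have := Subgroup.mem_centralizer_iff.mp hh ⟨u, hD₀ hu⟩ (Subgroup.mem_subgroupOf.mpr hu)
      exact congrArg Subtype.val this
    · intro hh
      have hh2 := ((mem_centralizer_sup_iff Q D₀ _).mp hh).2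
      rw [Subgroup.mem_centralizer_iff]
      intro u hu
      apply Subtype.ext
      exact Subgroup.mem_centralizer_iff.mp hh2 (u : G) (Subgroup.mem_subgroupOf.mp hu)
  have ha : ∀ c : Subgroup.centralizer (Q : Set G),
      subgroupBlockCoeff (Subgroup.centralizer (Q : Set G)) f (c : G) = blockCoeff f c :=
    fun c => by rw [subgroupBlockCoeff_eq, extendByZero_coe]
  refine ⟨isoIrr (subCentIso (Subgroup.centralizer (Q : Set G)) _ (Q ⊔ D₀) h1 h2).symm '' g, ?_⟩
  rw [isBrauerPairOf_sub_iff (Subgroup.centralizer (Q : Set G)) _ (Q ⊔ D₀) h1 h2 f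
    (subgroupBlockCoeff (Subgroup.centralizer (Q : Set G)) f) ha]
  refine ⟨⟨(hR.to_le le_sup_right).comap_subtype, isPBlock_image_isoIrr _ hg⟩, hf, ?_⟩
  rw [image_isoIrr_symm]
  exact hom

/-- a pair of the block `f` of `C(Q)` on `D'` gives a pair of `G` on `Q D'` normally above
`(Q, f)` -/
theorem exists_normal_of_pair_cent (hM : IsPModular p M) (Q : Subgroup G) (hQ : IsPGroup p Q)
    (f : Set (IrrCharacter (Subgroup.centralizer (Q : Set G)))) (hf : IsPBlock M f)
    {D' : Subgroup (Subgroup.centralizer (Q : Set G))}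
    {g' : Set (IrrCharacter (Subgroup.centralizer (D' : Set (Subgroup.centralizer (Q : Set G)))))}
    (h : IsBrauerPairOf p M f D' g') :
    ∃ g : Set (IrrCharacter (Subgroup.centralizer
        ((Q ⊔ D'.map (Subgroup.centralizer (Q : Set G)).subtype : Subgroup G) : Set G))),
      IsNormalSubpair p M Q f (Q ⊔ D'.map (Subgroup.centralizer (Q : Set G)).subtype) g := by
  have hD₀ : D'.map (Subgroup.centralizer (Q : Set G)).subtype
      ≤ Subgroup.centralizer (Q : Set G) := Subgroup.map_subtype_le D'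
  have h1 : Subgroup.centralizer
      ((Q ⊔ D'.map (Subgroup.centralizer (Q : Set G)).subtype : Subgroup G) : Set G)
      ≤ Subgroup.centralizer (Q : Set G) := fun c hc =>
    ((mem_centralizer_sup_iff Q _ c).mp hc).1
  have h2 : ∀ c : Subgroup.centralizer (Q : Set G),
      c ∈ Subgroup.centralizer (D' : Set (Subgroup.centralizer (Q : Set G)))
      ↔ (c : G) ∈ Subgroup.centralizer
        ((Q ⊔ D'.map (Subgroup.centralizer (Q : Set G)).subtype : Subgroup G) : Set G) := by
    intro c
    constructor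
    · intro hh
      rw [mem_centralizer_sup_iff]
      refine ⟨c.2, ?_⟩
      rw [Subgroup.mem_centralizer_iff]
      intro u hu
      obtain ⟨u', hu', rfl⟩ := Subgroup.mem_map.mp hu
      exact congrArg Subtype.val (Subgroup.mem_centralizer_iff.mp hh u' hu')
    · intro hh
      have hh2 := ((mem_centralizer_sup_iff Q _ _).mp hh).2
      rw [Subgroup.mem_centralizer_iff]
      intro u hu
      apply Subtype.ext
      exact Subgroup.mem_centralizer_iff.mp hh2 (u : G) (Subgroup.mem_map.mpr ⟨u, hu, rfl⟩)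
  have ha : ∀ c : Subgroup.centralizer (Q : Set G),
      subgroupBlockCoeff (Subgroup.centralizer (Q : Set G)) f (c : G) = blockCoeff f c :=
    fun c => by rw [subgroupBlockCoeff_eq, extendByZero_coe]
  have h3 := (isBrauerPairOf_sub_iff (Subgroup.centralizer (Q : Set G)) D' _ h1 h2 f
    (subgroupBlockCoeff (Subgroup.centralizer (Q : Set G)) f) ha g').mp h
  obtain ⟨⟨hD'p, hg'⟩, -, hom⟩ := h3
  have hD₀p : IsPGroup p (D'.map (Subgroup.centralizer (Q : Set G)).subtype) := hD'p.map _
  have hDN : D'.map (Subgroup.centralizer (Q : Set G)).subtype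
      ≤ Subgroup.normalizer (Q : Set G) := hD₀.trans (Subgroup.centralizer_le_normalizer _)
  have hRp : IsPGroup p (Q ⊔ D'.map (Subgroup.centralizer (Q : Set G)).subtype : Subgroup G) :=
    IsPGroup.to_sup_of_normal_left' hQ hD₀p hDN
  have hRstab : Q ⊔ D'.map (Subgroup.centralizer (Q : Set G)).subtype ≤ pairStab hM Q f hf :=
    sup_le (le_pairStab hM Q f hf) (hD₀.trans (centralizer_le_pairStab hM Q f hf))
  exact ⟨isoIrr (subCentIso (Subgroup.centralizer (Q : Set G)) D' _ h1 h2) '' g', ⟨hQ, hf⟩,
    ⟨hRp, isPBlock_image_isoIrr _ hg'⟩, le_sup_left,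
    fun x hx => (hRstab hx).1, fun x hx => (hRstab hx).2, hom⟩

end transports

section defect

theorem blockDefect_image_isoIrr {K H : Type*} [Group K] [Group H] [Finite K] [Finite H]
    (φ : K ≃* H) (p : ℕ) (f : Set (IrrCharacter K)) :
    blockDefect p (isoIrr φ '' f) = blockDefect p f := by
  unfold blockDefect
  have h : ∀ χ : IrrCharacter K,
      charDegree (isoIrr φ χ : H → ℂ) = charDegree (χ : K → ℂ) := by
    intro χ
    unfold charDegree
    rw [isoIrr_apply, map_one]
  have hc : Nat.card H = Nat.card K := Nat.card_congr φ.symm.toEquiv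
  rw [hc, Set.image_image]
  simp only [h]

variable {G : Type*} [Group G] [Fintype G] {p : ℕ} {M : Ideal AlgInt}

theorem conjPair_one (a : BrauerPairIdx G) : conjPair 1 a = a := by
  obtain ⟨Q, f⟩ := a
  have hQ : Q.map (MulAut.conj (1 : G)).toMonoidHom = Q := by
    ext u
    rw [mem_map_conj_iff]
    simp
  have hmem : ∀ g : G, g ∈ Subgroup.centralizer
      ((Q.map (MulAut.conj (1 : G)).toMonoidHom : Subgroup G) : Set G)
      ↔ g ∈ Subgroup.centralizer (Q : Set G) := by
    intro g
    rw [hQ]
  change (⟨Q.map (MulAut.conj (1 : G)).toMonoidHom, conjBlock Q 1 f⟩ : BrauerPairIdx G) = ⟨Q, f⟩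
  refine pairIdx_ext' hQ ?_
  intro ξ₁ ξ₂ hsame
  constructor
  · rintro ⟨ξ, hξ, h⟩
    have h1 : ξ₂ = ξ := by
      apply Subtype.ext
      funext c
      rw [← hsame ⟨c, (hmem _).mpr c.2⟩ c rfl]
      exact h c ⟨c, (hmem _).mpr c.2⟩ (by simp)
    rw [h1]
    exact hξ
  · intro hξ₂
    refine ⟨ξ₂, hξ₂, fun c c' hc' => ?_⟩
    have h1 : (c' : G) = (c : G) := by
      rw [hc']
      simp
    exact hsame c' c h1

/-- for `(Q, f) ≤ (P, e)`, the centralizer `C_P(Q)` carries a Brauer pair of the block `f` of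
`C(Q)` -/
theorem exists_pair_centralizerIn [Fact p.Prime] (hM : IsPModular p M) {P Q : Subgroup G}
    {e : Set (IrrCharacter (Subgroup.centralizer (P : Set G)))}
    {f : Set (IrrCharacter (Subgroup.centralizer (Q : Set G)))}
    (hPe : IsBrauerPair p M P e) (hQP : Q ≤ P) (hle : SubpairLE p M Q f P e) :
    ∃ g' : Set (IrrCharacter (Subgroup.centralizer
        (((P ⊓ Subgroup.centralizer (Q : Set G)).subgroupOf (Subgroup.centralizer (Q : Set G)) :
          Subgroup (Subgroup.centralizer (Q : Set G))) :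
            Set (Subgroup.centralizer (Q : Set G))))),
      IsBrauerPairOf p M f
        ((P ⊓ Subgroup.centralizer (Q : Set G)).subgroupOf (Subgroup.centralizer (Q : Set G)))
        g' := by
  have hRP : Q ⊔ (P ⊓ Subgroup.centralizer (Q : Set G)) ≤ P := sup_le hQP inf_le_left
  obtain ⟨eR, heR, hleR⟩ := exists_subpair hM P e hPe _ hRP
  have hRp : IsPGroup p (Q ⊔ (P ⊓ Subgroup.centralizer (Q : Set G)) : Subgroup G) :=
    hPe.1.to_le hRP
  have hRN : Q ⊔ (P ⊓ Subgroup.centralizer (Q : Set G)) ≤ Subgroup.normalizer (Q : Set G) :=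
    sup_le Subgroup.le_normalizer (inf_le_right.trans (Subgroup.centralizer_le_normalizer _))
  obtain ⟨f', hn⟩ := exists_normal_subpair hM _ Q eR ⟨hRp, heR⟩ le_sup_left hRN
  have hle' : SubpairLE p M Q f' P e :=
    Relation.ReflTransGen.trans (Relation.ReflTransGen.single
      (show NormalSubpairRel p M ⟨Q, f'⟩ ⟨_, eR⟩ from hn)) hleR
  have hf' : f' = f := subpair_unique hM P e hPe Q f' f hle' hle
  subst hf'
  exact exists_pair_of_normal_cent hn _ inf_le_right rfl

/-- **`C_P(Q)` lies in a defect group of `f`, and for a suitable conjugate it is a defect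
group** -/
theorem centralizerIn_defectGroup [Fact p.Prime] (hM : IsPModular p M)
    {B : Set (IrrCharacter G)} {P Q : Subgroup G}
    {e : Set (IrrCharacter (Subgroup.centralizer (P : Set G)))}
    {f : Set (IrrCharacter (Subgroup.centralizer (Q : Set G)))}
    (hmax : IsMaximalBrauerPair p M B P e) (hQP : Q ≤ P) (hf : IsPBlock M f)
    (hle : SubpairLE p M Q f P e) :
    (∃ D : Subgroup (Subgroup.centralizer (Q : Set G)), IsDefectGroup p M f D ∧
      (P ⊓ Subgroup.centralizer (Q : Set G)).subgroupOf (Subgroup.centralizer (Q : Set G)) ≤ D) ∧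
    ∃ x : G, SubpairLE p M (Q.map (MulAut.conj x).toMonoidHom) (conjBlock Q x f) P e ∧
      IsDefectGroup p M (conjBlock Q x f)
        ((P ⊓ Subgroup.centralizer ((Q.map (MulAut.conj x).toMonoidHom) : Set G)).subgroupOf
          (Subgroup.centralizer ((Q.map (MulAut.conj x).toMonoidHom) : Set G))) := by
  classical
  have : Fintype (Subgroup.centralizer (Q : Set G)) := Fintype.ofFinite _
  have hPe : IsBrauerPair p M P e := hmax.1.1
  have hB : IsPBlock M B := hmax.1.2.1
  have hQp : IsPGroup p Q := hPe.1.to_le hQP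
  obtain ⟨g₀', hpair₀⟩ := exists_pair_centralizerIn hM hPe hQP hle
  constructor
  · exact exists_defectGroup_ge_of_pair hM hpair₀
  · obtain ⟨D', g', hmax', -⟩ := exists_maximal_above hM _ _ g₀' hpair₀ rfl
    have hD' : IsDefectGroup p M f D' := isDefectGroup_of_isMaximalBrauerPair hM hmax'
    obtain ⟨g, hn⟩ := exists_normal_of_pair_cent hM Q hQp f hf hmax'.1
    have hQf : IsBrauerPairOf p M B Q f := (brauerPairOf_iff_of_le hM hle B hB).mp hmax.1
    have hRg := (brauerPairOf_iff_of_normal hM hn B hB).mpr hQf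
    obtain ⟨x, hx⟩ := exists_conj_le_maximal hM hmax hRg
    have hQx : SubpairLE p M (Q.map (MulAut.conj x).toMonoidHom) (conjBlock Q x f) P e := by
      have h1 : Relation.ReflTransGen (NormalSubpairRel p M) (conjPair x ⟨Q, f⟩)
          (conjPair x ⟨_, g⟩) :=
        subpairLE_conj x (Relation.ReflTransGen.single
          (show NormalSubpairRel p M ⟨Q, f⟩ ⟨_, g⟩ from hn))
      exact Relation.ReflTransGen.trans h1 hx
    refine ⟨x, hQx, ?_⟩
    have hQxP : Q.map (MulAut.conj x).toMonoidHom ≤ P := subpairLE_le hQx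
    have : Fintype (Subgroup.centralizer
      ((Q.map (MulAut.conj x).toMonoidHom : Subgroup G) : Set G)) := Fintype.ofFinite _
    obtain ⟨g₂', hpair₂⟩ := exists_pair_centralizerIn hM hPe hQxP hQx
    obtain ⟨E₂, hE₂, hle₂⟩ := exists_defectGroup_ge_of_pair hM hpair₂
    have hfx : IsPBlock M (conjBlock Q x f) := isPBlock_conjBlock Q x hf
    have hc1 : Nat.card E₂ = p ^ blockDefect p (conjBlock Q x f) :=
      card_of_isDefectGroup hM _ hfx E₂ hE₂
    have hc2 : Nat.card D' = p ^ blockDefect p f := card_of_isDefectGroup hM _ hf D' hD'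
    have hdef : blockDefect p (conjBlock Q x f) = blockDefect p f := by
      rw [conjBlock_eq]
      exact blockDefect_image_isoIrr _ p f
    have hDx : (D'.map (Subgroup.centralizer (Q : Set G)).subtype).map
        (MulAut.conj x).toMonoidHom
        ≤ P ⊓ Subgroup.centralizer ((Q.map (MulAut.conj x).toMonoidHom : Subgroup G) : Set G) := by
      apply le_inf
      · exact (Subgroup.map_mono le_sup_right).trans (subpairLE_le hx)
      · intro y hy
        obtain ⟨d, hd, rfl⟩ := Subgroup.mem_map.mp hy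
        rw [mem_centralizer_map_conj_iff]
        have e1 : x⁻¹ * (MulAut.conj x).toMonoidHom d * x = d := by
          change x⁻¹ * (x * d * x⁻¹) * x = d
          group
        rw [e1]
        exact Subgroup.map_subtype_le D' hd
    have hcard : Nat.card E₂ ≤ Nat.card
        ((P ⊓ Subgroup.centralizer ((Q.map (MulAut.conj x).toMonoidHom : Subgroup G) :
          Set G)).subgroupOf (Subgroup.centralizer
            ((Q.map (MulAut.conj x).toMonoidHom : Subgroup G) : Set G))) := by
      rw [hc1, hdef, ← hc2]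
      calc Nat.card D' = Nat.card (D'.map (Subgroup.centralizer (Q : Set G)).subtype) :=
            (Subgroup.card_map_of_injective (Subgroup.subtype_injective _)).symm
        _ = Nat.card ((D'.map (Subgroup.centralizer (Q : Set G)).subtype).map
              (MulAut.conj x).toMonoidHom) :=
            Nat.card_congr (Subgroup.equivMapOfInjective _ _ (MulAut.conj x).injective).toEquiv
        _ ≤ Nat.card (P ⊓ Subgroup.centralizer
              ((Q.map (MulAut.conj x).toMonoidHom : Subgroup G) : Set G) : Subgroup G) :=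
            Subgroup.card_le_of_le hDx
        _ = _ := (Nat.card_congr (Subgroup.subgroupOfEquivOfLe inf_le_right).toEquiv).symm
    have heq := Subgroup.eq_of_le_of_card_ge hle₂ hcard
    rw [heq]
    exact hE₂

end defect

end Cfsg.Agent.Lib.Helper25
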