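import Mathlib
import Cfsg.Agent.Lib.Helper25.BrauerPair12

set_option autoImplicit false

/-!
The normalizer `N_P(Q)` and the defect groups of the block of the stabilizer of `(Q, f)`.
-/

namespace Cfsg.Agent.Lib.Helper25

open Cfsg Cfsg.Agent.Lib.Helper2 Cfsg.Agent.Lib.Helper8

section normalizer

variable {G : Type*} [Group G]

theorem mem_normalizer_map_conj_iff' (Q : Subgroup G) (x y : G) :
    y ∈ Subgroup.normalizer ((Q.map (MulAut.conj x).toMonoidHom : Subgroup G) : Set G)
      ↔ x⁻¹ * y * x ∈ Subgroup.normalizer (Q : Set G) := by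
  rw [Subgroup.mem_normalizer_iff, Subgroup.mem_normalizer_iff]
  constructor
  · intro h k
    have h1 := h (x * k * x⁻¹)
    rw [mem_map_conj_iff, mem_map_conj_iff] at h1
    have e1 : x⁻¹ * (x * k * x⁻¹) * x = k := by group
    have e2 : x⁻¹ * (y * (x * k * x⁻¹) * y⁻¹) * x = x⁻¹ * y * x * k * (x⁻¹ * y * x)⁻¹ := by group
    rw [e1, e2] at h1
    exact h1
  · intro h k
    have h1 := h (x⁻¹ * k * x)
    rw [mem_map_conj_iff, mem_map_conj_iff]
    have e2 : x⁻¹ * y * x * (x⁻¹ * k * x) * (x⁻¹ * y * x)⁻¹ = x⁻¹ * (y * k * y⁻¹) * x := by group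
    rw [e2] at h1
    exact h1

variable [Fintype G] {p : ℕ} {M : Ideal AlgInt}

/-- for `(Q, f) ≤ (P, e)` the pair `(Q, f)` is normal in a pair on `N_P(Q)` -/
theorem exists_normal_normalizerIn [Fact p.Prime] (hM : IsPModular p M) {P Q : Subgroup G}
    {e : Set (IrrCharacter (Subgroup.centralizer (P : Set G)))}
    {f : Set (IrrCharacter (Subgroup.centralizer (Q : Set G)))}
    (hPe : IsBrauerPair p M P e) (hQP : Q ≤ P) (hle : SubpairLE p M Q f P e) :
    ∃ e₀ : Set (IrrCharacter (Subgroup.centralizer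
        ((P ⊓ Subgroup.normalizer (Q : Set G) : Subgroup G) : Set G))),
      IsNormalSubpair p M Q f (P ⊓ Subgroup.normalizer (Q : Set G)) e₀ := by
  have hRP : P ⊓ Subgroup.normalizer (Q : Set G) ≤ P := inf_le_left
  obtain ⟨eR, heR, hleR⟩ := exists_subpair hM P e hPe _ hRP
  have hRp : IsPGroup p (P ⊓ Subgroup.normalizer (Q : Set G) : Subgroup G) := hPe.1.to_le hRP
  obtain ⟨f', hn⟩ := exists_normal_subpair hM _ Q eR ⟨hRp, heR⟩
    (le_inf hQP Subgroup.le_normalizer) inf_le_right
  have hle' : SubpairLE p M Q f' P e :=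
    Relation.ReflTransGen.trans (Relation.ReflTransGen.single
      (show NormalSubpairRel p M ⟨Q, f'⟩ ⟨_, eR⟩ from hn)) hleR
  have hf' : f' = f := subpair_unique hM P e hPe Q f' f hle' hle
  subst hf'
  exact ⟨eR, hn⟩

/-- the order of a defect group of the block of the stabilizer of a conjugate pair is at most
that for the pair itself -/
theorem card_defectGroup_stab_le [Fact p.Prime] (hM : IsPModular p M) (Q : Subgroup G)
    (hQ : IsPGroup p Q) (f : Set (IrrCharacter (Subgroup.centralizer (Q : Set G))))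
    (hf : IsPBlock M f) (T : Subgroup G)
    (hT : ∀ y : G, y ∈ T ↔ y ∈ Subgroup.normalizer (Q : Set G) ∧
      StabilizesBlock (Subgroup.centralizer (Q : Set G)) f y)
    (F : Set (IrrCharacter T)) (hF : IsPBlock M F)
    (hFc : ∀ t : T, blockCoeff F t
      = subgroupBlockCoeff (Subgroup.centralizer (Q : Set G)) f (t : G))
    (x : G) (T₂ : Subgroup G)
    (hT₂ : ∀ y : G, y ∈ T₂ ↔
      y ∈ Subgroup.normalizer ((Q.map (MulAut.conj x).toMonoidHom : Subgroup G) : Set G) ∧
      StabilizesBlock (Subgroup.centralizer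
        ((Q.map (MulAut.conj x).toMonoidHom : Subgroup G) : Set G)) (conjBlock Q x f) y)
    (F₂ : Set (IrrCharacter T₂)) (hF₂ : IsPBlock M F₂)
    (hFc₂ : ∀ t : T₂, blockCoeff F₂ t = subgroupBlockCoeff (Subgroup.centralizer
        ((Q.map (MulAut.conj x).toMonoidHom : Subgroup G) : Set G)) (conjBlock Q x f) (t : G))
    (E₂ : Subgroup T₂) (hE₂ : IsDefectGroup p M F₂ E₂) :
    Nat.card E₂ ≤ p ^ blockDefect p F := by
  classical
  have : Fintype T := Fintype.ofFinite _
  have : Fintype T₂ := Fintype.ofFinite _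
  have hQx : IsPGroup p (Q.map (MulAut.conj x).toMonoidHom) := hQ.map _
  have hfx : IsPBlock M (conjBlock Q x f) := isPBlock_conjBlock Q x hf
  obtain ⟨g₀, hpair₀⟩ := exists_pair_of_normal_stab
    (isNormalSubpair_refl hM _ hQx _ hfx) T₂ hT₂ F₂ hF₂ hFc₂
  obtain ⟨E₃, g₃, hmax₃, hle₃⟩ := exists_maximal_above hM _ _ g₀ hpair₀ rfl
  have hE₃ : IsDefectGroup p M F₂ E₃ := isDefectGroup_of_isMaximalBrauerPair hM hmax₃
  obtain ⟨g, hn⟩ := exists_normal_of_pair_stab _ hQx _ hfx T₂ hT₂ F₂ hFc₂ hmax₃.1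
    (subpairLE_le hle₃)
  have hn' : NormalSubpairRel p M (conjPair x⁻¹ (conjPair x ⟨Q, f⟩))
      (conjPair x⁻¹ ⟨E₃.map T₂.subtype, g⟩) := isNormalSubpair_conj hn x⁻¹
  rw [← conjPair_mul, inv_mul_cancel, conjPair_one] at hn'
  have hn₄ : IsNormalSubpair p M Q f ((E₃.map T₂.subtype).map (MulAut.conj x⁻¹).toMonoidHom)
      (conjBlock (E₃.map T₂.subtype) x⁻¹ g) := hn'
  obtain ⟨g₄, hpair₄⟩ := exists_pair_of_normal_stab hn₄ T hT F hF hFc
  obtain ⟨E, hE, hle₄⟩ := exists_defectGroup_ge_of_pair hM hpair₄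
  have hRT : (E₃.map T₂.subtype).map (MulAut.conj x⁻¹).toMonoidHom ≤ T := fun y hy =>
    (hT y).mpr ⟨hn₄.2.2.2.1 hy, hn₄.2.2.2.2.1 y hy⟩
  rw [card_of_isDefectGroup hM _ hF₂ E₂ hE₂, ← card_of_isDefectGroup hM _ hF₂ E₃ hE₃,
    ← card_of_isDefectGroup hM _ hF E hE]
  calc Nat.card E₃ = Nat.card (E₃.map T₂.subtype) :=
        (Subgroup.card_map_of_injective (Subgroup.subtype_injective _)).symm
    _ = Nat.card ((E₃.map T₂.subtype).map (MulAut.conj x⁻¹).toMonoidHom) :=
        Nat.card_congr (Subgroup.equivMapOfInjective _ _ (MulAut.conj x⁻¹).injective).toEquiv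
    _ = Nat.card (((E₃.map T₂.subtype).map (MulAut.conj x⁻¹).toMonoidHom).subgroupOf T) :=
        (Nat.card_congr (Subgroup.subgroupOfEquivOfLe hRT).toEquiv).symm
    _ ≤ Nat.card E := Subgroup.card_le_of_le hle₄

/-- **`N_P(Q)` lies in a defect group of the block of the stabilizer of `(Q, f)`, and for a
suitable conjugate it is a defect group** -/
theorem normalizerIn_defectGroup [Fact p.Prime] (hM : IsPModular p M)
    {B : Set (IrrCharacter G)} {P Q : Subgroup G}
    {e : Set (IrrCharacter (Subgroup.centralizer (P : Set G)))}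
    {f : Set (IrrCharacter (Subgroup.centralizer (Q : Set G)))}
    (hmax : IsMaximalBrauerPair p M B P e) (hQP : Q ≤ P) (hf : IsPBlock M f)
    (hle : SubpairLE p M Q f P e) (T : Subgroup G)
    (hT : ∀ y : G, y ∈ T ↔ y ∈ Subgroup.normalizer (Q : Set G) ∧
      StabilizesBlock (Subgroup.centralizer (Q : Set G)) f y) :
    (∃ F : Set (IrrCharacter T), IsPBlock M F ∧
      (∀ t : T, blockCoeff F t
        = subgroupBlockCoeff (Subgroup.centralizer (Q : Set G)) f (t : G)) ∧
      ∃ D : Subgroup T, IsDefectGroup p M F D ∧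
        (P ⊓ Subgroup.normalizer (Q : Set G)).subgroupOf T ≤ D) ∧
    ∃ x : G, SubpairLE p M (Q.map (MulAut.conj x).toMonoidHom) (conjBlock Q x f) P e ∧
      ∀ (T' : Subgroup G), (∀ y : G, y ∈ T' ↔
        y ∈ Subgroup.normalizer ((Q.map (MulAut.conj x).toMonoidHom) : Set G) ∧
        StabilizesBlock (Subgroup.centralizer ((Q.map (MulAut.conj x).toMonoidHom) : Set G))
          (conjBlock Q x f) y) →
      ∃ F' : Set (IrrCharacter T'), IsPBlock M F' ∧
        (∀ t : T', blockCoeff F' t = subgroupBlockCoeff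
          (Subgroup.centralizer ((Q.map (MulAut.conj x).toMonoidHom) : Set G))
            (conjBlock Q x f) (t : G)) ∧
        IsDefectGroup p M F'
          ((P ⊓ Subgroup.normalizer ((Q.map (MulAut.conj x).toMonoidHom) : Set G)).subgroupOf
            T') := by
  classical
  have : Fintype T := Fintype.ofFinite _
  have hPe : IsBrauerPair p M P e := hmax.1.1
  have hB : IsPBlock M B := hmax.1.2.1
  have hQp : IsPGroup p Q := hPe.1.to_le hQP
  obtain ⟨F, hF, hFc, -⟩ := exists_block_of_stabilizer hM Q hQp f hf T hT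
  obtain ⟨e₀, hn₀⟩ := exists_normal_normalizerIn hM hPe hQP hle
  obtain ⟨g₀', hpair₀⟩ := exists_pair_of_normal_stab hn₀ T hT F hF hFc
  constructor
  · exact ⟨F, hF, hFc, exists_defectGroup_ge_of_pair hM hpair₀⟩
  · obtain ⟨D', g', hmax', hle'⟩ := exists_maximal_above hM _ _ g₀' hpair₀ rfl
    have hD' : IsDefectGroup p M F D' := isDefectGroup_of_isMaximalBrauerPair hM hmax'
    have hQD' : Q.subgroupOf T ≤ D' := by
      refine le_trans ?_ (subpairLE_le hle')
      intro u hu
      rw [Subgroup.mem_subgroupOf] at hu ⊢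
      exact ⟨hQP hu, Subgroup.le_normalizer hu⟩
    obtain ⟨g, hn⟩ := exists_normal_of_pair_stab Q hQp f hf T hT F hFc hmax'.1 hQD'
    have hQf : IsBrauerPairOf p M B Q f := (brauerPairOf_iff_of_le hM hle B hB).mp hmax.1
    have hRg := (brauerPairOf_iff_of_normal hM hn B hB).mpr hQf
    obtain ⟨x, hx⟩ := exists_conj_le_maximal hM hmax hRg
    have hQx : SubpairLE p M (Q.map (MulAut.conj x).toMonoidHom) (conjBlock Q x f) P e := by
      have h1 : Relation.ReflTransGen (NormalSubpairRel p M) (conjPair x ⟨Q, f⟩)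
          (conjPair x ⟨_, g⟩) :=
        subpairLE_conj x (Relation.ReflTransGen.single
          (show NormalSubpairRel p M ⟨Q, f⟩ ⟨_, g⟩ from hn))
      exact Relation.ReflTransGen.trans h1 hx
    refine ⟨x, hQx, ?_⟩
    intro T' hT'
    have : Fintype T' := Fintype.ofFinite _
    have hQxP : Q.map (MulAut.conj x).toMonoidHom ≤ P := subpairLE_le hQx
    have hQxp : IsPGroup p (Q.map (MulAut.conj x).toMonoidHom) := hQp.map _
    have hfx : IsPBlock M (conjBlock Q x f) := isPBlock_conjBlock Q x hf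
    obtain ⟨F', hF', hFc', -⟩ := exists_block_of_stabilizer hM _ hQxp _ hfx T' hT'
    obtain ⟨e₂, hn₂⟩ := exists_normal_normalizerIn hM hPe hQxP hQx
    obtain ⟨g₂', hpair₂⟩ := exists_pair_of_normal_stab hn₂ T' hT' F' hF' hFc'
    obtain ⟨E₂, hE₂, hle₂⟩ := exists_defectGroup_ge_of_pair hM hpair₂
    refine ⟨F', hF', hFc', ?_⟩
    have hNT' : P ⊓ Subgroup.normalizer
        ((Q.map (MulAut.conj x).toMonoidHom : Subgroup G) : Set G) ≤ T' := fun y hy =>
      (hT' y).mpr ⟨hn₂.2.2.2.1 hy, hn₂.2.2.2.2.1 y hy⟩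
    have hDT : D'.map T.subtype ≤ T := Subgroup.map_subtype_le D'
    have hDx : (D'.map T.subtype).map (MulAut.conj x).toMonoidHom
        ≤ P ⊓ Subgroup.normalizer
          ((Q.map (MulAut.conj x).toMonoidHom : Subgroup G) : Set G) := by
      apply le_inf
      · exact subpairLE_le hx
      · intro y hy
        obtain ⟨d, hd, rfl⟩ := Subgroup.mem_map.mp hy
        rw [mem_normalizer_map_conj_iff']
        have e1 : x⁻¹ * (MulAut.conj x).toMonoidHom d * x = d := by
          change x⁻¹ * (x * d * x⁻¹) * x = d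
          group
        rw [e1]
        exact ((hT d).mp (hDT hd)).1
    have hcard : Nat.card E₂ ≤ Nat.card
        ((P ⊓ Subgroup.normalizer ((Q.map (MulAut.conj x).toMonoidHom : Subgroup G) :
          Set G)).subgroupOf T') := by
      refine le_trans (card_defectGroup_stab_le hM Q hQp f hf T hT F hF hFc x T' hT' F' hF'
        hFc' E₂ hE₂) ?_
      rw [← card_of_isDefectGroup hM _ hF D' hD']
      calc Nat.card D' = Nat.card (D'.map T.subtype) :=
            (Subgroup.card_map_of_injective (Subgroup.subtype_injective _)).symm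
        _ = Nat.card ((D'.map T.subtype).map (MulAut.conj x).toMonoidHom) :=
            Nat.card_congr (Subgroup.equivMapOfInjective _ _ (MulAut.conj x).injective).toEquiv
        _ ≤ Nat.card (P ⊓ Subgroup.normalizer
              ((Q.map (MulAut.conj x).toMonoidHom : Subgroup G) : Set G) : Subgroup G) :=
            Subgroup.card_le_of_le hDx
        _ = _ := (Nat.card_congr (Subgroup.subgroupOfEquivOfLe hNT').toEquiv).symm
    have heq := Subgroup.eq_of_le_of_card_ge hle₂ hcard
    rw [heq]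
    exact hE₂

end normalizer

end Cfsg.Agent.Lib.Helper25
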