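import Mathlib
import Cfsg.Agent.Lib.Helper25.BrauerPair13
import Cfsg.Prelude.Def_BlockFusion

set_option autoImplicit false

/-!
The fusion system of a block: fully centralized, fully normalized and centric subgroups in
terms of defect groups of the local blocks.
-/

namespace Cfsg.Agent.Lib.Helper25

open Cfsg Cfsg.Agent.Lib.Helper2 Cfsg.Agent.Lib.Helper8

section fusion

variable {G : Type*} [Group G] [Fintype G] {p : ℕ} {M : Ideal AlgInt}

omit [Fintype G] in
theorem card_subgroupOf_eq (H K : Subgroup G) (h : H ≤ K) :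
    Nat.card (H.subgroupOf K) = Nat.card H :=
  Nat.card_congr (Subgroup.subgroupOfEquivOfLe h).toEquiv

omit [Fintype G] in
theorem map_conj_inf_centralizer (Q : Subgroup G) (x : G) :
    (Q ⊓ Subgroup.centralizer (Q : Set G)).map (MulAut.conj x).toMonoidHom
      = Q.map (MulAut.conj x).toMonoidHom
        ⊓ Subgroup.centralizer ((Q.map (MulAut.conj x).toMonoidHom : Subgroup G) : Set G) := by
  ext y
  rw [mem_map_conj_iff, Subgroup.mem_inf, Subgroup.mem_inf, mem_map_conj_iff,
    mem_centralizer_map_conj_iff]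

/-- the conjugates of `Q` in the fusion system of the block -/
theorem isConj_iff_of_blockFusion [Fact p.Prime] (hM : IsPModular p M)
    {B : Set (IrrCharacter G)} {P : Subgroup G}
    {e : Set (IrrCharacter (Subgroup.centralizer (P : Set G)))} {F : FusionSystem P}
    (hF : IsBlockFusionSystemOn p M B P e F) {Q : Subgroup G}
    {f : Set (IrrCharacter (Subgroup.centralizer (Q : Set G)))} (hQP : Q ≤ P)
    (hle : SubpairLE p M Q f P e) (Q₂ : Subgroup G) :
    F.IsConj Q Q₂ ↔ ∃ g : G, Q₂ = Q.map (MulAut.conj g).toMonoidHom ∧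
      SubpairLE p M (Q.map (MulAut.conj g).toMonoidHom) (conjBlock Q g f) P e := by
  constructor
  · rintro ⟨φ, hφ, hrange⟩
    obtain ⟨-, g, hφg, hgP, f₁, hle₁, hle₂⟩ := (hF.2 Q φ).mp hφ
    have hf₁ : f₁ = f := subpair_unique hM P e hF.1.1.1 Q f₁ f hle₁ hle
    subst hf₁
    refine ⟨g, ?_, hle₂⟩
    rw [← hrange]
    ext y
    rw [MonoidHom.mem_range, Subgroup.mem_map]
    constructor
    · rintro ⟨u, rfl⟩
      exact ⟨(u : G), u.2, (hφg u).symm⟩
    · rintro ⟨u, hu, rfl⟩
      exact ⟨⟨u, hu⟩, hφg ⟨u, hu⟩⟩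
  · rintro ⟨g, rfl, hleg⟩
    refine ⟨conjHom Q g, (hF.2 Q _).mpr ⟨hQP, g, fun u => rfl, subpairLE_le hleg, f, hle, hleg⟩,
      ?_⟩
    ext y
    rw [MonoidHom.mem_range, Subgroup.mem_map]
    constructor
    · rintro ⟨u, rfl⟩
      exact ⟨(u : G), u.2, rfl⟩
    · rintro ⟨u, hu, rfl⟩
      exact ⟨⟨u, hu⟩, rfl⟩

theorem blockDefect_conjBlock (Q : Subgroup G) (x : G)
    (f : Set (IrrCharacter (Subgroup.centralizer (Q : Set G)))) :
    blockDefect p (conjBlock Q x f) = blockDefect p f := by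
  rw [conjBlock_eq]
  exact blockDefect_image_isoIrr _ p f

/-- **fully centralized subgroups of the fusion system of a block** -/
theorem fullyCentralized_iff [Fact p.Prime] (hM : IsPModular p M)
    {B : Set (IrrCharacter G)} {P : Subgroup G}
    {e : Set (IrrCharacter (Subgroup.centralizer (P : Set G)))}
    (hmax : IsMaximalBrauerPair p M B P e) (F : FusionSystem P)
    (hF : IsBlockFusionSystemOn p M B P e F) (Q : Subgroup G)
    (f : Set (IrrCharacter (Subgroup.centralizer (Q : Set G)))) (hQP : Q ≤ P)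
    (hf : IsPBlock M f) (hle : SubpairLE p M Q f P e) :
    F.IsFullyCentralized Q ↔ IsDefectGroup p M f
      ((P ⊓ Subgroup.centralizer (Q : Set G)).subgroupOf (Subgroup.centralizer (Q : Set G))) := by
  classical
  have : Fintype (Subgroup.centralizer (Q : Set G)) := Fintype.ofFinite _
  obtain ⟨⟨D, hD, hDle⟩, x, hQx, hDx⟩ := centralizerIn_defectGroup hM hmax hQP hf hle
  have hcD := card_of_isDefectGroup hM _ hf D hD
  constructor
  · rintro ⟨-, hfc⟩
    have hconj : F.IsConj Q (Q.map (MulAut.conj x).toMonoidHom) :=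
      (isConj_iff_of_blockFusion hM hF hQP hle _).mpr ⟨x, rfl, hQx⟩
    have h1 := hfc _ hconj
    have : Fintype (Subgroup.centralizer
      ((Q.map (MulAut.conj x).toMonoidHom : Subgroup G) : Set G)) := Fintype.ofFinite _
    have hcx := card_of_isDefectGroup hM _ (isPBlock_conjBlock Q x hf) _ hDx
    have hcard : Nat.card D ≤ Nat.card ((P ⊓ Subgroup.centralizer (Q : Set G)).subgroupOf
        (Subgroup.centralizer (Q : Set G))) := by
      rw [hcD, ← blockDefect_conjBlock Q x f, ← hcx, card_subgroupOf_eq _ _ inf_le_right,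
        card_subgroupOf_eq _ _ inf_le_right]
      exact h1
    rw [Subgroup.eq_of_le_of_card_ge hDle hcard]
    exact hD
  · intro hDQ
    refine ⟨hQP, fun Q₂ hconj => ?_⟩
    obtain ⟨g, rfl, hleg⟩ := (isConj_iff_of_blockFusion hM hF hQP hle Q₂).mp hconj
    have hfg := isPBlock_conjBlock (M := M) Q g hf
    have : Fintype (Subgroup.centralizer
      ((Q.map (MulAut.conj g).toMonoidHom : Subgroup G) : Set G)) := Fintype.ofFinite _
    obtain ⟨⟨D₂, hD₂, hD₂le⟩, -⟩ :=
      centralizerIn_defectGroup hM hmax (subpairLE_le hleg) hfg hleg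
    have hc2 := card_of_isDefectGroup hM _ hfg D₂ hD₂
    have hcQ := card_of_isDefectGroup hM _ hf _ hDQ
    change Nat.card ↥(P ⊓ Subgroup.centralizer
        ((Q.map (MulAut.conj g).toMonoidHom : Subgroup G) : Set G))
      ≤ Nat.card ↥(P ⊓ Subgroup.centralizer (Q : Set G))
    rw [← card_subgroupOf_eq _ _ (inf_le_right : P ⊓ Subgroup.centralizer
        ((Q.map (MulAut.conj g).toMonoidHom : Subgroup G) : Set G) ≤ _),
      ← card_subgroupOf_eq _ _ (inf_le_right : P ⊓ Subgroup.centralizer (Q : Set G) ≤ _), hcQ,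
      ← blockDefect_conjBlock Q g f, ← hc2]
    exact Subgroup.card_le_of_le hD₂le

/-- **centric subgroups of the fusion system of a block** -/
theorem centric_iff [Fact p.Prime] (hM : IsPModular p M)
    {B : Set (IrrCharacter G)} {P : Subgroup G}
    {e : Set (IrrCharacter (Subgroup.centralizer (P : Set G)))}
    (hmax : IsMaximalBrauerPair p M B P e) (F : FusionSystem P)
    (hF : IsBlockFusionSystemOn p M B P e F) (Q : Subgroup G)
    (f : Set (IrrCharacter (Subgroup.centralizer (Q : Set G)))) (hQP : Q ≤ P)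
    (hf : IsPBlock M f) (hle : SubpairLE p M Q f P e) :
    F.IsCentric Q ↔ IsDefectGroup p M f
      ((Q ⊓ Subgroup.centralizer (Q : Set G)).subgroupOf (Subgroup.centralizer (Q : Set G))) := by
  classical
  have : Fintype (Subgroup.centralizer (Q : Set G)) := Fintype.ofFinite _
  obtain ⟨⟨D, hD, hDle⟩, x, hQx, hDx⟩ := centralizerIn_defectGroup hM hmax hQP hf hle
  have hcD := card_of_isDefectGroup hM _ hf D hD
  have hcardZ : ∀ y : G, Nat.card ↥(Q.map (MulAut.conj y).toMonoidHom
      ⊓ Subgroup.centralizer ((Q.map (MulAut.conj y).toMonoidHom : Subgroup G) : Set G))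
      = Nat.card ↥(Q ⊓ Subgroup.centralizer (Q : Set G)) := by
    intro y
    rw [← map_conj_inf_centralizer]
    exact (Nat.card_congr (Subgroup.equivMapOfInjective _ _ (MulAut.conj y).injective).toEquiv).symm
  constructor
  · rintro ⟨-, hcen⟩
    have hconj : F.IsConj Q (Q.map (MulAut.conj x).toMonoidHom) :=
      (isConj_iff_of_blockFusion hM hF hQP hle _).mpr ⟨x, rfl, hQx⟩
    have h1 : P ⊓ Subgroup.centralizer ((Q.map (MulAut.conj x).toMonoidHom : Subgroup G) : Set G)
        ≤ Q.map (MulAut.conj x).toMonoidHom := hcen _ hconj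
    have hZ : P ⊓ Subgroup.centralizer ((Q.map (MulAut.conj x).toMonoidHom : Subgroup G) : Set G)
        = Q.map (MulAut.conj x).toMonoidHom
          ⊓ Subgroup.centralizer ((Q.map (MulAut.conj x).toMonoidHom : Subgroup G) : Set G) :=
      le_antisymm (le_inf h1 inf_le_right) (inf_le_inf_right _ (subpairLE_le hQx))
    have : Fintype (Subgroup.centralizer
      ((Q.map (MulAut.conj x).toMonoidHom : Subgroup G) : Set G)) := Fintype.ofFinite _
    have hcx := card_of_isDefectGroup hM _ (isPBlock_conjBlock Q x hf) _ hDx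
    have hZle : (Q ⊓ Subgroup.centralizer (Q : Set G)).subgroupOf
        (Subgroup.centralizer (Q : Set G)) ≤ D := fun u hu =>
      hDle (Subgroup.mem_subgroupOf.mpr
        (inf_le_inf_right _ hQP (Subgroup.mem_subgroupOf.mp hu)))
    have hcard : Nat.card D ≤ Nat.card ((Q ⊓ Subgroup.centralizer (Q : Set G)).subgroupOf
        (Subgroup.centralizer (Q : Set G))) := by
      rw [hcD, ← blockDefect_conjBlock Q x f, ← hcx, card_subgroupOf_eq _ _ inf_le_right,
        card_subgroupOf_eq _ _ inf_le_right, hZ, hcardZ x]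
    rw [Subgroup.eq_of_le_of_card_ge hZle hcard]
    exact hD
  · intro hDQ
    refine ⟨hQP, fun Q₂ hconj => ?_⟩
    obtain ⟨g, rfl, hleg⟩ := (isConj_iff_of_blockFusion hM hF hQP hle Q₂).mp hconj
    have hfg := isPBlock_conjBlock (M := M) Q g hf
    have : Fintype (Subgroup.centralizer
      ((Q.map (MulAut.conj g).toMonoidHom : Subgroup G) : Set G)) := Fintype.ofFinite _
    obtain ⟨⟨D₂, hD₂, hD₂le⟩, -⟩ :=
      centralizerIn_defectGroup hM hmax (subpairLE_le hleg) hfg hleg
    have hc2 := card_of_isDefectGroup hM _ hfg D₂ hD₂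
    have hcQ := card_of_isDefectGroup hM _ hf _ hDQ
    have hcard : Nat.card ↥(P ⊓ Subgroup.centralizer
        ((Q.map (MulAut.conj g).toMonoidHom : Subgroup G) : Set G))
        ≤ Nat.card ↥(Q.map (MulAut.conj g).toMonoidHom
          ⊓ Subgroup.centralizer ((Q.map (MulAut.conj g).toMonoidHom : Subgroup G) : Set G)) := by
      rw [hcardZ g, ← card_subgroupOf_eq _ _ (inf_le_right : P ⊓ Subgroup.centralizer
          ((Q.map (MulAut.conj g).toMonoidHom : Subgroup G) : Set G) ≤ _),
        ← card_subgroupOf_eq _ _ (inf_le_right : Q ⊓ Subgroup.centralizer (Q : Set G) ≤ _), hcQ,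
        ← blockDefect_conjBlock Q g f, ← hc2]
      exact Subgroup.card_le_of_le hD₂le
    have hle2 : Q.map (MulAut.conj g).toMonoidHom
          ⊓ Subgroup.centralizer ((Q.map (MulAut.conj g).toMonoidHom : Subgroup G) : Set G)
        ≤ P ⊓ Subgroup.centralizer ((Q.map (MulAut.conj g).toMonoidHom : Subgroup G) : Set G) :=
      inf_le_inf_right _ (subpairLE_le hleg)
    have heq := Subgroup.eq_of_le_of_card_ge hle2 hcard
    change P ⊓ Subgroup.centralizer ((Q.map (MulAut.conj g).toMonoidHom : Subgroup G) : Set G)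
      ≤ Q.map (MulAut.conj g).toMonoidHom
    rw [← heq]
    exact inf_le_left

/-- the bound on defect groups of stabilizer blocks, for pairs given as conjugates -/
theorem card_defectGroup_stab_le' [Fact p.Prime] (hM : IsPModular p M) (a b : BrauerPairIdx G)
    (x : G) (hab : b = conjPair x a) (ha1 : IsPGroup p a.1) (ha2 : IsPBlock M a.2)
    (Ta : Subgroup G)
    (hTa : ∀ y : G, y ∈ Ta ↔ y ∈ Subgroup.normalizer (a.1 : Set G) ∧
      StabilizesBlock (Subgroup.centralizer (a.1 : Set G)) a.2 y)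
    (Fa : Set (IrrCharacter Ta)) (hFa : IsPBlock M Fa)
    (hFca : ∀ t : Ta, blockCoeff Fa t
      = subgroupBlockCoeff (Subgroup.centralizer (a.1 : Set G)) a.2 (t : G))
    (Tb : Subgroup G)
    (hTb : ∀ y : G, y ∈ Tb ↔ y ∈ Subgroup.normalizer (b.1 : Set G) ∧
      StabilizesBlock (Subgroup.centralizer (b.1 : Set G)) b.2 y)
    (Fb : Set (IrrCharacter Tb)) (hFb : IsPBlock M Fb)
    (hFcb : ∀ t : Tb, blockCoeff Fb t
      = subgroupBlockCoeff (Subgroup.centralizer (b.1 : Set G)) b.2 (t : G))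
    (E : Subgroup Tb) (hE : IsDefectGroup p M Fb E) : Nat.card E ≤ p ^ blockDefect p Fa := by
  subst hab
  exact card_defectGroup_stab_le hM a.1 ha1 a.2 ha2 Ta hTa Fa hFa hFca x Tb hTb Fb hFb hFcb E hE

/-- **fully normalized subgroups of the fusion system of a block** -/
theorem fullyNormalized_iff [Fact p.Prime] (hM : IsPModular p M)
    {B : Set (IrrCharacter G)} {P : Subgroup G}
    {e : Set (IrrCharacter (Subgroup.centralizer (P : Set G)))}
    (hmax : IsMaximalBrauerPair p M B P e) (F : FusionSystem P)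
    (hF : IsBlockFusionSystemOn p M B P e F) (Q : Subgroup G)
    (f : Set (IrrCharacter (Subgroup.centralizer (Q : Set G)))) (hQP : Q ≤ P)
    (hf : IsPBlock M f) (hle : SubpairLE p M Q f P e) (T : Subgroup G)
    (hT : ∀ y : G, y ∈ T ↔ y ∈ Subgroup.normalizer (Q : Set G) ∧
      StabilizesBlock (Subgroup.centralizer (Q : Set G)) f y) :
    F.IsFullyNormalized Q ↔ ∃ F' : Set (IrrCharacter T), IsPBlock M F' ∧
      (∀ t : T, blockCoeff F' t
        = subgroupBlockCoeff (Subgroup.centralizer (Q : Set G)) f (t : G)) ∧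
      IsDefectGroup p M F' ((P ⊓ Subgroup.normalizer (Q : Set G)).subgroupOf T) := by
  classical
  have : Fintype T := Fintype.ofFinite _
  have hPe : IsBrauerPair p M P e := hmax.1.1
  have hQp : IsPGroup p Q := hPe.1.to_le hQP
  obtain ⟨⟨F₁, hF₁, hFc₁, D, hD, hDle⟩, x, hQx, hall⟩ :=
    normalizerIn_defectGroup hM hmax hQP hf hle T hT
  obtain ⟨e₀, hn₀⟩ := exists_normal_normalizerIn hM hPe hQP hle
  have hNT : P ⊓ Subgroup.normalizer (Q : Set G) ≤ T := fun y hy =>
    (hT y).mpr ⟨hn₀.2.2.2.1 hy, hn₀.2.2.2.2.1 y hy⟩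
  constructor
  · rintro ⟨-, hfn⟩
    have hconj : F.IsConj Q (Q.map (MulAut.conj x).toMonoidHom) :=
      (isConj_iff_of_blockFusion hM hF hQP hle _).mpr ⟨x, rfl, hQx⟩
    have h1 : Nat.card ↥(P ⊓ Subgroup.normalizer
          ((Q.map (MulAut.conj x).toMonoidHom : Subgroup G) : Set G))
        ≤ Nat.card ↥(P ⊓ Subgroup.normalizer (Q : Set G)) := hfn _ hconj
    have hfx := isPBlock_conjBlock (M := M) Q x hf
    have hQxp : IsPGroup p (Q.map (MulAut.conj x).toMonoidHom) := hQp.map _
    have : Fintype (pairStab hM (Q.map (MulAut.conj x).toMonoidHom) (conjBlock Q x f) hfx) :=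
      Fintype.ofFinite _
    obtain ⟨F₂, hF₂, hFc₂, hD₂⟩ :=
      hall (pairStab hM (Q.map (MulAut.conj x).toMonoidHom) (conjBlock Q x f) hfx)
        (mem_pairStab hM _ _ hfx)
    have key : Nat.card D ≤ p ^ blockDefect p F₂ :=
      card_defectGroup_stab_le' hM (conjPair x ⟨Q, f⟩) ⟨Q, f⟩ x⁻¹
        (by rw [← conjPair_mul, inv_mul_cancel, conjPair_one]) hQxp hfx
        (pairStab hM (Q.map (MulAut.conj x).toMonoidHom) (conjBlock Q x f) hfx)
        (mem_pairStab hM _ _ hfx) F₂ hF₂ hFc₂ T hT F₁ hF₁ hFc₁ D hD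
    obtain ⟨e₂, hn₂⟩ := exists_normal_normalizerIn hM hPe (subpairLE_le hQx) hQx
    have hNT₂ : P ⊓ Subgroup.normalizer
        ((Q.map (MulAut.conj x).toMonoidHom : Subgroup G) : Set G)
        ≤ pairStab hM (Q.map (MulAut.conj x).toMonoidHom) (conjBlock Q x f) hfx := fun y hy =>
      ⟨hn₂.2.2.2.1 hy, hn₂.2.2.2.2.1 y hy⟩
    have hcard : Nat.card D ≤ Nat.card ((P ⊓ Subgroup.normalizer (Q : Set G)).subgroupOf T) := by
      refine key.trans ?_
      rw [← card_of_isDefectGroup hM _ hF₂ _ hD₂, card_subgroupOf_eq _ _ hNT₂,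
        card_subgroupOf_eq _ _ hNT]
      exact h1
    refine ⟨F₁, hF₁, hFc₁, ?_⟩
    rw [Subgroup.eq_of_le_of_card_ge hDle hcard]
    exact hD
  · rintro ⟨F', hF', hFc', hDN⟩
    refine ⟨hQP, fun Q₂ hconj => ?_⟩
    obtain ⟨g, rfl, hleg⟩ := (isConj_iff_of_blockFusion hM hF hQP hle Q₂).mp hconj
    have hfg := isPBlock_conjBlock (M := M) Q g hf
    have hQgP : Q.map (MulAut.conj g).toMonoidHom ≤ P := subpairLE_le hleg
    have : Fintype (pairStab hM (Q.map (MulAut.conj g).toMonoidHom) (conjBlock Q g f) hfg) :=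
      Fintype.ofFinite _
    obtain ⟨⟨F₂, hF₂, hFc₂, D₂, hD₂, hD₂le⟩, -⟩ := normalizerIn_defectGroup hM hmax hQgP hfg hleg
      (pairStab hM (Q.map (MulAut.conj g).toMonoidHom) (conjBlock Q g f) hfg)
      (mem_pairStab hM _ _ hfg)
    have key := card_defectGroup_stab_le hM Q hQp f hf T hT F' hF' hFc' g
      (pairStab hM (Q.map (MulAut.conj g).toMonoidHom) (conjBlock Q g f) hfg)
      (mem_pairStab hM _ _ hfg) F₂ hF₂ hFc₂ D₂ hD₂
    obtain ⟨e₂, hn₂⟩ := exists_normal_normalizerIn hM hPe hQgP hleg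
    have hNT₂ : P ⊓ Subgroup.normalizer
        ((Q.map (MulAut.conj g).toMonoidHom : Subgroup G) : Set G)
        ≤ pairStab hM (Q.map (MulAut.conj g).toMonoidHom) (conjBlock Q g f) hfg := fun y hy =>
      ⟨hn₂.2.2.2.1 hy, hn₂.2.2.2.2.1 y hy⟩
    change Nat.card ↥(P ⊓ Subgroup.normalizer
          ((Q.map (MulAut.conj g).toMonoidHom : Subgroup G) : Set G))
        ≤ Nat.card ↥(P ⊓ Subgroup.normalizer (Q : Set G))
    rw [← card_subgroupOf_eq _ _ hNT₂, ← card_subgroupOf_eq _ _ hNT,
      card_of_isDefectGroup hM _ hF' _ hDN]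
    exact (Subgroup.card_le_of_le hD₂le).trans key

end fusion

end Cfsg.Agent.Lib.Helper25
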