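import Mathlib
import Cfsg.Agent.Lib.Helper25.BrauerPair14

set_option autoImplicit false

/-!
Lifting Brauer pairs of a local block to Brauer pairs of `G`.  For a pair `(Q, f)` of `G`, a
subgroup `H` with `C(Q) ≤ H ≤ N(Q, f)` and a block `F` of `H` with the idempotent of `f`, the
pairs `(R', g')` of `F` (with the centralizer of `R'` in `H` inside `C(Q)`) lift to the pairs
`(Q R', g)` of `G` normally above `(Q, f)`; normal inclusions, chains and conjugation by
elements of `H` are compatible with the lift.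
-/

namespace Cfsg.Agent.Lib.Helper25

open Cfsg Cfsg.Agent.Lib.Helper2 Cfsg.Agent.Lib.Helper8

section liftdefs

variable {G : Type*} [Group G]

/-- the subgroup of `G` generated by `Q` and a subgroup `R'` of `H` -/
def upSub (Q H : Subgroup G) (R' : Subgroup H) : Subgroup G := Q ⊔ R'.map H.subtype

/-- the centralizer of `R'` in `H` centralizes `Q` -/
def GoodSub (Q H : Subgroup G) (R' : Subgroup H) : Prop :=
  ∀ h : H, h ∈ Subgroup.centralizer (R' : Set H) → (h : G) ∈ Subgroup.centralizer (Q : Set G)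

theorem goodSub_mono (Q H : Subgroup G) {R' S' : Subgroup H} (h : R' ≤ S')
    (hg : GoodSub Q H R') : GoodSub Q H S' := fun x hx =>
  hg x (Subgroup.centralizer_le (fun u hu => h hu) hx)

theorem upSub_mono (Q H : Subgroup G) {R' S' : Subgroup H} (h : R' ≤ S') :
    upSub Q H R' ≤ upSub Q H S' := sup_le_sup_left (Subgroup.map_mono h) Q

theorem upSub_h1 (Q H : Subgroup G) (hCH : Subgroup.centralizer (Q : Set G) ≤ H)
    (R' : Subgroup H) : Subgroup.centralizer ((upSub Q H R' : Subgroup G) : Set G) ≤ H :=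
  fun c hc => hCH ((mem_centralizer_sup_iff Q _ c).mp hc).1

theorem upSub_h2 (Q H : Subgroup G) (R' : Subgroup H) (hg : GoodSub Q H R') (h : H) :
    h ∈ Subgroup.centralizer (R' : Set H)
      ↔ (h : G) ∈ Subgroup.centralizer ((upSub Q H R' : Subgroup G) : Set G) := by
  constructor
  · intro hh
    unfold upSub
    rw [mem_centralizer_sup_iff]
    refine ⟨hg h hh, ?_⟩
    rw [Subgroup.mem_centralizer_iff]
    intro u hu
    obtain ⟨u', hu', rfl⟩ := Subgroup.mem_map.mp hu
    exact congrArg Subtype.val (Subgroup.mem_centralizer_iff.mp hh u' hu')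
  · intro hh
    have hh2 := ((mem_centralizer_sup_iff Q _ _).mp hh).2
    rw [Subgroup.mem_centralizer_iff]
    intro u hu
    apply Subtype.ext
    exact Subgroup.mem_centralizer_iff.mp hh2 (u : G) (Subgroup.mem_map.mpr ⟨u, hu, rfl⟩)

/-- the centralizer of `R'` in `H` is the centralizer of `Q R'` in `G` -/
def liftIso (Q H : Subgroup G) (hCH : Subgroup.centralizer (Q : Set G) ≤ H) (R' : Subgroup H)
    (hg : GoodSub Q H R') :
    ↥(Subgroup.centralizer (R' : Set H))
      ≃* ↥(Subgroup.centralizer ((upSub Q H R' : Subgroup G) : Set G)) :=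
  subCentIso H R' (upSub Q H R') (upSub_h1 Q H hCH R') (upSub_h2 Q H R' hg)

theorem liftIso_coe (Q H : Subgroup G) (hCH : Subgroup.centralizer (Q : Set G) ≤ H)
    (R' : Subgroup H) (hg : GoodSub Q H R') (x : ↥(Subgroup.centralizer (R' : Set H))) :
    ((liftIso Q H hCH R' hg x : ↥(Subgroup.centralizer ((upSub Q H R' : Subgroup G) : Set G)))
      : G) = ((x : H) : G) := rfl

theorem liftIso_symm_coe (Q H : Subgroup G) (hCH : Subgroup.centralizer (Q : Set G) ≤ H)
    (R' : Subgroup H) (hg : GoodSub Q H R')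
    (c : ↥(Subgroup.centralizer ((upSub Q H R' : Subgroup G) : Set G))) :
    ((((liftIso Q H hCH R' hg).symm c : ↥(Subgroup.centralizer (R' : Set H))) : H) : G)
      = (c : G) := rfl

theorem mem_normalizer_sup' {A B : Subgroup G} {x : G}
    (hA : x ∈ Subgroup.normalizer (A : Set G)) (hB : x ∈ Subgroup.normalizer (B : Set G)) :
    x ∈ Subgroup.normalizer ((A ⊔ B : Subgroup G) : Set G) := by
  have key : ∀ y : G, y ∈ Subgroup.normalizer (A : Set G) →
      y ∈ Subgroup.normalizer (B : Set G) → ∀ u ∈ A ⊔ B, y * u * y⁻¹ ∈ A ⊔ B := by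
    intro y hyA hyB u hu
    have h1 : A ⊔ B ≤ (A ⊔ B).comap (MulAut.conj y).toMonoidHom := by
      apply sup_le
      · intro a ha
        rw [Subgroup.mem_comap]
        exact (le_sup_left : A ≤ A ⊔ B) ((Subgroup.mem_normalizer_iff.mp hyA a).mp ha)
      · intro b hb
        rw [Subgroup.mem_comap]
        exact (le_sup_right : B ≤ A ⊔ B) ((Subgroup.mem_normalizer_iff.mp hyB b).mp hb)
    exact h1 hu
  rw [Subgroup.mem_normalizer_iff]
  intro u
  constructor
  · exact key x hA hB u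
  · intro hu
    have := key x⁻¹ (Subgroup.inv_mem _ hA) (Subgroup.inv_mem _ hB) _ hu
    simpa [mul_assoc] using this

theorem mem_normalizer_map_subtype {H : Subgroup G} {R' : Subgroup H} {s : H}
    (hs : s ∈ Subgroup.normalizer (R' : Set H)) :
    (s : G) ∈ Subgroup.normalizer ((R'.map H.subtype : Subgroup G) : Set G) := by
  rw [Subgroup.mem_normalizer_iff]
  intro u
  constructor
  · intro hu
    obtain ⟨u', hu', rfl⟩ := Subgroup.mem_map.mp hu
    exact Subgroup.mem_map.mpr ⟨s * u' * s⁻¹, (Subgroup.mem_normalizer_iff.mp hs u').mp hu', rfl⟩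
  · intro hu
    obtain ⟨v', hv', hv⟩ := Subgroup.mem_map.mp hu
    have h1 : s⁻¹ * v' * s⁻¹⁻¹ ∈ R' :=
      (Subgroup.mem_normalizer_iff.mp (Subgroup.inv_mem _ hs) v').mp hv'
    refine Subgroup.mem_map.mpr ⟨s⁻¹ * v' * s⁻¹⁻¹, h1, ?_⟩
    change ((s⁻¹ * v' * s⁻¹⁻¹ : H) : G) = u
    push_cast
    have hv2 : (v' : G) = (s : G) * u * (s : G)⁻¹ := hv
    rw [hv2]
    simp [mul_assoc]

theorem upSub_le_normalizer (Q H : Subgroup G) (hHN : H ≤ Subgroup.normalizer (Q : Set G))
    {R' S' : Subgroup H} (hN : S' ≤ Subgroup.normalizer (R' : Set H)) :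
    upSub Q H S' ≤ Subgroup.normalizer ((upSub Q H R' : Subgroup G) : Set G) := by
  apply sup_le
  · exact (le_sup_left : Q ≤ upSub Q H R').trans Subgroup.le_normalizer
  · intro s hs
    obtain ⟨s', hs', rfl⟩ := Subgroup.mem_map.mp hs
    exact mem_normalizer_sup' (hHN s'.2) (mem_normalizer_map_subtype (hN hs'))

end liftdefs

section liftpairs

variable {G : Type*} [Group G] [Fintype G] {p : ℕ} {M : Ideal AlgInt}

/-- the lift of a block of the centralizer of `R'` in `H` -/
noncomputable def liftB (Q H : Subgroup G) (hCH : Subgroup.centralizer (Q : Set G) ≤ H)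
    (R' : Subgroup H) (hg : GoodSub Q H R')
    (g' : Set (IrrCharacter (Subgroup.centralizer (R' : Set H)))) :
    Set (IrrCharacter (Subgroup.centralizer ((upSub Q H R' : Subgroup G) : Set G))) :=
  isoIrr (liftIso Q H hCH R' hg) '' g'

/-- the lift of a pair of `H` -/
noncomputable def liftPair (Q H : Subgroup G) (hCH : Subgroup.centralizer (Q : Set G) ≤ H)
    (a : BrauerPairIdx H) (ha : GoodSub Q H a.1) : BrauerPairIdx G :=
  ⟨upSub Q H a.1, liftB Q H hCH a.1 ha a.2⟩

theorem brauerOmega_subgroup' (H : Subgroup G) (R' : Subgroup H) (R : Subgroup G)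
    (h1 : Subgroup.centralizer (R : Set G) ≤ H)
    (h2 : ∀ h : H, h ∈ Subgroup.centralizer (R' : Set H)
      ↔ (h : G) ∈ Subgroup.centralizer (R : Set G))
    (a : G → ℂ) (a' : H → ℂ) (ha : ∀ h : H, a h = a' h)
    (ξ' : IrrCharacter (Subgroup.centralizer (R' : Set H))) :
    brauerOmega R a (isoIrr (subCentIso H R' R h1 h2) ξ' : Subgroup.centralizer (R : Set G) → ℂ)
      = brauerOmega R' a' (ξ' : Subgroup.centralizer (R' : Set H) → ℂ) := by
  unfold brauerOmega
  rw [← finsum_comp_equiv (subCentIso H R' R h1 h2).toEquiv]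
  apply finsum_congr
  intro x
  have e1 : (isoIrr (subCentIso H R' R h1 h2) ξ' : Subgroup.centralizer (R : Set G) → ℂ)
      ((subCentIso H R' R h1 h2).toEquiv x)
      = (ξ' : Subgroup.centralizer (R' : Set H) → ℂ) x := by
    change (ξ' : Subgroup.centralizer (R' : Set H) → ℂ)
      ((subCentIso H R' R h1 h2).symm (subCentIso H R' R h1 h2 x)) = _
    rw [MulEquiv.symm_apply_apply]
  have e2 : (isoIrr (subCentIso H R' R h1 h2) ξ' : Subgroup.centralizer (R : Set G) → ℂ) 1
      = (ξ' : Subgroup.centralizer (R' : Set H) → ℂ) 1 := by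
    rw [isoIrr_apply, map_one]
  have e3 : a (((subCentIso H R' R h1 h2).toEquiv x : ↥(Subgroup.centralizer (R : Set G))) : G)
      = a' (x : H) := ha (x : H)
  rw [e1, e2, e3]

/-- the idempotent of a lifted block, on `H` -/
theorem subgroupBlockCoeff_liftB (Q H : Subgroup G)
    (hCH : Subgroup.centralizer (Q : Set G) ≤ H) (R' : Subgroup H) (hg : GoodSub Q H R')
    (g' : Set (IrrCharacter (Subgroup.centralizer (R' : Set H)))) (h : H) :
    subgroupBlockCoeff (Subgroup.centralizer ((upSub Q H R' : Subgroup G) : Set G))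
        (liftB Q H hCH R' hg g') (h : G)
      = subgroupBlockCoeff (Subgroup.centralizer (R' : Set H)) g' h := by
  rw [subgroupBlockCoeff_eq, subgroupBlockCoeff_eq]
  by_cases hh : h ∈ Subgroup.centralizer (R' : Set H)
  · have hh' := (upSub_h2 Q H R' hg h).mp hh
    rw [extendByZero_of_mem _ _ hh', extendByZero_of_mem _ _ hh]
    exact blockCoeff_image_isoIrr (liftIso Q H hCH R' hg) g' ⟨h, hh⟩
  · have hh' : (h : G) ∉ Subgroup.centralizer ((upSub Q H R' : Subgroup G) : Set G) :=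
      fun hc => hh ((upSub_h2 Q H R' hg h).mpr hc)
    rw [extendByZero_of_not_mem _ _ hh', extendByZero_of_not_mem _ _ hh]


/-- a pair of the block `F` of `H` lifts to a pair of `G` normally above `(Q, f)` -/
theorem normalSubpairRel_base_lift (hM : IsPModular p M) (Q : Subgroup G) (hQ : IsPGroup p Q)
    (f : Set (IrrCharacter (Subgroup.centralizer (Q : Set G)))) (hf : IsPBlock M f)
    (H : Subgroup G) (hCH : Subgroup.centralizer (Q : Set G) ≤ H)
    (hHT : H ≤ pairStab hM Q f hf) (F : Set (IrrCharacter H))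
    (hFc : ∀ t : H, blockCoeff F t
      = subgroupBlockCoeff (Subgroup.centralizer (Q : Set G)) f (t : G))
    (a : BrauerPairIdx H) (ha : GoodSub Q H a.1) (h : IsBrauerPairOf p M F a.1 a.2) :
    NormalSubpairRel p M ⟨Q, f⟩ (liftPair Q H hCH a ha) := by
  obtain ⟨R', g'⟩ := a
  have h3 := (isBrauerPairOf_sub_iff H R' (upSub Q H R') (upSub_h1 Q H hCH R')
    (upSub_h2 Q H R' ha) F
    (subgroupBlockCoeff (Subgroup.centralizer (Q : Set G)) f) (fun t => (hFc t).symm) g').mp h
  obtain ⟨⟨hR'p, hg'⟩, -, hom⟩ := h3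
  have hmapN : R'.map H.subtype ≤ Subgroup.normalizer (Q : Set G) :=
    fun x hx => (hHT (Subgroup.map_subtype_le R' hx)).1
  have hRp : IsPGroup p (upSub Q H R') :=
    IsPGroup.to_sup_of_normal_left' hQ (hR'p.map _) hmapN
  have hRstab : upSub Q H R' ≤ pairStab hM Q f hf :=
    sup_le (le_pairStab hM Q f hf) ((Subgroup.map_subtype_le R').trans hHT)
  exact ⟨⟨hQ, hf⟩, ⟨hRp, isPBlock_image_isoIrr _ hg'⟩, le_sup_left,
    fun x hx => (hRstab hx).1, fun x hx => (hRstab hx).2, hom⟩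

/-- a pair of `G` on `Q R'` normally above `(Q, f)` comes from a pair of the block `F` -/
theorem isBrauerPairOf_of_lift (Q : Subgroup G)
    (f : Set (IrrCharacter (Subgroup.centralizer (Q : Set G))))
    (H : Subgroup G) (hCH : Subgroup.centralizer (Q : Set G) ≤ H)
    (F : Set (IrrCharacter H)) (hF : IsPBlock M F)
    (hFc : ∀ t : H, blockCoeff F t
      = subgroupBlockCoeff (Subgroup.centralizer (Q : Set G)) f (t : G))
    (R' : Subgroup H) (hg : GoodSub Q H R')
    (g : Set (IrrCharacter (Subgroup.centralizer ((upSub Q H R' : Subgroup G) : Set G))))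
    (hn : IsNormalSubpair p M Q f (upSub Q H R') g) :
    IsBrauerPairOf p M F R' (isoIrr (liftIso Q H hCH R' hg).symm '' g) ∧
      liftPair Q H hCH ⟨R', isoIrr (liftIso Q H hCH R' hg).symm '' g⟩ hg
        = ⟨upSub Q H R', g⟩ := by
  obtain ⟨-, ⟨hR, hgb⟩, -, -, -, hom⟩ := hn
  constructor
  · rw [isBrauerPairOf_sub_iff H R' (upSub Q H R') (upSub_h1 Q H hCH R')
      (upSub_h2 Q H R' hg) F
      (subgroupBlockCoeff (Subgroup.centralizer (Q : Set G)) f) (fun t => (hFc t).symm)]
    have hR'p : IsPGroup p R' := by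
      have h1 : IsPGroup p (R'.map H.subtype) := hR.to_le le_sup_right
      intro x
      obtain ⟨k, hk⟩ := h1 ⟨(x : G), Subgroup.mem_map.mpr ⟨x, x.2, rfl⟩⟩
      refine ⟨k, ?_⟩
      apply Subtype.ext
      apply Subtype.ext
      have := congrArg Subtype.val hk
      simpa using this
    refine ⟨⟨hR'p, isPBlock_image_isoIrr _ hgb⟩, hF, ?_⟩
    change ∀ ξ ∈ isoIrr (liftIso Q H hCH R' hg) '' (isoIrr (liftIso Q H hCH R' hg).symm '' g),
      MemLocalIdeal M (brauerOmega (upSub Q H R')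
        (subgroupBlockCoeff (Subgroup.centralizer (Q : Set G)) f)
        (ξ : Subgroup.centralizer ((upSub Q H R' : Subgroup G) : Set G) → ℂ) - 1)
    rw [image_isoIrr_symm]
    exact hom
  · change (⟨upSub Q H R', isoIrr (liftIso Q H hCH R' hg)
      '' (isoIrr (liftIso Q H hCH R' hg).symm '' g)⟩ : BrauerPairIdx G) = _
    rw [image_isoIrr_symm]

/-- a normal inclusion of pairs of `H` lifts to a normal inclusion of pairs of `G` -/
theorem normalSubpairRel_lift [Fact p.Prime] (hM : IsPModular p M) (Q : Subgroup G)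
    (hQ : IsPGroup p Q) (H : Subgroup G) (hCH : Subgroup.centralizer (Q : Set G) ≤ H)
    (hHN : H ≤ Subgroup.normalizer (Q : Set G)) (a b : BrauerPairIdx H)
    (ha : GoodSub Q H a.1) (hb : GoodSub Q H b.1) (h : NormalSubpairRel p M a b) :
    NormalSubpairRel p M (liftPair Q H hCH a ha) (liftPair Q H hCH b hb) := by
  obtain ⟨Ra, ga⟩ := a
  obtain ⟨Rb, gb⟩ := b
  obtain ⟨⟨hRa, hga⟩, ⟨hRb, hgb⟩, hle, hN, hstab, hom⟩ := h
  have hmapN : ∀ R' : Subgroup H, R'.map H.subtype ≤ Subgroup.normalizer (Q : Set G) :=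
    fun R' => (Subgroup.map_subtype_le R').trans hHN
  have hRap : IsPGroup p (upSub Q H Ra) :=
    IsPGroup.to_sup_of_normal_left' hQ (hRa.map _) (hmapN Ra)
  have hRbp : IsPGroup p (upSub Q H Rb) :=
    IsPGroup.to_sup_of_normal_left' hQ (hRb.map _) (hmapN Rb)
  have hblk : IsPBlock M (liftB Q H hCH Ra ha ga) := isPBlock_image_isoIrr _ hga
  have hnorm : upSub Q H Rb ≤ Subgroup.normalizer ((upSub Q H Ra : Subgroup G) : Set G) :=
    upSub_le_normalizer Q H hHN hN
  have hst : upSub Q H Rb ≤ pairStab hM (upSub Q H Ra) (liftB Q H hCH Ra ha ga) hblk := by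
    apply sup_le
    · exact (le_sup_left : Q ≤ upSub Q H Ra).trans (le_pairStab hM _ _ hblk)
    · intro s hs
      obtain ⟨s', hs', rfl⟩ := Subgroup.mem_map.mp hs
      have hsn : (s' : G) ∈ Subgroup.normalizer ((upSub Q H Ra : Subgroup G) : Set G) :=
        hnorm ((le_sup_right : Rb.map H.subtype ≤ upSub Q H Rb) hs)
      refine ⟨hsn, normalizer_le_normalizer_centralizer _ hsn, ?_⟩
      rintro χ ⟨η, hη, rfl⟩
      obtain ⟨η', hη', hconj⟩ := (hstab s' hs').2 η hη
      refine ⟨isoIrr (liftIso Q H hCH Ra ha) η', ⟨η', hη', rfl⟩, ?_⟩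
      intro k k' hk
      rw [isoIrr_apply, isoIrr_apply]
      apply hconj
      apply Subtype.ext
      exact hk
  refine ⟨⟨hRap, hblk⟩, ⟨hRbp, isPBlock_image_isoIrr _ hgb⟩, upSub_mono Q H hle, hnorm,
    fun x hx => (hst hx).2, ?_⟩
  rintro ξ ⟨ξ', hξ', rfl⟩
  have e := brauerOmega_subgroup' H Rb (upSub Q H Rb) (upSub_h1 Q H hCH Rb)
    (upSub_h2 Q H Rb hb)
    (subgroupBlockCoeff (Subgroup.centralizer ((upSub Q H Ra : Subgroup G) : Set G))
      (liftB Q H hCH Ra ha ga))
    (subgroupBlockCoeff (Subgroup.centralizer (Ra : Set H)) ga)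
    (subgroupBlockCoeff_liftB Q H hCH Ra ha ga) ξ'
  have key : MemLocalIdeal M (brauerOmega (upSub Q H Rb)
      (subgroupBlockCoeff (Subgroup.centralizer ((upSub Q H Ra : Subgroup G) : Set G))
        (liftB Q H hCH Ra ha ga))
      (isoIrr (subCentIso H Rb (upSub Q H Rb) (upSub_h1 Q H hCH Rb) (upSub_h2 Q H Rb hb)) ξ' :
        Subgroup.centralizer ((upSub Q H Rb : Subgroup G) : Set G) → ℂ) - 1) := by
    rw [e]
    exact hom ξ' hξ'
  exact key

/-- chains of normal inclusions lift -/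
theorem reflTransGen_lift [Fact p.Prime] (hM : IsPModular p M) (Q : Subgroup G)
    (hQ : IsPGroup p Q) (H : Subgroup G) (hCH : Subgroup.centralizer (Q : Set G) ≤ H)
    (hHN : H ≤ Subgroup.normalizer (Q : Set G)) {a b : BrauerPairIdx H}
    (h : Relation.ReflTransGen (NormalSubpairRel p M) a b) (ha : GoodSub Q H a.1) :
    ∃ hb : GoodSub Q H b.1, Relation.ReflTransGen (NormalSubpairRel p M)
      (liftPair Q H hCH a ha) (liftPair Q H hCH b hb) := by
  induction h with
  | refl => exact ⟨ha, Relation.ReflTransGen.refl⟩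
  | tail _ hbc ih =>
    obtain ⟨hb, ih'⟩ := ih
    have hc := goodSub_mono Q H hbc.2.2.1 hb
    exact ⟨hc, ih'.tail (normalSubpairRel_lift hM Q hQ H hCH hHN _ _ hb hc hbc)⟩


omit [Fintype G] in
theorem map_conj_upSub (Q H : Subgroup G) (hHN : H ≤ Subgroup.normalizer (Q : Set G)) (t : H)
    (R' : Subgroup H) :
    upSub Q H (R'.map (MulAut.conj t).toMonoidHom)
      = (upSub Q H R').map (MulAut.conj (t : G)).toMonoidHom := by
  unfold upSub
  rw [Subgroup.map_sup, Subgroup.map_map, Subgroup.map_map]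
  have e1 : Q.map (MulAut.conj (t : G)).toMonoidHom = Q := by
    ext u
    rw [mem_map_conj_iff]
    have := Subgroup.mem_normalizer_iff.mp (Subgroup.inv_mem _ (hHN t.2)) u
    rw [inv_inv] at this
    exact this.symm
  have e2 : H.subtype.comp (MulAut.conj t).toMonoidHom
      = (MulAut.conj (t : G)).toMonoidHom.comp H.subtype := by
    ext x
    simp
  rw [e1, e2]

omit [Fintype G] in
theorem goodSub_conj (Q H : Subgroup G) (hHN : H ≤ Subgroup.normalizer (Q : Set G)) (t : H)
    (R' : Subgroup H) (hg : GoodSub Q H R') :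
    GoodSub Q H (R'.map (MulAut.conj t).toMonoidHom) := by
  intro h hh
  rw [mem_centralizer_map_conj_iff] at hh
  have h1 := hg _ hh
  have h2 : (t : G)⁻¹ ∈ Subgroup.normalizer (Q : Set G) := Subgroup.inv_mem _ (hHN t.2)
  have h3 : (t : G)⁻¹ * (h : G) * ((t : G)⁻¹)⁻¹ ∈ Subgroup.centralizer (Q : Set G) := by
    rw [inv_inv]
    exact h1
  exact (conj_mem_centralizer_iff h2 (h : G)).mp h3

/-- lifting commutes with conjugation by elements of `H` -/
theorem liftPair_conj (Q H : Subgroup G) (hCH : Subgroup.centralizer (Q : Set G) ≤ H)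
    (hHN : H ≤ Subgroup.normalizer (Q : Set G)) (t : H) (a : BrauerPairIdx H)
    (ha : GoodSub Q H a.1) :
    liftPair Q H hCH (conjPair t a) (goodSub_conj Q H hHN t a.1 ha)
      = conjPair (t : G) (liftPair Q H hCH a ha) := by
  obtain ⟨R', g'⟩ := a
  have hup := map_conj_upSub Q H hHN t R'
  change (⟨upSub Q H (R'.map (MulAut.conj t).toMonoidHom),
      liftB Q H hCH _ (goodSub_conj Q H hHN t R' ha) (conjBlock R' t g')⟩ : BrauerPairIdx G)
    = ⟨(upSub Q H R').map (MulAut.conj (t : G)).toMonoidHom,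
      conjBlock (upSub Q H R') (t : G) (liftB Q H hCH R' ha g')⟩
  refine pairIdx_ext' hup ?_
  intro ξ₁ ξ₂ hsame
  rw [conjBlock_eq]
  unfold liftB
  rw [conjBlock_eq]
  constructor
  · rintro ⟨η, ⟨χ, hχ, rfl⟩, rfl⟩
    refine ⟨isoIrr (liftIso Q H hCH R' ha) χ, ⟨χ, hχ, rfl⟩, ?_⟩
    apply Subtype.ext
    funext c₂
    have hc₁ : (c₂ : G) ∈ Subgroup.centralizer
        ((upSub Q H (R'.map (MulAut.conj t).toMonoidHom) : Subgroup G) : Set G) := by
      rw [hup]
      exact c₂.2
    rw [← hsame ⟨c₂, hc₁⟩ c₂ rfl]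
    rw [isoIrr_apply, isoIrr_apply, isoIrr_apply, isoIrr_apply]
    refine congrArg _ (Subtype.ext (Subtype.ext ?_))
    rfl
  · rintro ⟨ζ, ⟨χ, hχ, rfl⟩, rfl⟩
    refine ⟨isoIrr (cIso R' t) χ, ⟨χ, hχ, rfl⟩, ?_⟩
    apply Subtype.ext
    funext c₁
    have hc₂ : (c₁ : G) ∈ Subgroup.centralizer
        (((upSub Q H R').map (MulAut.conj (t : G)).toMonoidHom : Subgroup G) : Set G) := by
      rw [← hup]
      exact c₁.2
    rw [hsame c₁ ⟨c₁, hc₂⟩ rfl]
    rw [isoIrr_apply, isoIrr_apply, isoIrr_apply, isoIrr_apply]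
    refine congrArg _ (Subtype.ext (Subtype.ext ?_))
    rfl

/-- every pair of the block `F` of `H` is conjugate under `H` to a pair whose lift lies below
the lift of a given maximal pair of `F` -/
theorem exists_conj_lift_le [Fact p.Prime] (hM : IsPModular p M) (Q : Subgroup G)
    (hQ : IsPGroup p Q) (H : Subgroup G) (hCH : Subgroup.centralizer (Q : Set G) ≤ H)
    (hHN : H ≤ Subgroup.normalizer (Q : Set G)) (F : Set (IrrCharacter H))
    (d : BrauerPairIdx H) (hd : GoodSub Q H d.1) (hmax : IsMaximalBrauerPair p M F d.1 d.2)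
    (a : BrauerPairIdx H) (ha : GoodSub Q H a.1) (hpair : IsBrauerPairOf p M F a.1 a.2) :
    ∃ t : H, Relation.ReflTransGen (NormalSubpairRel p M)
      (conjPair (t : G) (liftPair Q H hCH a ha)) (liftPair Q H hCH d hd) := by
  classical
  let _ : Fintype H := Fintype.ofFinite _
  obtain ⟨t, ht⟩ := exists_conj_le_maximal hM hmax hpair
  have ht' : Relation.ReflTransGen (NormalSubpairRel p M) (conjPair t a) d := ht
  obtain ⟨hd', h2⟩ := reflTransGen_lift hM Q hQ H hCH hHN ht' (goodSub_conj Q H hHN t a.1 ha)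
  rw [liftPair_conj Q H hCH hHN t a ha] at h2
  exact ⟨t, h2⟩

/-- a pair of `G` on `R = Q R'` normally above `(Q, f)` is the lift of a pair of `F` on `R'` -/
theorem exists_lift_eq (Q : Subgroup G)
    (f : Set (IrrCharacter (Subgroup.centralizer (Q : Set G))))
    (H : Subgroup G) (hCH : Subgroup.centralizer (Q : Set G) ≤ H)
    (F : Set (IrrCharacter H)) (hF : IsPBlock M F)
    (hFc : ∀ t : H, blockCoeff F t
      = subgroupBlockCoeff (Subgroup.centralizer (Q : Set G)) f (t : G))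
    (R' : Subgroup H) (hg : GoodSub Q H R') {R : Subgroup G}
    {g : Set (IrrCharacter (Subgroup.centralizer (R : Set G)))} (hup : upSub Q H R' = R)
    (hn : IsNormalSubpair p M Q f R g) :
    ∃ g' : Set (IrrCharacter (Subgroup.centralizer (R' : Set H))),
      IsBrauerPairOf p M F R' g' ∧ liftPair Q H hCH ⟨R', g'⟩ hg = ⟨R, g⟩ := by
  obtain ⟨g₁, hg₁⟩ := exists_snd_of_fst_eq (⟨R, g⟩ : BrauerPairIdx G) (upSub Q H R') hup.symm
  have hn' : NormalSubpairRel p M ⟨Q, f⟩ ⟨R, g⟩ := hn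
  rw [hg₁] at hn'
  obtain ⟨h1, h2⟩ := isBrauerPairOf_of_lift Q f H hCH F hF hFc R' hg g₁ hn'
  exact ⟨_, h1, h2.trans hg₁.symm⟩

omit [Fintype G] in
theorem upSub_subgroupOf (Q H : Subgroup G) {R : Subgroup G} (hQR : Q ≤ R) (hRH : R ≤ H) :
    upSub Q H (R.subgroupOf H) = R := by
  unfold upSub
  rw [Subgroup.subgroupOf_map_subtype, inf_of_le_left hRH, sup_of_le_right hQR]

omit [Fintype G] in
theorem goodSub_subgroupOf (Q H : Subgroup G) {R : Subgroup G} (hQR : Q ≤ R) (hRH : R ≤ H) :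
    GoodSub Q H (R.subgroupOf H) := by
  intro h hh
  rw [Subgroup.mem_centralizer_iff]
  intro u hu
  have := Subgroup.mem_centralizer_iff.mp hh ⟨u, hRH (hQR hu)⟩
    (Subgroup.mem_subgroupOf.mpr (hQR hu))
  exact congrArg Subtype.val this

omit [Fintype G] in
theorem pairIdx_mem_iff {a b : BrauerPairIdx G} (h : a = b)
    (ξ₁ : IrrCharacter (Subgroup.centralizer (a.1 : Set G)))
    (ξ₂ : IrrCharacter (Subgroup.centralizer (b.1 : Set G)))
    (hs : ∀ (c₁ : Subgroup.centralizer (a.1 : Set G)) (c₂ : Subgroup.centralizer (b.1 : Set G)),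
        (c₁ : G) = (c₂ : G) → (ξ₁ : Subgroup.centralizer (a.1 : Set G) → ℂ) c₁
          = (ξ₂ : Subgroup.centralizer (b.1 : Set G) → ℂ) c₂) :
    ξ₁ ∈ a.2 ↔ ξ₂ ∈ b.2 := by
  subst h
  have : ξ₁ = ξ₂ := Subtype.ext (funext fun c => hs c c rfl)
  rw [this]

/-- an element fixing the pair `(Q, f)` under conjugation lies in its stabilizer -/
theorem mem_pairStab_of_conjPair_eq (hM : IsPModular p M) (Q : Subgroup G)
    (f : Set (IrrCharacter (Subgroup.centralizer (Q : Set G)))) (hf : IsPBlock M f) (x : G)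
    (h : conjPair x (⟨Q, f⟩ : BrauerPairIdx G) = ⟨Q, f⟩) : x ∈ pairStab hM Q f hf := by
  classical
  have : Fintype (Subgroup.centralizer (Q : Set G)) := Fintype.ofFinite _
  have h1 : Q.map (MulAut.conj x).toMonoidHom = Q := congrArg Sigma.fst h
  have hxN : x ∈ Subgroup.normalizer (Q : Set G) := by
    rw [Subgroup.mem_normalizer_iff]
    intro u
    have h2 : x * u * x⁻¹ ∈ Q.map (MulAut.conj x).toMonoidHom ↔ x * u * x⁻¹ ∈ Q := by rw [h1]
    rw [mem_map_conj_iff] at h2
    rw [← h2]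
    simp [mul_assoc]
  refine ⟨hxN, ?_⟩
  have hxC := normalizer_le_normalizer_centralizer Q hxN
  rw [stabilizesBlock_iff (Subgroup.centralizer (Q : Set G)) ⟨x, hxC⟩ f]
  rintro χ' ⟨χ, hχ, rfl⟩
  have hmem : isoIrr (cIso Q x) χ ∈ (conjPair x (⟨Q, f⟩ : BrauerPairIdx G)).2 := by
    change isoIrr (cIso Q x) χ ∈ conjBlock Q x f
    rw [conjBlock_eq]
    exact ⟨χ, hχ, rfl⟩
  refine (pairIdx_mem_iff h (isoIrr (cIso Q x) χ)
    (nIrr (Subgroup.centralizer (Q : Set G)) ⟨x, hxC⟩ χ) ?_).mp hmem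
  intro c₁ c₂ hc
  change (χ : Subgroup.centralizer (Q : Set G) → ℂ) ((cIso Q x).symm c₁)
    = (χ : Subgroup.centralizer (Q : Set G) → ℂ) (normAut (Subgroup.centralizer (Q : Set G))
      (⟨x, hxC⟩ : ↥(Subgroup.normalizer ((Subgroup.centralizer (Q : Set G) : Subgroup G) : Set G)))⁻¹
      c₂)
  refine congrArg _ (Subtype.ext ?_)
  change x⁻¹ * (c₁ : G) * x = x⁻¹ * (c₂ : G) * x⁻¹⁻¹
  rw [hc, inv_inv]

end liftpairs

end Cfsg.Agent.Lib.Helper25
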