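import Mathlib
import Cfsg.Agent.Lib.Helper25.BrauerPair15
import Cfsg.Agent.Lib.Helper8.Covering
import Cfsg.Agent.Lib.Helper8.BlockReg
import Cfsg.Agent.Lib.Helper8.BlockNormal
import Cfsg.Agent.Lib.Helper8.BlockBrauer

set_option autoImplicit false

/-!
Blocks and normal subgroups of `p`-power index: a block of `G` whose idempotent is that of a
`G`-stable block of the normal subgroup `N` of `p`-power index has defect groups `P` with
`G = N P`.
-/

namespace Cfsg.Agent.Lib.Helper25

open Cfsg Cfsg.Agent.Lib.Helper2 Cfsg.Agent.Lib.Helper8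

section pindex

variable {G : Type*} [Group G]

/-- the stabilizer of the `N`-class of `c₀` -/
def classStab (N : Subgroup G) [hN : N.Normal] (c₀ : G) : Subgroup G where
  carrier := {g | ∃ n ∈ N, g * c₀ * g⁻¹ = n * c₀ * n⁻¹}
  one_mem' := ⟨1, N.one_mem, by simp⟩
  mul_mem' := by
    rintro a b ⟨n, hn, ha⟩ ⟨m, hm, hb⟩
    refine ⟨a * m * a⁻¹ * n, N.mul_mem (hN.conj_mem m hm a) hn, ?_⟩
    have e1 : a * b * c₀ * (a * b)⁻¹ = a * (b * c₀ * b⁻¹) * a⁻¹ := by group
    rw [e1, hb]
    have e2 : a * (m * c₀ * m⁻¹) * a⁻¹ = (a * m * a⁻¹) * (a * c₀ * a⁻¹) * (a * m * a⁻¹)⁻¹ := by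
      group
    rw [e2, ha]
    group
  inv_mem' := by
    rintro a ⟨n, hn, ha⟩
    refine ⟨a⁻¹ * n⁻¹ * a, ?_, ?_⟩
    · have := hN.conj_mem n⁻¹ (N.inv_mem hn) a⁻¹
      simpa using this
    · have e : a⁻¹ * n⁻¹ * a * c₀ * (a⁻¹ * n⁻¹ * a)⁻¹
          = a⁻¹ * n⁻¹ * (a * c₀ * a⁻¹) * n * a := by group
      rw [e, ha]
      group

theorem mem_classStab (N : Subgroup G) [hN : N.Normal] (c₀ g : G) :
    g ∈ classStab N c₀ ↔ ∃ n ∈ N, g * c₀ * g⁻¹ = n * c₀ * n⁻¹ := Iff.rfl

theorem le_classStab (N : Subgroup G) [hN : N.Normal] (c₀ : G) : N ≤ classStab N c₀ :=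
  fun n hn => ⟨n, hn, rfl⟩

theorem centralizer_le_classStab (N : Subgroup G) [hN : N.Normal] (c₀ : G) :
    Subgroup.centralizer ({c₀} : Set G) ≤ classStab N c₀ := by
  intro z hz
  refine ⟨1, N.one_mem, ?_⟩
  have := Subgroup.mem_centralizer_iff.mp hz c₀ (Set.mem_singleton _)
  rw [← this]
  simp

variable [Fintype G]

/-- the class of `c₀ ∈ N` in `G` is the disjoint union of the `N`-classes of the conjugates of
`c₀` by representatives of the cosets of the stabilizer of its `N`-class -/
theorem indicator_class_eq_sum (N : Subgroup G) [hN : N.Normal] (c₀ : N) (x : N)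
    [Fintype (G ⧸ classStab N (c₀ : G))] [DecidableRel (IsConj : G → G → Prop)]
    [DecidableRel (IsConj : N → N → Prop)] :
    (if IsConj (c₀ : G) (x : G) then (1 : ℂ) else 0)
      = ∑ q : G ⧸ classStab N (c₀ : G),
        (if IsConj ((MulAut.conjNormal q.out : MulAut N) c₀) x then (1 : ℂ) else 0) := by
  classical
  by_cases hx : IsConj (c₀ : G) (x : G)
  · rw [if_pos hx]
    obtain ⟨g, hg⟩ := isConj_iff.mp hx
    have hq₀ := QuotientGroup.mk_out_eq_mul (classStab N (c₀ : G)) g
    obtain ⟨s, hs⟩ := hq₀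
    rw [Finset.sum_eq_single (QuotientGroup.mk g : G ⧸ classStab N (c₀ : G))]
    · rw [if_pos]
      obtain ⟨m, hm, hsm⟩ := s.2
      rw [isConj_iff]
      refine ⟨⟨(g * m * g⁻¹)⁻¹, N.inv_mem (hN.conj_mem m hm g)⟩, ?_⟩
      apply Subtype.ext
      change (g * m * g⁻¹)⁻¹ * ((QuotientGroup.mk g : G ⧸ classStab N (c₀ : G)).out * (c₀ : G)
        * ((QuotientGroup.mk g : G ⧸ classStab N (c₀ : G)).out)⁻¹) * (g * m * g⁻¹)⁻¹⁻¹ = (x : G)
      rw [hs, ← hg]
      have e : (g * (s : G)) * (c₀ : G) * (g * (s : G))⁻¹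
          = g * ((s : G) * (c₀ : G) * (s : G)⁻¹) * g⁻¹ := by group
      rw [e, hsm]
      group
    · intro q _ hq
      rw [if_neg]
      intro hc
      apply hq
      obtain ⟨m, hm⟩ := isConj_iff.mp hc
      have hm' : (m : G) * (q.out * (c₀ : G) * q.out⁻¹) * (m : G)⁻¹ = (x : G) :=
        congrArg Subtype.val hm
      have h1 : g⁻¹ * (m : G) * q.out ∈ classStab N (c₀ : G) := by
        refine ⟨1, N.one_mem, ?_⟩
        have e : g⁻¹ * (m : G) * q.out * (c₀ : G) * (g⁻¹ * (m : G) * q.out)⁻¹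
            = g⁻¹ * ((m : G) * (q.out * (c₀ : G) * q.out⁻¹) * (m : G)⁻¹) * g := by group
        rw [e, hm', ← hg]
        group
      have h2 : g⁻¹ * (m : G)⁻¹ * g ∈ classStab N (c₀ : G) := by
        apply le_classStab N (c₀ : G)
        have := hN.conj_mem (m : G)⁻¹ (N.inv_mem m.2) g⁻¹
        simpa using this
      have h3 : g⁻¹ * q.out ∈ classStab N (c₀ : G) := by
        have := (classStab N (c₀ : G)).mul_mem h2 h1
        have e : g⁻¹ * (m : G)⁻¹ * g * (g⁻¹ * (m : G) * q.out) = g⁻¹ * q.out := by group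
        rwa [e] at this
      have h4 : (QuotientGroup.mk g : G ⧸ classStab N (c₀ : G)) = QuotientGroup.mk q.out :=
        QuotientGroup.eq.mpr h3
      rw [h4]
      exact (QuotientGroup.out_eq' q).symm
    · intro h
      exact absurd (Finset.mem_univ _) h
  · rw [if_neg hx]
    symm
    apply Finset.sum_eq_zero
    intro q _
    rw [if_neg]
    intro hc
    apply hx
    obtain ⟨m, hm⟩ := isConj_iff.mp hc
    have hm' : (m : G) * (q.out * (c₀ : G) * q.out⁻¹) * (m : G)⁻¹ = (x : G) :=
      congrArg Subtype.val hm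
    rw [isConj_iff]
    refine ⟨(m : G) * q.out, ?_⟩
    rw [← hm']
    group


theorem omegaFun_sum' {K : Type*} [Group K] [Fintype K] {ι : Type*} (s : Finset ι) (χ : K → ℂ)
    (r : ι → K → ℂ) : omegaFun χ (∑ i ∈ s, r i) = ∑ i ∈ s, omegaFun χ (r i) := by
  unfold omegaFun
  rw [← Finset.sum_div]
  congr 1
  simp only [Finset.sum_apply, Finset.sum_mul]
  exact Finset.sum_comm

/-- the central character of `χ` at `c₀ ∈ N` is the sum of the central characters of a
constituent `θ` of the restriction of `χ` to `N` at the `N`-classes in the class of `c₀` -/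
theorem centralChar_eq_sum_classStab (N : Subgroup G) [hN : N.Normal] [Fintype N]
    (χ : IrrCharacter G)
    (θ : IrrCharacter N)
    (he : classInner (fun n : N => (χ : G → ℂ) n) (θ : N → ℂ) ≠ 0) (c₀ : N)
    [Fintype (G ⧸ classStab N (c₀ : G))] :
    centralChar (χ : G → ℂ) (c₀ : G)
      = ∑ q : G ⧸ classStab N (c₀ : G),
        centralChar (θ : N → ℂ) ((MulAut.conjNormal q.out : MulAut N) c₀) := by
  classical
  rw [← omegaFun_indicator_isConj χ (c₀ : G)]
  have h1 : (fun x : G => if IsConj (c₀ : G) x then (1 : ℂ) else 0)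
      = extendByZero N (fun n : N => if IsConj (c₀ : G) (n : G) then (1 : ℂ) else 0) := by
    funext g
    by_cases hg : g ∈ N
    · rw [extendByZero_of_mem N _ hg]
    · rw [extendByZero_of_not_mem N _ hg, if_neg]
      intro hc
      apply hg
      obtain ⟨y, hy⟩ := isConj_iff.mp hc
      rw [← hy]
      exact hN.conj_mem _ c₀.2 y
  rw [h1, omegaFun_extend_of_constituent N χ θ he]
  · have h2 : (fun n : N => if IsConj (c₀ : G) (n : G) then (1 : ℂ) else 0)
        = ∑ q : G ⧸ classStab N (c₀ : G), (fun n : N =>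
          if IsConj ((MulAut.conjNormal q.out : MulAut N) c₀) n then (1 : ℂ) else 0) := by
      funext n
      rw [Finset.sum_apply]
      exact indicator_class_eq_sum N c₀ n
    rw [h2, omegaFun_sum']
    apply Finset.sum_congr rfl
    intro q _
    exact omegaFun_indicator_isConj θ _
  · intro g n
    have hconj : IsConj (n : G) (((MulAut.conjNormal g : MulAut N) n : N) : G) :=
      isConj_iff.mpr ⟨g, rfl⟩
    have : IsConj (c₀ : G) (((MulAut.conjNormal g : MulAut N) n : N) : G)
        ↔ IsConj (c₀ : G) (n : G) :=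
      ⟨fun h => h.trans hconj.symm, fun h => h.trans hconj⟩
    simp only [this]

variable {p : ℕ} {M : Ideal AlgInt}

/-- for a normal subgroup `N` of `p`-power index and a `G`-stable block `c` of `N`: if the
central character of `χ` (lying over `θ ∈ c`) does not vanish modulo `M` at `c₀ ∈ N`, then the
class of `c₀` is a single `N`-class and the central character of `θ` does not vanish at `c₀` -/
theorem classStab_eq_top [Fact p.Prime] (hM : IsPModular p M) (N : Subgroup G) [hN : N.Normal]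
    [Fintype N] (hidx : ∃ k : ℕ, N.index = p ^ k) (c : Set (IrrCharacter N)) (hc : IsPBlock M c)
    (hst : ∀ x : G, StabilizesBlock N c x) (χ : IrrCharacter G) (θ : IrrCharacter N)
    (hθ : θ ∈ c) (he : classInner (fun n : N => (χ : G → ℂ) n) (θ : N → ℂ) ≠ 0) (c₀ : N)
    (hne : ¬ MemLocalIdeal M (centralChar (χ : G → ℂ) (c₀ : G))) :
    classStab N (c₀ : G) = ⊤ ∧ ¬ MemLocalIdeal M (centralChar (θ : N → ℂ) c₀) := by
  classical
  have hpr := isPrime_of_isPModular hM
  have : Fintype (G ⧸ classStab N (c₀ : G)) := Fintype.ofFinite _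
  have key := centralChar_eq_sum_classStab N χ θ he c₀
  have hvR : MemLocalRing M (centralChar (θ : N → ℂ) c₀) :=
    memLocalRing_of_isIntegral M (centralChar_isIntegral θ c₀)
  have hterm : ∀ q : G ⧸ classStab N (c₀ : G), MemLocalIdeal M
      (centralChar (θ : N → ℂ) ((MulAut.conjNormal q.out : MulAut N) c₀)
        - centralChar (θ : N → ℂ) c₀) := by
    intro q
    have hmem : conjIrr N θ q.out ∈ c := by
      obtain ⟨χ', hχ', hconj⟩ := (hst q.out⁻¹).2 θ hθ
      have : χ' = conjIrr N θ q.out := by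
        apply Subtype.ext
        funext n
        rw [conjIrr_apply]
        exact hconj ⟨q.out * n * q.out⁻¹, hN.conj_mem n n.2 q.out⟩ n (by simp [mul_assoc])
      rw [← this]
      exact hχ'
    have hs : SameBlock M (conjIrr N θ q.out : N → ℂ) (θ : N → ℂ) :=
      isPBlock_sameBlock' hM hc hmem hθ
    have e : centralChar (conjIrr N θ q.out : N → ℂ) c₀
        = centralChar (θ : N → ℂ) ((MulAut.conjNormal q.out : MulAut N) c₀) :=
      centralChar_comp_mulEquiv _ (θ : N → ℂ) c₀
    rw [← e]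
    exact hs c₀
  have hsum : MemLocalIdeal M (centralChar (χ : G → ℂ) (c₀ : G)
      - (Fintype.card (G ⧸ classStab N (c₀ : G)) : ℂ) * centralChar (θ : N → ℂ) c₀) := by
    rw [key]
    have e : ∑ q : G ⧸ classStab N (c₀ : G),
          centralChar (θ : N → ℂ) ((MulAut.conjNormal q.out : MulAut N) c₀)
          - (Fintype.card (G ⧸ classStab N (c₀ : G)) : ℂ) * centralChar (θ : N → ℂ) c₀
        = ∑ q : G ⧸ classStab N (c₀ : G),
          (centralChar (θ : N → ℂ) ((MulAut.conjNormal q.out : MulAut N) c₀)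
            - centralChar (θ : N → ℂ) c₀) := by
      rw [Finset.sum_sub_distrib, Finset.sum_const, Finset.card_univ, nsmul_eq_mul]
    rw [e]
    exact memLocalIdeal_sum M _ _ (fun q _ => hterm q)
  have hnd : ¬ p ∣ Fintype.card (G ⧸ classStab N (c₀ : G)) := by
    intro hd
    apply hne
    have h1 : MemLocalIdeal M ((Fintype.card (G ⧸ classStab N (c₀ : G)) : ℂ)
        * centralChar (θ : N → ℂ) c₀) :=
      MemLocalIdeal.mul_right M ((memLocalIdeal_natCast_iff hM _).mpr hd) hvR
    have := MemLocalIdeal.add M hsum h1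
    rwa [sub_add_cancel] at this
  have hvJ : ¬ MemLocalIdeal M (centralChar (θ : N → ℂ) c₀) := by
    intro hv'
    apply hne
    have h1 : MemLocalIdeal M ((Fintype.card (G ⧸ classStab N (c₀ : G)) : ℂ)
        * centralChar (θ : N → ℂ) c₀) :=
      MemLocalIdeal.mul_left M (memLocalRing_natCast M _) hv'
    have := MemLocalIdeal.add M hsum h1
    rwa [sub_add_cancel] at this
  refine ⟨?_, hvJ⟩
  obtain ⟨k, hk⟩ := hidx
  have hdvd : (classStab N (c₀ : G)).index ∣ p ^ k := by
    rw [← hk]
    exact Subgroup.index_dvd_of_le (le_classStab N _)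
  obtain ⟨j, hj, hj'⟩ := (Nat.dvd_prime_pow (Fact.out : p.Prime)).mp hdvd
  have hcard : (classStab N (c₀ : G)).index = Fintype.card (G ⧸ classStab N (c₀ : G)) := by
    rw [Subgroup.index_eq_card, Nat.card_eq_fintype_card]
  rw [← hcard, hj'] at hnd
  have hj0 : j = 0 := by
    by_contra h0
    exact hnd (dvd_pow_self p h0)
  rw [hj0, pow_zero] at hj'
  exact Subgroup.index_eq_one.mp hj'


/-- a member of a block of `G` whose idempotent is that of the `G`-stable block `c` of `N`
lies over a member of `c` -/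
theorem exists_constituent_mem_of_coeff (hM : IsPModular p M) (N : Subgroup G)
    [hN : N.Normal] [Fintype N] (c : Set (IrrCharacter N)) (hc : IsPBlock M c)
    (hst : ∀ x : G, StabilizesBlock N c x) (B : Set (IrrCharacter G))
    (hBc : ∀ g : G, blockCoeff B g = subgroupBlockCoeff N c g) (χ : IrrCharacter G)
    (hχ : χ ∈ B) :
    ∃ θ : IrrCharacter N, θ ∈ c ∧
      classInner (fun n : N => (χ : G → ℂ) n) (θ : N → ℂ) ≠ 0 := by
  classical
  have hchar : IsCharacter N (fun n : N => (χ : G → ℂ) n) :=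
    IsCharacter.restrict (isCharacter_of_isIrrCharacter χ.2) N
  have hne : (fun n : N => (χ : G → ℂ) n) ≠ 0 := by
    intro h0
    have := congrFun h0 1
    exact irr_one_ne_zero χ.2 this
  obtain ⟨ψ, hψ, hψne⟩ := exists_irr_constituent hchar hne
  refine ⟨⟨ψ, hψ⟩, ?_, hψne⟩
  have h1 : omegaFun (χ : G → ℂ) (blockCoeff B) = 1 := by
    rw [Cfsg.Agent.Lib.Helper25.omegaFun_blockCoeff B χ, if_pos hχ]
  have h2 : blockCoeff B = extendByZero N (blockCoeff c) := by
    funext g
    rw [hBc g, subgroupBlockCoeff_eq]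
  have hinv : ∀ (g : G) (n : N), blockCoeff c ((MulAut.conjNormal g : MulAut N) n)
      = blockCoeff c n := by
    intro g n
    have h3 := conjInv_of_stabilizes N hM hc ⊤ (fun x _ => hst x) g (Subgroup.mem_top g) (n : G)
    rw [subgroupBlockCoeff_eq, extendByZero_coe] at h3
    rw [← h3]
    have h4 : g * (n : G) * g⁻¹ = (((MulAut.conjNormal g : MulAut N) n : N) : G) := rfl
    rw [h4, extendByZero_coe]
  rw [h2, omegaFun_extend_of_constituent N χ ⟨ψ, hψ⟩ hψne _ hinv,
    Cfsg.Agent.Lib.Helper25.omegaFun_blockCoeff c ⟨ψ, hψ⟩] at h1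
  by_contra hnot
  rw [if_neg hnot] at h1
  exact zero_ne_one h1

/-- **Blocks and normal subgroups of `p`-power index**: if the block `B` of `G` has the
idempotent of the `G`-stable block `c` of the normal subgroup `N` of `p`-power index, then
`G = N P` for every defect group `P` of `B` -/
theorem sup_defectGroup_eq_top [Fact p.Prime] (hM : IsPModular p M) (N : Subgroup G)
    [hN : N.Normal] (hidx : ∃ k : ℕ, N.index = p ^ k) (c : Set (IrrCharacter N))
    (hc : IsPBlock M c) (hst : ∀ x : G, StabilizesBlock N c x) (B : Set (IrrCharacter G))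
    (hB : IsPBlock M B) (hBc : ∀ g : G, blockCoeff B g = subgroupBlockCoeff N c g)
    (P : Subgroup G) (hP : IsDefectGroup p M B P) : N ⊔ P = ⊤ := by
  classical
  have : Fintype N := Fintype.ofFinite _
  have hpr := isPrime_of_isPModular hM
  obtain ⟨c₀, ⟨-, hnJ, hcc⟩, P', rfl⟩ := hP
  have hc₀N : c₀ ∈ N := by
    by_contra hnot
    apply hnJ
    rw [hBc c₀, subgroupBlockCoeff_eq, extendByZero_of_not_mem N _ hnot]
    exact memLocalIdeal_zero M
  obtain ⟨χ, hχ⟩ := isPBlock_nonempty hM hB
  obtain ⟨θ, hθ, he⟩ := exists_constituent_mem_of_coeff hM N c hc hst B hBc χ hχ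
  have hstab := (classStab_eq_top hM N hidx c hc hst χ θ hθ he ⟨c₀, hc₀N⟩ (hcc χ hχ)).1
  -- the Sylow subgroup and `N ∩ C(c₀)` generate `C(c₀)`
  have hZ : (P' : Subgroup (Subgroup.centralizer ({c₀} : Set G)))
      ⊔ N.subgroupOf (Subgroup.centralizer ({c₀} : Set G)) = ⊤ := by
    rw [← Subgroup.index_eq_one]
    obtain ⟨k, hk⟩ := hidx
    have h1 : ((P' : Subgroup (Subgroup.centralizer ({c₀} : Set G)))
        ⊔ N.subgroupOf (Subgroup.centralizer ({c₀} : Set G))).index ∣ p ^ k := by
      rw [← hk]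
      exact (Subgroup.index_dvd_of_le le_sup_right).trans
        (Subgroup.relIndex_dvd_index_of_normal N (Subgroup.centralizer ({c₀} : Set G)))
    obtain ⟨j, hj, hj'⟩ := (Nat.dvd_prime_pow (Fact.out : p.Prime)).mp h1
    have h2 : ((P' : Subgroup (Subgroup.centralizer ({c₀} : Set G)))
        ⊔ N.subgroupOf (Subgroup.centralizer ({c₀} : Set G))).index
        ∣ (P' : Subgroup (Subgroup.centralizer ({c₀} : Set G))).index :=
      Subgroup.index_dvd_of_le le_sup_left
    have h3 : ¬ p ∣ (P' : Subgroup (Subgroup.centralizer ({c₀} : Set G))).index :=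
      P'.not_dvd_index
    have hj0 : j = 0 := by
      by_contra h0
      apply h3
      rw [hj'] at h2
      exact (dvd_pow_self p h0).trans h2
    rw [hj', hj0, pow_zero]
  rw [eq_top_iff]
  intro g _
  have hg : g ∈ classStab N c₀ := by
    rw [hstab]
    exact Subgroup.mem_top g
  obtain ⟨n, hn, hgn⟩ := hg
  have hz : n⁻¹ * g ∈ Subgroup.centralizer ({c₀} : Set G) := by
    rw [Subgroup.mem_centralizer_iff]
    intro y hy
    rw [Set.mem_singleton_iff] at hy
    subst hy
    have e : y * (n⁻¹ * g) = n⁻¹ * (n * y * n⁻¹) * g := by group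
    rw [e, ← hgn]
    group
  have hz2 : (⟨n⁻¹ * g, hz⟩ : Subgroup.centralizer ({c₀} : Set G))
      ∈ (P' : Subgroup (Subgroup.centralizer ({c₀} : Set G)))
        ⊔ N.subgroupOf (Subgroup.centralizer ({c₀} : Set G)) := by
    rw [hZ]
    exact Subgroup.mem_top _
  have hz3 : n⁻¹ * g ∈ ((P' : Subgroup (Subgroup.centralizer ({c₀} : Set G)))
      ⊔ N.subgroupOf (Subgroup.centralizer ({c₀} : Set G))).map
        (Subgroup.centralizer ({c₀} : Set G)).subtype :=
    Subgroup.mem_map.mpr ⟨_, hz2, rfl⟩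
  rw [Subgroup.map_sup, Subgroup.subgroupOf_map_subtype] at hz3
  have hle : (P' : Subgroup (Subgroup.centralizer ({c₀} : Set G))).map
      (Subgroup.centralizer ({c₀} : Set G)).subtype ⊔ N ⊓ Subgroup.centralizer ({c₀} : Set G)
      ≤ N ⊔ (P' : Subgroup (Subgroup.centralizer ({c₀} : Set G))).map
        (Subgroup.centralizer ({c₀} : Set G)).subtype :=
    sup_le le_sup_right (inf_le_left.trans le_sup_left)
  have h5 := hle hz3
  have h6 : g = n * (n⁻¹ * g) := by group
  rw [h6]
  exact Subgroup.mul_mem _ ((le_sup_left : N ≤ _) hn) h5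


/-- a power of an element of a finite group is `p`-regular -/
theorem exists_pow_isPRegular [Fact p.Prime] (t : G) : ∃ e : ℕ, IsPRegular p (t ^ (p ^ e)) := by
  have hn : orderOf t ≠ 0 := (orderOf_pos t).ne'
  obtain ⟨e, m, hm, hnm⟩ := Nat.exists_eq_pow_mul_and_not_dvd hn p (Fact.out : p.Prime).ne_one
  refine ⟨e, ?_⟩
  intro hd
  apply hm
  refine hd.trans (orderOf_dvd_of_pow_eq_one ?_)
  rw [← pow_mul, ← hnm, pow_orderOf_eq_one]

/-- for a local subgroup `T` between `C(Q)` and the stabilizer of `(Q, f)` all of whose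
`p`-regular elements centralize `Q`, the block of `T` with the idempotent of `f` has defect
groups `D` with `T = D C(Q)` -/
theorem stab_eq_defect_mul_cent [Fact p.Prime] (hM : IsPModular p M) (Q : Subgroup G)
    (f : Set (IrrCharacter (Subgroup.centralizer (Q : Set G)))) (hf : IsPBlock M f)
    (T : Subgroup G) (hCT : Subgroup.centralizer (Q : Set G) ≤ T)
    (hTS : T ≤ pairStab hM Q f hf)
    (hreg : ∀ t ∈ T, IsPRegular p t → t ∈ Subgroup.centralizer (Q : Set G))
    (F : Set (IrrCharacter T)) (hF : IsPBlock M F)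
    (hFc : ∀ t : T, blockCoeff F t
      = subgroupBlockCoeff (Subgroup.centralizer (Q : Set G)) f (t : G))
    (D' : Subgroup T) (hD' : IsDefectGroup p M F D') (t : G) (ht : t ∈ T) :
    ∃ u ∈ D'.map T.subtype, ∃ c ∈ Subgroup.centralizer (Q : Set G), t = u * c := by
  classical
  let _ : Fintype T := Fintype.ofFinite _
  have hnormal : ((Subgroup.centralizer (Q : Set G)).subgroupOf T).Normal := by
    constructor
    intro n hn g
    rw [Subgroup.mem_subgroupOf] at hn ⊢
    have hg : (g : G) ∈ Subgroup.normalizer (Q : Set G) := (hTS g.2).1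
    exact (conj_mem_centralizer_iff hg (n : G)).mpr hn
  let φ : ↥(Subgroup.centralizer (Q : Set G))
      ≃* ↥((Subgroup.centralizer (Q : Set G)).subgroupOf T) :=
    (Subgroup.subgroupOfEquivOfLe hCT).symm
  have hφ : ∀ k : ↥(Subgroup.centralizer (Q : Set G)), (((φ k :
      ↥((Subgroup.centralizer (Q : Set G)).subgroupOf T)) : T) : G) = (k : G) := fun k => rfl
  have hφs : ∀ k : ↥((Subgroup.centralizer (Q : Set G)).subgroupOf T),
      ((φ.symm k : ↥(Subgroup.centralizer (Q : Set G))) : G) = ((k : T) : G) := fun k => rfl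
  have hidx : ∃ k : ℕ, ((Subgroup.centralizer (Q : Set G)).subgroupOf T).index = p ^ k := by
    have hpg : IsPGroup p (T ⧸ (Subgroup.centralizer (Q : Set G)).subgroupOf T) := by
      intro q
      obtain ⟨t, rfl⟩ := QuotientGroup.mk_surjective q
      obtain ⟨e, he⟩ := exists_pow_isPRegular (p := p) (t : G)
      refine ⟨e, ?_⟩
      rw [← QuotientGroup.mk_pow, QuotientGroup.eq_one_iff, Subgroup.mem_subgroupOf]
      have h1 : (t : G) ^ (p ^ e) ∈ T := T.pow_mem t.2 _
      have := hreg _ h1 he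
      simpa using this
    obtain ⟨n, hn⟩ := IsPGroup.iff_card.mp hpg
    exact ⟨n, by rw [Subgroup.index_eq_card, hn]⟩
  have hc : IsPBlock M (isoIrr φ '' f) := isPBlock_image_isoIrr φ hf
  have hst : ∀ x : T, StabilizesBlock ((Subgroup.centralizer (Q : Set G)).subgroupOf T)
      (isoIrr φ '' f) x := by
    intro x
    refine ⟨?_, ?_⟩
    · rw [Subgroup.normalizer_eq_top]
      exact Subgroup.mem_top x
    · rintro χ ⟨η, hη, rfl⟩
      obtain ⟨η', hη', hconj⟩ := (hTS x.2).2.2 η hη
      refine ⟨isoIrr φ η', ⟨η', hη', rfl⟩, ?_⟩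
      intro k k' hk
      rw [isoIrr_apply, isoIrr_apply]
      apply hconj
      rw [hφs, hφs, hk]
      rfl
  have hBc : ∀ g : T, blockCoeff F g
      = subgroupBlockCoeff ((Subgroup.centralizer (Q : Set G)).subgroupOf T) (isoIrr φ '' f) g := by
    intro g
    rw [hFc g, subgroupBlockCoeff_eq, subgroupBlockCoeff_eq]
    by_cases hg : (g : G) ∈ Subgroup.centralizer (Q : Set G)
    · have hg' : g ∈ (Subgroup.centralizer (Q : Set G)).subgroupOf T :=
        Subgroup.mem_subgroupOf.mpr hg
      rw [extendByZero_of_mem _ _ hg, extendByZero_of_mem _ _ hg']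
      exact (blockCoeff_image_isoIrr φ f ⟨(g : G), hg⟩).symm
    · have hg' : g ∉ (Subgroup.centralizer (Q : Set G)).subgroupOf T :=
        fun h => hg (Subgroup.mem_subgroupOf.mp h)
      rw [extendByZero_of_not_mem _ _ hg, extendByZero_of_not_mem _ _ hg']
  have htop := sup_defectGroup_eq_top hM ((Subgroup.centralizer (Q : Set G)).subgroupOf T)
    hidx (isoIrr φ '' f) hc hst F hF hBc D' hD'
  have hmem : (⟨t, ht⟩ : T) ∈ ((D' ⊔ (Subgroup.centralizer (Q : Set G)).subgroupOf T :
      Subgroup T) : Set T) := by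
    rw [sup_comm, htop]
    exact Set.mem_univ _
  rw [Subgroup.mul_normal] at hmem
  obtain ⟨d, hd, n, hn, hdn⟩ := Set.mem_mul.mp hmem
  refine ⟨(d : G), Subgroup.mem_map.mpr ⟨d, hd, rfl⟩, (n : G), Subgroup.mem_subgroupOf.mp hn, ?_⟩
  have := congrArg Subtype.val hdn
  exact this.symm

end pindex

end Cfsg.Agent.Lib.Helper25
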