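import Mathlib
import Cfsg.Agent.Lib.Helper25.PIndex

set_option autoImplicit false

/-!
Nilpotent blocks: control of fusion by the defect group.  If `B` is nilpotent with maximal
Brauer pair `(P, e)`, then every `x ∈ G` carrying a pair `(Q, f) ≤ (P, e)` to a pair below
`(P, e)` lies in `P C(Q)`.
-/

namespace Cfsg.Agent.Lib.Helper25

open Cfsg Cfsg.Agent.Lib.Helper2 Cfsg.Agent.Lib.Helper8

section nilp

variable {G : Type*} [Group G] [Fintype G] {p : ℕ} {M : Ideal AlgInt}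

omit [Fintype G] in
theorem card_map_conj (Q : Subgroup G) (x : G) :
    Nat.card (Q.map (MulAut.conj x).toMonoidHom) = Nat.card Q :=
  (Nat.card_congr (Subgroup.equivMapOfInjective _ _ (MulAut.conj x).injective).toEquiv).symm

/-- in a nilpotent block, the stabilizer of a fully normalized pair `(Q₀, f₀) ≤ (P, e)` is
`N_P(Q₀) C(Q₀)` -/
theorem stab_of_fullyNormalized [Fact p.Prime] (hM : IsPModular p M)
    {B : Set (IrrCharacter G)} (hnil : IsNilpotentBlock p M B) {P : Subgroup G}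
    {Q₀ : Subgroup G} {f₀ : Set (IrrCharacter (Subgroup.centralizer (Q₀ : Set G)))}
    (hf₀ : IsPBlock M f₀) (hpair : IsBrauerPairOf p M B Q₀ f₀)
    (F₀ : Set (IrrCharacter (pairStab hM Q₀ f₀ hf₀))) (hF₀ : IsPBlock M F₀)
    (hFc₀ : ∀ t : pairStab hM Q₀ f₀ hf₀, blockCoeff F₀ t
      = subgroupBlockCoeff (Subgroup.centralizer (Q₀ : Set G)) f₀ (t : G))
    (hD₀ : IsDefectGroup p M F₀
      ((P ⊓ Subgroup.normalizer (Q₀ : Set G)).subgroupOf (pairStab hM Q₀ f₀ hf₀)))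
    (t : G) (ht : t ∈ pairStab hM Q₀ f₀ hf₀) :
    ∃ u ∈ P ⊓ Subgroup.normalizer (Q₀ : Set G),
      ∃ c ∈ Subgroup.centralizer (Q₀ : Set G), t = u * c := by
  have hreg : ∀ t ∈ pairStab hM Q₀ f₀ hf₀, IsPRegular p t →
      t ∈ Subgroup.centralizer (Q₀ : Set G) :=
    fun t ht hr => hnil.2 Q₀ f₀ hpair t ht.1 ht.2 hr
  obtain ⟨u, hu, c, hc, htuc⟩ := stab_eq_defect_mul_cent hM Q₀ f₀ hf₀ (pairStab hM Q₀ f₀ hf₀)
    (centralizer_le_pairStab hM Q₀ f₀ hf₀) le_rfl hreg F₀ hF₀ hFc₀ _ hD₀ t ht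
  rw [Subgroup.subgroupOf_map_subtype] at hu
  exact ⟨u, hu.1, c, hc, htuc⟩

/-- **Control of fusion in nilpotent blocks.** -/
theorem fusion_control [Fact p.Prime] (hM : IsPModular p M) {B : Set (IrrCharacter G)}
    (hnil : IsNilpotentBlock p M B) {P : Subgroup G}
    {e : Set (IrrCharacter (Subgroup.centralizer (P : Set G)))}
    (hmax : IsMaximalBrauerPair p M B P e) :
    ∀ (n : ℕ) (Q : Subgroup G) (f : Set (IrrCharacter (Subgroup.centralizer (Q : Set G))))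
      (x : G), Nat.card P - Nat.card Q = n → SubpairLE p M Q f P e →
      SubpairLE p M (Q.map (MulAut.conj x).toMonoidHom) (conjBlock Q x f) P e →
      ∃ u ∈ P, u⁻¹ * x ∈ Subgroup.centralizer (Q : Set G) := by
  intro n
  induction n using Nat.strong_induction_on with
  | _ n ih =>
  intro Q f x hn hle hlex
  classical
  have hB : IsPBlock M B := hmax.1.2.1
  have hPe : IsBrauerPair p M P e := hmax.1.1
  have hPp : IsPGroup p P := hPe.1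
  have hQP : Q ≤ P := subpairLE_le hle
  have hQf : IsBrauerPairOf p M B Q f := (brauerPairOf_iff_of_le hM hle B hB).mp hmax.1
  have hf : IsPBlock M f := hQf.1.2
  -- a fully normalized conjugate
  obtain ⟨-, y, hley0, hfn0⟩ := normalizerIn_defectGroup hM hmax hQP hf hle
    (pairStab hM Q f hf) (fun z => mem_pairStab hM Q f hf z)
  obtain ⟨Q₀, f₀, h0, hley, hf₀, hfn⟩ : ∃ (Q₀ : Subgroup G)
      (f₀ : Set (IrrCharacter (Subgroup.centralizer (Q₀ : Set G)))),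
      conjPair y ⟨Q, f⟩ = (⟨Q₀, f₀⟩ : BrauerPairIdx G) ∧ SubpairLE p M Q₀ f₀ P e ∧
      IsPBlock M f₀ ∧ ∀ (T' : Subgroup G), (∀ z : G, z ∈ T' ↔
        z ∈ Subgroup.normalizer (Q₀ : Set G) ∧
        StabilizesBlock (Subgroup.centralizer (Q₀ : Set G)) f₀ z) →
      ∃ F' : Set (IrrCharacter T'), IsPBlock M F' ∧
        (∀ t : T', blockCoeff F' t = subgroupBlockCoeff
          (Subgroup.centralizer (Q₀ : Set G)) f₀ (t : G)) ∧
        IsDefectGroup p M F' ((P ⊓ Subgroup.normalizer (Q₀ : Set G)).subgroupOf T') :=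
    ⟨_, _, rfl, hley0, isPBlock_conjBlock Q y hf, hfn0⟩
  have hQ₀P : Q₀ ≤ P := subpairLE_le hley
  have hQ₀p : IsPGroup p Q₀ := hPp.to_le hQ₀P
  have hQ₀f₀ : IsBrauerPairOf p M B Q₀ f₀ := (brauerPairOf_iff_of_le hM hley B hB).mp hmax.1
  have hcardQ₀ : Nat.card Q₀ = Nat.card Q := by
    have : Q.map (MulAut.conj y).toMonoidHom = Q₀ := congrArg Sigma.fst h0
    rw [← this, card_map_conj]
  let _ : Fintype ↥(pairStab hM Q₀ f₀ hf₀) := Fintype.ofFinite _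
  obtain ⟨F₀, hF₀, hFc₀, hD₀⟩ := hfn (pairStab hM Q₀ f₀ hf₀)
    (fun z => mem_pairStab hM Q₀ f₀ hf₀ z)
  have hstabdec := stab_of_fullyNormalized hM hnil hf₀ hQ₀f₀ F₀ hF₀ hFc₀ hD₀
  have hCT₀ := centralizer_le_pairStab hM Q₀ f₀ hf₀
  have hT₀N : pairStab hM Q₀ f₀ hf₀ ≤ Subgroup.normalizer (Q₀ : Set G) := fun t ht => ht.1
  -- the key claim: elements carrying a pair below `(P, e)` onto `(Q₀, f₀)`
  have K : ∀ (Q₁ : Subgroup G) (f₁ : Set (IrrCharacter (Subgroup.centralizer (Q₁ : Set G))))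
      (x₁ : G), SubpairLE p M Q₁ f₁ P e →
      conjPair x₁ ⟨Q₁, f₁⟩ = (⟨Q₀, f₀⟩ : BrauerPairIdx G) →
      ∃ u ∈ P, u⁻¹ * x₁ ∈ Subgroup.centralizer (Q₁ : Set G) := by
    intro Q₁ f₁ x₁ hle₁ hconj₁
    have hQ₁P : Q₁ ≤ P := subpairLE_le hle₁
    have hmapQ₁ : Q₁.map (MulAut.conj x₁).toMonoidHom = Q₀ := congrArg Sigma.fst hconj₁
    have hcardQ₁ : Nat.card Q₁ = Nat.card Q := by
      rw [← hcardQ₀, ← hmapQ₁, card_map_conj]
    by_cases hQ₁ : Q₁ = P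
    · subst hQ₁
      have h1 : (⟨Q₁, f₁⟩ : BrauerPairIdx G) = ⟨Q₁, e⟩ := subpairLE_same hM ⟨Q₁, f₁⟩ hle₁ rfl
      have hQ₀eq : Q₀ = Q₁ :=
        Subgroup.eq_of_le_of_card_ge hQ₀P (by rw [hcardQ₀, hcardQ₁])
      have h2 : (⟨Q₀, f₀⟩ : BrauerPairIdx G) = ⟨Q₁, e⟩ := subpairLE_same hM ⟨Q₀, f₀⟩ hley hQ₀eq
      have h3 : conjPair x₁ (⟨Q₀, f₀⟩ : BrauerPairIdx G) = ⟨Q₀, f₀⟩ := by
        rw [h2, ← h1, hconj₁]
        exact h2.trans h1.symm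
      have hx₁T : x₁ ∈ pairStab hM Q₀ f₀ hf₀ := mem_pairStab_of_conjPair_eq hM Q₀ f₀ hf₀ x₁ h3
      obtain ⟨u, hu, c, hc, hxuc⟩ := hstabdec x₁ hx₁T
      refine ⟨u, hu.1, ?_⟩
      rw [hxuc, inv_mul_cancel_left, ← hQ₀eq]
      exact hc
    · obtain ⟨z, hzP, hzN, hzQ⟩ := exists_normalizing_not_mem hPp hQ₁P hQ₁
      have hQ₁N₁ : Q₁ ≤ P ⊓ Subgroup.normalizer (Q₁ : Set G) := le_inf hQ₁P Subgroup.le_normalizer
      have hne₁ : Q₁ ≠ P ⊓ Subgroup.normalizer (Q₁ : Set G) := by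
        intro h
        apply hzQ
        rw [h]
        exact ⟨hzP, hzN⟩
      have hcardlt := card_lt_of_lt hQ₁N₁ hne₁
      obtain ⟨e₁, he₁blk, hle_e₁⟩ := exists_subpair hM P e hPe
        (P ⊓ Subgroup.normalizer (Q₁ : Set G)) inf_le_left
      obtain ⟨f₁', hnorm₁⟩ := exists_normal_subpair hM (P ⊓ Subgroup.normalizer (Q₁ : Set G)) Q₁
        e₁ ⟨hPp.to_le inf_le_left, he₁blk⟩ hQ₁N₁ inf_le_right
      have hs₁ : Relation.ReflTransGen (NormalSubpairRel p M) (⟨Q₁, f₁'⟩ : BrauerPairIdx G)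
          ⟨P ⊓ Subgroup.normalizer (Q₁ : Set G), e₁⟩ := Relation.ReflTransGen.single hnorm₁
      have hf₁eq : f₁' = f₁ := subpair_unique hM P e hPe Q₁ f₁' f₁ (hs₁.trans hle_e₁) hle₁
      rw [hf₁eq] at hnorm₁
      have hrel : NormalSubpairRel p M (conjPair x₁ ⟨Q₁, f₁⟩)
          (conjPair x₁ ⟨P ⊓ Subgroup.normalizer (Q₁ : Set G), e₁⟩) :=
        isNormalSubpair_conj hnorm₁ x₁
      rw [hconj₁] at hrel
      have hrel' : IsNormalSubpair p M Q₀ f₀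
          ((P ⊓ Subgroup.normalizer (Q₁ : Set G)).map (MulAut.conj x₁).toMonoidHom)
          (conjBlock (P ⊓ Subgroup.normalizer (Q₁ : Set G)) x₁ e₁) := hrel
      have hRT₀ : (P ⊓ Subgroup.normalizer (Q₁ : Set G)).map (MulAut.conj x₁).toMonoidHom
          ≤ pairStab hM Q₀ f₀ hf₀ := fun r hr => ⟨hrel'.2.2.2.1 hr, hrel'.2.2.2.2.1 r hr⟩
      have hQ₀R : Q₀ ≤ (P ⊓ Subgroup.normalizer (Q₁ : Set G)).map (MulAut.conj x₁).toMonoidHom :=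
        hrel'.2.2.1
      obtain ⟨g', hg'pair, hg'lift⟩ := exists_lift_eq Q₀ f₀ (pairStab hM Q₀ f₀ hf₀) hCT₀ F₀ hF₀
        hFc₀ _ (goodSub_subgroupOf Q₀ _ hQ₀R hRT₀) (upSub_subgroupOf Q₀ _ hQ₀R hRT₀) hrel'
      -- the maximal pair of the block of the stabilizer
      obtain ⟨e₀, he₀blk, hle_e₀⟩ := exists_subpair hM P e hPe
        (P ⊓ Subgroup.normalizer (Q₀ : Set G)) inf_le_left
      have hQ₀N₀ : Q₀ ≤ P ⊓ Subgroup.normalizer (Q₀ : Set G) := le_inf hQ₀P Subgroup.le_normalizer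
      obtain ⟨f₀', hnorm₀⟩ := exists_normal_subpair hM (P ⊓ Subgroup.normalizer (Q₀ : Set G)) Q₀
        e₀ ⟨hPp.to_le inf_le_left, he₀blk⟩ hQ₀N₀ inf_le_right
      have hs₀ : Relation.ReflTransGen (NormalSubpairRel p M) (⟨Q₀, f₀'⟩ : BrauerPairIdx G)
          ⟨P ⊓ Subgroup.normalizer (Q₀ : Set G), e₀⟩ := Relation.ReflTransGen.single hnorm₀
      have hf₀eq : f₀' = f₀ := subpair_unique hM P e hPe Q₀ f₀' f₀ (hs₀.trans hle_e₀) hley
      rw [hf₀eq] at hnorm₀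
      have hN₀T₀ : P ⊓ Subgroup.normalizer (Q₀ : Set G) ≤ pairStab hM Q₀ f₀ hf₀ :=
        fun r hr => ⟨hnorm₀.2.2.2.1 hr, hnorm₀.2.2.2.2.1 r hr⟩
      obtain ⟨ε', hε'pair, hε'lift⟩ := exists_lift_eq Q₀ f₀ (pairStab hM Q₀ f₀ hf₀) hCT₀ F₀ hF₀
        hFc₀ _ (goodSub_subgroupOf Q₀ _ hQ₀N₀ hN₀T₀) (upSub_subgroupOf Q₀ _ hQ₀N₀ hN₀T₀) hnorm₀
      have hdmax : IsMaximalBrauerPair p M F₀
          ((P ⊓ Subgroup.normalizer (Q₀ : Set G)).subgroupOf (pairStab hM Q₀ f₀ hf₀)) ε' :=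
        isMaximal_of_defectGroup hM hε'pair hD₀
      obtain ⟨t, ht⟩ := exists_conj_lift_le hM Q₀ hQ₀p (pairStab hM Q₀ f₀ hf₀) hCT₀ hT₀N F₀
        ⟨_, ε'⟩ (goodSub_subgroupOf Q₀ _ hQ₀N₀ hN₀T₀) hdmax
        ⟨_, g'⟩ (goodSub_subgroupOf Q₀ _ hQ₀R hRT₀) hg'pair
      rw [hg'lift, hε'lift] at ht
      have ht2 : SubpairLE p M
          ((P ⊓ Subgroup.normalizer (Q₁ : Set G)).map (MulAut.conj ((t : G) * x₁)).toMonoidHom)
          (conjBlock (P ⊓ Subgroup.normalizer (Q₁ : Set G)) ((t : G) * x₁) e₁) P e := by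
        have h4 : Relation.ReflTransGen (NormalSubpairRel p M)
            (conjPair ((t : G) * x₁) ⟨P ⊓ Subgroup.normalizer (Q₁ : Set G), e₁⟩) ⟨P, e⟩ := by
          rw [conjPair_mul]
          exact ht.trans hle_e₀
        exact h4
      have hlt : Nat.card P - Nat.card ↥(P ⊓ Subgroup.normalizer (Q₁ : Set G)) < n := by
        have h2 : Nat.card ↥(P ⊓ Subgroup.normalizer (Q₁ : Set G)) ≤ Nat.card P :=
          Subgroup.card_le_of_le inf_le_left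
        omega
      obtain ⟨u, hu, hucent⟩ := ih _ hlt (P ⊓ Subgroup.normalizer (Q₁ : Set G)) e₁
        ((t : G) * x₁) rfl hle_e₁ ht2
      obtain ⟨u₀, hu₀, c₀, hc₀, htuc⟩ := hstabdec (t : G) t.2
      have hc₀' : x₁⁻¹ * c₀ * x₁ ∈ Subgroup.centralizer (Q₁ : Set G) := by
        rw [← hmapQ₁] at hc₀
        exact (mem_centralizer_map_conj_iff Q₁ x₁ c₀).mp hc₀
      refine ⟨u₀⁻¹ * u, P.mul_mem (P.inv_mem hu₀.1) hu, ?_⟩
      have h5 : u⁻¹ * ((t : G) * x₁) ∈ Subgroup.centralizer (Q₁ : Set G) :=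
        Subgroup.centralizer_le (fun q hq => hQ₁N₁ hq) hucent
      have h6 : (u₀⁻¹ * u)⁻¹ * x₁ = u⁻¹ * ((t : G) * x₁) * (x₁⁻¹ * c₀ * x₁)⁻¹ := by
        rw [htuc]
        group
      rw [h6]
      exact Subgroup.mul_mem _ h5 (Subgroup.inv_mem _ hc₀')
  -- conclusion
  obtain ⟨u₁, hu₁, hc₁⟩ := K Q f y hle h0
  have hconjx : conjPair (y * x⁻¹) (conjPair x ⟨Q, f⟩) = (⟨Q₀, f₀⟩ : BrauerPairIdx G) := by
    rw [← conjPair_mul, inv_mul_cancel_right]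
    exact h0
  obtain ⟨u₂, hu₂, hc₂⟩ := K (Q.map (MulAut.conj x).toMonoidHom) (conjBlock Q x f) (y * x⁻¹)
    hlex hconjx
  have h7 := (mem_centralizer_map_conj_iff Q x _).mp hc₂
  refine ⟨u₂⁻¹ * u₁, P.mul_mem (P.inv_mem hu₂) hu₁, ?_⟩
  have h8 : (u₂⁻¹ * u₁)⁻¹ * x = (u₁⁻¹ * y) * (x⁻¹ * (u₂⁻¹ * (y * x⁻¹)) * x)⁻¹ := by group
  rw [h8]
  exact Subgroup.mul_mem _ hc₁ (Subgroup.inv_mem _ h7)

end nilp

end Cfsg.Agent.Lib.Helper25
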