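import Mathlib
import Cfsg.Agent.Lib.Helper25.Nilpotent

set_option autoImplicit false

/-!
Nilpotent blocks: characterization through the fusion system, the abelian defect case, and the
blocks of the centralizers.
-/

namespace Cfsg.Agent.Lib.Helper25

open Cfsg Cfsg.Agent.Lib.Helper2 Cfsg.Agent.Lib.Helper8

section nilp2

variable {G : Type*} [Group G] [Fintype G] {p : ℕ} {M : Ideal AlgInt}

/-- an element of the stabilizer of `(Q, f)` fixes the pair under conjugation -/
theorem conjPair_eq_self_of_mem_pairStab (hM : IsPModular p M) (Q : Subgroup G)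
    (f : Set (IrrCharacter (Subgroup.centralizer (Q : Set G)))) (hf : IsPBlock M f) (x : G)
    (hx : x ∈ pairStab hM Q f hf) : conjPair x (⟨Q, f⟩ : BrauerPairIdx G) = ⟨Q, f⟩ := by
  classical
  have : Fintype (Subgroup.centralizer (Q : Set G)) := Fintype.ofFinite _
  have h1 := conjPair_normalizer Q ⟨x, hx.1⟩ f
  have h2 : conjSet (Subgroup.centralizer (Q : Set G))
      (Subgroup.inclusion (normalizer_le_normalizer_centralizer Q) ⟨x, hx.1⟩) f = f :=
    conjSet_eq_of_subset (Subgroup.centralizer (Q : Set G)) hM _ hf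
      ((stabilizesBlock_iff (Subgroup.centralizer (Q : Set G)) _ f).mp hx.2)
  rw [h2] at h1
  exact h1

omit [Fintype G] in
/-- a `p`-regular element of `N(Q)` acting on `Q` as a `p`-element centralizes `Q` -/
theorem mem_centralizer_of_regular_of_conj_eq [Finite G] [Fact p.Prime] (Q : Subgroup G)
    (x u : G) (hxN : x ∈ Subgroup.normalizer (Q : Set G)) (hreg : IsPRegular p x) (k : ℕ)
    (hu : u ^ (p ^ k) = 1) (h : ∀ v ∈ Q, x * v * x⁻¹ = u * v * u⁻¹) :
    x ∈ Subgroup.centralizer (Q : Set G) := by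
  have hpow : ∀ m : ℕ, ∀ v ∈ Q, x ^ m * v * (x ^ m)⁻¹ = u ^ m * v * (u ^ m)⁻¹ := by
    intro m
    induction m with
    | zero => intro v _; simp
    | succ m ih =>
      intro v hv
      have hw : x ^ m * v * (x ^ m)⁻¹ ∈ Q :=
        (Subgroup.mem_normalizer_iff.mp (Subgroup.pow_mem _ hxN m) v).mp hv
      have e1 : x ^ (m + 1) * v * (x ^ (m + 1))⁻¹ = x * (x ^ m * v * (x ^ m)⁻¹) * x⁻¹ := by
        rw [pow_succ']
        group
      have e2 : u ^ (m + 1) * v * (u ^ (m + 1))⁻¹ = u * (u ^ m * v * (u ^ m)⁻¹) * u⁻¹ := by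
        rw [pow_succ']
        group
      rw [e1, e2, h _ hw, ih v hv]
  have hx1 : x ^ (p ^ k) ∈ Subgroup.centralizer (Q : Set G) := by
    rw [Subgroup.mem_centralizer_iff]
    intro v hv
    have := hpow (p ^ k) v hv
    rw [hu] at this
    have e : x ^ (p ^ k) * v * (x ^ (p ^ k))⁻¹ = v := by simpa using this
    calc v * x ^ (p ^ k) = (x ^ (p ^ k) * v * (x ^ (p ^ k))⁻¹) * x ^ (p ^ k) := by rw [e]
      _ = x ^ (p ^ k) * v := by group
  have hcop : Nat.Coprime (p ^ k) (orderOf x) :=
    Nat.Coprime.pow_left k ((Nat.Prime.coprime_iff_not_dvd (Fact.out : p.Prime)).mpr hreg)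
  have hb := Nat.gcd_eq_gcd_ab (p ^ k) (orderOf x)
  rw [hcop.gcd_eq_one] at hb
  have hx : x = (x ^ (p ^ k)) ^ (Nat.gcdA (p ^ k) (orderOf x)) := by
    conv_lhs => rw [← zpow_one x]
    have h1 : (1 : ℤ) = ((p ^ k : ℕ) : ℤ) * Nat.gcdA (p ^ k) (orderOf x)
        + ((orderOf x : ℕ) : ℤ) * Nat.gcdB (p ^ k) (orderOf x) := by
      exact_mod_cast hb
    rw [h1, zpow_add, zpow_mul, zpow_mul, zpow_natCast, zpow_natCast, pow_orderOf_eq_one,
      one_zpow, mul_one]
  rw [hx]
  exact Subgroup.zpow_mem _ hx1 _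

/-- it suffices to check nilpotency on the pairs below a maximal pair -/
theorem isNilpotentBlock_of_le [Fact p.Prime] (hM : IsPModular p M) {B : Set (IrrCharacter G)}
    {P : Subgroup G} {e : Set (IrrCharacter (Subgroup.centralizer (P : Set G)))}
    (hmax : IsMaximalBrauerPair p M B P e)
    (h : ∀ (Q : Subgroup G) (f : Set (IrrCharacter (Subgroup.centralizer (Q : Set G)))),
      SubpairLE p M Q f P e → ∀ x : G, x ∈ Subgroup.normalizer (Q : Set G) →
      StabilizesBlock (Subgroup.centralizer (Q : Set G)) f x → IsPRegular p x →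
      x ∈ Subgroup.centralizer (Q : Set G)) : IsNilpotentBlock p M B := by
  refine ⟨hmax.1.2.1, fun Q f hQf x hxN hxS hreg => ?_⟩
  obtain ⟨z, hz⟩ := exists_conj_le_maximal hM hmax hQf
  have hN : z * x * z⁻¹ ∈ Subgroup.normalizer
      ((Q.map (MulAut.conj z).toMonoidHom : Subgroup G) : Set G) := by
    rw [mem_normalizer_map_conj_iff']
    have e : z⁻¹ * (z * x * z⁻¹) * z = x := by group
    rw [e]
    exact hxN
  have hr : IsPRegular p (z * x * z⁻¹) := by
    unfold IsPRegular
    have e : orderOf (z * x * z⁻¹) = orderOf x := by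
      rw [← MulAut.conj_apply]
      exact MulEquiv.orderOf_eq _ _
    rw [e]
    exact hreg
  have h1 := h _ _ hz (z * x * z⁻¹) hN (stabilizesBlock_conj Q z f x hxS) hr
  have h2 := (mem_centralizer_map_conj_iff Q z _).mp h1
  have e : z⁻¹ * (z * x * z⁻¹) * z = x := by group
  rwa [e] at h2

/-- **A block is nilpotent iff its fusion system is the inner fusion system of the defect
group.** -/
theorem nilpotent_iff_inner [Fact p.Prime] (hM : IsPModular p M) {B : Set (IrrCharacter G)}
    {P : Subgroup G} {e : Set (IrrCharacter (Subgroup.centralizer (P : Set G)))}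
    (hmax : IsMaximalBrauerPair p M B P e) (F : FusionSystem P)
    (hF : IsBlockFusionSystemOn p M B P e F) :
    IsNilpotentBlock p M B ↔ ∀ Q : Subgroup G, F.Hom Q = (innerFusionSystem P).Hom Q := by
  classical
  have hPe : IsBrauerPair p M P e := hmax.1.1
  have hPp : IsPGroup p P := hPe.1
  have hPstab : ∀ g ∈ P, conjPair g (⟨P, e⟩ : BrauerPairIdx G) = ⟨P, e⟩ := fun g hg =>
    conjPair_eq_self_of_mem_pairStab hM P e hPe.2 g (le_pairStab hM P e hPe.2 hg)
  constructor
  · intro hnil Q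
    ext φ
    constructor
    · intro hφ
      obtain ⟨hQP, g, hφg, -, f, hle, hleg⟩ := (hF.2 Q φ).mp hφ
      obtain ⟨u, hu, hc⟩ := fusion_control hM hnil hmax _ Q f g rfl hle hleg
      refine ⟨hQP, u, hu, fun v => ?_⟩
      rw [hφg v]
      have hcv := Subgroup.mem_centralizer_iff.mp hc (v : G) v.2
      have e1 : g * (v : G) * g⁻¹ = u * ((u⁻¹ * g) * (v : G) * (u⁻¹ * g)⁻¹) * u⁻¹ := by group
      rw [e1, ← hcv]
      group
    · rintro ⟨hQP, g, hgP, hφg⟩
      refine (hF.2 Q φ).mpr ⟨hQP, g, hφg, ?_, ?_⟩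
      · intro w hw
        rw [mem_map_conj_iff] at hw
        have := P.mul_mem (P.mul_mem hgP (hQP hw)) (P.inv_mem hgP)
        have e : g * (g⁻¹ * w * g) * g⁻¹ = w := by group
        rwa [e] at this
      · obtain ⟨f, -, hle⟩ := exists_subpair hM P e hPe Q hQP
        refine ⟨f, hle, ?_⟩
        have h1 := subpairLE_conj (p := p) (M := M) g hle
        rw [hPstab g hgP] at h1
        exact h1
  · intro hinner
    apply isNilpotentBlock_of_le hM hmax
    intro Q f hle x hxN hxS hreg
    have hQP : Q ≤ P := subpairLE_le hle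
    have hf : IsPBlock M f :=
      ((brauerPairOf_iff_of_le hM hle B hmax.1.2.1).mp hmax.1).1.2
    have hfix := conjPair_eq_self_of_mem_pairStab hM Q f hf x ⟨hxN, hxS⟩
    have hle' : SubpairLE p M (Q.map (MulAut.conj x).toMonoidHom) (conjBlock Q x f) P e := by
      have h1 : Relation.ReflTransGen (NormalSubpairRel p M)
          (conjPair x (⟨Q, f⟩ : BrauerPairIdx G)) ⟨P, e⟩ := by
        rw [hfix]
        exact hle
      exact h1
    have hφ : conjHom Q x ∈ F.Hom Q :=
      (hF.2 Q (conjHom Q x)).mpr ⟨hQP, x, fun v => rfl, subpairLE_le hle', f, hle, hle'⟩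
    rw [hinner Q] at hφ
    obtain ⟨-, u, hu, hφu⟩ := hφ
    obtain ⟨k, hk⟩ := hPp ⟨u, hu⟩
    have hk' : u ^ (p ^ k) = 1 := by
      have := congrArg Subtype.val hk
      simpa using this
    exact mem_centralizer_of_regular_of_conj_eq Q x u hxN hreg k hk'
      (fun v hv => hφu ⟨v, hv⟩)

end nilp2

end Cfsg.Agent.Lib.Helper25
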