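import Mathlib
import Cfsg.Agent.Lib.Helper25.Nilpotent2

set_option autoImplicit false

/-!
Nilpotent blocks: the blocks of the centralizers of the Brauer pairs, and the case of an
abelian defect group.
-/

namespace Cfsg.Agent.Lib.Helper25

open Cfsg Cfsg.Agent.Lib.Helper2 Cfsg.Agent.Lib.Helper8

section nilp3

variable {G : Type*} [Group G] [Fintype G] {p : ℕ} {M : Ideal AlgInt}

/-- an element of `H` stabilizing a block of the centralizer of `R'` in `H` stabilizes its
lift -/
theorem stabilizesBlock_liftB (Q H : Subgroup G) (hCH : Subgroup.centralizer (Q : Set G) ≤ H)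
    (R' : Subgroup H) (hg : GoodSub Q H R')
    (g' : Set (IrrCharacter (Subgroup.centralizer (R' : Set H)))) (s : H)
    (hsN : (s : G) ∈ Subgroup.normalizer ((upSub Q H R' : Subgroup G) : Set G))
    (hs : StabilizesBlock (Subgroup.centralizer (R' : Set H)) g' s) :
    StabilizesBlock (Subgroup.centralizer ((upSub Q H R' : Subgroup G) : Set G))
      (liftB Q H hCH R' hg g') (s : G) := by
  refine ⟨normalizer_le_normalizer_centralizer _ hsN, ?_⟩
  rintro χ ⟨η, hη, rfl⟩
  obtain ⟨η', hη', hconj⟩ := hs.2 η hη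
  refine ⟨isoIrr (liftIso Q H hCH R' hg) η', ⟨η', hη', rfl⟩, ?_⟩
  intro k k' hk
  rw [isoIrr_apply, isoIrr_apply]
  apply hconj
  apply Subtype.ext
  exact hk

/-- **Nilpotent blocks: the blocks of the centralizers.** -/
theorem nilpotent_pair [Fact p.Prime] (hM : IsPModular p M) {B : Set (IrrCharacter G)}
    {P : Subgroup G} {e : Set (IrrCharacter (Subgroup.centralizer (P : Set G)))}
    (hmax : IsMaximalBrauerPair p M B P e) (hnil : IsNilpotentBlock p M B) (Q : Subgroup G)
    (f : Set (IrrCharacter (Subgroup.centralizer (Q : Set G))))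
    (hQf : IsBrauerPairOf p M B Q f) :
    IsNilpotentBlock p M f ∧ (SubpairLE p M Q f P e → IsDefectGroup p M f
      ((P ⊓ Subgroup.centralizer (Q : Set G)).subgroupOf (Subgroup.centralizer (Q : Set G)))) := by
  classical
  have hB : IsPBlock M B := hQf.2.1
  have hQ : IsPGroup p Q := hQf.1.1
  have hf : IsPBlock M f := hQf.1.2
  have hFc : ∀ t : Subgroup.centralizer (Q : Set G), blockCoeff f t
      = subgroupBlockCoeff (Subgroup.centralizer (Q : Set G)) f (t : G) := fun t => by
    rw [subgroupBlockCoeff_eq, extendByZero_coe]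
  have hgood : ∀ R' : Subgroup (Subgroup.centralizer (Q : Set G)),
      GoodSub Q (Subgroup.centralizer (Q : Set G)) R' := fun R' h _ => h.2
  constructor
  · refine ⟨hf, fun R' g' hR'g' x hxN hxS hreg => ?_⟩
    have hn := normalSubpairRel_base_lift hM Q hQ f hf (Subgroup.centralizer (Q : Set G)) le_rfl
      (centralizer_le_pairStab hM Q f hf) f hFc ⟨R', g'⟩ (hgood R') hR'g'
    have hn' : IsNormalSubpair p M Q f (upSub Q (Subgroup.centralizer (Q : Set G)) R')
        (liftB Q (Subgroup.centralizer (Q : Set G)) le_rfl R' (hgood R') g') := hn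
    have hpair := (brauerPairOf_iff_of_normal hM hn' B hB).mpr hQf
    have hxN' : (x : G) ∈ Subgroup.normalizer
        ((upSub Q (Subgroup.centralizer (Q : Set G)) R' : Subgroup G) : Set G) :=
      mem_normalizer_sup' (Subgroup.centralizer_le_normalizer _ x.2)
        (mem_normalizer_map_subtype hxN)
    have hxS' := stabilizesBlock_liftB Q (Subgroup.centralizer (Q : Set G)) le_rfl R' (hgood R')
      g' x hxN' hxS
    have hreg' : IsPRegular p (x : G) := by
      unfold IsPRegular at hreg ⊢
      rwa [Subgroup.orderOf_coe]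
    have hcent := hnil.2 _ _ hpair (x : G) hxN' hxS' hreg'
    exact (upSub_h2 Q (Subgroup.centralizer (Q : Set G)) R' (hgood R') x).mpr hcent
  · intro hle
    have hQP : Q ≤ P := subpairLE_le hle
    have : Fintype (Subgroup.centralizer (Q : Set G)) := Fintype.ofFinite _
    obtain ⟨⟨D, hD, hDle⟩, x, hQx, hDx⟩ := centralizerIn_defectGroup hM hmax hQP hf hle
    obtain ⟨u, hu, hc⟩ := fusion_control hM hnil hmax _ Q f x rfl hle hQx
    have hcD := card_of_isDefectGroup hM _ hf D hD
    have : Fintype (Subgroup.centralizer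
      ((Q.map (MulAut.conj x).toMonoidHom : Subgroup G) : Set G)) := Fintype.ofFinite _
    have hcx := card_of_isDefectGroup hM _ (isPBlock_conjBlock Q x hf) _ hDx
    have hset : P ⊓ Subgroup.centralizer
        ((Q.map (MulAut.conj x).toMonoidHom : Subgroup G) : Set G)
        = (P ⊓ Subgroup.centralizer (Q : Set G)).map (MulAut.conj u).toMonoidHom := by
      ext w
      rw [mem_map_conj_iff, Subgroup.mem_inf, Subgroup.mem_inf, mem_centralizer_map_conj_iff]
      constructor
      · rintro ⟨hwP, hwC⟩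
        refine ⟨P.mul_mem (P.mul_mem (P.inv_mem hu) hwP) hu, ?_⟩
        have e2 : u⁻¹ * w * u = (u⁻¹ * x) * (x⁻¹ * w * x) * (u⁻¹ * x)⁻¹ := by group
        rw [e2]
        exact Subgroup.mul_mem _ (Subgroup.mul_mem _ hc hwC) (Subgroup.inv_mem _ hc)
      · rintro ⟨hwP, hwC⟩
        refine ⟨?_, ?_⟩
        · have := P.mul_mem (P.mul_mem hu hwP) (P.inv_mem hu)
          have e3 : u * (u⁻¹ * w * u) * u⁻¹ = w := by group
          rwa [e3] at this
        · have e : x⁻¹ * w * x = (u⁻¹ * x)⁻¹ * (u⁻¹ * w * u) * (u⁻¹ * x) := by group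
          rw [e]
          exact Subgroup.mul_mem _ (Subgroup.mul_mem _ (Subgroup.inv_mem _ hc) hwC) hc
    have hcard : Nat.card D ≤ Nat.card ((P ⊓ Subgroup.centralizer (Q : Set G)).subgroupOf
        (Subgroup.centralizer (Q : Set G))) := by
      rw [hcD, ← blockDefect_conjBlock Q x f, ← hcx, card_subgroupOf_eq _ _ inf_le_right,
        card_subgroupOf_eq _ _ inf_le_right, hset, card_map_conj]
    rw [Subgroup.eq_of_le_of_card_ge hDle hcard]
    exact hD

/-- **Nilpotent blocks with abelian defect groups**: the block is nilpotent iff the stabilizer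
of the maximal pair `(P, e)` is `C(P)` -/
theorem nilpotent_iff_of_abelian [Fact p.Prime] (hM : IsPModular p M)
    {B : Set (IrrCharacter G)} {P : Subgroup G}
    {e : Set (IrrCharacter (Subgroup.centralizer (P : Set G)))}
    (hmax : IsMaximalBrauerPair p M B P e) (hab : ∀ x ∈ P, ∀ y ∈ P, x * y = y * x) :
    IsNilpotentBlock p M B ↔ ∀ x : G, x ∈ Subgroup.normalizer (P : Set G) →
      StabilizesBlock (Subgroup.centralizer (P : Set G)) e x →
      x ∈ Subgroup.centralizer (P : Set G) := by
  classical
  have hPe : IsBrauerPair p M P e := hmax.1.1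
  have hB : IsPBlock M B := hmax.1.2.1
  have hPC : P ≤ Subgroup.centralizer (P : Set G) := by
    intro u hu
    rw [Subgroup.mem_centralizer_iff]
    intro v hv
    exact hab v hv u hu
  constructor
  · intro hnil x hxN hxS
    have hfix := conjPair_eq_self_of_mem_pairStab hM P e hPe.2 x ⟨hxN, hxS⟩
    have hle' : SubpairLE p M (P.map (MulAut.conj x).toMonoidHom) (conjBlock P x e) P e := by
      have h1 : Relation.ReflTransGen (NormalSubpairRel p M)
          (conjPair x (⟨P, e⟩ : BrauerPairIdx G)) ⟨P, e⟩ := by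
        rw [hfix]
      exact h1
    obtain ⟨u, hu, hc⟩ := fusion_control hM hnil hmax _ P e x rfl Relation.ReflTransGen.refl hle'
    have e1 : x = u * (u⁻¹ * x) := by group
    rw [e1]
    exact Subgroup.mul_mem _ (hPC hu) hc
  · intro H
    apply isNilpotentBlock_of_le hM hmax
    intro Q f hle x hxN hxS _
    have hQP : Q ≤ P := subpairLE_le hle
    have hQf : IsBrauerPairOf p M B Q f := (brauerPairOf_iff_of_le hM hle B hB).mp hmax.1
    have hf : IsPBlock M f := hQf.1.2
    have hQ : IsPGroup p Q := hQf.1.1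
    have hPCQ : P ≤ Subgroup.centralizer (Q : Set G) :=
      hPC.trans (Subgroup.centralizer_le (fun q hq => hQP hq))
    have hCN : Subgroup.centralizer (Q : Set G) ≤ Subgroup.normalizer (Q : Set G) :=
      fun c hc => Subgroup.centralizer_le_normalizer _ hc
    obtain ⟨f', hnorm⟩ := exists_normal_subpair hM P Q e hPe hQP (hPCQ.trans hCN)
    have hs : Relation.ReflTransGen (NormalSubpairRel p M) (⟨Q, f'⟩ : BrauerPairIdx G) ⟨P, e⟩ :=
      Relation.ReflTransGen.single hnorm
    have hfeq : f' = f := subpair_unique hM P e hPe Q f' f hs hle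
    rw [hfeq] at hnorm
    have hfix := conjPair_eq_self_of_mem_pairStab hM Q f hf x ⟨hxN, hxS⟩
    have hrel : NormalSubpairRel p M (conjPair x ⟨Q, f⟩) (conjPair x ⟨P, e⟩) :=
      isNormalSubpair_conj hnorm x
    rw [hfix] at hrel
    have hrel' : IsNormalSubpair p M Q f (P.map (MulAut.conj x).toMonoidHom)
        (conjBlock P x e) := hrel
    have hFc : ∀ t : Subgroup.centralizer (Q : Set G), blockCoeff f t
        = subgroupBlockCoeff (Subgroup.centralizer (Q : Set G)) f (t : G) := fun t => by
      rw [subgroupBlockCoeff_eq, extendByZero_coe]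
    have hgood : ∀ R' : Subgroup (Subgroup.centralizer (Q : Set G)),
        GoodSub Q (Subgroup.centralizer (Q : Set G)) R' := fun R' h _ => h.2
    -- the two pairs of the block `f` of `C(Q)`
    have hup1 := upSub_subgroupOf Q (Subgroup.centralizer (Q : Set G)) hQP hPCQ
    obtain ⟨ε', hε'pair, hε'lift⟩ := exists_lift_eq Q f (Subgroup.centralizer (Q : Set G)) le_rfl
      f hf hFc _ (hgood _) hup1 hnorm
    have hQP₂ : Q ≤ P.map (MulAut.conj x).toMonoidHom := hrel'.2.2.1
    have hP₂C : P.map (MulAut.conj x).toMonoidHom ≤ Subgroup.centralizer (Q : Set G) := by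
      intro w hw
      rw [mem_map_conj_iff] at hw
      have h2 := (conj_mem_centralizer_iff hxN (x⁻¹ * w * x)).mpr (hPCQ hw)
      have e : x * (x⁻¹ * w * x) * x⁻¹ = w := by group
      rwa [e] at h2
    have hup2 := upSub_subgroupOf Q (Subgroup.centralizer (Q : Set G)) hQP₂ hP₂C
    obtain ⟨g₂', hg₂pair, hg₂lift⟩ := exists_lift_eq Q f (Subgroup.centralizer (Q : Set G)) le_rfl
      f hf hFc _ (hgood _) hup2 hrel'
    have hmax' : IsMaximalBrauerPair p M f
        (P.subgroupOf (Subgroup.centralizer (Q : Set G))) ε' := by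
      refine ⟨hε'pair, fun R g hRg hchain => ?_⟩
      obtain ⟨hb, hchain'⟩ := reflTransGen_lift hM Q hQ (Subgroup.centralizer (Q : Set G)) le_rfl
        hCN hchain (hgood _)
      rw [hε'lift] at hchain'
      have hn := normalSubpairRel_base_lift hM Q hQ f hf (Subgroup.centralizer (Q : Set G))
        le_rfl (centralizer_le_pairStab hM Q f hf) f hFc ⟨R, g⟩ (hgood R) hRg
      have hn' : IsNormalSubpair p M Q f (upSub Q (Subgroup.centralizer (Q : Set G)) R)
          (liftB Q (Subgroup.centralizer (Q : Set G)) le_rfl R (hgood R) g) := hn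
      have hpairG := (brauerPairOf_iff_of_normal hM hn' B hB).mpr hQf
      have hupR : upSub Q (Subgroup.centralizer (Q : Set G)) R = P :=
        hmax.2 _ _ hpairG hchain'
      apply le_antisymm
      · intro r hr
        rw [Subgroup.mem_subgroupOf, ← hupR]
        exact (le_sup_right : R.map (Subgroup.centralizer (Q : Set G)).subtype
          ≤ upSub Q (Subgroup.centralizer (Q : Set G)) R) (Subgroup.mem_map.mpr ⟨r, hr, rfl⟩)
      · exact subpairLE_le' hchain
    obtain ⟨t, ht⟩ := exists_conj_lift_le hM Q hQ (Subgroup.centralizer (Q : Set G)) le_rfl hCN f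
      ⟨_, ε'⟩ (hgood _) hmax' ⟨_, g₂'⟩ (hgood _) hg₂pair
    rw [hg₂lift, hε'lift] at ht
    have ht2 : Relation.ReflTransGen (NormalSubpairRel p M)
        (conjPair ((t : G) * x) (⟨P, e⟩ : BrauerPairIdx G)) ⟨P, e⟩ := by
      rw [conjPair_mul]
      exact ht
    have hfst : (conjPair ((t : G) * x) (⟨P, e⟩ : BrauerPairIdx G)).1 = P :=
      Subgroup.eq_of_le_of_card_ge (subpairLE_le' ht2) (le_of_eq (card_map_conj P _).symm)
    have hfix2 := subpairLE_same hM _ ht2 hfst
    have hmem := mem_pairStab_of_conjPair_eq hM P e hPe.2 _ hfix2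
    have hcP := H _ hmem.1 hmem.2
    have hcQ : (t : G) * x ∈ Subgroup.centralizer (Q : Set G) :=
      Subgroup.centralizer_le (fun q hq => hQP hq) hcP
    have e : x = (t : G)⁻¹ * ((t : G) * x) := by group
    rw [e]
    exact Subgroup.mul_mem _ (Subgroup.inv_mem _ t.2) hcQ

end nilp3

end Cfsg.Agent.Lib.Helper25
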