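import Mathlib
import Cfsg.Agent.Lib.Helper25.Nilpotent3

set_option autoImplicit false

/-!
Blocks with abelian defect groups: the stabilizer of a pair `(Q, f) ≤ (P, e)` is controlled by
the stabilizer of the maximal pair `(P, e)`.
-/

namespace Cfsg.Agent.Lib.Helper25

open Cfsg Cfsg.Agent.Lib.Helper2 Cfsg.Agent.Lib.Helper8

section abel

variable {G : Type*} [Group G] [Fintype G] {p : ℕ} {M : Ideal AlgInt}

omit [Fintype G] in
theorem map_conj_eq_self_of_mem_normalizer {Q : Subgroup G} {y : G}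
    (hy : y ∈ Subgroup.normalizer (Q : Set G)) : Q.map (MulAut.conj y).toMonoidHom = Q := by
  ext u
  rw [mem_map_conj_iff]
  have := Subgroup.mem_normalizer_iff.mp (Subgroup.inv_mem _ hy) u
  rw [inv_inv] at this
  exact this.symm

/-- abelian defect group `P`: every element of the stabilizer of `(Q, f) ≤ (P, e)` can be
moved into the stabilizer of `(P, e)` by an element of `C(Q)` -/
theorem exists_cent_mul_mem_stab_of_abelian [Fact p.Prime] (hM : IsPModular p M)
    {B : Set (IrrCharacter G)} {P : Subgroup G}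
    {e : Set (IrrCharacter (Subgroup.centralizer (P : Set G)))}
    (hmax : IsMaximalBrauerPair p M B P e) (hab : ∀ x ∈ P, ∀ y ∈ P, x * y = y * x)
    {Q : Subgroup G} {f : Set (IrrCharacter (Subgroup.centralizer (Q : Set G)))}
    (hle : SubpairLE p M Q f P e) (x : G) (hxN : x ∈ Subgroup.normalizer (Q : Set G))
    (hxS : StabilizesBlock (Subgroup.centralizer (Q : Set G)) f x) :
    ∃ t ∈ Subgroup.centralizer (Q : Set G), t * x ∈ pairStab hM P e hmax.1.1.2 := by
  classical
  have hPe : IsBrauerPair p M P e := hmax.1.1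
  have hB : IsPBlock M B := hmax.1.2.1
  have hPC : P ≤ Subgroup.centralizer (P : Set G) := by
    intro u hu
    rw [Subgroup.mem_centralizer_iff]
    intro v hv
    exact hab v hv u hu
  have hQP : Q ≤ P := subpairLE_le hle
  have hQf : IsBrauerPairOf p M B Q f := (brauerPairOf_iff_of_le hM hle B hB).mp hmax.1
  have hf : IsPBlock M f := hQf.1.2
  have hQ : IsPGroup p Q := hQf.1.1
  have hPCQ : P ≤ Subgroup.centralizer (Q : Set G) :=
    hPC.trans (Subgroup.centralizer_le (fun q hq => hQP hq))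
  have hCN : Subgroup.centralizer (Q : Set G) ≤ Subgroup.normalizer (Q : Set G) :=
    fun c hc => Subgroup.centralizer_le_normalizer _ hc
  obtain ⟨f', hnorm⟩ := exists_normal_subpair hM P Q e hPe hQP (hPCQ.trans hCN)
  have hs : Relation.ReflTransGen (NormalSubpairRel p M) (⟨Q, f'⟩ : BrauerPairIdx G) ⟨P, e⟩ :=
    Relation.ReflTransGen.single hnorm
  have hfeq : f' = f := subpair_unique hM P e hPe Q f' f hs hle
  rw [hfeq] at hnorm
  have hfix := conjPair_eq_self_of_mem_pairStab hM Q f hf x ⟨hxN, hxS⟩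
  have hrel : NormalSubpairRel p M (conjPair x ⟨Q, f⟩) (conjPair x ⟨P, e⟩) :=
    isNormalSubpair_conj hnorm x
  rw [hfix] at hrel
  have hrel' : IsNormalSubpair p M Q f (P.map (MulAut.conj x).toMonoidHom)
      (conjBlock P x e) := hrel
  have hFc : ∀ t : Subgroup.centralizer (Q : Set G), blockCoeff f t
      = subgroupBlockCoeff (Subgroup.centralizer (Q : Set G)) f (t : G) := fun t => by
    rw [subgroupBlockCoeff_eq, extendByZero_coe]
  have hgood : ∀ R' : Subgroup (Subgroup.centralizer (Q : Set G)),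
      GoodSub Q (Subgroup.centralizer (Q : Set G)) R' := fun R' h _ => h.2
  have hup1 := upSub_subgroupOf Q (Subgroup.centralizer (Q : Set G)) hQP hPCQ
  obtain ⟨ε', hε'pair, hε'lift⟩ := exists_lift_eq Q f (Subgroup.centralizer (Q : Set G)) le_rfl
    f hf hFc _ (hgood _) hup1 hnorm
  have hQP₂ : Q ≤ P.map (MulAut.conj x).toMonoidHom := hrel'.2.2.1
  have hP₂C : P.map (MulAut.conj x).toMonoidHom ≤ Subgroup.centralizer (Q : Set G) := by
    intro w hw
    rw [mem_map_conj_iff] at hw
    have h2 := (conj_mem_centralizer_iff hxN (x⁻¹ * w * x)).mpr (hPCQ hw)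
    have e : x * (x⁻¹ * w * x) * x⁻¹ = w := by group
    rwa [e] at h2
  have hup2 := upSub_subgroupOf Q (Subgroup.centralizer (Q : Set G)) hQP₂ hP₂C
  obtain ⟨g₂', hg₂pair, hg₂lift⟩ := exists_lift_eq Q f (Subgroup.centralizer (Q : Set G)) le_rfl
    f hf hFc _ (hgood _) hup2 hrel'
  have hmax' : IsMaximalBrauerPair p M f
      (P.subgroupOf (Subgroup.centralizer (Q : Set G))) ε' := by
    refine ⟨hε'pair, fun R g hRg hchain => ?_⟩
    obtain ⟨hb, hchain'⟩ := reflTransGen_lift hM Q hQ (Subgroup.centralizer (Q : Set G)) le_rfl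
      hCN hchain (hgood _)
    rw [hε'lift] at hchain'
    have hn := normalSubpairRel_base_lift hM Q hQ f hf (Subgroup.centralizer (Q : Set G))
      le_rfl (centralizer_le_pairStab hM Q f hf) f hFc ⟨R, g⟩ (hgood R) hRg
    have hn' : IsNormalSubpair p M Q f (upSub Q (Subgroup.centralizer (Q : Set G)) R)
        (liftB Q (Subgroup.centralizer (Q : Set G)) le_rfl R (hgood R) g) := hn
    have hpairG := (brauerPairOf_iff_of_normal hM hn' B hB).mpr hQf
    have hupR : upSub Q (Subgroup.centralizer (Q : Set G)) R = P :=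
      hmax.2 _ _ hpairG hchain'
    apply le_antisymm
    · intro r hr
      rw [Subgroup.mem_subgroupOf, ← hupR]
      exact (le_sup_right : R.map (Subgroup.centralizer (Q : Set G)).subtype
        ≤ upSub Q (Subgroup.centralizer (Q : Set G)) R) (Subgroup.mem_map.mpr ⟨r, hr, rfl⟩)
    · exact subpairLE_le' hchain
  obtain ⟨t, ht⟩ := exists_conj_lift_le hM Q hQ (Subgroup.centralizer (Q : Set G)) le_rfl hCN f
    ⟨_, ε'⟩ (hgood _) hmax' ⟨_, g₂'⟩ (hgood _) hg₂pair
  rw [hg₂lift, hε'lift] at ht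
  have ht2 : Relation.ReflTransGen (NormalSubpairRel p M)
      (conjPair ((t : G) * x) (⟨P, e⟩ : BrauerPairIdx G)) ⟨P, e⟩ := by
    rw [conjPair_mul]
    exact ht
  have hfst : (conjPair ((t : G) * x) (⟨P, e⟩ : BrauerPairIdx G)).1 = P :=
    Subgroup.eq_of_le_of_card_ge (subpairLE_le' ht2) (le_of_eq (card_map_conj P _).symm)
  have hfix2 := subpairLE_same hM _ ht2 hfst
  exact ⟨(t : G), t.2, mem_pairStab_of_conjPair_eq hM P e hPe.2 _ hfix2⟩

/-- **Abelian defect groups: the inertial group of a pair below the maximal pair.** -/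
theorem stab_abelian [Fact p.Prime] (hM : IsPModular p M) {B : Set (IrrCharacter G)}
    {P : Subgroup G} {e : Set (IrrCharacter (Subgroup.centralizer (P : Set G)))}
    (hmax : IsMaximalBrauerPair p M B P e) (hab : ∀ x ∈ P, ∀ y ∈ P, x * y = y * x)
    (Q : Subgroup G) (f : Set (IrrCharacter (Subgroup.centralizer (Q : Set G))))
    (hf : IsPBlock M f) (hle : SubpairLE p M Q f P e) (TQ : Subgroup G)
    (hTQ : ∀ y : G, y ∈ TQ ↔ y ∈ Subgroup.normalizer (Q : Set G) ∧
      StabilizesBlock (Subgroup.centralizer (Q : Set G)) f y) (TP : Subgroup G)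
    (hTP : ∀ y : G, y ∈ TP ↔ y ∈ Subgroup.normalizer (P : Set G) ∧
      StabilizesBlock (Subgroup.centralizer (P : Set G)) e y) :
    (∀ x ∈ TQ, ∃ y ∈ TP, ∃ c ∈ Subgroup.centralizer (Q : Set G), x = y * c) ∧
    ((Subgroup.centralizer (Q : Set G)).subgroupOf TQ).index
      = ((TP ⊓ Subgroup.centralizer (Q : Set G)).subgroupOf
        (TP ⊓ Subgroup.normalizer (Q : Set G))).index := by
  classical
  have hPe : IsBrauerPair p M P e := hmax.1.1
  have h1 : ∀ x ∈ TQ, ∃ y ∈ TP, ∃ c ∈ Subgroup.centralizer (Q : Set G), x = y * c := by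
    intro x hx
    have hx' := (hTQ x⁻¹).mp (TQ.inv_mem hx)
    obtain ⟨t, ht, htx⟩ := exists_cent_mul_mem_stab_of_abelian hM hmax hab hle x⁻¹ hx'.1 hx'.2
    refine ⟨x * t⁻¹, ?_, t, ht, by group⟩
    have h2 := Subgroup.inv_mem _ htx
    have e : x * t⁻¹ = (t * x⁻¹)⁻¹ := by group
    rw [hTP, e]
    exact h2
  refine ⟨h1, ?_⟩
  have hCTQ : Subgroup.centralizer (Q : Set G) ≤ TQ := fun c hc =>
    (hTQ c).mpr ⟨Subgroup.centralizer_le_normalizer _ hc, stabilizesBlock_of_mem_centralizer Q f hc⟩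
  have hA : TP ⊓ Subgroup.normalizer (Q : Set G) ≤ TQ := by
    intro y hy
    rw [hTQ]
    have hyP := (hTP y).mp hy.1
    have hfixP := conjPair_eq_self_of_mem_pairStab hM P e hPe.2 y hyP
    have h2 := subpairLE_conj (p := p) (M := M) y hle
    rw [hfixP] at h2
    obtain ⟨f', hf'⟩ := exists_snd_of_fst_eq (conjPair y (⟨Q, f⟩ : BrauerPairIdx G)) Q
      (map_conj_eq_self_of_mem_normalizer hy.2)
    rw [hf'] at h2
    have h3 := subpair_unique hM P e hPe Q f' f h2 hle
    rw [h3] at hf'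
    exact mem_pairStab_of_conjPair_eq hM Q f hf y hf'
  have hnormal : ((Subgroup.centralizer (Q : Set G)).subgroupOf TQ).Normal := by
    constructor
    intro n hn g
    rw [Subgroup.mem_subgroupOf] at hn ⊢
    have hg : (g : G) ∈ Subgroup.normalizer (Q : Set G) := ((hTQ g).mp g.2).1
    exact (conj_mem_centralizer_iff hg (n : G)).mpr hn
  have htop : (TP ⊓ Subgroup.normalizer (Q : Set G)).subgroupOf TQ
      ⊔ (Subgroup.centralizer (Q : Set G)).subgroupOf TQ = ⊤ := by
    rw [eq_top_iff]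
    intro x _
    obtain ⟨y, hy, c, hc, hxyc⟩ := h1 (x : G) x.2
    have hyN : y ∈ Subgroup.normalizer (Q : Set G) := by
      have e : y = (x : G) * c⁻¹ := by rw [hxyc]; group
      rw [e]
      exact Subgroup.mul_mem _ ((hTQ x).mp x.2).1
        (Subgroup.inv_mem _ (Subgroup.centralizer_le_normalizer _ hc))
    have hyA : y ∈ TP ⊓ Subgroup.normalizer (Q : Set G) := ⟨hy, hyN⟩
    have e : x = (⟨y, hA hyA⟩ : TQ) * ⟨c, hCTQ hc⟩ := Subtype.ext hxyc
    rw [e]
    exact Subgroup.mul_mem_sup (Subgroup.mem_subgroupOf.mpr hyA) (Subgroup.mem_subgroupOf.mpr hc)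
  have e1 : ((Subgroup.centralizer (Q : Set G)).subgroupOf TQ).index
      = (Subgroup.centralizer (Q : Set G)).relIndex (TP ⊓ Subgroup.normalizer (Q : Set G)) := by
    rw [← Subgroup.relIndex_top_right, ← htop, Subgroup.relIndex_sup_right,
      Subgroup.relIndex_subgroupOf hA]
  have e2 : TP ⊓ Subgroup.centralizer (Q : Set G)
      = Subgroup.centralizer (Q : Set G) ⊓ (TP ⊓ Subgroup.normalizer (Q : Set G)) := by
    ext w
    simp only [Subgroup.mem_inf]
    constructor
    · rintro ⟨h1, h2⟩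
      exact ⟨h2, h1, Subgroup.centralizer_le_normalizer _ h2⟩
    · rintro ⟨h2, h1, -⟩
      exact ⟨h1, h2⟩
  rw [e1]
  change _ = (TP ⊓ Subgroup.centralizer (Q : Set G)).relIndex
    (TP ⊓ Subgroup.normalizer (Q : Set G))
  rw [e2, Subgroup.inf_relIndex_right]

end abel

end Cfsg.Agent.Lib.Helper25
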