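import Mathlib
import Cfsg.Agent.Lib.Helper25.Abelian

set_option autoImplicit false

/-!
Normal centric Brauer pairs: over a normal `p`-subgroup `Q` with a `G`-stable block `f` of
`C(Q)`, the idempotent of a block with the pair `(Q, f)` is that of `f`; when `Z(Q)` is a defect
group of `f`, the block of `Q C(Q)` with the idempotent of `f` is nilpotent.
-/

namespace Cfsg.Agent.Lib.Helper25

open Cfsg Cfsg.Agent.Lib.Helper2 Cfsg.Agent.Lib.Helper8

variable {G : Type*} [Group G] [Fintype G] {p : ℕ} {M : Ideal AlgInt}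

/-- over a normal `p`-subgroup `Q` whose block `f` is `G`-stable, the idempotent of a block with
the pair `(Q, f)` is that of `f` -/
theorem blockCoeff_eq_of_stable [Fact p.Prime] (hM : IsPModular p M) (Q : Subgroup G)
    {B : Set (IrrCharacter G)} {f : Set (IrrCharacter (Subgroup.centralizer (Q : Set G)))}
    (hBf : IsBrauerPairOf p M B Q f)
    (hG : ∀ x : G, x ∈ Subgroup.normalizer (Q : Set G) ∧
      StabilizesBlock (Subgroup.centralizer (Q : Set G)) f x) (g : G) :
    blockCoeff B g = subgroupBlockCoeff (Subgroup.centralizer (Q : Set G)) f g := by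
  classical
  have hQn : Q.Normal := ⟨fun n hn g => (Subgroup.mem_normalizer_iff.mp (hG g).1 n).mp hn⟩
  have h1 := blockCoeff_eq_orbit_sum_of_normal hM Q hBf ⊤
    (fun x => ⟨fun _ => (hG x).2, fun _ => Subgroup.mem_top x⟩) g
  have hci := conjInv_of_stabilizes (Subgroup.centralizer (Q : Set G)) hM hBf.1.2 ⊤
    (fun x _ => (hG x).2)
  have h2 : ∀ x : G, subgroupBlockCoeff (Subgroup.centralizer (Q : Set G)) f (x⁻¹ * g * x)
      = subgroupBlockCoeff (Subgroup.centralizer (Q : Set G)) f g := by
    intro x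
    have := hci x⁻¹ (Subgroup.mem_top _) g
    rwa [inv_inv] at this
  rw [h1, Finset.sum_congr rfl (fun x _ => h2 x), Finset.sum_const, Finset.card_univ,
    nsmul_eq_mul, ← mul_assoc]
  have h3 : (Nat.card (⊤ : Subgroup G) : ℂ) = (Fintype.card G : ℂ) := by
    rw [Subgroup.card_top, Nat.card_eq_fintype_card]
  rw [h3, inv_mul_cancel₀, one_mul]
  exact_mod_cast Fintype.card_ne_zero

/-- the orbit of a stable block is the block -/
theorem orbitSet_eq_of_stable (hM : IsPModular p M) (H L : Subgroup G) [Fintype H]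
    (hL : L ≤ Subgroup.normalizer (H : Set G))
    {f : Set (IrrCharacter H)} (hf : IsPBlock M f) (h : ∀ x ∈ L, StabilizesBlock H f x) :
    orbitSet H L hL f = f := by
  ext ξ
  constructor
  · rintro ⟨n, hn⟩
    have h1 := conjSet_eq_of_subset H hM (Subgroup.inclusion hL n) hf
      ((stabilizesBlock_iff H (Subgroup.inclusion hL n) f).mp (h n n.2))
    rw [h1] at hn
    exact hn
  · exact fun hξ => subset_orbitSet H L hL f hξ

/-- the block of `Q C(Q)` with the idempotent of a block `f` of `C(Q)` with defect group `Z(Q)`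
is nilpotent (`Q` normal in `G`) -/
theorem nilpotent_of_centric [Fact p.Prime] (hM : IsPModular p M) (Q : Subgroup G)
    (hQ : IsPGroup p Q) (f : Set (IrrCharacter (Subgroup.centralizer (Q : Set G))))
    (hf : IsPBlock M f)
    (hdef : IsDefectGroup p M f ((Q ⊓ Subgroup.centralizer (Q : Set G)).subgroupOf
      (Subgroup.centralizer (Q : Set G))))
    (hQn : Q.Normal)
    (F' : Set (IrrCharacter ↥(Q ⊔ Subgroup.centralizer (Q : Set G)))) (hF' : IsPBlock M F')
    (hco : ∀ t : ↥(Q ⊔ Subgroup.centralizer (Q : Set G)),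
      blockCoeff F' t = subgroupBlockCoeff (Subgroup.centralizer (Q : Set G)) f (t : G)) :
    IsNilpotentBlock p M F' := by
  classical
  have hpr := isPrime_of_isPModular hM
  have hp : p.Prime := Fact.out
  refine ⟨hF', ?_⟩
  intro R' g' hpair x hxN _ hreg
  have : Fintype ↥(Subgroup.centralizer (Q : Set G)) := Fintype.ofFinite _
  have : Fintype ↥(Q ⊔ Subgroup.centralizer (Q : Set G)) := Fintype.ofFinite _
  -- `x` centralizes `Q`
  have hxC : (x : G) ∈ Subgroup.centralizer (Q : Set G) := by
    have hxL : (x : G) ∈ ((Q ⊔ Subgroup.centralizer (Q : Set G) : Subgroup G) : Set G) := x.2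
    rw [Subgroup.normal_mul] at hxL
    obtain ⟨u, hu, c, hc, huc⟩ := Set.mem_mul.mp hxL
    obtain ⟨k, hk⟩ := hQ ⟨u, hu⟩
    have hk' : u ^ (p ^ k) = 1 := by simpa using congrArg Subtype.val hk
    have hregG : IsPRegular p (x : G) := by
      unfold IsPRegular at hreg ⊢
      rwa [Subgroup.orderOf_coe]
    have hxNG : (x : G) ∈ Subgroup.normalizer (Q : Set G) := by
      rw [Subgroup.normalizer_eq_top_iff.mpr hQn]
      exact Subgroup.mem_top _
    apply mem_centralizer_of_regular_of_conj_eq Q (x : G) u hxNG hregG k hk'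
    intro v hv
    rw [← huc]
    have hcv := Subgroup.mem_centralizer_iff.mp hc v hv
    calc u * c * v * (u * c)⁻¹ = u * (c * v) * c⁻¹ * u⁻¹ := by group
      _ = u * (v * c) * c⁻¹ * u⁻¹ := by rw [hcv]
      _ = u * v * u⁻¹ := by group
  -- a defect class centralized by `R'`
  obtain ⟨c₀, hc₀R, hdc⟩ := exists_defectClass_of_pair hM hpair
  have hc₀C : (c₀ : G) ∈ Subgroup.centralizer (Q : Set G) := by
    by_contra hnot
    apply hdc.2.1
    rw [hco c₀, subgroupBlockCoeff_eq, extendByZero_of_not_mem _ _ hnot]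
    exact memLocalIdeal_zero M
  have hnJ : ¬ MemLocalIdeal M (blockCoeff f ⟨(c₀ : G), hc₀C⟩) := by
    have h1 := hdc.2.1
    rw [hco c₀, subgroupBlockCoeff_eq, extendByZero_of_mem _ _ hc₀C] at h1
    exact h1
  have hle1 : (Nat.card (Subgroup.centralizer
      ({(⟨(c₀ : G), hc₀C⟩ : ↥(Subgroup.centralizer (Q : Set G)))} : Set _))).factorization p
      ≤ blockDefect p f := by
    by_contra hlt
    push Not at hlt
    exact hnJ (memLocalIdeal_blockCoeff_of_defect_lt hM f (blockClosed_of_isPBlock M hf) _ hlt)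
  -- the `p`-group `S = R' Q`
  have hR'p : IsPGroup p (R'.map (Subgroup.subtype _)) := hpair.1.1.map _
  have hSp : IsPGroup p (R'.map (Subgroup.subtype _) ⊔ Q : Subgroup G) :=
    IsPGroup.to_sup_of_normal_right hR'p hQ
  have hScent : (R'.map (Subgroup.subtype _) ⊔ Q : Subgroup G)
      ≤ Subgroup.centralizer ({(c₀ : G)} : Set G) := by
    apply sup_le
    · rintro _ ⟨r, hr, rfl⟩
      rw [Subgroup.mem_centralizer_iff]
      intro y hy
      rw [Set.mem_singleton_iff] at hy
      subst hy
      have := Subgroup.mem_centralizer_iff.mp hc₀R r hr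
      exact (congrArg Subtype.val this).symm
    · intro q hq
      rw [Subgroup.mem_centralizer_iff]
      intro y hy
      rw [Set.mem_singleton_iff] at hy
      subst hy
      exact (Subgroup.mem_centralizer_iff.mp hc₀C q hq).symm
  -- the part of `S` in `C(Q)`
  have hTp : IsPGroup p ((R'.map (Subgroup.subtype _) ⊔ Q : Subgroup G).subgroupOf
      (Subgroup.centralizer (Q : Set G))) := hSp.comap_subtype
  have hTle : (R'.map (Subgroup.subtype _) ⊔ Q : Subgroup G).subgroupOf
      (Subgroup.centralizer (Q : Set G))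
      ≤ Subgroup.centralizer
        ({(⟨(c₀ : G), hc₀C⟩ : ↥(Subgroup.centralizer (Q : Set G)))} : Set _) := by
    intro t ht
    rw [Subgroup.mem_centralizer_iff]
    intro y hy
    rw [Set.mem_singleton_iff] at hy
    subst hy
    apply Subtype.ext
    have h1 := hScent (Subgroup.mem_subgroupOf.mp ht)
    exact Subgroup.mem_centralizer_iff.mp h1 (c₀ : G) (Set.mem_singleton _)
  obtain ⟨a, ha⟩ := hTp.exists_card_eq
  have hcard0 : Nat.card (Subgroup.centralizer
      ({(⟨(c₀ : G), hc₀C⟩ : ↥(Subgroup.centralizer (Q : Set G)))} : Set _)) ≠ 0 :=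
    Nat.card_pos.ne'
  have hale : a ≤ blockDefect p f := by
    have h1 := Subgroup.card_dvd_of_le hTle
    rw [ha] at h1
    exact ((hp.pow_dvd_iff_le_factorization hcard0).mp h1).trans hle1
  have hcardZ : Nat.card ↥(Q ⊓ Subgroup.centralizer (Q : Set G)) = p ^ blockDefect p f := by
    rw [← card_of_isDefectGroup hM f hf _ hdef]
    exact (card_subgroupOf_eq _ _ inf_le_right).symm
  have hCn : (Subgroup.centralizer (Q : Set G)).Normal := Subgroup.normal_centralizer
  -- counting
  have hcount1 : Nat.card ↥(Subgroup.centralizer (Q : Set G)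
        ⊓ (R'.map (Subgroup.subtype _) ⊔ Q : Subgroup G))
      * (Subgroup.centralizer (Q : Set G)).relIndex (R'.map (Subgroup.subtype _) ⊔ Q)
      = Nat.card ↥(R'.map (Subgroup.subtype _) ⊔ Q : Subgroup G) := by
    have := Subgroup.relIndex_inf_mul_relIndex (⊥ : Subgroup G)
      (Subgroup.centralizer (Q : Set G)) (R'.map (Subgroup.subtype _) ⊔ Q)
    rwa [bot_inf_eq, Subgroup.relIndex_bot_left, Subgroup.relIndex_bot_left] at this
  have hcount2 : Nat.card ↥(Subgroup.centralizer (Q : Set G) ⊓ Q)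
      * (Subgroup.centralizer (Q : Set G)).relIndex Q = Nat.card ↥Q := by
    have := Subgroup.relIndex_inf_mul_relIndex (⊥ : Subgroup G)
      (Subgroup.centralizer (Q : Set G)) Q
    rwa [bot_inf_eq, Subgroup.relIndex_bot_left, Subgroup.relIndex_bot_left] at this
  have hcardT : Nat.card ↥(Subgroup.centralizer (Q : Set G)
        ⊓ (R'.map (Subgroup.subtype _) ⊔ Q : Subgroup G)) = p ^ a := by
    rw [← ha, inf_comm, ← card_subgroupOf_eq _ _ inf_le_right, Subgroup.inf_subgroupOf_right]
  have hSL : (R'.map (Subgroup.subtype _) ⊔ Q : Subgroup G)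
      ≤ Q ⊔ Subgroup.centralizer (Q : Set G) := by
    apply sup_le
    · rintro _ ⟨r, -, rfl⟩
      exact r.2
    · exact le_sup_left
  have hrel : (Subgroup.centralizer (Q : Set G)).relIndex (R'.map (Subgroup.subtype _) ⊔ Q)
      ≤ (Subgroup.centralizer (Q : Set G)).relIndex Q := by
    rw [← Subgroup.relIndex_sup_right (H := Q) (K := Subgroup.centralizer (Q : Set G))]
    apply Subgroup.relIndex_le_of_le_right hSL
    rw [Subgroup.relIndex_sup_right]
    intro h0
    rw [h0, mul_zero] at hcount2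
    exact Nat.card_pos.ne' hcount2.symm
  have hcardle : Nat.card ↥(R'.map (Subgroup.subtype _) ⊔ Q : Subgroup G) ≤ Nat.card ↥Q := by
    rw [← hcount1, ← hcount2, hcardT, inf_comm, hcardZ]
    exact Nat.mul_le_mul (Nat.pow_le_pow_right hp.pos hale) hrel
  have hSQ : (R'.map (Subgroup.subtype _) ⊔ Q : Subgroup G) = Q :=
    (Subgroup.eq_of_le_of_card_ge le_sup_right hcardle).symm
  -- conclusion
  rw [Subgroup.mem_centralizer_iff]
  intro r hr
  apply Subtype.ext
  have hrQ : (r : G) ∈ Q :=
    hSQ.le ((le_sup_left : R'.map (Subgroup.subtype _) ≤ _) (Subgroup.mem_map.mpr ⟨r, hr, rfl⟩))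
  exact Subgroup.mem_centralizer_iff.mp hxC (r : G) hrQ

/-- **normal centric Brauer pairs** -/
theorem centric_normal [Fact p.Prime] (hM : IsPModular p M) {B : Set (IrrCharacter G)}
    {P : Subgroup G} {e : Set (IrrCharacter (Subgroup.centralizer (P : Set G)))}
    (hmax : IsMaximalBrauerPair p M B P e) (F : FusionSystem P)
    (hF : IsBlockFusionSystemOn p M B P e F) (Q : Subgroup G)
    (f : Set (IrrCharacter (Subgroup.centralizer (Q : Set G)))) (hQP : Q ≤ P)
    (hf : IsPBlock M f) (hle : SubpairLE p M Q f P e) (hcen : F.IsCentric Q)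
    (hG : ∀ x : G, x ∈ Subgroup.normalizer (Q : Set G) ∧
      StabilizesBlock (Subgroup.centralizer (Q : Set G)) f x) :
    (∀ g : G, MemLocalIdeal M
      (blockCoeff B g - subgroupBlockCoeff (Subgroup.centralizer (Q : Set G)) f g)) ∧
    ∃ F' : Set (IrrCharacter ↥(Q ⊔ Subgroup.centralizer (Q : Set G))), IsPBlock M F' ∧
      (∀ t : ↥(Q ⊔ Subgroup.centralizer (Q : Set G)),
        blockCoeff F' t = subgroupBlockCoeff (Subgroup.centralizer (Q : Set G)) f (t : G)) ∧
      IsNilpotentBlock p M F' := by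
  classical
  have hpr := isPrime_of_isPModular hM
  have hB : IsPBlock M B := hmax.1.2.1
  have hBf : IsBrauerPairOf p M B Q f := (brauerPairOf_iff_of_le hM hle B hB).mp hmax.1
  have hQn : Q.Normal := ⟨fun n hn g => (Subgroup.mem_normalizer_iff.mp (hG g).1 n).mp hn⟩
  have hQp : IsPGroup p Q := hBf.1.1
  refine ⟨fun g => ?_, ?_⟩
  · rw [blockCoeff_eq_of_stable hM Q hBf hG g, sub_self]
    exact memLocalIdeal_zero M
  · have : Fintype ↥(Subgroup.centralizer (Q : Set G)) := Fintype.ofFinite _
    have : Fintype ↥(Q ⊔ Subgroup.centralizer (Q : Set G)) := Fintype.ofFinite _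
    have hLN : Q ⊔ Subgroup.centralizer (Q : Set G) ≤ Subgroup.normalizer (Q : Set G) :=
      fun x _ => (hG x).1
    obtain ⟨b, hb, hbc, -⟩ := exists_block_over hM Q (Q ⊔ Subgroup.centralizer (Q : Set G))
      hQp le_sup_left le_sup_right hLN f hf
    rw [orbitSet_eq_of_stable hM _ _ _ hf (fun x _ => (hG x).2)] at hbc
    have hco : ∀ t : ↥(Q ⊔ Subgroup.centralizer (Q : Set G)),
        blockCoeff b t = subgroupBlockCoeff (Subgroup.centralizer (Q : Set G)) f (t : G) := by
      intro t
      rw [← hbc, extendByZero_of_mem _ _ t.2]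
    exact ⟨b, hb, hco, nilpotent_of_centric hM Q hQp f hf
      ((centric_iff hM hmax F hF Q f hQP hf hle).mp hcen) hQn b hb hco⟩

end Cfsg.Agent.Lib.Helper25
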