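import Mathlib
import Cfsg.Agent.Lib.Helper25.Centric

set_option autoImplicit false

/-!
Blocks of a group with the idempotent of a stable block `c` of a normal subgroup `N`: a defect
group `D` of such a block has `N D` of index prime to `p`, and `D ∩ N` is a defect group of `c`.
-/

namespace Cfsg.Agent.Lib.Helper25

open Cfsg Cfsg.Agent.Lib.Helper2 Cfsg.Agent.Lib.Helper8

section sylnormal

variable {p : ℕ}

/-- a Sylow subgroup meets a normal subgroup in a subgroup of index prime to `p` -/
theorem sylow_relIndex_normal {Z : Type*} [Group Z] [Finite Z] [Fact p.Prime] (P' : Sylow p Z)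
    (K : Subgroup Z) [K.Normal] : ¬ p ∣ (P' : Subgroup Z).relIndex K := by
  have h1 := Subgroup.relIndex_inf_mul_relIndex (⊥ : Subgroup Z) (P' : Subgroup Z) K
  have h2 := Subgroup.relIndex_inf_mul_relIndex (⊥ : Subgroup Z) K (P' : Subgroup Z)
  have h4 := Subgroup.relIndex_inf_mul_relIndex (⊥ : Subgroup Z) K ((P' : Subgroup Z) ⊔ K)
  have h5 := Subgroup.relIndex_inf_mul_relIndex (⊥ : Subgroup Z) (P' : Subgroup Z)
    ((P' : Subgroup Z) ⊔ K)
  rw [bot_inf_eq, Subgroup.relIndex_bot_left, Subgroup.relIndex_bot_left] at h1 h2 h4 h5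
  rw [inf_of_le_left (le_sup_right : K ≤ (P' : Subgroup Z) ⊔ K), Subgroup.relIndex_sup_right]
    at h4
  rw [inf_of_le_left (le_sup_left : (P' : Subgroup Z) ≤ (P' : Subgroup Z) ⊔ K)] at h5
  have h6 : (P' : Subgroup Z).relIndex ((P' : Subgroup Z) ⊔ K) = (P' : Subgroup Z).relIndex K := by
    have hpos : 0 < Nat.card ↥(K ⊓ (P' : Subgroup Z)) * K.relIndex (P' : Subgroup Z) := by
      rw [h2]
      exact Nat.card_pos
    apply Nat.eq_of_mul_eq_mul_left hpos
    have h1' : Nat.card ↥(K ⊓ (P' : Subgroup Z)) * (P' : Subgroup Z).relIndex K = Nat.card K := by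
      rw [inf_comm]
      exact h1
    calc Nat.card ↥(K ⊓ (P' : Subgroup Z)) * K.relIndex (P' : Subgroup Z)
          * (P' : Subgroup Z).relIndex ((P' : Subgroup Z) ⊔ K)
        = Nat.card (P' : Subgroup Z) * (P' : Subgroup Z).relIndex ((P' : Subgroup Z) ⊔ K) := by
          rw [h2]
      _ = Nat.card K * K.relIndex (P' : Subgroup Z) := by rw [h5, h4]
      _ = Nat.card ↥(K ⊓ (P' : Subgroup Z)) * K.relIndex (P' : Subgroup Z)
          * (P' : Subgroup Z).relIndex K := by
          rw [← h1']
          ring
  rw [← h6]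
  intro hdvd
  exact P'.not_dvd_index (hdvd.trans (Subgroup.relIndex_dvd_index_of_le le_sup_left))

end sylnormal

section knorr

variable {G : Type*} [Group G] [Fintype G] {p : ℕ} {M : Ideal AlgInt}

/-- for a normal subgroup `N` and a `G`-stable block `c` of `N`: if the central character of
`χ` (lying over `θ ∈ c`) does not vanish modulo `M` at `c₀ ∈ N`, then the stabilizer of the
`N`-class of `c₀` has index prime to `p` and the central character of `θ` does not vanish at
`c₀` -/
theorem classStab_index_not_dvd [Fact p.Prime] (hM : IsPModular p M) (N : Subgroup G)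
    [hN : N.Normal] [Fintype N] (c : Set (IrrCharacter N)) (hc : IsPBlock M c)
    (hst : ∀ x : G, StabilizesBlock N c x) (χ : IrrCharacter G) (θ : IrrCharacter N)
    (hθ : θ ∈ c) (he : classInner (fun n : N => (χ : G → ℂ) n) (θ : N → ℂ) ≠ 0) (c₀ : N)
    (hne : ¬ MemLocalIdeal M (centralChar (χ : G → ℂ) (c₀ : G))) :
    ¬ p ∣ (classStab N (c₀ : G)).index ∧ ¬ MemLocalIdeal M (centralChar (θ : N → ℂ) c₀) := by
  classical
  have hpr := isPrime_of_isPModular hM
  have : Fintype (G ⧸ classStab N (c₀ : G)) := Fintype.ofFinite _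
  have key := centralChar_eq_sum_classStab N χ θ he c₀
  have hvR : MemLocalRing M (centralChar (θ : N → ℂ) c₀) :=
    memLocalRing_of_isIntegral M (centralChar_isIntegral θ c₀)
  have hterm : ∀ q : G ⧸ classStab N (c₀ : G), MemLocalIdeal M
      (centralChar (θ : N → ℂ) ((MulAut.conjNormal q.out : MulAut N) c₀)
        - centralChar (θ : N → ℂ) c₀) := by
    intro q
    have hmem : conjIrr N θ q.out ∈ c := by
      obtain ⟨χ', hχ', hconj⟩ := (hst q.out⁻¹).2 θ hθ
      have : χ' = conjIrr N θ q.out := by
        apply Subtype.ext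
        funext n
        rw [conjIrr_apply]
        exact hconj ⟨q.out * n * q.out⁻¹, hN.conj_mem n n.2 q.out⟩ n (by simp [mul_assoc])
      rw [← this]
      exact hχ'
    have hs : SameBlock M (conjIrr N θ q.out : N → ℂ) (θ : N → ℂ) :=
      isPBlock_sameBlock' hM hc hmem hθ
    have e : centralChar (conjIrr N θ q.out : N → ℂ) c₀
        = centralChar (θ : N → ℂ) ((MulAut.conjNormal q.out : MulAut N) c₀) :=
      centralChar_comp_mulEquiv _ (θ : N → ℂ) c₀
    rw [← e]
    exact hs c₀
  have hsum : MemLocalIdeal M (centralChar (χ : G → ℂ) (c₀ : G)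
      - (Fintype.card (G ⧸ classStab N (c₀ : G)) : ℂ) * centralChar (θ : N → ℂ) c₀) := by
    rw [key]
    have e : ∑ q : G ⧸ classStab N (c₀ : G),
          centralChar (θ : N → ℂ) ((MulAut.conjNormal q.out : MulAut N) c₀)
          - (Fintype.card (G ⧸ classStab N (c₀ : G)) : ℂ) * centralChar (θ : N → ℂ) c₀
        = ∑ q : G ⧸ classStab N (c₀ : G),
          (centralChar (θ : N → ℂ) ((MulAut.conjNormal q.out : MulAut N) c₀)
            - centralChar (θ : N → ℂ) c₀) := by
      rw [Finset.sum_sub_distrib, Finset.sum_const, Finset.card_univ, nsmul_eq_mul]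
    rw [e]
    exact memLocalIdeal_sum M _ _ (fun q _ => hterm q)
  have hnd : ¬ p ∣ Fintype.card (G ⧸ classStab N (c₀ : G)) := by
    intro hd
    apply hne
    have h1 : MemLocalIdeal M ((Fintype.card (G ⧸ classStab N (c₀ : G)) : ℂ)
        * centralChar (θ : N → ℂ) c₀) :=
      MemLocalIdeal.mul_right M ((memLocalIdeal_natCast_iff hM _).mpr hd) hvR
    have := MemLocalIdeal.add M hsum h1
    rwa [sub_add_cancel] at this
  have hvJ : ¬ MemLocalIdeal M (centralChar (θ : N → ℂ) c₀) := by
    intro hv'
    apply hne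
    have h1 : MemLocalIdeal M ((Fintype.card (G ⧸ classStab N (c₀ : G)) : ℂ)
        * centralChar (θ : N → ℂ) c₀) :=
      MemLocalIdeal.mul_left M (memLocalRing_natCast M _) hv'
    have := MemLocalIdeal.add M hsum h1
    rwa [sub_add_cancel] at this
  refine ⟨?_, hvJ⟩
  have hcard : (classStab N (c₀ : G)).index = Fintype.card (G ⧸ classStab N (c₀ : G)) := by
    rw [Subgroup.index_eq_card, Nat.card_eq_fintype_card]
  rw [hcard]
  exact hnd

/-- **Blocks with the idempotent of a stable block of a normal subgroup**: a defect group `D`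
of the block `B` of `G` with the idempotent of the `G`-stable block `c` of `N` has `N D` of index
prime to `p` in `G`, and `D ∩ N` is a defect group of `c` -/
theorem defect_of_same_idempotent [Fact p.Prime] (hM : IsPModular p M) (N : Subgroup G)
    [hN : N.Normal] (c : Set (IrrCharacter N)) (hc : IsPBlock M c)
    (hst : ∀ x : G, StabilizesBlock N c x) (B : Set (IrrCharacter G))
    (hB : IsPBlock M B) (hBc : ∀ g : G, blockCoeff B g = subgroupBlockCoeff N c g)
    (D : Subgroup G) (hD : IsDefectGroup p M B D) :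
    ¬ p ∣ (N ⊔ D).index ∧ IsDefectGroup p M c ((D ⊓ N).subgroupOf N) := by
  classical
  have : Fintype N := Fintype.ofFinite _
  have hpr := isPrime_of_isPModular hM
  have hp : p.Prime := Fact.out
  obtain ⟨c₀, ⟨hR, hnJ, hcc⟩, P', rfl⟩ := hD
  have hc₀N : c₀ ∈ N := by
    by_contra hnot
    apply hnJ
    rw [hBc c₀, subgroupBlockCoeff_eq, extendByZero_of_not_mem N _ hnot]
    exact memLocalIdeal_zero M
  obtain ⟨χ, hχ⟩ := isPBlock_nonempty hM hB
  obtain ⟨θ, hθ, he⟩ := exists_constituent_mem_of_coeff hM N c hc hst B hBc χ hχ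
  obtain ⟨hnd, hvJ⟩ := classStab_index_not_dvd hM N c hc hst χ θ hθ he ⟨c₀, hc₀N⟩ (hcc χ hχ)
  have hle : classStab N c₀ ≤ N ⊔ Subgroup.centralizer ({c₀} : Set G) := by
    rintro g ⟨n, hn, hgn⟩
    have hz : n⁻¹ * g ∈ Subgroup.centralizer ({c₀} : Set G) := by
      rw [Subgroup.mem_centralizer_iff]
      intro y hy
      rw [Set.mem_singleton_iff] at hy
      subst hy
      have e : y * (n⁻¹ * g) = n⁻¹ * (n * y * n⁻¹) * g := by group
      rw [e, ← hgn]
      group
    have h6 : g = n * (n⁻¹ * g) := by group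
    rw [h6]
    exact Subgroup.mul_mem _ ((le_sup_left : N ≤ _) hn) ((le_sup_right : _ ≤ N ⊔ _) hz)
  have h1 : ¬ p ∣ (N ⊔ Subgroup.centralizer ({c₀} : Set G)).index :=
    fun h => hnd (h.trans (Subgroup.index_dvd_of_le hle))
  have h2 : ¬ p ∣ (N ⊔ (P' : Subgroup (Subgroup.centralizer ({c₀} : Set G))).map
      (Subgroup.centralizer ({c₀} : Set G)).subtype).relIndex
      (N ⊔ Subgroup.centralizer ({c₀} : Set G)) := by
    have e1 : ((P' : Subgroup (Subgroup.centralizer ({c₀} : Set G))).map
        (Subgroup.centralizer ({c₀} : Set G)).subtype).map (QuotientGroup.mk' N)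
        = (P' : Subgroup (Subgroup.centralizer ({c₀} : Set G))).map
          ((QuotientGroup.mk' N).comp (Subgroup.centralizer ({c₀} : Set G)).subtype) :=
      Subgroup.map_map _ _ _
    have e2 : (Subgroup.centralizer ({c₀} : Set G)).map (QuotientGroup.mk' N)
        = (⊤ : Subgroup (Subgroup.centralizer ({c₀} : Set G))).map
          ((QuotientGroup.mk' N).comp (Subgroup.centralizer ({c₀} : Set G)).subtype) := by
      rw [← Subgroup.map_map, ← MonoidHom.range_eq_map, Subgroup.range_subtype]
    have e3 := Subgroup.relIndex_map_map (QuotientGroup.mk' N)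
      ((P' : Subgroup (Subgroup.centralizer ({c₀} : Set G))).map
        (Subgroup.centralizer ({c₀} : Set G)).subtype) (Subgroup.centralizer ({c₀} : Set G))
    rw [QuotientGroup.ker_mk'] at e3
    have e4 := Subgroup.relIndex_map_map
      ((QuotientGroup.mk' N).comp (Subgroup.centralizer ({c₀} : Set G)).subtype)
      (P' : Subgroup (Subgroup.centralizer ({c₀} : Set G))) ⊤
    rw [sup_comm N, sup_comm N, ← e3, e1, e2, e4, top_sup_eq, Subgroup.relIndex_top_right]
    intro hdvd
    exact P'.not_dvd_index (hdvd.trans (Subgroup.index_dvd_of_le le_sup_left))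
  refine ⟨?_, ?_⟩
  · rw [← Subgroup.relIndex_mul_index (sup_le_sup_left (Subgroup.map_subtype_le _) N)]
    intro hdvd
    rcases (Nat.Prime.dvd_mul hp).mp hdvd with h | h
    · exact h2 h
    · exact h1 h
  · have hdc' : IsDefectClass M c ⟨c₀, hc₀N⟩ := by
      have e : blockCoeff c ⟨c₀, hc₀N⟩ = blockCoeff B c₀ := by
        rw [hBc c₀, subgroupBlockCoeff_eq, extendByZero_of_mem _ _ hc₀N]
      refine ⟨?_, ?_, ?_⟩
      · rw [e]
        exact hR
      · rw [e]
        exact hnJ
      · intro θ' hθ' hJ
        have hs : SameBlock M (θ' : N → ℂ) (θ : N → ℂ) := isPBlock_sameBlock' hM hc hθ' hθ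
        apply hvJ
        have := MemLocalIdeal.sub M hJ (hs ⟨c₀, hc₀N⟩)
        rwa [sub_sub_cancel] at this
    have hDle : (((P' : Subgroup (Subgroup.centralizer ({c₀} : Set G))).map
        (Subgroup.centralizer ({c₀} : Set G)).subtype) ⊓ N).subgroupOf N
        ≤ Subgroup.centralizer ({(⟨c₀, hc₀N⟩ : N)} : Set N) := by
      intro n hn
      rw [Subgroup.mem_subgroupOf] at hn
      obtain ⟨z, hz, hzn⟩ := Subgroup.mem_map.mp hn.1
      rw [Subgroup.mem_centralizer_iff]
      intro y hy
      rw [Set.mem_singleton_iff] at hy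
      subst hy
      apply Subtype.ext
      have := Subgroup.mem_centralizer_iff.mp z.2 c₀ (Set.mem_singleton _)
      simp only [Subgroup.coe_mul]
      rw [← hzn]
      exact this
    have hYp : IsPGroup p ↥(((((P' : Subgroup (Subgroup.centralizer ({c₀} : Set G))).map
        (Subgroup.centralizer ({c₀} : Set G)).subtype) ⊓ N).subgroupOf N).subgroupOf
        (Subgroup.centralizer ({(⟨c₀, hc₀N⟩ : N)} : Set N))) :=
      (((P'.isPGroup'.map _).to_le inf_le_left).comap_subtype).comap_subtype
    have hYidx : ¬ p ∣ (((((P' : Subgroup (Subgroup.centralizer ({c₀} : Set G))).map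
        (Subgroup.centralizer ({c₀} : Set G)).subtype) ⊓ N).subgroupOf N).subgroupOf
        (Subgroup.centralizer ({(⟨c₀, hc₀N⟩ : N)} : Set N))).index := by
      have e2 : ((((P' : Subgroup (Subgroup.centralizer ({c₀} : Set G))).map
          (Subgroup.centralizer ({c₀} : Set G)).subtype) ⊓ N).subgroupOf N).relIndex
          (Subgroup.centralizer ({(⟨c₀, hc₀N⟩ : N)} : Set N))
          = (((P' : Subgroup (Subgroup.centralizer ({c₀} : Set G))).map
          (Subgroup.centralizer ({c₀} : Set G)).subtype) ⊓ N).relIndex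
            ((Subgroup.centralizer ({(⟨c₀, hc₀N⟩ : N)} : Set N)).map N.subtype) := by
        rw [← Subgroup.relIndex_map_map_of_injective _ _ N.subtype_injective,
          Subgroup.subgroupOf_map_subtype, inf_assoc, inf_idem]
      have e3 : (Subgroup.centralizer ({(⟨c₀, hc₀N⟩ : N)} : Set N)).map N.subtype
          = (N.subgroupOf (Subgroup.centralizer ({c₀} : Set G))).map
            (Subgroup.centralizer ({c₀} : Set G)).subtype := by
        ext g
        rw [Subgroup.subgroupOf_map_subtype]
        constructor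
        · rintro ⟨n, hn, rfl⟩
          have hn' : n ∈ Subgroup.centralizer ({(⟨c₀, hc₀N⟩ : N)} : Set N) := hn
          refine ⟨n.2, ?_⟩
          change (n : G) ∈ Subgroup.centralizer ({c₀} : Set G)
          rw [Subgroup.mem_centralizer_iff]
          intro y hy
          rw [Set.mem_singleton_iff] at hy
          subst hy
          have := Subgroup.mem_centralizer_iff.mp hn' ⟨y, hc₀N⟩ (Set.mem_singleton _)
          exact congrArg Subtype.val this
        · rintro ⟨hgN, hgZ⟩
          refine ⟨⟨g, hgN⟩, ?_, rfl⟩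
          change (⟨g, hgN⟩ : N) ∈ Subgroup.centralizer ({(⟨c₀, hc₀N⟩ : N)} : Set N)
          rw [Subgroup.mem_centralizer_iff]
          intro y hy
          rw [Set.mem_singleton_iff] at hy
          subst hy
          apply Subtype.ext
          exact Subgroup.mem_centralizer_iff.mp hgZ c₀ (Set.mem_singleton _)
      have e4 : (((P' : Subgroup (Subgroup.centralizer ({c₀} : Set G))).map
          (Subgroup.centralizer ({c₀} : Set G)).subtype) ⊓ N).relIndex
            ((N.subgroupOf (Subgroup.centralizer ({c₀} : Set G))).map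
            (Subgroup.centralizer ({c₀} : Set G)).subtype)
          = ((P' : Subgroup (Subgroup.centralizer ({c₀} : Set G))).map
          (Subgroup.centralizer ({c₀} : Set G)).subtype).relIndex
            ((N.subgroupOf (Subgroup.centralizer ({c₀} : Set G))).map
            (Subgroup.centralizer ({c₀} : Set G)).subtype) := by
        rw [← Subgroup.inf_relIndex_right ((P' : Subgroup (Subgroup.centralizer ({c₀} : Set G))).map
          (Subgroup.centralizer ({c₀} : Set G)).subtype)]
        congr 1
        rw [Subgroup.subgroupOf_map_subtype, ← inf_assoc,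
          inf_right_comm, inf_of_le_left (Subgroup.map_subtype_le _)]
      have e5 : ((P' : Subgroup (Subgroup.centralizer ({c₀} : Set G))).map
          (Subgroup.centralizer ({c₀} : Set G)).subtype).relIndex
            ((N.subgroupOf (Subgroup.centralizer ({c₀} : Set G))).map
            (Subgroup.centralizer ({c₀} : Set G)).subtype)
          = (P' : Subgroup (Subgroup.centralizer ({c₀} : Set G))).relIndex
            (N.subgroupOf (Subgroup.centralizer ({c₀} : Set G))) :=
        Subgroup.relIndex_map_map_of_injective _ _ (Subgroup.subtype_injective _)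
      change ¬ p ∣ ((((P' : Subgroup (Subgroup.centralizer ({c₀} : Set G))).map
          (Subgroup.centralizer ({c₀} : Set G)).subtype) ⊓ N).subgroupOf N).relIndex
          (Subgroup.centralizer ({(⟨c₀, hc₀N⟩ : N)} : Set N))
      rw [e2, e3, e4, e5]
      exact sylow_relIndex_normal P' (N.subgroupOf (Subgroup.centralizer ({c₀} : Set G)))
    refine ⟨⟨c₀, hc₀N⟩, hdc', hYp.toSylow hYidx, ?_⟩
    rw [IsPGroup.toSylow_coe, Subgroup.subgroupOf_map_subtype, inf_of_le_left hDle]

end knorr

end Cfsg.Agent.Lib.Helper25
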