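import Mathlib
import Cfsg.Agent.Lib.Helper25.Knorr

set_option autoImplicit false

/-!
The fusion system of a block on a maximal Brauer pair: construction, and the automorphism
groups it induces.
-/

namespace Cfsg.Agent.Lib.Helper25

open Cfsg Cfsg.Agent.Lib.Helper2 Cfsg.Agent.Lib.Helper8

section bfus

variable {G : Type*} [Group G] [Fintype G] {p : ℕ} {M : Ideal AlgInt}

omit [Fintype G] in
/-- a pair below a Brauer pair is a Brauer pair -/
theorem isBrauerPair_of_le {P : Subgroup G}
    {e : Set (IrrCharacter (Subgroup.centralizer (P : Set G)))} (hPe : IsBrauerPair p M P e)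
    {a : BrauerPairIdx G} (h : Relation.ReflTransGen (NormalSubpairRel p M) a ⟨P, e⟩) :
    IsBrauerPair p M a.1 a.2 := by
  rcases h.cases_head with h1 | ⟨c, h1, -⟩
  · rw [h1]
    exact hPe
  · exact (h1 : IsNormalSubpair p M _ _ _ _).1

/-- two pairs below `(P, e)` on the same subgroup are equal -/
theorem pair_eq_of_le_of_fst_eq [Fact p.Prime] (hM : IsPModular p M) {P : Subgroup G}
    {e : Set (IrrCharacter (Subgroup.centralizer (P : Set G)))} (hPe : IsBrauerPair p M P e)
    {a b : BrauerPairIdx G} (ha : Relation.ReflTransGen (NormalSubpairRel p M) a ⟨P, e⟩)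
    (hb : Relation.ReflTransGen (NormalSubpairRel p M) b ⟨P, e⟩) (h : a.1 = b.1) : a = b := by
  obtain ⟨Q, f⟩ := a
  obtain ⟨Q', f'⟩ := b
  have h' : Q = Q' := h
  subst h'
  have : f = f' := subpair_unique hM P e hPe Q f f' ha hb
  rw [this]

/-- a pair below `(P, e)` lies below every pair below `(P, e)` on a larger subgroup -/
theorem subpairLE_of_le_of_le [Fact p.Prime] (hM : IsPModular p M) {P : Subgroup G}
    {e : Set (IrrCharacter (Subgroup.centralizer (P : Set G)))} (hPe : IsBrauerPair p M P e)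
    {a b : BrauerPairIdx G} (ha : Relation.ReflTransGen (NormalSubpairRel p M) a ⟨P, e⟩)
    (hb : Relation.ReflTransGen (NormalSubpairRel p M) b ⟨P, e⟩) (h : a.1 ≤ b.1) :
    Relation.ReflTransGen (NormalSubpairRel p M) a b := by
  obtain ⟨Q, f⟩ := b
  have hQf : IsBrauerPair p M Q f := isBrauerPair_of_le hPe hb
  obtain ⟨r', -, hr'⟩ := exists_subpair hM Q f hQf a.1 h
  have h1 : Relation.ReflTransGen (NormalSubpairRel p M) (⟨a.1, r'⟩ : BrauerPairIdx G) ⟨P, e⟩ :=
    Relation.ReflTransGen.trans hr' hb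
  have h2 : (⟨a.1, r'⟩ : BrauerPairIdx G) = a := pair_eq_of_le_of_fst_eq hM hPe h1 ha rfl
  rw [← h2]
  exact hr'

omit [Fintype G] in
/-- an element conjugating a finite subgroup into itself normalizes it -/
theorem mem_normalizer_of_conj_mem [Finite G] {Q : Subgroup G} {g : G}
    (h : ∀ u ∈ Q, g * u * g⁻¹ ∈ Q) : g ∈ Subgroup.normalizer (Q : Set G) := by
  have hmap : Q.map (MulAut.conj g).toMonoidHom = Q :=
    Subgroup.eq_of_le_of_card_ge (by
      rintro _ ⟨u, hu, rfl⟩
      exact h u hu) (by rw [card_map_conj])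
  rw [Subgroup.mem_normalizer_iff]
  intro u
  constructor
  · exact h u
  · intro hu
    rw [← hmap] at hu
    obtain ⟨v, hv, hvu⟩ := hu
    have hvu' : g * v * g⁻¹ = g * u * g⁻¹ := hvu
    have : v = u := by
      have := congrArg (fun z => g⁻¹ * z * g) hvu'
      simpa [mul_assoc] using this
    rw [← this]
    exact hv

/-- the fusion system of a Brauer pair `(P, e)` -/
def blockFusion [Fact p.Prime] (hM : IsPModular p M) (P : Subgroup G)
    (e : Set (IrrCharacter (Subgroup.centralizer (P : Set G)))) (hPe : IsBrauerPair p M P e) :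
    FusionSystem P where
  Hom Q := {φ | Q ≤ P ∧ ∃ g : G, (∀ u : Q, φ u = g * (u : G) * g⁻¹) ∧
    Q.map (MulAut.conj g).toMonoidHom ≤ P ∧
    ∃ f : Set (IrrCharacter (Subgroup.centralizer (Q : Set G))),
      SubpairLE p M Q f P e ∧
        SubpairLE p M (Q.map (MulAut.conj g).toMonoidHom) (conjBlock Q g f) P e}
  le_of_mem := by
    rintro Q φ ⟨hQP, g, hφ, hgP, -⟩
    refine ⟨hQP, fun x => ?_⟩
    rw [hφ x]
    exact hgP (Subgroup.mem_map.mpr ⟨(x : G), x.2, rfl⟩)
  injective_of_mem := by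
    rintro Q φ ⟨-, g, hφ, -⟩ u v huv
    rw [hφ u, hφ v] at huv
    apply Subtype.ext
    simpa using huv
  conj_mem := by
    intro Q g hQP hg
    obtain ⟨f, hf, hle⟩ := exists_subpair hM P e hPe Q hQP
    have hgS : g ∈ pairStab hM P e hPe.2 := le_pairStab hM P e hPe.2 hg
    have h1 := subpairLE_conj g hle
    rw [conjPair_eq_self_of_mem_pairStab hM P e hPe.2 g hgS] at h1
    exact ⟨hQP, g, fun u => rfl, subpairLE_le' h1, f, hle, h1⟩
  comp_mem := by
    rintro Q₁ Q₂ φ ψ ⟨hQ₁P, g₁, hφ, hg₁P, f₁, hle₁, hle₁'⟩ ⟨hQ₂P, g₂, hψ, hg₂P, f₂, hle₂, hle₂'⟩ h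
    have hsub : Q₁.map (MulAut.conj g₁).toMonoidHom ≤ Q₂ := by
      rintro _ ⟨u, hu, rfl⟩
      have := h ⟨u, hu⟩
      rw [hφ] at this
      exact this
    have h2 : Relation.ReflTransGen (NormalSubpairRel p M) (conjPair g₁ ⟨Q₁, f₁⟩) ⟨Q₂, f₂⟩ :=
      subpairLE_of_le_of_le hM hPe hle₁' hle₂ hsub
    have h3 := subpairLE_conj g₂ h2
    have h4 : Relation.ReflTransGen (NormalSubpairRel p M) (conjPair (g₂ * g₁) ⟨Q₁, f₁⟩)
        ⟨P, e⟩ := by
      rw [conjPair_mul]
      exact h3.trans hle₂'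
    refine ⟨hQ₁P, g₂ * g₁, ?_, subpairLE_le' h4, f₁, hle₁, h4⟩
    intro u
    rw [MonoidHom.comp_apply, hψ]
    have : ((φ.codRestrict Q₂ h u : Q₂) : G) = φ u := rfl
    rw [this, hφ]
    group
  inv_mem := by
    rintro Q φ ⟨hQP, g, hφ, hgP, f, hle, hle'⟩
    have hrange : φ.range = Q.map (MulAut.conj g).toMonoidHom := by
      ext y
      rw [MonoidHom.mem_range, Subgroup.mem_map]
      constructor
      · rintro ⟨u, rfl⟩
        exact ⟨(u : G), u.2, (hφ u).symm⟩
      · rintro ⟨u, hu, rfl⟩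
        exact ⟨⟨u, hu⟩, hφ ⟨u, hu⟩⟩
    refine ⟨conjHom φ.range g⁻¹, ?_, ?_⟩
    · have key : ∀ (R : Subgroup G), R = Q.map (MulAut.conj g).toMonoidHom →
          ∃ f' : Set (IrrCharacter (Subgroup.centralizer (R : Set G))),
            SubpairLE p M R f' P e ∧
            SubpairLE p M (R.map (MulAut.conj g⁻¹).toMonoidHom) (conjBlock R g⁻¹ f') P e := by
        intro R hR
        subst hR
        refine ⟨conjBlock Q g f, hle', ?_⟩
        have h5 : Relation.ReflTransGen (NormalSubpairRel p M)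
            (conjPair g⁻¹ (conjPair g ⟨Q, f⟩)) ⟨P, e⟩ := by
          rw [← conjPair_mul, inv_mul_cancel, conjPair_one]
          exact hle
        exact h5
      obtain ⟨f', hf'1, hf'2⟩ := key φ.range hrange
      exact ⟨subpairLE_le hf'1, g⁻¹, fun u => rfl, subpairLE_le hf'2, f', hf'1, hf'2⟩
    · intro x
      change g⁻¹ * (φ x) * g⁻¹⁻¹ = x
      rw [hφ]
      group

/-- the fusion system of a block on a maximal Brauer pair exists -/
theorem isBlockFusionSystemOn_blockFusion [Fact p.Prime] (hM : IsPModular p M)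
    {B : Set (IrrCharacter G)} {P : Subgroup G}
    {e : Set (IrrCharacter (Subgroup.centralizer (P : Set G)))}
    (hmax : IsMaximalBrauerPair p M B P e) :
    IsBlockFusionSystemOn p M B P e (blockFusion hM P e hmax.1.1) :=
  ⟨hmax, fun _ _ => Iff.rfl⟩

/-- the conjugation action of the stabilizer of `(Q, f)` on `Q` -/
def stabAut (hM : IsPModular p M) (Q : Subgroup G)
    (f : Set (IrrCharacter (Subgroup.centralizer (Q : Set G)))) (hf : IsPBlock M f) :
    ↥(pairStab hM Q f hf) →* MulAut ↥Q :=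
  (normAut Q).comp (Subgroup.inclusion (fun _ ht => ht.1))

theorem stabAut_coe (hM : IsPModular p M) (Q : Subgroup G)
    (f : Set (IrrCharacter (Subgroup.centralizer (Q : Set G)))) (hf : IsPBlock M f)
    (t : ↥(pairStab hM Q f hf)) (u : Q) :
    ((stabAut hM Q f hf t u : Q) : G) = (t : G) * (u : G) * (t : G)⁻¹ := rfl

theorem ker_stabAut (hM : IsPModular p M) (Q : Subgroup G)
    (f : Set (IrrCharacter (Subgroup.centralizer (Q : Set G)))) (hf : IsPBlock M f) :
    (stabAut hM Q f hf).ker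
      = (Subgroup.centralizer (Q : Set G)).subgroupOf (pairStab hM Q f hf) := by
  ext t
  rw [MonoidHom.mem_ker, Subgroup.mem_subgroupOf, Subgroup.mem_centralizer_iff]
  constructor
  · intro h u hu
    have h1 := congrArg (fun α : MulAut Q => ((α ⟨u, hu⟩ : Q) : G)) h
    simp only [stabAut_coe, MulAut.one_apply] at h1
    calc u * (t : G) = ((t : G) * u * (t : G)⁻¹) * (t : G) := by rw [h1]
      _ = (t : G) * u := by group
  · intro h
    ext u
    rw [stabAut_coe, MulAut.one_apply, ← h (u : G) u.2]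
    group

/-- the automorphism group induced by the fusion system of a block on `Q` is the image of the
stabilizer of the pair `(Q, f)` -/
theorem autGroup_eq [Fact p.Prime] (hM : IsPModular p M)
    {B : Set (IrrCharacter G)} {P : Subgroup G}
    {e : Set (IrrCharacter (Subgroup.centralizer (P : Set G)))} {F : FusionSystem P}
    (hF : IsBlockFusionSystemOn p M B P e F) {Q : Subgroup G}
    {f : Set (IrrCharacter (Subgroup.centralizer (Q : Set G)))} (hf : IsPBlock M f)
    (hle : SubpairLE p M Q f P e) :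
    F.autGroup Q = (stabAut hM Q f hf).range := by
  have hPe : IsBrauerPair p M P e := hF.1.1.1
  have hQP : Q ≤ P := subpairLE_le hle
  have hset : {α : MulAut Q | Q.subtype.comp α.toMonoidHom ∈ F.Hom Q}
      = ((stabAut hM Q f hf).range : Set (MulAut Q)) := by
    ext α
    constructor
    · intro hα
      obtain ⟨-, g, hφg, hgP, f₁, hle₁, hle₂⟩ := (hF.2 Q _).mp hα
      have hf₁ : f₁ = f := subpair_unique hM P e hPe Q f₁ f hle₁ hle
      subst hf₁
      have hgN : g ∈ Subgroup.normalizer (Q : Set G) := by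
        apply mem_normalizer_of_conj_mem
        intro u hu
        have := hφg ⟨u, hu⟩
        rw [← this]
        exact (α ⟨u, hu⟩).2
      have hconj : conjPair g (⟨Q, f₁⟩ : BrauerPairIdx G) = ⟨Q, f₁⟩ :=
        pair_eq_of_le_of_fst_eq hM hPe hle₂ hle (map_conj_eq_self_of_mem_normalizer hgN)
      have hgT : g ∈ pairStab hM Q f₁ hf := mem_pairStab_of_conjPair_eq hM Q f₁ hf g hconj
      refine ⟨⟨g, hgT⟩, ?_⟩
      ext u
      rw [stabAut_coe]
      exact (hφg u).symm
    · rintro ⟨t, rfl⟩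
      have h1 : Relation.ReflTransGen (NormalSubpairRel p M)
          (conjPair (t : G) ⟨Q, f⟩) ⟨P, e⟩ := by
        rw [conjPair_eq_self_of_mem_pairStab hM Q f hf (t : G) t.2]
        exact hle
      exact (hF.2 Q _).mpr ⟨hQP, (t : G), fun u => rfl, subpairLE_le' h1, f, hle, h1⟩
  unfold FusionSystem.autGroup
  rw [hset, Subgroup.closure_eq]

/-- the automorphisms of `Q` induced by `P` are the image of `N_P(Q)` -/
theorem autInducedBy_eq (hM : IsPModular p M) (P Q : Subgroup G)
    (f : Set (IrrCharacter (Subgroup.centralizer (Q : Set G)))) (hf : IsPBlock M f)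
    (hNT : P ⊓ Subgroup.normalizer (Q : Set G) ≤ pairStab hM Q f hf) :
    autInducedBy P Q = ((P ⊓ Subgroup.normalizer (Q : Set G)).subgroupOf
      (pairStab hM Q f hf)).map (stabAut hM Q f hf) := by
  have hset : {α : MulAut Q | ∃ g ∈ P, ∀ x : Q, ((α x : Q) : G) = g * (x : G) * g⁻¹}
      = ((((P ⊓ Subgroup.normalizer (Q : Set G)).subgroupOf
        (pairStab hM Q f hf)).map (stabAut hM Q f hf) : Subgroup (MulAut Q)) : Set (MulAut Q)) := by
    ext α
    constructor
    · rintro ⟨g, hgP, hg⟩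
      have hgN : g ∈ Subgroup.normalizer (Q : Set G) := by
        apply mem_normalizer_of_conj_mem
        intro u hu
        rw [← hg ⟨u, hu⟩]
        exact (α ⟨u, hu⟩).2
      refine ⟨⟨g, hNT ⟨hgP, hgN⟩⟩, Subgroup.mem_subgroupOf.mpr ⟨hgP, hgN⟩, ?_⟩
      ext u
      rw [stabAut_coe]
      exact (hg u).symm
    · rintro ⟨t, ht, rfl⟩
      exact ⟨(t : G), (Subgroup.mem_subgroupOf.mp ht).1, fun x => rfl⟩
  unfold autInducedBy
  rw [hset, Subgroup.closure_eq]

end bfus

end Cfsg.Agent.Lib.Helper25
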