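import Mathlib
import Cfsg.Agent.Lib.Helper25.BlockFusion

set_option autoImplicit false

/-!
Saturation of the fusion system of a block: a pair `(Q₀, f₀) ≤ (P, e)` for which `N_P(Q₀)` is a
defect group of the block of the stabilizer of `(Q₀, f₀)` is fully automized and receptive.
-/

namespace Cfsg.Agent.Lib.Helper25

open Cfsg Cfsg.Agent.Lib.Helper2 Cfsg.Agent.Lib.Helper8

section sat

variable {G : Type*} [Group G] [Fintype G] {p : ℕ} {M : Ideal AlgInt}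

omit [Fintype G] in
/-- elements of `A C` for `A` normalizing `C` -/
theorem mem_sup_of_le_normalizer {A C : Subgroup G}
    (hA : A ≤ Subgroup.normalizer (C : Set G)) {t : G} (ht : t ∈ A ⊔ C) :
    ∃ u ∈ A, ∃ c ∈ C, t = u * c := by
  let K : Subgroup G :=
    { carrier := {t | ∃ u ∈ A, ∃ c ∈ C, t = u * c}
      one_mem' := ⟨1, A.one_mem, 1, C.one_mem, by simp⟩
      mul_mem' := by
        rintro _ _ ⟨u₁, hu₁, c₁, hc₁, rfl⟩ ⟨u₂, hu₂, c₂, hc₂, rfl⟩
        refine ⟨u₁ * u₂, A.mul_mem hu₁ hu₂, u₂⁻¹ * c₁ * u₂ * c₂, ?_, by group⟩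
        exact C.mul_mem ((Subgroup.mem_normalizer_iff''.mp (hA hu₂) c₁).mp hc₁) hc₂
      inv_mem' := by
        rintro _ ⟨u, hu, c, hc, rfl⟩
        refine ⟨u⁻¹, A.inv_mem hu, u * c⁻¹ * u⁻¹, ?_, by group⟩
        exact (Subgroup.mem_normalizer_iff.mp (hA hu) c⁻¹).mp (C.inv_mem hc) }
  have hle : A ⊔ C ≤ K :=
    sup_le (fun a ha => ⟨a, ha, 1, C.one_mem, by simp⟩) (fun c hc => ⟨1, A.one_mem, c, hc, by simp⟩)
  exact hle ht

/-- for `(Q, f) ≤ (P, e)` and `Q ≤ N ≤ N_P(Q)`, the pair `(Q, f)` is normal in the pair of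
`(P, e)` on `N` -/
theorem exists_normal_between [Fact p.Prime] (hM : IsPModular p M) {P Q : Subgroup G}
    {e : Set (IrrCharacter (Subgroup.centralizer (P : Set G)))}
    {f : Set (IrrCharacter (Subgroup.centralizer (Q : Set G)))}
    (hPe : IsBrauerPair p M P e) (hle : SubpairLE p M Q f P e) (N : Subgroup G)
    (hQN : Q ≤ N) (hNP : N ≤ P) (hNn : N ≤ Subgroup.normalizer (Q : Set G)) :
    ∃ eN : Set (IrrCharacter (Subgroup.centralizer (N : Set G))),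
      IsPBlock M eN ∧ SubpairLE p M N eN P e ∧ IsNormalSubpair p M Q f N eN := by
  obtain ⟨eN, heN, hleN⟩ := exists_subpair hM P e hPe N hNP
  obtain ⟨f', hn⟩ := exists_normal_subpair hM N Q eN ⟨hPe.1.to_le hNP, heN⟩ hQN hNn
  have hs : Relation.ReflTransGen (NormalSubpairRel p M) (⟨Q, f'⟩ : BrauerPairIdx G) ⟨N, eN⟩ :=
    Relation.ReflTransGen.single hn
  have hf' : f' = f := subpair_unique hM P e hPe Q f' f (hs.trans hleN) hle
  subst hf'
  exact ⟨eN, heN, hleN, hn⟩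

/-- transport of the block `f` of `C(Q)` to a stable block of `C(Q)` viewed inside a subgroup
`T` of the stabilizer of `(Q, f)` -/
theorem stab_transport (hM : IsPModular p M) (Q : Subgroup G)
    (f : Set (IrrCharacter (Subgroup.centralizer (Q : Set G)))) (hf : IsPBlock M f)
    (T : Subgroup G) (hCT : Subgroup.centralizer (Q : Set G) ≤ T)
    (hTS : T ≤ pairStab hM Q f hf) (F : Set (IrrCharacter T))
    (hFc : ∀ t : T, blockCoeff F t
      = subgroupBlockCoeff (Subgroup.centralizer (Q : Set G)) f (t : G)) :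
    ∃ (_ : ((Subgroup.centralizer (Q : Set G)).subgroupOf T).Normal)
      (c' : Set (IrrCharacter ((Subgroup.centralizer (Q : Set G)).subgroupOf T))),
      IsPBlock M c' ∧
      (∀ x : T, StabilizesBlock ((Subgroup.centralizer (Q : Set G)).subgroupOf T) c' x) ∧
      (∀ g : T, blockCoeff F g
        = subgroupBlockCoeff ((Subgroup.centralizer (Q : Set G)).subgroupOf T) c' g) ∧
      blockDefect p c' = blockDefect p f := by
  classical
  let _ : Fintype T := Fintype.ofFinite _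
  have hnormal : ((Subgroup.centralizer (Q : Set G)).subgroupOf T).Normal := by
    constructor
    intro n hn g
    rw [Subgroup.mem_subgroupOf] at hn ⊢
    have hg : (g : G) ∈ Subgroup.normalizer (Q : Set G) := (hTS g.2).1
    exact (conj_mem_centralizer_iff hg (n : G)).mpr hn
  let φ : ↥(Subgroup.centralizer (Q : Set G))
      ≃* ↥((Subgroup.centralizer (Q : Set G)).subgroupOf T) :=
    (Subgroup.subgroupOfEquivOfLe hCT).symm
  have hφs : ∀ k : ↥((Subgroup.centralizer (Q : Set G)).subgroupOf T),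
      ((φ.symm k : ↥(Subgroup.centralizer (Q : Set G))) : G) = ((k : T) : G) := fun k => rfl
  refine ⟨hnormal, isoIrr φ '' f, isPBlock_image_isoIrr φ hf, ?_, ?_,
    blockDefect_image_isoIrr φ p f⟩
  · intro x
    refine ⟨?_, ?_⟩
    · rw [Subgroup.normalizer_eq_top]
      exact Subgroup.mem_top x
    · rintro χ ⟨η, hη, rfl⟩
      obtain ⟨η', hη', hconj⟩ := (hTS x.2).2.2 η hη
      refine ⟨isoIrr φ η', ⟨η', hη', rfl⟩, ?_⟩
      intro k k' hk
      rw [isoIrr_apply, isoIrr_apply]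
      apply hconj
      rw [hφs, hφs, hk]
      rfl
  · intro g
    rw [hFc g, subgroupBlockCoeff_eq, subgroupBlockCoeff_eq]
    by_cases hg : (g : G) ∈ Subgroup.centralizer (Q : Set G)
    · have hg' : g ∈ (Subgroup.centralizer (Q : Set G)).subgroupOf T :=
        Subgroup.mem_subgroupOf.mpr hg
      rw [extendByZero_of_mem _ _ hg, extendByZero_of_mem _ _ hg']
      exact (blockCoeff_image_isoIrr φ f ⟨(g : G), hg⟩).symm
    · have hg' : g ∉ (Subgroup.centralizer (Q : Set G)).subgroupOf T :=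
        fun h => hg (Subgroup.mem_subgroupOf.mp h)
      rw [extendByZero_of_not_mem _ _ hg, extendByZero_of_not_mem _ _ hg']

/-- a pair `(Q₀, f₀) ≤ (P, e)` for which `N_P(Q₀)` is a defect group of the block of its
stabilizer is fully automized in the fusion system of the block -/
theorem fullyAutomized_of_defect [Fact p.Prime] (hM : IsPModular p M)
    {B : Set (IrrCharacter G)} {P : Subgroup G}
    {e : Set (IrrCharacter (Subgroup.centralizer (P : Set G)))} {F : FusionSystem P}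
    (hF : IsBlockFusionSystemOn p M B P e F) {Q₀ : Subgroup G}
    {f₀ : Set (IrrCharacter (Subgroup.centralizer (Q₀ : Set G)))} (hf₀ : IsPBlock M f₀)
    (hle₀ : SubpairLE p M Q₀ f₀ P e)
    (F₀ : Set (IrrCharacter (pairStab hM Q₀ f₀ hf₀))) (hF₀ : IsPBlock M F₀)
    (hFc₀ : ∀ t : pairStab hM Q₀ f₀ hf₀, blockCoeff F₀ t
      = subgroupBlockCoeff (Subgroup.centralizer (Q₀ : Set G)) f₀ (t : G))
    (hD₀ : IsDefectGroup p M F₀
      ((P ⊓ Subgroup.normalizer (Q₀ : Set G)).subgroupOf (pairStab hM Q₀ f₀ hf₀))) :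
    F.IsFullyAutomized p Q₀ := by
  classical
  have hPe : IsBrauerPair p M P e := hF.1.1.1
  have hQ₀P : Q₀ ≤ P := subpairLE_le hle₀
  let _ : Fintype ↥(pairStab hM Q₀ f₀ hf₀) := Fintype.ofFinite _
  obtain ⟨e₀, -, -, hnorm₀⟩ := exists_normal_between hM hPe hle₀
    (P ⊓ Subgroup.normalizer (Q₀ : Set G)) (le_inf hQ₀P Subgroup.le_normalizer) inf_le_left
    inf_le_right
  have hNT : P ⊓ Subgroup.normalizer (Q₀ : Set G) ≤ pairStab hM Q₀ f₀ hf₀ :=
    fun r hr => ⟨hnorm₀.2.2.2.1 hr, hnorm₀.2.2.2.2.1 r hr⟩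
  obtain ⟨hn, c', hc', hst', hBc', -⟩ := stab_transport (p := p) hM Q₀ f₀ hf₀
    (pairStab hM Q₀ f₀ hf₀) (centralizer_le_pairStab hM Q₀ f₀ hf₀) le_rfl F₀ hFc₀
  have hidx := (defect_of_same_idempotent hM _ c' hc' hst' F₀ hF₀ hBc' _ hD₀).1
  refine ⟨hQ₀P, ?_⟩
  rw [autGroup_eq hM hF hf₀ hle₀, autInducedBy_eq hM P Q₀ f₀ hf₀ hNT]
  have hDp : IsPGroup p ↥((P ⊓ Subgroup.normalizer (Q₀ : Set G)).subgroupOf
      (pairStab hM Q₀ f₀ hf₀)) := (hPe.1.to_le inf_le_left).comap_subtype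
  have hXp : IsPGroup p ↥((((P ⊓ Subgroup.normalizer (Q₀ : Set G)).subgroupOf
      (pairStab hM Q₀ f₀ hf₀)).map (stabAut hM Q₀ f₀ hf₀)).subgroupOf
      (stabAut hM Q₀ f₀ hf₀).range) := (hDp.map _).comap_subtype
  have hXi : ¬ p ∣ ((((P ⊓ Subgroup.normalizer (Q₀ : Set G)).subgroupOf
      (pairStab hM Q₀ f₀ hf₀)).map (stabAut hM Q₀ f₀ hf₀)).subgroupOf
      (stabAut hM Q₀ f₀ hf₀).range).index := by
    change ¬ p ∣ (((P ⊓ Subgroup.normalizer (Q₀ : Set G)).subgroupOf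
      (pairStab hM Q₀ f₀ hf₀)).map (stabAut hM Q₀ f₀ hf₀)).relIndex
      (stabAut hM Q₀ f₀ hf₀).range
    rw [MonoidHom.range_eq_map, Subgroup.relIndex_map_map, top_sup_eq,
      Subgroup.relIndex_top_right, ker_stabAut, sup_comm]
    exact hidx
  exact ⟨hXp.toSylow hXi, rfl⟩

/-- a pair `(Q₀, f₀) ≤ (P, e)` for which `N_P(Q₀)` is a defect group of the block of its
stabilizer is receptive in the fusion system of the block -/
theorem receptive_of_defect [Fact p.Prime] (hM : IsPModular p M)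
    {B : Set (IrrCharacter G)} {P : Subgroup G}
    {e : Set (IrrCharacter (Subgroup.centralizer (P : Set G)))} {F : FusionSystem P}
    (hF : IsBlockFusionSystemOn p M B P e F) {Q₀ : Subgroup G}
    {f₀ : Set (IrrCharacter (Subgroup.centralizer (Q₀ : Set G)))} (hf₀ : IsPBlock M f₀)
    (hle₀ : SubpairLE p M Q₀ f₀ P e)
    (F₀ : Set (IrrCharacter (pairStab hM Q₀ f₀ hf₀))) (hF₀ : IsPBlock M F₀)
    (hFc₀ : ∀ t : pairStab hM Q₀ f₀ hf₀, blockCoeff F₀ t
      = subgroupBlockCoeff (Subgroup.centralizer (Q₀ : Set G)) f₀ (t : G))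
    (hD₀ : IsDefectGroup p M F₀
      ((P ⊓ Subgroup.normalizer (Q₀ : Set G)).subgroupOf (pairStab hM Q₀ f₀ hf₀))) :
    F.IsReceptive Q₀ := by
  classical
  have hmax := hF.1
  have hPe : IsBrauerPair p M P e := hmax.1.1
  have hPp : IsPGroup p P := hPe.1
  have hQ₀P : Q₀ ≤ P := subpairLE_le hle₀
  have hQ₀p : IsPGroup p Q₀ := hPp.to_le hQ₀P
  let _ : Fintype ↥(pairStab hM Q₀ f₀ hf₀) := Fintype.ofFinite _
  refine ⟨hQ₀P, ?_⟩
  intro R φ hφ hrange
  obtain ⟨hRP, x, hφx, hxP, f_R, hleR, hleRx⟩ := (hF.2 R φ).mp hφ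
  have hmapR : R.map (MulAut.conj x).toMonoidHom = Q₀ := by
    rw [← hrange]
    ext y
    rw [MonoidHom.mem_range, Subgroup.mem_map]
    constructor
    · rintro ⟨u, hu, rfl⟩
      exact ⟨⟨u, hu⟩, hφx ⟨u, hu⟩⟩
    · rintro ⟨u, rfl⟩
      exact ⟨(u : G), u.2, (hφx u).symm⟩
  have hconj : conjPair x (⟨R, f_R⟩ : BrauerPairIdx G) = ⟨Q₀, f₀⟩ :=
    pair_eq_of_le_of_fst_eq hM hPe hleRx hle₀ hmapR
  have hCT₀ := centralizer_le_pairStab hM Q₀ f₀ hf₀
  have hQ₀N₀ : Q₀ ≤ P ⊓ Subgroup.normalizer (Q₀ : Set G) := le_inf hQ₀P Subgroup.le_normalizer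
  obtain ⟨e₀, he₀blk, hle_e₀, hnorm₀⟩ := exists_normal_between hM hPe hle₀
    (P ⊓ Subgroup.normalizer (Q₀ : Set G)) hQ₀N₀ inf_le_left inf_le_right
  have hN₀T₀ : P ⊓ Subgroup.normalizer (Q₀ : Set G) ≤ pairStab hM Q₀ f₀ hf₀ :=
    fun r hr => ⟨hnorm₀.2.2.2.1 hr, hnorm₀.2.2.2.2.1 r hr⟩
  -- the subgroup `H = N_P(Q₀) C(Q₀)` and its block
  have hCH : Subgroup.centralizer (Q₀ : Set G)
      ≤ (P ⊓ Subgroup.normalizer (Q₀ : Set G)) ⊔ Subgroup.centralizer (Q₀ : Set G) :=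
    le_sup_right
  have hN₀H : P ⊓ Subgroup.normalizer (Q₀ : Set G)
      ≤ (P ⊓ Subgroup.normalizer (Q₀ : Set G)) ⊔ Subgroup.centralizer (Q₀ : Set G) :=
    le_sup_left
  have hHT : (P ⊓ Subgroup.normalizer (Q₀ : Set G)) ⊔ Subgroup.centralizer (Q₀ : Set G)
      ≤ pairStab hM Q₀ f₀ hf₀ := sup_le hN₀T₀ hCT₀
  have hHN : (P ⊓ Subgroup.normalizer (Q₀ : Set G)) ⊔ Subgroup.centralizer (Q₀ : Set G)
      ≤ Subgroup.normalizer (Q₀ : Set G) := fun t ht => (hHT ht).1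
  have hQ₀H : Q₀ ≤ (P ⊓ Subgroup.normalizer (Q₀ : Set G)) ⊔ Subgroup.centralizer (Q₀ : Set G) :=
    hQ₀N₀.trans hN₀H
  have : Fintype ↥(Subgroup.centralizer (Q₀ : Set G)) := Fintype.ofFinite _
  have : Fintype ↥((P ⊓ Subgroup.normalizer (Q₀ : Set G)) ⊔ Subgroup.centralizer (Q₀ : Set G)
    : Subgroup G) := Fintype.ofFinite _
  obtain ⟨F_H, hF_H, hbc, -⟩ := exists_block_over hM Q₀
    ((P ⊓ Subgroup.normalizer (Q₀ : Set G)) ⊔ Subgroup.centralizer (Q₀ : Set G))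
    hQ₀p hQ₀H hCH hHN f₀ hf₀
  rw [orbitSet_eq_of_stable hM _ _ _ hf₀ (fun t ht => (hHT ht).2)] at hbc
  have hFc_H : ∀ t : ↥((P ⊓ Subgroup.normalizer (Q₀ : Set G)) ⊔ Subgroup.centralizer (Q₀ : Set G)
      : Subgroup G), blockCoeff F_H t
        = subgroupBlockCoeff (Subgroup.centralizer (Q₀ : Set G)) f₀ (t : G) := by
    intro t
    rw [← hbc, extendByZero_of_mem _ _ t.2]
  -- the pair of `N_P(Q₀)` in `H`
  have hgoodD := goodSub_subgroupOf Q₀ _ hQ₀N₀ hN₀H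
  obtain ⟨ε', hε'pair, hε'lift⟩ := exists_lift_eq Q₀ f₀ _ hCH F_H hF_H hFc_H _ hgoodD
    (upSub_subgroupOf Q₀ _ hQ₀N₀ hN₀H) hnorm₀
  -- `N_P(Q₀)` is a defect group of the block of `H`
  have hD_H : IsDefectGroup p M F_H ((P ⊓ Subgroup.normalizer (Q₀ : Set G)).subgroupOf
      ((P ⊓ Subgroup.normalizer (Q₀ : Set G)) ⊔ Subgroup.centralizer (Q₀ : Set G))) := by
    obtain ⟨E₁, ε₁, hmax₁, hle₁⟩ := exists_maximal_above hM _ _ ε' hε'pair rfl
    have hDE : (P ⊓ Subgroup.normalizer (Q₀ : Set G)).subgroupOf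
        ((P ⊓ Subgroup.normalizer (Q₀ : Set G)) ⊔ Subgroup.centralizer (Q₀ : Set G)) ≤ E₁ :=
      subpairLE_le hle₁
    have hgoodE : GoodSub Q₀ _ E₁ := goodSub_mono Q₀ _ hDE hgoodD
    have hn₁ : NormalSubpairRel p M ⟨Q₀, f₀⟩ (liftPair Q₀ _ hCH ⟨E₁, ε₁⟩ hgoodE) :=
      normalSubpairRel_base_lift hM Q₀ hQ₀p f₀ hf₀ _ hCH hHT F_H hFc_H ⟨E₁, ε₁⟩ hgoodE hmax₁.1
    have hn₁' : IsNormalSubpair p M Q₀ f₀ (upSub Q₀ _ E₁) (liftB Q₀ _ hCH E₁ hgoodE ε₁) := hn₁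
    obtain ⟨g₄, hpair₄⟩ := exists_pair_of_normal_stab hn₁' (pairStab hM Q₀ f₀ hf₀)
      (fun y => mem_pairStab hM Q₀ f₀ hf₀ y) F₀ hF₀ hFc₀
    obtain ⟨E', hE', hle₄⟩ := exists_defectGroup_ge_of_pair hM hpair₄
    have hupT : upSub Q₀ _ E₁ ≤ pairStab hM Q₀ f₀ hf₀ :=
      sup_le (le_pairStab hM Q₀ f₀ hf₀) ((Subgroup.map_subtype_le E₁).trans hHT)
    have hcard : Nat.card E₁ ≤ Nat.card ((P ⊓ Subgroup.normalizer (Q₀ : Set G)).subgroupOf
        ((P ⊓ Subgroup.normalizer (Q₀ : Set G)) ⊔ Subgroup.centralizer (Q₀ : Set G))) := by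
      calc Nat.card E₁ = Nat.card (E₁.map (Subgroup.subtype _)) :=
            (Subgroup.card_map_of_injective (Subgroup.subtype_injective _)).symm
        _ ≤ Nat.card (upSub Q₀ _ E₁) := Subgroup.card_le_of_le le_sup_right
        _ = Nat.card ((upSub Q₀ _ E₁).subgroupOf (pairStab hM Q₀ f₀ hf₀)) :=
            (card_subgroupOf_eq _ _ hupT).symm
        _ ≤ Nat.card E' := Subgroup.card_le_of_le hle₄
        _ = Nat.card ((P ⊓ Subgroup.normalizer (Q₀ : Set G)).subgroupOf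
              (pairStab hM Q₀ f₀ hf₀)) := by
            rw [card_of_isDefectGroup hM F₀ hF₀ E' hE', card_of_isDefectGroup hM F₀ hF₀ _ hD₀]
        _ = Nat.card ((P ⊓ Subgroup.normalizer (Q₀ : Set G)).subgroupOf
              ((P ⊓ Subgroup.normalizer (Q₀ : Set G)) ⊔ Subgroup.centralizer (Q₀ : Set G))) := by
            rw [card_subgroupOf_eq _ _ hN₀T₀, card_subgroupOf_eq _ _ hN₀H]
    have hEq := Subgroup.eq_of_le_of_card_ge hDE hcard
    rw [hEq]
    exact isDefectGroup_of_isMaximalBrauerPair hM hmax₁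
  have hdmax : IsMaximalBrauerPair p M F_H ((P ⊓ Subgroup.normalizer (Q₀ : Set G)).subgroupOf
      ((P ⊓ Subgroup.normalizer (Q₀ : Set G)) ⊔ Subgroup.centralizer (Q₀ : Set G))) ε' :=
    isMaximal_of_defectGroup hM hε'pair hD_H
  -- the extender
  have hNP : FusionSystem.extender P R φ ≤ P := by
    unfold FusionSystem.extender
    rw [Subgroup.closure_le]
    rintro g ⟨hgP, -⟩
    exact hgP
  have hNn : FusionSystem.extender P R φ ≤ Subgroup.normalizer (R : Set G) := by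
    unfold FusionSystem.extender
    rw [Subgroup.closure_le]
    rintro g ⟨-, hgN, -⟩
    exact hgN
  have hRN : R ≤ FusionSystem.extender P R φ := by
    intro g hg
    apply Subgroup.subset_closure
    refine ⟨hRP hg, Subgroup.le_normalizer hg, φ ⟨g, hg⟩, (F.le_of_mem hφ).2 ⟨g, hg⟩, ?_⟩
    intro u hu
    rw [← map_inv, ← map_mul, ← map_mul]
    exact congrArg φ (Subtype.ext rfl)
  have hNH : (FusionSystem.extender P R φ).map (MulAut.conj x).toMonoidHom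
      ≤ (P ⊓ Subgroup.normalizer (Q₀ : Set G)) ⊔ Subgroup.centralizer (Q₀ : Set G) := by
    rw [Subgroup.map_le_iff_le_comap]
    unfold FusionSystem.extender
    rw [Subgroup.closure_le]
    rintro g ⟨hgP, hgN, h, hhP, hh⟩
    change x * g * x⁻¹ ∈ (P ⊓ Subgroup.normalizer (Q₀ : Set G)) ⊔ Subgroup.centralizer (Q₀ : Set G)
    have hhN : h ∈ Subgroup.normalizer (Q₀ : Set G) := by
      apply mem_normalizer_of_conj_mem
      intro q hq
      rw [← hmapR] at hq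
      obtain ⟨u, hu, rfl⟩ := hq
      have hgu : g * u * g⁻¹ ∈ R := (Subgroup.mem_normalizer_iff.mp hgN u).mp hu
      have h1 := hh ⟨u, hu⟩ hgu
      rw [hφx ⟨u, hu⟩] at h1
      change h * (x * u * x⁻¹) * h⁻¹ ∈ Q₀
      rw [← h1, ← hrange]
      exact ⟨_, rfl⟩
    have hc : h⁻¹ * (x * g * x⁻¹) ∈ Subgroup.centralizer (Q₀ : Set G) := by
      rw [Subgroup.mem_centralizer_iff]
      intro q hq
      rw [← hmapR] at hq
      obtain ⟨u, hu, rfl⟩ := hq
      have hgu : g * u * g⁻¹ ∈ R := (Subgroup.mem_normalizer_iff.mp hgN u).mp hu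
      have h1 := hh ⟨u, hu⟩ hgu
      rw [hφx ⟨u, hu⟩, hφx ⟨g * u * g⁻¹, hgu⟩] at h1
      have h1' : x * (g * u * g⁻¹) * x⁻¹ = h * (x * u * x⁻¹) * h⁻¹ := h1
      have h2 : x * u * x⁻¹ = h⁻¹ * (x * (g * u * g⁻¹) * x⁻¹) * h := by
        rw [h1']
        group
      change (x * u * x⁻¹) * (h⁻¹ * (x * g * x⁻¹)) = h⁻¹ * (x * g * x⁻¹) * (x * u * x⁻¹)
      calc (x * u * x⁻¹) * (h⁻¹ * (x * g * x⁻¹))
          = (h⁻¹ * (x * (g * u * g⁻¹) * x⁻¹) * h) * (h⁻¹ * (x * g * x⁻¹)) := by rw [← h2]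
        _ = h⁻¹ * (x * g * x⁻¹) * (x * u * x⁻¹) := by group
    have e1 : x * g * x⁻¹ = h * (h⁻¹ * (x * g * x⁻¹)) := by group
    rw [e1]
    exact Subgroup.mul_mem _ (hN₀H ⟨hhP, hhN⟩) (hCH hc)
  -- the pair on the extender
  obtain ⟨e_N, he_N, hle_N, hnormN⟩ := exists_normal_between hM hPe hleR
    (FusionSystem.extender P R φ) hRN hNP hNn
  have hrel : NormalSubpairRel p M (conjPair x ⟨R, f_R⟩)
      (conjPair x ⟨FusionSystem.extender P R φ, e_N⟩) := isNormalSubpair_conj hnormN x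
  rw [hconj] at hrel
  have hrel' : IsNormalSubpair p M Q₀ f₀
      ((FusionSystem.extender P R φ).map (MulAut.conj x).toMonoidHom)
      (conjBlock (FusionSystem.extender P R φ) x e_N) := hrel
  have hQ₀Nx : Q₀ ≤ (FusionSystem.extender P R φ).map (MulAut.conj x).toMonoidHom :=
    hrel'.2.2.1
  have hgoodN := goodSub_subgroupOf Q₀ _ hQ₀Nx hNH
  obtain ⟨g', hg'pair, hg'lift⟩ := exists_lift_eq Q₀ f₀ _ hCH F_H hF_H hFc_H _ hgoodN
    (upSub_subgroupOf Q₀ _ hQ₀Nx hNH) hrel'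
  obtain ⟨t, ht⟩ := exists_conj_lift_le hM Q₀ hQ₀p _ hCH hHN F_H ⟨_, ε'⟩ hgoodD hdmax
    ⟨_, g'⟩ hgoodN hg'pair
  rw [hg'lift, hε'lift] at ht
  have ht' : Relation.ReflTransGen (NormalSubpairRel p M)
      (conjPair (t : G) (conjPair x ⟨FusionSystem.extender P R φ, e_N⟩))
      ⟨P ⊓ Subgroup.normalizer (Q₀ : Set G), e₀⟩ := ht
  obtain ⟨u, hu, c, hc, htuc⟩ := mem_sup_of_le_normalizer
    (A := P ⊓ Subgroup.normalizer (Q₀ : Set G)) (C := Subgroup.centralizer (Q₀ : Set G))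
    (inf_le_right.trans (normalizer_le_normalizer_centralizer Q₀)) t.2
  have huS : u⁻¹ ∈ pairStab hM (P ⊓ Subgroup.normalizer (Q₀ : Set G)) e₀ he₀blk :=
    le_pairStab hM _ e₀ he₀blk (Subgroup.inv_mem _ hu)
  have h1 := subpairLE_conj u⁻¹ ht'
  rw [conjPair_eq_self_of_mem_pairStab hM _ e₀ he₀blk u⁻¹ huS, ← conjPair_mul, ← conjPair_mul]
    at h1
  have h2 : u⁻¹ * (t : G) * x = c * x := by
    rw [htuc]
    group
  rw [h2] at h1
  have h3 : Relation.ReflTransGen (NormalSubpairRel p M)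
      (conjPair (c * x) ⟨FusionSystem.extender P R φ, e_N⟩) ⟨P, e⟩ := h1.trans hle_e₀
  refine ⟨conjHom (FusionSystem.extender P R φ) (c * x),
    (hF.2 _ _).mpr ⟨hNP, c * x, fun u => rfl, subpairLE_le' h3, e_N, hle_N, h3⟩, ?_⟩
  intro y hyR hyN
  change c * x * y * (c * x)⁻¹ = φ ⟨y, hyR⟩
  rw [hφx ⟨y, hyR⟩]
  have hq : x * y * x⁻¹ ∈ Q₀ := by
    rw [← hmapR]
    exact Subgroup.mem_map.mpr ⟨y, hyR, rfl⟩
  have hcomm := Subgroup.mem_centralizer_iff.mp hc _ hq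
  calc c * x * y * (c * x)⁻¹ = c * (x * y * x⁻¹) * c⁻¹ := by group
    _ = (x * y * x⁻¹) * c * c⁻¹ := by rw [hcomm]
    _ = x * y * x⁻¹ := by group

/-- **the fusion system of a block on a maximal Brauer pair exists and is saturated** -/
theorem blockFusion_saturated [Fact p.Prime] (hM : IsPModular p M)
    {B : Set (IrrCharacter G)} {P : Subgroup G}
    {e : Set (IrrCharacter (Subgroup.centralizer (P : Set G)))}
    (hmax : IsMaximalBrauerPair p M B P e) :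
    ∃ F : FusionSystem P, IsBlockFusionSystemOn p M B P e F ∧ F.IsSaturated p := by
  classical
  have hPe : IsBrauerPair p M P e := hmax.1.1
  have hF := isBlockFusionSystemOn_blockFusion hM hmax
  refine ⟨blockFusion hM P e hPe, hF, ?_⟩
  intro Q hQP
  obtain ⟨f, hf, hle⟩ := exists_subpair hM P e hPe Q hQP
  obtain ⟨-, y, hley0, hfn0⟩ := normalizerIn_defectGroup hM hmax hQP hf hle
    (pairStab hM Q f hf) (fun z => mem_pairStab hM Q f hf z)
  have hfy := isPBlock_conjBlock (M := M) Q y hf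
  obtain ⟨F₀, hF₀, hFc₀, hD₀⟩ := hfn0 (pairStab hM _ _ hfy) (fun z => mem_pairStab hM _ _ hfy z)
  exact ⟨Q.map (MulAut.conj y).toMonoidHom,
    (isConj_iff_of_blockFusion hM hF hQP hle _).mpr ⟨y, rfl, hley0⟩,
    fullyAutomized_of_defect hM hF hfy hley0 F₀ hF₀ hFc₀ hD₀,
    receptive_of_defect hM hF hfy hley0 F₀ hF₀ hFc₀ hD₀⟩

end sat

end Cfsg.Agent.Lib.Helper25
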