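import Mathlib
import Cfsg.Agent.Lib.Helper25.BlockFusion2
import Cfsg.Agent.Lib.Helper8.Extended

set_option autoImplicit false

/-!
Normal subgroups of `p`-power index: a stable block of the normal subgroup is covered by a
unique block, whose idempotent is the idempotent of the stable block.
-/

namespace Cfsg.Agent.Lib.Helper25

open Cfsg Cfsg.Agent.Lib.Helper2 Cfsg.Agent.Lib.Helper8

section pindex

variable {G : Type*} [Group G] [Fintype G] {p : ℕ} {M : Ideal AlgInt}

/-- for a normal subgroup of `p`-power index, two irreducible characters lying over members of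
one block of the normal subgroup lie in the same block -/
theorem sameBlock_of_over_pindex [Fact p.Prime] (hM : IsPModular p M) (N : Subgroup G)
    [hN : N.Normal] [Fintype N] (hidx : ∃ k : ℕ, N.index = p ^ k)
    (c : Set (IrrCharacter N)) (hc : IsPBlock M c) (χ₁ χ₂ : IrrCharacter G)
    (θ₁ θ₂ : IrrCharacter N) (hθ₁ : θ₁ ∈ c) (hθ₂ : θ₂ ∈ c)
    (he₁ : classInner (fun n : N => (χ₁ : G → ℂ) n) (θ₁ : N → ℂ) ≠ 0)
    (he₂ : classInner (fun n : N => (χ₂ : G → ℂ) n) (θ₂ : N → ℂ) ≠ 0) :
    SameBlock M (χ₁ : G → ℂ) (χ₂ : G → ℂ) := by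
  classical
  have hpr := isPrime_of_isPModular hM
  apply sameBlock_of_regular hM
  intro g hg
  have hgN : g ∈ N := mem_of_regular_of_index N hidx g hg
  have : Fintype (G ⧸ classStab N ((⟨g, hgN⟩ : N) : G)) := Fintype.ofFinite _
  have h1 := centralChar_eq_sum_classStab N χ₁ θ₁ he₁ ⟨g, hgN⟩
  have h2 := centralChar_eq_sum_classStab N χ₂ θ₂ he₂ ⟨g, hgN⟩
  change centralChar (χ₁ : G → ℂ) g = _ at h1
  change centralChar (χ₂ : G → ℂ) g = _ at h2
  rw [h1, h2, ← Finset.sum_sub_distrib]
  apply memLocalIdeal_sum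
  intro q _
  exact isPBlock_sameBlock' hM hc hθ₁ hθ₂ _

/-- the idempotent of a stable block of a normal subgroup is invariant under conjugation -/
theorem blockCoeff_conjNormal_of_stable (hM : IsPModular p M) (N : Subgroup G)
    [hN : N.Normal] [Fintype N] (c : Set (IrrCharacter N)) (hc : IsPBlock M c)
    (hst : ∀ x : G, StabilizesBlock N c x) (g : G) (n : N) :
    blockCoeff c ((MulAut.conjNormal g : MulAut N) n) = blockCoeff c n := by
  have h3 := conjInv_of_stabilizes N hM hc ⊤ (fun x _ => hst x) g (Subgroup.mem_top g) (n : G)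
  rw [subgroupBlockCoeff_eq, extendByZero_coe] at h3
  rw [← h3]
  have h4 : g * (n : G) * g⁻¹ = (((MulAut.conjNormal g : MulAut N) n : N) : G) := rfl
  rw [h4, extendByZero_coe]

/-- the value of the central character of `χ` at the idempotent of a stable block `c` of a
normal subgroup: `1` or `0` according as the constituent `θ` lies in `c` or not -/
theorem omegaFun_subgroupBlockCoeff_of_over (hM : IsPModular p M) (N : Subgroup G)
    [hN : N.Normal] [Fintype N] (c : Set (IrrCharacter N)) [DecidablePred (· ∈ c)]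
    (hc : IsPBlock M c)
    (hst : ∀ x : G, StabilizesBlock N c x) (χ : IrrCharacter G) (θ : IrrCharacter N)
    (he : classInner (fun n : N => (χ : G → ℂ) n) (θ : N → ℂ) ≠ 0) :
    omegaFun (χ : G → ℂ) (subgroupBlockCoeff N c) = if θ ∈ c then 1 else 0 := by
  rw [subgroupBlockCoeff_eq, omegaFun_extend_of_constituent N χ θ he _
    (blockCoeff_conjNormal_of_stable hM N c hc hst),
    Cfsg.Agent.Lib.Helper25.omegaFun_blockCoeff c θ]

/-- **the block with the idempotent of a stable block**: for a normal subgroup `N` of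
`p`-power index and a `G`-stable block `c` of `N`, the idempotent of `c` is the idempotent of
a block of `G` -/
theorem exists_block_same_idempotent [Fact p.Prime] (hM : IsPModular p M) (N : Subgroup G)
    [hN : N.Normal] (hidx : ∃ k : ℕ, N.index = p ^ k)
    (c : Set (IrrCharacter N)) (hc : IsPBlock M c)
    (hst : ∀ x : G, StabilizesBlock N c x) :
    ∃ B : Set (IrrCharacter G), IsPBlock M B ∧
      ∀ g : G, blockCoeff B g = subgroupBlockCoeff N c g := by
  classical
  have hpr := isPrime_of_isPModular hM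
  have : Fintype (IrrCharacter G) := Fintype.ofFinite _
  have : Fintype (IrrCharacter N) := Fintype.ofFinite _
  obtain ⟨θ₀, hθ₀⟩ := isPBlock_nonempty hM hc
  obtain ⟨χ₀, hχ₀⟩ := exists_irr_over N θ₀
  have hinv := blockCoeff_conjNormal_of_stable hM N c hc hst
  have hcf : IsClassFunction G (subgroupBlockCoeff N c) := by
    rw [subgroupBlockCoeff_eq]
    exact extendByZero_isClassFunction N _ hinv
  have hR : ∀ g : G, MemLocalRing M (subgroupBlockCoeff N c g) := by
    intro g
    rw [subgroupBlockCoeff_eq]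
    by_cases hg : g ∈ N
    · rw [extendByZero_of_mem N _ hg]
      exact blockCoeff_memLocalRing hM c (blockClosed_of_isPBlock M hc) _
    · rw [extendByZero_of_not_mem N _ hg]
      exact memLocalRing_zero M
  have h0 : omegaFun (χ₀ : G → ℂ) (subgroupBlockCoeff N c) = 1 := by
    rw [omegaFun_subgroupBlockCoeff_of_over hM N c hc hst χ₀ θ₀ hχ₀, if_pos hθ₀]
  have hval : ∀ ψ : IrrCharacter G, omegaFun (ψ : G → ℂ) (subgroupBlockCoeff N c)
      = if ψ ∈ blockOf M (χ₀ : G → ℂ) then 1 else 0 := by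
    intro ψ
    obtain ⟨θ, hθ⟩ := exists_irr_constituent
      (IsCharacter.restrict (isCharacter_of_isIrrCharacter ψ.2) N)
      (fun h0 => irr_one_ne_zero ψ.2 (congrFun h0 1))
    have h1 := omegaFun_subgroupBlockCoeff_of_over hM N c hc hst ψ ⟨θ, hθ.1⟩ hθ.2
    by_cases hmem : (⟨θ, hθ.1⟩ : IrrCharacter N) ∈ c
    · rw [if_pos hmem] at h1
      have hψ : ψ ∈ blockOf M (χ₀ : G → ℂ) :=
        sameBlock_of_over_pindex hM N hidx c hc χ₀ ψ θ₀ ⟨θ, hθ.1⟩ hθ₀ hmem hχ₀ hθ.2
      rw [if_pos hψ, h1]
    · rw [if_neg hmem] at h1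
      have hψ : ψ ∉ blockOf M (χ₀ : G → ℂ) := by
        intro hψ
        have h2 := omegaFun_sub_mem hM χ₀ ψ hψ _ hcf hR
        rw [h0, h1, sub_zero] at h2
        exact not_memLocalIdeal_one M h2
      rw [if_neg hψ, h1]
  refine ⟨blockOf M (χ₀ : G → ℂ), ⟨χ₀, rfl⟩, ?_⟩
  intro g
  have := eq_of_omegaFun (blockCoeff_isClassFunction (blockOf M (χ₀ : G → ℂ))) hcf
    (fun ψ => by
      rw [hval ψ, Cfsg.Agent.Lib.Helper25.omegaFun_blockCoeff (blockOf M (χ₀ : G → ℂ)) ψ])
  exact congrFun this g

end pindex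

end Cfsg.Agent.Lib.Helper25
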