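import Mathlib
import Cfsg.Prelude
import Cfsg.Agent.Lib.Helper2.CharCover2
import Cfsg.Agent.Lib.Helper2.CharClifford
import Cfsg.Agent.Lib.Helper2.CharExpand
import Cfsg.Agent.Lib.Helper2.CharDecomp
import Cfsg.Agent.Lib.Helper2.IndFun
import Cfsg.Agent.Lib.Helper2.CharBridge
import Cfsg.Agent.Lib.Helper25.Osima
import Cfsg.Agent.Lib.Helper25.Defect0
import Cfsg.Agent.S0886
import Cfsg.Agent.S1489

set_option autoImplicit false

/-!
Fully ramified characters: if `χ ∈ Irr(H)` restricts to `e θ` on the normal subgroup `Z` with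
`e ^ 2 = |H : Z|`, then `χ` vanishes off `Z`, characters induced from extensions of `θ` are
multiples of `χ`, and `H / Z` has no self-centralizing cyclic subgroup.
-/

namespace Cfsg.Agent.Lib.Helper25

open Cfsg Cfsg.Agent.Lib.Helper2
open scoped ComplexConjugate

section fullyRam

variable {H : Type*} [Group H] [Fintype H]

/-- sum over a subgroup as an indicator sum over the group -/
theorem sum_subgroup_ind (K : Subgroup H) [Fintype K] [DecidablePred (· ∈ K)] (f : H → ℂ) :
    ∑ k : K, f k = ∑ y : H, if y ∈ K then f y else 0 := by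
  rw [← Finset.sum_filter]
  exact (Finset.sum_subtype (Finset.univ.filter (· ∈ K)) (by simp) f).symm

theorem irr_norm_sum {K : Type*} [Group K] [Fintype K] {θ : K → ℂ} (hθ : IsIrrCharacter K θ) :
    ∑ z : K, θ z * conj (θ z) = (Nat.card K : ℂ) := by
  have h1 := classInner_irr_self hθ
  unfold classInner at h1
  have hK : (Nat.card K : ℂ) ≠ 0 := card_ne_zero_complex K
  rw [inv_mul_eq_iff_eq_mul₀ hK] at h1
  rw [h1, mul_one]

/-- a fully ramified character vanishes off the normal subgroup -/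
theorem fullyRam_vanish (Z : Subgroup H) (χ : H → ℂ) (hχ : IsIrrCharacter H χ)
    (θ : Z → ℂ) (hθ : IsIrrCharacter Z θ) (e : ℕ) (he : e ^ 2 = Z.index)
    (hres : ∀ z : Z, χ z = (e : ℂ) * θ z) (h : H) (hh : h ∉ Z) : χ h = 0 := by
  classical
  have h1 := irr_norm_sum hχ
  have h2 := irr_norm_sum hθ
  have h3 : ∑ z : Z, χ z * conj (χ z) = (Nat.card H : ℂ) := by
    calc ∑ z : Z, χ z * conj (χ z) = ∑ z : Z, (e : ℂ) ^ 2 * (θ z * conj (θ z)) := by
          apply Finset.sum_congr rfl
          intro z _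
          rw [hres z, map_mul, Complex.conj_natCast]; ring
      _ = (e : ℂ) ^ 2 * Nat.card Z := by rw [← Finset.mul_sum, h2]
      _ = Nat.card H := by
          rw [← Nat.cast_pow, he, ← Nat.cast_mul, mul_comm, Subgroup.card_mul_index]
  have h4 : ∑ g : H, (if g ∈ Z then 0 else χ g * conj (χ g)) = 0 := by
    have h5 := sum_subgroup_ind Z (fun g => χ g * conj (χ g))
    rw [h3] at h5
    have h6 : ∑ g : H, χ g * conj (χ g)
        = ∑ g : H, (if g ∈ Z then χ g * conj (χ g) else 0)
          + ∑ g : H, (if g ∈ Z then 0 else χ g * conj (χ g)) := by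
      rw [← Finset.sum_add_distrib]
      apply Finset.sum_congr rfl
      intro g _
      split_ifs <;> simp
    rw [h1, ← h5] at h6
    exact (left_eq_add.mp h6)
  have h5 : ∑ g : H, (if g ∈ Z then (0 : ℝ) else Complex.normSq (χ g)) = 0 := by
    have : ((∑ g : H, (if g ∈ Z then (0 : ℝ) else Complex.normSq (χ g)) : ℝ) : ℂ) = 0 := by
      rw [Complex.ofReal_sum, ← h4]
      apply Finset.sum_congr rfl
      intro g _
      split_ifs
      · simp
      · rw [Complex.mul_conj]
    exact_mod_cast this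
  have h6 := (Finset.sum_eq_zero_iff_of_nonneg (fun g _ => by
    split_ifs
    · exact le_refl _
    · exact Complex.normSq_nonneg _)).mp h5 h (Finset.mem_univ _)
  rw [if_neg hh] at h6
  exact Complex.normSq_eq_zero.mp h6

/-- the character induced from an extension of `θ` to an intermediate subgroup vanishes off
`Z` (it is a multiple of the fully ramified character) -/
theorem fullyRam_ind_vanish (Z : Subgroup H) (χ : H → ℂ) (hχ : IsIrrCharacter H χ)
    (θ : Z → ℂ) (hθ : IsIrrCharacter Z θ) (e : ℕ) (he : e ^ 2 = Z.index)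
    (hres : ∀ z : Z, χ z = (e : ℂ) * θ z) (U : Subgroup H) (hZU : Z ≤ U)
    (η : U → ℂ) (hη : IsIrrCharacter U η) (hext : ∀ z : Z, η ⟨z, hZU z.2⟩ = θ z)
    (h : H) (hh : h ∉ Z) : indFun U η h = 0 := by
  classical
  have : Fintype (IrrCharacter H) := Fintype.ofFinite (IrrCharacter H)
  have hvan := fullyRam_vanish Z χ hχ θ hθ e he hres
  have hΨ : IsCharacter H (indFun U η) :=
    indFun_isCharacter U (isCharacter_of_isIrrCharacter hη)
  have h2 := irr_norm_sum hθ
  have hU0 : (Nat.card U : ℂ) ≠ 0 := card_ne_zero_complex U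
  have hfr : classInner (indFun U η) χ = (Nat.card U : ℂ)⁻¹ * ((e : ℂ) * Nat.card Z) := by
    rw [frobenius_reciprocity U η χ (isClassFunction_of_isIrrCharacter hχ)]
    unfold classInner
    congr 1
    calc ∑ u : U, η u * conj (χ u)
        = ∑ u : U, (fun g : H => extendByZero U η g * conj (χ g)) u := by
          apply Finset.sum_congr rfl
          intro u _
          simp only []
          rw [extendByZero_coe]
      _ = ∑ g : H, if g ∈ U then extendByZero U η g * conj (χ g) else 0 :=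
          sum_subgroup_ind U (fun g : H => extendByZero U η g * conj (χ g))
      _ = ∑ g : H, if g ∈ Z then
            (e : ℂ) * (extendByZero Z θ g * conj (extendByZero Z θ g)) else 0 := by
          apply Finset.sum_congr rfl
          intro g _
          by_cases hg : g ∈ Z
          · have h7 : η ⟨g, hZU hg⟩ = θ ⟨g, hg⟩ := hext ⟨g, hg⟩
            have h8 : χ g = (e : ℂ) * θ ⟨g, hg⟩ := hres ⟨g, hg⟩
            rw [if_pos hg, if_pos (hZU hg), extendByZero_of_mem U η (hZU hg),
              extendByZero_of_mem Z θ hg, h7, h8, map_mul, Complex.conj_natCast]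
            ring
          · rw [if_neg hg, hvan g hg, map_zero, mul_zero]
            simp
      _ = ∑ z : Z, (fun g : H =>
            (e : ℂ) * (extendByZero Z θ g * conj (extendByZero Z θ g))) z :=
          (sum_subgroup_ind Z (fun g : H =>
            (e : ℂ) * (extendByZero Z θ g * conj (extendByZero Z θ g)))).symm
      _ = (e : ℂ) * Nat.card Z := by
          rw [← h2, Finset.mul_sum]
          apply Finset.sum_congr rfl
          intro z _
          simp only []
          rw [extendByZero_coe]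
  choose n hn using fun ψ : IrrCharacter H =>
    classInner_isCharacter_nat hΨ (isCharacter_of_isIrrCharacter ψ.2)
  choose d hd using fun ψ : IrrCharacter H => irr_degree ψ
  have hexp := class_fun_expand (indFun U η) (indFun_isClassFunction U η)
  have hind1 : indFun U η 1 = (Nat.card U : ℂ)⁻¹ * (Nat.card H * θ 1) := by
    rw [indFun_apply]
    congr 1
    have h9 : ∀ x : H, extendByZero U η (x⁻¹ * 1 * x) = θ 1 := by
      intro x
      rw [mul_one, inv_mul_cancel, extendByZero_of_mem U η U.one_mem]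
      exact hext 1
    simp only [h9, Finset.sum_const, Finset.card_univ, nsmul_eq_mul, Nat.card_eq_fintype_card]
  have hnχ : (n ⟨χ, hχ⟩ : ℂ) = (Nat.card U : ℂ)⁻¹ * ((e : ℂ) * Nat.card Z) := by
    rw [← hn ⟨χ, hχ⟩]; exact hfr
  have hχ1 : χ 1 = (e : ℂ) * θ 1 := hres 1
  have hcard : (Nat.card H : ℂ) = (e : ℂ) ^ 2 * Nat.card Z := by
    rw [← Nat.cast_pow, he, ← Nat.cast_mul, mul_comm, Subgroup.card_mul_index]
  have hkey : ((n ⟨χ, hχ⟩ * d ⟨χ, hχ⟩ : ℕ) : ℂ) = indFun U η 1 := by
    have h10 : ((d ⟨χ, hχ⟩ : ℕ) : ℂ) = χ 1 := (hd ⟨χ, hχ⟩).1.symm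
    rw [hind1, Nat.cast_mul, hnχ, h10, hχ1, hcard]
    ring
  have hsum : ((∑ ψ : IrrCharacter H, n ψ * d ψ : ℕ) : ℂ) = indFun U η 1 := by
    conv_rhs => rw [hexp]
    rw [Finset.sum_apply, Nat.cast_sum]
    apply Finset.sum_congr rfl
    intro ψ _
    rw [Pi.smul_apply, smul_eq_mul, hn ψ, (hd ψ).1, Nat.cast_mul]
  have hsumeq : ∑ ψ : IrrCharacter H, n ψ * d ψ = n ⟨χ, hχ⟩ * d ⟨χ, hχ⟩ := by
    exact_mod_cast hsum.trans hkey.symm
  have hzero : ∀ ψ : IrrCharacter H, ψ ≠ ⟨χ, hχ⟩ → n ψ = 0 := by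
    intro ψ hψ
    have h10 : ∑ ψ ∈ Finset.univ.erase (⟨χ, hχ⟩ : IrrCharacter H), n ψ * d ψ = 0 := by
      have h12 : n ⟨χ, hχ⟩ * d ⟨χ, hχ⟩
          + ∑ ψ ∈ Finset.univ.erase (⟨χ, hχ⟩ : IrrCharacter H), n ψ * d ψ
          = ∑ ψ : IrrCharacter H, n ψ * d ψ :=
        Finset.add_sum_erase Finset.univ (fun ψ => n ψ * d ψ)
          (Finset.mem_univ (⟨χ, hχ⟩ : IrrCharacter H))
      omega
    have h11 := (Finset.sum_eq_zero_iff.mp h10) ψ
      (Finset.mem_erase.mpr ⟨hψ, Finset.mem_univ _⟩)
    rcases Nat.mul_eq_zero.mp h11 with h | h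
    · exact h
    · exact absurd h (hd ψ).2.1.ne'
  rw [hexp, Finset.sum_apply, Finset.sum_eq_single (⟨χ, hχ⟩ : IrrCharacter H)]
  · rw [Pi.smul_apply, smul_eq_mul]
    show _ * χ h = 0
    rw [hvan h hh, mul_zero]
  · intro ψ _ hψ
    rw [Pi.smul_apply, hn ψ, hzero ψ hψ]
    simp
  · intro hc
    exact absurd (Finset.mem_univ _) hc

end fullyRam

end Cfsg.Agent.Lib.Helper25
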