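import Mathlib
import Cfsg.Prelude
import Cfsg.Agent.Lib.Helper25.FullyRam
import Cfsg.Agent.Lib.Helper2.CharMore

set_option autoImplicit false

/-!
Fully ramified characters, part 4: the key inner product formula, Clifford numerics over an
intermediate normal subgroup, and the DeMeyer–Janusz property (full ramification passes to
subgroups of suitable index).
-/

namespace Cfsg.Agent.Lib.Helper25

open Cfsg Cfsg.Agent.Lib.Helper2
open scoped ComplexConjugate

section tools4

variable {X : Type*} [Group X]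

theorem isCharacter_comp_hom {Y : Type*} [Group Y] {χ : X → ℂ} (hχ : IsCharacter X χ)
    (j : Y →* X) : IsCharacter Y (χ ∘ j) := by
  obtain ⟨n, ρ, rfl⟩ := hχ
  exact ⟨n, ρ.comp j, rfl⟩

theorem card_eq_relIndex_mul_card [Finite X] {A B : Subgroup X} (h : A ≤ B) :
    Nat.card B = A.relIndex B * Nat.card A := by
  have h1 := Subgroup.card_mul_index (A.subgroupOf B)
  rw [Nat.card_congr (Subgroup.subgroupOfEquivOfLe h).toEquiv] at h1
  rw [Subgroup.relIndex, ← h1, mul_comm]

/-- key formula: the inner product of any function on an intermediate subgroup with a fully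
ramified character is computed on `Z` -/
theorem fullyRam_inner [Fintype X] (Z : Subgroup X) [Fintype Z] (σ : X → ℂ)
    (hσ : IsIrrCharacter X σ) (θ : Z → ℂ) (hθ : IsIrrCharacter Z θ) (q : ℕ)
    (hq : q ^ 2 = Z.index) (hres : ∀ z : Z, σ z = (q : ℂ) * θ z) (N : Subgroup X) [Fintype N]
    (hZN : Z ≤ N) (φ : N → ℂ) :
    classInner φ (fun n : N => σ n)
      = (Nat.card N : ℂ)⁻¹ * ((q : ℂ) * Nat.card Z)
        * classInner (fun z : Z => φ ⟨z, hZN z.2⟩) θ := by
  classical
  have hvan := fullyRam_vanish Z σ hσ θ hθ q hq hres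
  have hZ0 : (Nat.card Z : ℂ) ≠ 0 := card_ne_zero_complex Z
  unfold classInner
  have h1 : ∑ n : N, φ n * conj (σ n)
      = (q : ℂ) * ∑ z : Z, φ ⟨z, hZN z.2⟩ * conj (θ z) := by
    have h2 : ∑ n : N, φ n * conj (σ n)
        = ∑ n ∈ Finset.univ.filter (fun n : N => (n : X) ∈ Z), φ n * conj (σ n) := by
      rw [Finset.sum_filter]
      apply Finset.sum_congr rfl
      intro n _
      split_ifs with h
      · rfl
      · rw [hvan n h, map_zero, mul_zero]
    rw [h2, Finset.mul_sum]
    symm
    apply Finset.sum_bij (fun (z : Z) _ => (⟨z, hZN z.2⟩ : N))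
    · intro z _
      rw [Finset.mem_filter]
      exact ⟨Finset.mem_univ _, z.2⟩
    · intro a _ b _ hab
      have h3 := congrArg Subtype.val hab
      exact Subtype.ext h3
    · intro n hn
      rw [Finset.mem_filter] at hn
      exact ⟨⟨n, hn.2⟩, Finset.mem_univ _, Subtype.ext rfl⟩
    · intro z _
      have h4 : σ ((⟨z, hZN z.2⟩ : N) : X) = (q : ℂ) * θ z := hres z
      rw [h4, map_mul, Complex.conj_natCast]
      ring
  rw [h1]
  field_simp

/-- a subcharacter of a multiple of an irreducible character is a multiple of it -/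
theorem isCharacter_sub_multiple {W : Type*} [Group W] [Fintype W] {θ : W → ℂ}
    (hθ : IsIrrCharacter W θ) {Ψ Φ : W → ℂ} (b : ℕ) (hΨ : Ψ = (b : ℂ) • θ)
    (hΦ : IsCharacter W Φ) (hsub : IsCharacter W (Ψ - Φ)) :
    ∃ b' : ℕ, Φ = (b' : ℂ) • θ ∧ classInner Φ θ = b' := by
  classical
  have : Fintype (IrrCharacter W) := Fintype.ofFinite _
  obtain ⟨b', hb'⟩ := classInner_isCharacter_nat hΦ (isCharacter_of_isIrrCharacter hθ)
  refine ⟨b', ?_, hb'⟩
  have hexp := class_fun_expand Φ (isClassFunction_of_isCharacter hΦ)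
  conv_lhs => rw [hexp]
  rw [Finset.sum_eq_single (⟨θ, hθ⟩ : IrrCharacter W)]
  · rw [hb']
  · intro ψ _ hψ
    obtain ⟨n1, hn1⟩ := classInner_isCharacter_nat hΦ (isCharacter_of_isIrrCharacter ψ.2)
    obtain ⟨n2, hn2⟩ := classInner_isCharacter_nat hsub (isCharacter_of_isIrrCharacter ψ.2)
    have hne : θ ≠ ψ.1 := by
      intro h
      apply hψ
      exact Subtype.ext h.symm
    rw [classInner_sub_left, hΨ, classInner_smul_left, classInner_irr_ne hθ ψ.2 hne, mul_zero,
      hn1] at hn2
    have h3 : ((n1 + n2 : ℕ) : ℂ) = 0 := by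
      push_cast
      rw [← hn2]
      ring
    have h4 : n1 + n2 = 0 := by exact_mod_cast h3
    have h5 : n1 = 0 := by omega
    rw [hn1, h5]
    simp
  · intro h
    exact absurd (Finset.mem_univ _) h

/-- Clifford numerics for a fully ramified character over an intermediate normal subgroup -/
theorem fullyRam_clifford [Fintype X] (Z : Subgroup X) [Fintype Z] (σ : X → ℂ)
    (hσ : IsIrrCharacter X σ) (θ : Z → ℂ) (hθ : IsIrrCharacter Z θ) (q : ℕ)
    (hq : q ^ 2 = Z.index) (hres : ∀ z : Z, σ z = (q : ℂ) * θ z)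
    (N : Subgroup X) [hN : N.Normal] [Fintype N] (hZN : Z ≤ N)
    (η : N → ℂ) (hη : IsIrrCharacter N η) (f : ℕ)
    (hf : classInner (fun n : N => σ n) η = f) (hf0 : f ≠ 0)
    (O : Finset (N → ℂ)) (hO : ∀ η' : N → ℂ, η' ∈ O ↔ ∃ g : X, η' = Helper2.conjFun N η g) :
    f ^ 2 * O.card = N.index ∧ σ 1 = (f : ℂ) * O.card * η 1 ∧
    (∀ η' : N → ℂ, IsIrrCharacter N η' →
      (η' ∈ O ↔ classInner (fun z : Z => η' ⟨z, hZN z.2⟩) θ ≠ 0)) := by
  classical
  have : Fintype (IrrCharacter N) := Fintype.ofFinite _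
  have hσN : IsCharacter N (fun n : N => σ n) :=
    IsCharacter.restrict (isCharacter_of_isIrrCharacter hσ) N
  have hcf : IsClassFunction X σ := isClassFunction_of_isIrrCharacter hσ
  have hfc : (f : ℂ) ≠ 0 := by exact_mod_cast hf0
  have hq0 : q ≠ 0 := by
    intro h0
    rw [h0] at hq
    apply Subgroup.index_ne_zero_of_finite (H := Z)
    rw [← hq]
    norm_num
  have hqc : (q : ℂ) ≠ 0 := by exact_mod_cast hq0
  have hZ0 : (Nat.card Z : ℂ) ≠ 0 := card_ne_zero_complex Z
  have hN0 : (Nat.card N : ℂ) ≠ 0 := card_ne_zero_complex N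
  have hin : ∀ η' ∈ O, classInner (fun n : N => σ n) η' = f := by
    intro η' h
    obtain ⟨g, rfl⟩ := (hO η').mp h
    rw [classInner_restrict_conjFun N hcf η g, hf]
  have hout : ∀ η' : N → ℂ, IsIrrCharacter N η' → η' ∉ O →
      classInner (fun n : N => σ n) η' = 0 := by
    intro η' hη' h
    apply clifford_conj N hσ hη (by rw [hf]; exact hfc) hη'
    intro g hg
    exact h ((hO _).mpr ⟨g, hg⟩)
  have hOirr : ∀ η' ∈ O, IsIrrCharacter N η' := by
    intro η' h
    obtain ⟨g, rfl⟩ := (hO η').mp h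
    exact conjFun_irr N hη g
  have hexp : (fun n : N => σ n) = (f : ℂ) • ∑ η' ∈ O, η' := by
    have h1 := class_fun_expand (fun n : N => σ n) (isClassFunction_of_isCharacter hσN)
    calc (fun n : N => σ n)
        = ∑ ψ : IrrCharacter N, classInner (fun n : N => σ n) ψ.1 • ψ.1 := h1
      _ = ∑ ψ : IrrCharacter N, (if ψ.1 ∈ O then (f : ℂ) • ψ.1 else 0) := by
          apply Finset.sum_congr rfl
          intro ψ _
          split_ifs with h
          · rw [hin _ h]
          · rw [hout ψ.1 ψ.2 h, zero_smul]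
      _ = ∑ η' ∈ O, (f : ℂ) • η' := by
          rw [← Finset.sum_filter]
          apply Finset.sum_bij (fun (ψ : IrrCharacter N) _ => ψ.1)
          · intro ψ hψ
            exact (Finset.mem_filter.mp hψ).2
          · intro a _ b _ hab
            exact Subtype.ext hab
          · intro η' hη'
            exact ⟨⟨η', hOirr η' hη'⟩, Finset.mem_filter.mpr ⟨Finset.mem_univ _, hη'⟩, rfl⟩
          · intro ψ _
            rfl
      _ = (f : ℂ) • ∑ η' ∈ O, η' := by rw [Finset.smul_sum]
  have hcardX : (Nat.card X : ℂ) = (q : ℂ) ^ 2 * Nat.card Z := by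
    rw [← Nat.cast_pow, hq, ← Nat.cast_mul, mul_comm, Subgroup.card_mul_index]
  have hcardX' : (Nat.card X : ℂ) = (Nat.card N : ℂ) * N.index := by
    rw [← Nat.cast_mul, Subgroup.card_mul_index]
  have hnorm : classInner (fun n : N => σ n) (fun n : N => σ n) = (N.index : ℂ) := by
    rw [fullyRam_inner Z σ hσ θ hθ q hq hres N hZN (fun n : N => σ n)]
    have h2 : classInner (fun z : Z => (fun n : N => σ n) ⟨z, hZN z.2⟩) θ = q := by
      have h3 : (fun z : Z => (fun n : N => σ n) ⟨z, hZN z.2⟩) = (q : ℂ) • θ := by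
        funext z
        exact hres z
      rw [h3, classInner_smul_left, classInner_irr_self hθ, mul_one]
    rw [h2]
    have h4 : (Nat.card N : ℂ)⁻¹ * ((q : ℂ) * Nat.card Z) * q
        = (Nat.card N : ℂ)⁻¹ * Nat.card X := by
      rw [hcardX]; ring
    rw [h4, hcardX', inv_mul_cancel_left₀ hN0]
  have hnorm2 : classInner (fun n : N => σ n) (fun n : N => σ n)
      = (f : ℂ) * O.card * f := by
    conv_lhs => rw [hexp]
    rw [classInner_smul_left, classInner_sum_left]
    have h5 : ∀ η' ∈ O, classInner η' ((f : ℂ) • ∑ η' ∈ O, η') = f := by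
      intro η' h
      rw [← hexp, ← classInner_conj_symm, hin η' h, Complex.conj_natCast]
    rw [Finset.sum_congr rfl h5, Finset.sum_const, nsmul_eq_mul]
    ring
  refine ⟨?_, ?_, ?_⟩
  · have h6 : ((f ^ 2 * O.card : ℕ) : ℂ) = (N.index : ℂ) := by
      rw [← hnorm, hnorm2]
      push_cast
      ring
    exact_mod_cast h6
  · have h7 : σ 1 = (fun n : N => σ n) 1 := rfl
    rw [h7, hexp, Pi.smul_apply, Finset.sum_apply, smul_eq_mul]
    have h8 : ∀ η' ∈ O, η' 1 = η 1 := by
      intro η' h
      obtain ⟨g, rfl⟩ := (hO η').mp h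
      rw [conjFun_apply]
      congr 1
      apply Subtype.ext
      simp
    rw [Finset.sum_congr rfl h8, Finset.sum_const, nsmul_eq_mul]
    ring
  · intro η' hη'
    have h9 := fullyRam_inner Z σ hσ θ hθ q hq hres N hZN η'
    have h10 : classInner η' (fun n : N => σ n)
        = conj (classInner (fun n : N => σ n) η') := (classInner_conj_symm _ _).symm
    constructor
    · intro h hzero
      rw [hzero, mul_zero, h10, hin η' h, Complex.conj_natCast] at h9
      exact hfc h9
    · intro h
      by_contra hno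
      rw [h10, hout η' hη' hno, map_zero] at h9
      have h11 := h9.symm
      rcases mul_eq_zero.mp h11 with h12 | h12
      · rcases mul_eq_zero.mp h12 with h13 | h13
        · exact hN0 (inv_eq_zero.mp h13)
        · rcases mul_eq_zero.mp h13 with h14 | h14
          · exact hqc h14
          · exact hZ0 h14
      · exact h h12

end tools4

end Cfsg.Agent.Lib.Helper25
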