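import Mathlib
import Cfsg.Agent.Lib.Helper25.WeakOrth
import Cfsg.Agent.Lib.Helper25.SecondSum2
import Cfsg.Agent.Lib.Helper8.Covering
import Cfsg.Agent.Lib.Helper8.BlockNormal

/-!
# The principal block and the sums over the `p`-regular elements; covering of principal blocks
-/

set_option autoImplicit false

namespace Cfsg.Agent.Lib.Helper25

open Cfsg Cfsg.Agent.Lib.Helper2 Cfsg.Agent.Lib.Helper8

open scoped ComplexConjugate

section regcount

variable {K : Type*} [Group K] [Fintype K]

omit [Fintype K] in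
/-- every `p`-element of the centralizer of a Sylow `p`-subgroup lies in the Sylow subgroup -/
theorem mem_sylow_of_mem_centralizer [Finite K] {p : ℕ} [Fact p.Prime] (P : Sylow p K) (c : K)
    (hc : c ∈ Subgroup.centralizer ((P : Subgroup K) : Set K))
    (hcp : ∃ k : ℕ, orderOf c = p ^ k) : c ∈ (P : Subgroup K) := by
  obtain ⟨k, hk⟩ := hcp
  have h1 : IsPGroup p (Subgroup.zpowers c) :=
    IsPGroup.of_card (n := k) (by rw [Nat.card_zpowers, hk])
  have h2 : Subgroup.zpowers c ≤ Subgroup.normalizer ((P : Subgroup K) : Set K) := by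
    rw [Subgroup.zpowers_le]
    exact Subgroup.centralizer_le_normalizer _ hc
  have h3 : IsPGroup p (Subgroup.zpowers c ⊔ (P : Subgroup K) : Subgroup K) :=
    IsPGroup.to_sup_of_normal_right' h1 P.isPGroup' h2
  have h4 := P.is_maximal' h3 le_sup_right
  have h5 : c ∈ Subgroup.zpowers c ⊔ (P : Subgroup K) :=
    Subgroup.mem_sup_left (Subgroup.mem_zpowers c)
  rw [h4] at h5
  exact h5

omit [Fintype K] in
theorem exists_orderOf_eq_pow {p : ℕ} [hp : Fact p.Prime] {g : K} {k : ℕ}
    (h : g ^ p ^ k = 1) : ∃ j : ℕ, orderOf g = p ^ j := by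
  obtain ⟨j, -, hj⟩ := (Nat.dvd_prime_pow hp.out).mp (orderOf_dvd_of_pow_eq_one h)
  exact ⟨j, hj⟩

omit [Fintype K] in
/-- **the number of `p`-regular elements of a finite group is prime to `p`** -/
theorem not_dvd_card_regular [Finite K] (p : ℕ) [Fact p.Prime] :
    ¬ p ∣ Nat.card {g : K // ¬ p ∣ orderOf g} := by
  classical
  have hp : p.Prime := Fact.out
  obtain ⟨P⟩ : Nonempty (Sylow p K) := inferInstance
  -- the conjugation action of `P` on the regular elements
  let act : MulAction (P : Subgroup K) {g : K // ¬ p ∣ orderOf g} :=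
    { smul := fun u g => ⟨(u : K) * g.1 * (u : K)⁻¹, by
        have h := orderOf_injective (MulAut.conj (u : K)).toMonoidHom
          (MulAut.conj (u : K)).injective g.1
        intro h'
        apply g.2
        rw [← h]
        exact h'⟩
      one_smul := fun g => Subtype.ext (by
        show ((1 : (P : Subgroup K)) : K) * g.1 * ((1 : (P : Subgroup K)) : K)⁻¹ = g.1
        simp)
      mul_smul := fun u v g => Subtype.ext (by
        show ((u * v : (P : Subgroup K)) : K) * g.1 * ((u * v : (P : Subgroup K)) : K)⁻¹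
          = (u : K) * ((v : K) * g.1 * (v : K)⁻¹) * (u : K)⁻¹
        simp [mul_assoc]) }
  have h1 := P.isPGroup'.card_modEq_card_fixedPoints {g : K // ¬ p ∣ orderOf g}
  have hfix : Nat.card (MulAction.fixedPoints (P : Subgroup K) {g : K // ¬ p ∣ orderOf g})
      = Nat.card {y : K // y ∈ Subgroup.centralizer ((P : Subgroup K) : Set K)
        ∧ ¬ p ∣ orderOf y} := by
    apply Nat.card_congr
    refine ⟨fun g => ⟨g.1.1, ?_, g.1.2⟩, fun y => ⟨⟨y.1, y.2.2⟩, ?_⟩, fun g => rfl, fun y => rfl⟩
    · rw [Subgroup.mem_centralizer_iff]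
      intro u hu
      have h2 := g.2 ⟨u, hu⟩
      have h3 : u * g.1.1 * u⁻¹ = g.1.1 := congrArg Subtype.val h2
      calc u * g.1.1 = (u * g.1.1 * u⁻¹) * u := by group
        _ = g.1.1 * u := by rw [h3]
    · intro u
      apply Subtype.ext
      show (u : K) * y.1 * (u : K)⁻¹ = y.1
      have h2 := Subgroup.mem_centralizer_iff.mp y.2.1 (u : K) u.2
      rw [h2]
      group
  obtain ⟨e, e', he, he', hee', -⟩ := exists_ppart_exp (G := K) (p := p)
  have hbij : Nat.card ((P : Subgroup K) ⊓ Subgroup.centralizer ((P : Subgroup K) : Set K)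
        : Subgroup K)
      * Nat.card {y : K // y ∈ Subgroup.centralizer ((P : Subgroup K) : Set K)
        ∧ ¬ p ∣ orderOf y}
      = Nat.card (Subgroup.centralizer ((P : Subgroup K) : Set K)) := by
    rw [← Nat.card_prod]
    apply Nat.card_congr
    refine Equiv.ofBijective (fun zy : ((P : Subgroup K) ⊓
        Subgroup.centralizer ((P : Subgroup K) : Set K) : Subgroup K)
        × {y : K // y ∈ Subgroup.centralizer ((P : Subgroup K) : Set K) ∧ ¬ p ∣ orderOf y} =>
      (⟨(zy.1 : K) * zy.2.1, Subgroup.mul_mem _ zy.1.2.2 zy.2.2.1⟩ :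
        Subgroup.centralizer ((P : Subgroup K) : Set K))) ⟨?_, ?_⟩
    · rintro ⟨z, y⟩ ⟨z', y'⟩ h
      have h0 : (z : K) * y.1 = (z' : K) * y'.1 := congrArg Subtype.val h
      have hw : ((z' : K)⁻¹ * (z : K)) * y.1 = y'.1 := by
        rw [mul_assoc, h0]
        group
      have hwP : (z' : K)⁻¹ * (z : K) ∈ (P : Subgroup K) :=
        Subgroup.mul_mem _ (Subgroup.inv_mem _ z'.2.1) z.2.1
      have hcomm : Commute ((z' : K)⁻¹ * (z : K)) y.1 :=
        Subgroup.mem_centralizer_iff.mp y.2.1 _ hwP
      obtain ⟨k, hk⟩ := P.isPGroup' ⟨_, hwP⟩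
      obtain ⟨j, hj⟩ := exists_orderOf_eq_pow (p := p)
        (show ((z' : K)⁻¹ * (z : K)) ^ p ^ k = 1 from congrArg Subtype.val hk)
      have hcop : (orderOf ((z' : K)⁻¹ * (z : K))).Coprime (orderOf y.1) := by
        rw [hj]
        exact Nat.Coprime.pow_left _ ((Nat.Prime.coprime_iff_not_dvd hp).mpr y.2.2)
      have hord := hcomm.orderOf_mul_eq_mul_orderOf_of_coprime hcop
      rw [hw] at hord
      have hj0 : j = 0 := by
        by_contra hne
        apply y'.2.2
        rw [hord, hj]
        exact Dvd.dvd.mul_right (dvd_pow_self p hne) _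
      have hw1 : (z' : K)⁻¹ * (z : K) = 1 := by
        rw [← orderOf_eq_one_iff, hj, hj0, pow_zero]
      have hzz : (z : K) = z' := by
        calc (z : K) = z' * ((z' : K)⁻¹ * z) := by group
          _ = z' := by rw [hw1, mul_one]
      have hyy : y.1 = y'.1 := by
        rw [hw1, one_mul] at hw
        exact hw
      exact Prod.ext (Subtype.ext hzz) (Subtype.ext hyy)
    · intro c
      have hcC : (c : K) ^ e ∈ Subgroup.centralizer ((P : Subgroup K) : Set K) :=
        Subgroup.pow_mem _ c.2 e
      have hcp : (c : K) ^ e ∈ (P : Subgroup K) :=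
        mem_sylow_of_mem_centralizer P _ hcC (he c)
      refine ⟨(⟨(c : K) ^ e, hcp, hcC⟩, ⟨(c : K) ^ e', Subgroup.pow_mem _ c.2 e', he' c⟩), ?_⟩
      exact Subtype.ext (hee' c)
  have hF : ¬ p ∣ Nat.card {y : K // y ∈ Subgroup.centralizer ((P : Subgroup K) : Set K)
        ∧ ¬ p ∣ orderOf y} := by
    intro hdiv
    obtain ⟨j, hj⟩ := IsPGroup.iff_card.mp (P.isPGroup'.to_le inf_le_left :
      IsPGroup p ((P : Subgroup K) ⊓ Subgroup.centralizer ((P : Subgroup K) : Set K)
        : Subgroup K))
    obtain ⟨Q⟩ : Nonempty (Sylow p (Subgroup.centralizer ((P : Subgroup K) : Set K))) :=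
      inferInstance
    have hQ := Q.card_eq_multiplicity
    have hQZ : Nat.card Q ≤ Nat.card ((P : Subgroup K) ⊓
        Subgroup.centralizer ((P : Subgroup K) : Set K) : Subgroup K) := by
      have hmem : ∀ q : Q, ((q : Subgroup.centralizer ((P : Subgroup K) : Set K)) : K)
          ∈ ((P : Subgroup K) ⊓ Subgroup.centralizer ((P : Subgroup K) : Set K)
            : Subgroup K) := by
        intro q
        obtain ⟨k, hk⟩ := Q.isPGroup' q
        have hk' : ((q : Subgroup.centralizer ((P : Subgroup K) : Set K)) : K) ^ p ^ k = 1 := by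
          have := congrArg Subtype.val (congrArg Subtype.val hk)
          simpa using this
        exact ⟨mem_sylow_of_mem_centralizer P _ (q : Subgroup.centralizer
          ((P : Subgroup K) : Set K)).2 (exists_orderOf_eq_pow hk'),
          (q : Subgroup.centralizer ((P : Subgroup K) : Set K)).2⟩
      apply Nat.card_le_card_of_injective (fun q : Q => (⟨_, hmem q⟩ :
        ((P : Subgroup K) ⊓ Subgroup.centralizer ((P : Subgroup K) : Set K) : Subgroup K)))
      intro q q' h
      have h' : ((q : Subgroup.centralizer ((P : Subgroup K) : Set K)) : K)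
          = ((q' : Subgroup.centralizer ((P : Subgroup K) : Set K)) : K) := by
        have h2 := congrArg Subtype.val h
        exact h2
      exact Subtype.ext (Subtype.ext h')
    have h3 : p ^ (j + 1) ∣ Nat.card (Subgroup.centralizer ((P : Subgroup K) : Set K)) := by
      rw [← hbij, hj, pow_succ]
      exact Nat.mul_dvd_mul_left _ hdiv
    have h4 : j + 1 ≤ (Nat.card (Subgroup.centralizer
        ((P : Subgroup K) : Set K))).factorization p :=
      (hp.pow_dvd_iff_le_factorization Nat.card_pos.ne').mp h3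
    rw [hQ, hj] at hQZ
    have h5 := (Nat.pow_le_pow_iff_right hp.one_lt).mp hQZ
    omega
  intro hdvd
  apply hF
  rw [← hfix]
  exact (Nat.modEq_zero_iff_dvd).mp (h1.symm.trans ((Nat.modEq_zero_iff_dvd).mpr hdvd))

end regcount

section regsum

variable {K : Type*} [Group K] [Fintype K] {p : ℕ} {M : Ideal AlgInt}

/-- the sum of a character of the principal block over the `p`-regular elements is not
zero -/
theorem sum_regular_ne_zero [Fact p.Prime] (hM : IsPModular p M) (χ : IrrCharacter K)
    (hχ : χ ∈ principalBlock M K) :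
    ∑ g : K, (if p ∣ orderOf g then (0 : ℂ) else 1) * (χ : K → ℂ) g ≠ 0 := by
  classical
  have hpr := isPrime_of_isPModular hM
  obtain ⟨r, hrdef⟩ : ∃ r : K → ℂ, r = fun g => if p ∣ orderOf g then (0 : ℂ) else 1 :=
    ⟨_, rfl⟩
  have hr : IsClassFunction K r := by
    intro g h
    rw [hrdef]
    show (if p ∣ orderOf (h * g * h⁻¹) then (0 : ℂ) else 1) = if p ∣ orderOf g then 0 else 1
    have e := orderOf_injective (MulAut.conj h).toMonoidHom (MulAut.conj h).injective g
    have e' : orderOf (h * g * h⁻¹) = orderOf g := e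
    rw [e']
  have hR : ∀ g, MemLocalRing M (r g) := by
    intro g
    rw [hrdef]
    show MemLocalRing M (if p ∣ orderOf g then (0 : ℂ) else 1)
    split_ifs
    · exact memLocalRing_zero M
    · exact memLocalRing_one M
  have h1 := omegaFun_sub_mem hM (⟨fun _ => 1, isIrrCharacter_one⟩ : IrrCharacter K) χ hχ
    r hr hR
  have h2 : omegaFun (fun _ : K => (1 : ℂ)) r
      = (Nat.card {g : K // ¬ p ∣ orderOf g} : ℂ) := by
    unfold omegaFun
    rw [div_one, Nat.card_eq_fintype_card, Fintype.card_subtype, Finset.card_filter]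
    push_cast
    apply Finset.sum_congr rfl
    intro g _
    rw [hrdef, mul_one]
    show (if p ∣ orderOf g then (0 : ℂ) else 1) = if ¬ p ∣ orderOf g then 1 else 0
    split_ifs <;> rfl
  intro h0
  have h3 : omegaFun (χ : K → ℂ) r = 0 := by
    unfold omegaFun
    rw [hrdef, h0, zero_div]
  have h4 : MemLocalIdeal M ((Nat.card {g : K // ¬ p ∣ orderOf g} : ℕ) : ℂ) := by
    have h5 : omegaFun (fun _ : K => (1 : ℂ)) r - omegaFun (χ : K → ℂ) r
        = ((Nat.card {g : K // ¬ p ∣ orderOf g} : ℕ) : ℂ) := by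
      rw [h2, h3, sub_zero]
    rw [← h5]
    exact h1
  exact not_dvd_card_regular p ((memLocalIdeal_natCast_iff hM _).mp h4)

/-- characters in different blocks are orthogonal on the `p`-regular elements -/
theorem sum_regular_conj_mul_eq_zero [Fact p.Prime] (hM : IsPModular p M)
    (B : Set (IrrCharacter K)) (hB : BlockClosed M B) (χ₀ : IrrCharacter K) (hχ₀ : χ₀ ∉ B)
    (χ₁ : IrrCharacter K) (hχ₁ : χ₁ ∈ B) :
    ∑ y : K, (if p ∣ orderOf y then (0 : ℂ) else 1)
      * (conj ((χ₀ : K → ℂ) y) * (χ₁ : K → ℂ) y) = 0 := by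
  classical
  have : Fintype (IrrCharacter K) := Fintype.ofFinite _
  obtain ⟨r, hrdef⟩ : ∃ r : K → ℂ, r = fun g => if p ∣ orderOf g then (0 : ℂ) else 1 :=
    ⟨_, rfl⟩
  have hr0 : ∀ y : K, p ∣ orderOf y → r y = 0 := fun y hy => by rw [hrdef]; exact if_pos hy
  have hr1 : ∀ y : K, ¬ p ∣ orderOf y → r y = 1 := fun y hy => by rw [hrdef]; exact if_neg hy
  have hrc : ∀ y : K, conj (r y) = r y := by
    intro y
    by_cases hy : p ∣ orderOf y
    · rw [hr0 y hy, map_zero]
    · rw [hr1 y hy, map_one]
  obtain ⟨a, hadef⟩ : ∃ a : IrrCharacter K → ℂ,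
      a = fun χ : IrrCharacter K =>
        ∑ y : K, r y * (conj ((χ₀ : K → ℂ) y) * (χ : K → ℂ) y) := ⟨_, rfl⟩
  have h3 : ∀ x : K, ¬ p ∣ orderOf x → ∑ χ : IrrCharacter K,
      (if χ ∈ B then (1 : ℂ) else 0) * (a χ * conj ((χ : K → ℂ) x)) = 0 := by
    intro x hx
    have e1 : ∑ χ : IrrCharacter K, (if χ ∈ B then (1 : ℂ) else 0)
          * (a χ * conj ((χ : K → ℂ) x))
        = ∑ y : K, r y * (conj ((χ₀ : K → ℂ) y) * ∑ χ : IrrCharacter K,
          (if χ ∈ B then (1 : ℂ) else 0) * ((χ : K → ℂ) y * conj ((χ : K → ℂ) x))) := by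
      rw [hadef]
      simp only [Finset.mul_sum, Finset.sum_mul]
      rw [Finset.sum_comm]
      apply Finset.sum_congr rfl
      intro y _
      apply Finset.sum_congr rfl
      intro χ _
      ring
    rw [e1]
    have e2 : ∀ y : K, r y * (conj ((χ₀ : K → ℂ) y) * ∑ χ : IrrCharacter K,
          (if χ ∈ B then (1 : ℂ) else 0) * ((χ : K → ℂ) y * conj ((χ : K → ℂ) x)))
        = conj ((χ₀ : K → ℂ) y) * ∑ χ : IrrCharacter K,
          (if χ ∈ B then (1 : ℂ) else 0) * ((χ : K → ℂ) y * conj ((χ : K → ℂ) x)) := by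
      intro y
      by_cases hy : p ∣ orderOf y
      · have h0 := block_orth hM B hB x y hx hy
        have h0' : ∑ χ : IrrCharacter K, (if χ ∈ B then (1 : ℂ) else 0)
            * ((χ : K → ℂ) y * conj ((χ : K → ℂ) x)) = 0 := by
          have h00 := congrArg conj h0
          rw [map_sum, map_zero] at h00
          refine Eq.trans (Finset.sum_congr rfl ?_) h00
          intro χ _
          rw [map_mul, map_mul, Complex.conj_conj]
          by_cases hχ : χ ∈ B
          · rw [if_pos hχ, map_one]
            ring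
          · rw [if_neg hχ, map_zero, zero_mul, zero_mul]
        rw [h0', mul_zero, mul_zero]
      · rw [hr1 y hy, one_mul]
    rw [Finset.sum_congr rfl (fun y _ => e2 y)]
    simp only [Finset.mul_sum]
    rw [Finset.sum_comm]
    apply Finset.sum_eq_zero
    intro χ _
    by_cases hχ : χ ∈ B
    · have hne : (χ : K → ℂ) ≠ (χ₀ : K → ℂ) := fun h => hχ₀ ((Subtype.ext h : χ = χ₀) ▸ hχ)
      have hin := classInner_irr_ne χ.2 χ₀.2 hne
      rw [classInner_def] at hin
      have hsum : ∑ y : K, (χ : K → ℂ) y * conj ((χ₀ : K → ℂ) y) = 0 := by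
        have hcard := card_ne_zero_complex K
        rcases mul_eq_zero.mp hin with h | h
        · exact absurd (inv_eq_zero.mp h) hcard
        · exact h
      rw [if_pos hχ]
      calc ∑ y : K, conj ((χ₀ : K → ℂ) y) * (1 * ((χ : K → ℂ) y * conj ((χ : K → ℂ) x)))
          = conj ((χ : K → ℂ) x) * ∑ y : K, (χ : K → ℂ) y * conj ((χ₀ : K → ℂ) y) := by
            rw [Finset.mul_sum]
            apply Finset.sum_congr rfl
            intro y _
            ring
        _ = 0 := by rw [hsum, mul_zero]
    · simp [if_neg hχ]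
  have hconj : ∀ χ : IrrCharacter K, conj (a χ)
      = ∑ x : K, r x * ((χ₀ : K → ℂ) x * conj ((χ : K → ℂ) x)) := by
    intro χ
    rw [hadef]
    simp only [map_sum, map_mul, Complex.conj_conj, hrc]
  have h4 : ∑ χ : IrrCharacter K, (if χ ∈ B then (1 : ℂ) else 0) * (a χ * conj (a χ)) = 0 := by
    have e : ∑ χ : IrrCharacter K, (if χ ∈ B then (1 : ℂ) else 0) * (a χ * conj (a χ))
        = ∑ x : K, r x * ((χ₀ : K → ℂ) x * ∑ χ : IrrCharacter K,
          (if χ ∈ B then (1 : ℂ) else 0) * (a χ * conj ((χ : K → ℂ) x))) := by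
      simp only [hconj, Finset.mul_sum]
      rw [Finset.sum_comm]
      apply Finset.sum_congr rfl
      intro x _
      apply Finset.sum_congr rfl
      intro χ _
      ring
    rw [e]
    apply Finset.sum_eq_zero
    intro x _
    by_cases hx : p ∣ orderOf x
    · rw [hr0 x hx, zero_mul]
    · rw [h3 x hx, mul_zero, mul_zero]
  have h5 : ∀ χ : IrrCharacter K, χ ∈ B → a χ = 0 := by
    have hnn : ∀ χ ∈ (Finset.univ : Finset (IrrCharacter K)),
        0 ≤ (if χ ∈ B then (1 : ℝ) else 0) * Complex.normSq (a χ) := by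
      intro χ _
      split_ifs
      · rw [one_mul]
        exact Complex.normSq_nonneg _
      · rw [zero_mul]
    have hre : ∑ χ : IrrCharacter K, (if χ ∈ B then (1 : ℝ) else 0) * Complex.normSq (a χ)
        = 0 := by
      have h6 := congrArg Complex.re h4
      rw [Complex.re_sum, Complex.zero_re] at h6
      refine Eq.trans (Finset.sum_congr rfl ?_) h6
      intro χ _
      rw [Complex.mul_conj]
      by_cases hχ : χ ∈ B
      · rw [if_pos hχ, if_pos hχ, one_mul, one_mul, Complex.ofReal_re]
      · rw [if_neg hχ, if_neg hχ, zero_mul, zero_mul, Complex.zero_re]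
    intro χ hχ
    have h7 := (Finset.sum_eq_zero_iff_of_nonneg hnn).mp hre χ (Finset.mem_univ _)
    rw [if_pos hχ, one_mul] at h7
    exact Complex.normSq_eq_zero.mp h7
  have h8 := h5 χ₁ hχ₁
  rw [hadef, hrdef] at h8
  exact h8

end regsum

section cover

variable {G : Type*} [Group G] [Fintype G] {p : ℕ} {M : Ideal AlgInt}

/-- the irreducible constituents of the restriction of a character of the principal block to
a normal subgroup lie in the principal block -/
theorem principal_constituent [Fact p.Prime] (hM : IsPModular p M) (H : Subgroup G)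
    [hH : H.Normal] [Fintype H] (χ : IrrCharacter G) (hχ : χ ∈ principalBlock M G)
    (θ : IrrCharacter H)
    (he : classInner (fun h : H => (χ : G → ℂ) h) (θ : H → ℂ) ≠ 0) :
    θ ∈ principalBlock M H := by
  classical
  have hpr := isPrime_of_isPModular hM
  have hb : IsPBlock M (principalBlock M H) := ⟨⟨fun _ => 1, isIrrCharacter_one⟩, rfl⟩
  have h1 : classInner (fun n : H =>
        ((⟨fun _ => 1, isIrrCharacter_one⟩ : IrrCharacter G) : G → ℂ) n)
      ((⟨fun _ => 1, isIrrCharacter_one⟩ : IrrCharacter H) : H → ℂ) ≠ 0 := by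
    have h0 := classInner_irr_self (isIrrCharacter_one (G := H))
    intro h
    have h' : classInner (fun _ : H => (1 : ℂ)) (fun _ : H => (1 : ℂ)) = 0 := h
    rw [h0] at h'
    exact one_ne_zero h'
  have h2 := mem_conjOrbit_of_sameBlock H hM hb
    (⟨fun _ => 1, isIrrCharacter_one⟩ : IrrCharacter G) χ hχ
    (⟨fun _ => 1, isIrrCharacter_one⟩ : IrrCharacter H) (sameBlock_refl M _) h1 θ he
  obtain ⟨g, hg⟩ := h2
  have h3 : SameBlock M (fun _ : H => (1 : ℂ)) (Helper2.conjFun H (θ : H → ℂ) g) := hg
  have h4 := sameBlock_conjFun H h3 g⁻¹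
  have e1 : Helper2.conjFun H (fun _ : H => (1 : ℂ)) g⁻¹ = fun _ => 1 := rfl
  have e2 : Helper2.conjFun H (Helper2.conjFun H (θ : H → ℂ) g) g⁻¹ = (θ : H → ℂ) := by
    rw [← conjFun_mul, mul_inv_cancel, conjFun_one]
  rw [e1, e2] at h4
  exact h4

/-- every character of the principal block of a subgroup lies under a character of the
principal block of the group -/
theorem exists_principal_over [Fact p.Prime] (hM : IsPModular p M) (H : Subgroup G)
    [Fintype H] (θ : IrrCharacter H) (hθ : θ ∈ principalBlock M H) :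
    ∃ χ : IrrCharacter G, χ ∈ principalBlock M G ∧
      classInner (fun h : H => (χ : G → ℂ) h) (θ : H → ℂ) ≠ 0 := by
  classical
  have hpr := isPrime_of_isPModular hM
  have : Fintype (IrrCharacter G) := Fintype.ofFinite _
  obtain ⟨r, hrdef⟩ : ∃ r : G → ℂ, r = fun g => if p ∣ orderOf g then (0 : ℂ) else 1 :=
    ⟨_, rfl⟩
  have hr : IsClassFunction G r := by
    intro g h
    rw [hrdef]
    show (if p ∣ orderOf (h * g * h⁻¹) then (0 : ℂ) else 1) = if p ∣ orderOf g then 0 else 1
    have e := orderOf_injective (MulAut.conj h).toMonoidHom (MulAut.conj h).injective g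
    have e' : orderOf (h * g * h⁻¹) = orderOf g := e
    rw [e']
  have hexp := class_fun_expand r hr
  have hzero : ∀ χ : IrrCharacter G, χ ∉ principalBlock M G →
      classInner r (χ : G → ℂ) = 0 := by
    intro χ hχ
    have h := sum_regular_conj_mul_eq_zero hM (principalBlock M G) (blockClosed_principal M)
      χ hχ ⟨fun _ => 1, isIrrCharacter_one⟩ (sameBlock_refl M _)
    rw [classInner_def]
    have h' : ∑ g : G, r g * conj ((χ : G → ℂ) g) = 0 := by
      refine Eq.trans (Finset.sum_congr rfl ?_) h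
      intro g _
      rw [hrdef]
      show _ * _ = _ * (_ * (1 : ℂ))
      rw [mul_one]
    rw [h', mul_zero]
  have hres : classInner (fun h : H => r h) (θ : H → ℂ)
      = ∑ χ : IrrCharacter G, classInner r (χ : G → ℂ)
        * classInner (fun h : H => (χ : G → ℂ) h) (θ : H → ℂ) := by
    have e : (fun h : H => r h) = fun h : H => ∑ χ : IrrCharacter G,
        classInner r (χ : G → ℂ) * (χ : G → ℂ) h := by
      funext h
      have h1 := congrFun hexp (h : G)
      rw [Finset.sum_apply] at h1
      exact h1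
    rw [e]
    exact classInner_sum_mul Finset.univ _ (fun (χ : IrrCharacter G) (h : H) => (χ : G → ℂ) h) _
  have hne : classInner (fun h : H => r h) (θ : H → ℂ) ≠ 0 := by
    have h := sum_regular_ne_zero hM θ hθ
    rw [classInner_def]
    intro h0
    rcases mul_eq_zero.mp h0 with h1 | h1
    · exact card_ne_zero_complex H (inv_eq_zero.mp h1)
    · apply h
      have h2 := congrArg conj h1
      rw [map_sum, map_zero] at h2
      refine Eq.trans (Finset.sum_congr rfl ?_) h2
      intro x _
      rw [map_mul, Complex.conj_conj, hrdef]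
      show (if p ∣ orderOf x then (0 : ℂ) else 1) * _
        = conj (if p ∣ orderOf (x : G) then (0 : ℂ) else 1) * _
      rw [Subgroup.orderOf_coe]
      split_ifs <;> simp
  rw [hres] at hne
  obtain ⟨χ, -, hχ⟩ := Finset.exists_ne_zero_of_sum_ne_zero hne
  refine ⟨χ, ?_, right_ne_zero_of_mul hχ⟩
  by_contra hno
  exact hχ (by rw [hzero χ hno, zero_mul])

end cover

end Cfsg.Agent.Lib.Helper25
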