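import Mathlib
import Cfsg.Prelude
import Cfsg.Agent.Lib.Helper25.PrincipalCover
import Cfsg.Agent.Lib.Helper25.BrauerPair8
import Cfsg.Agent.Lib.Helper25.FullyRam4
import Cfsg.Agent.Lib.Helper2.CharCover2
import Cfsg.Agent.Lib.Helper2.AbSylow
import Cfsg.Agent.Lib.Helper2.BSComp1
import Cfsg.Agent.S0886
import Cfsg.Agent.S0164

set_option autoImplicit false

/-!
Isomorphic principal blocks (Alperin), part 1: characters of the principal block are congruent to
their degree on the centralizer of a Sylow subgroup; a rigidity statement for characters with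
this congruence property lying over an extendible character of a normal subgroup of index prime
to `p`.
-/

namespace Cfsg.Agent.Lib.Helper25

open Cfsg Cfsg.Agent.Lib.Helper2
open scoped ComplexConjugate

section alp1

variable {X : Type*} [Group X] [Fintype X] {p : ℕ} {M : Ideal AlgInt}

/-- the values of `χ` on `S` are congruent to the degree, in the sense that `χ g / χ 1 - 1` lies
in the local ideal -/
def CongOn (M : Ideal AlgInt) (S : Set X) (χ : X → ℂ) : Prop :=
  ∀ g ∈ S, MemLocalIdeal M (χ g / χ 1 - 1)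

/-- characters of the principal block are congruent to their degree on the centralizer of a
Sylow subgroup -/
theorem principal_congOn [Fact p.Prime] (hM : IsPModular p M) (χ : IrrCharacter X)
    (hχ : χ ∈ principalBlock M X) (Q : Sylow p X) :
    CongOn M (Subgroup.centralizer ((Q : Subgroup X) : Set X) : Set X) (χ : X → ℂ) := by
  intro g hg
  have hpr := isPrime_of_isPModular hM
  obtain ⟨c, hc⟩ : ∃ c : ℕ, c = (Subgroup.centralizer ({g} : Set X)).index := ⟨_, rfl⟩
  have hQle : (Q : Subgroup X) ≤ Subgroup.centralizer ({g} : Set X) := by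
    intro q hq
    rw [Subgroup.mem_centralizer_iff]
    intro h hh
    rw [Set.mem_singleton_iff] at hh
    subst hh
    exact (Subgroup.mem_centralizer_iff.mp hg q hq).symm
  have hcp : ¬ p ∣ c := by
    intro hdvd
    have h1 : c ∣ (Q : Subgroup X).index := by
      rw [hc]
      exact Subgroup.index_dvd_of_le hQle
    exact Q.not_dvd_index (hdvd.trans h1)
  have hsb : SameBlock M (fun _ : X => (1 : ℂ)) (χ : X → ℂ) := hχ
  have h1 := hsb g
  rw [centralChar_one_fun, ← hc] at h1
  have h2 : centralChar (χ : X → ℂ) g = (c : ℂ) * ((χ : X → ℂ) g / (χ : X → ℂ) 1) := by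
    unfold centralChar
    rw [← hc]
    ring
  have hint : MemLocalRing M (centralChar (χ : X → ℂ) g) :=
    memLocalRing_of_isIntegral M (centralChar_isIntegral χ g)
  have hcinv := memLocalRing_inv_natCast hM hcp
  have hc0 : (c : ℂ) ≠ 0 := by
    intro h0
    apply hcp
    have : c = 0 := by exact_mod_cast h0
    rw [this]
    exact dvd_zero p
  have hq : MemLocalRing M ((χ : X → ℂ) g / (χ : X → ℂ) 1) := by
    have h3 : (χ : X → ℂ) g / (χ : X → ℂ) 1 = (c : ℂ)⁻¹ * centralChar (χ : X → ℂ) g := by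
      rw [h2, ← mul_assoc, inv_mul_cancel₀ hc0, one_mul]
    rw [h3]
    exact MemLocalRing.mul M hcinv hint
  have h4 : MemLocalIdeal M ((c : ℂ) * (1 - (χ : X → ℂ) g / (χ : X → ℂ) 1)) := by
    have h5 : (c : ℂ) * (1 - (χ : X → ℂ) g / (χ : X → ℂ) 1)
        = (c : ℂ) - centralChar (χ : X → ℂ) g := by
      rw [h2]
      ring
    rw [h5]
    exact h1
  rcases MemLocalIdeal.of_mul M (memLocalRing_natCast M c)
    (MemLocalRing.sub M (memLocalRing_one M) hq) h4 with h5 | h5
  · exact absurd ((memLocalIdeal_natCast_iff hM c).mp h5) hcp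
  · have h6 : (χ : X → ℂ) g / (χ : X → ℂ) 1 - 1 = -(1 - (χ : X → ℂ) g / (χ : X → ℂ) 1) := by
      ring
    rw [h6]
    exact MemLocalIdeal.neg M h5

omit [Fintype X] in
/-- a root of unity of order prime to `p` that is congruent to one is one -/
theorem eq_one_of_pow_of_cong [Fact p.Prime] (hM : IsPModular p M) {z : ℂ} {m : ℕ}
    (hm : ¬ p ∣ m) (hz : z ^ m = 1) (hc : MemLocalIdeal M (z - 1)) : z = 1 := by
  have hpr := isPrime_of_isPModular hM
  by_contra hne
  have hm0 : 0 < m := Nat.pos_of_ne_zero (by rintro rfl; exact hm (dvd_zero p))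
  have hint : IsIntegral ℤ z := by
    apply IsIntegral.of_pow hm0
    rw [hz]
    exact isIntegral_one
  have hzr : MemLocalRing M z := memLocalRing_of_isIntegral M hint
  have hpow : ∀ i : ℕ, MemLocalIdeal M (z ^ i - 1) := by
    intro i
    induction i with
    | zero =>
      rw [pow_zero, sub_self]
      exact memLocalIdeal_zero M
    | succ i ih =>
      have h1 : z ^ (i + 1) - 1 = z * (z ^ i - 1) + (z - 1) := by ring
      rw [h1]
      exact MemLocalIdeal.add M (MemLocalIdeal.mul_left M hzr ih) hc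
  have hgeom : ∑ i ∈ Finset.range m, z ^ i = 0 := by
    rw [geom_sum_eq hne, hz, sub_self, zero_div]
  have h1 : MemLocalIdeal M (∑ i ∈ Finset.range m, (z ^ i - 1)) :=
    memLocalIdeal_sum M _ _ (fun i _ => hpow i)
  rw [Finset.sum_sub_distrib, hgeom] at h1
  simp only [Finset.sum_const, Finset.card_range, nsmul_eq_mul, mul_one, zero_sub] at h1
  have h2 := MemLocalIdeal.neg M h1
  rw [neg_neg] at h2
  exact hm ((memLocalIdeal_natCast_iff hM m).mp h2)

/-- a character whose pullback along a homomorphism is irreducible is irreducible -/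
theorem isIrr_of_comp_irr {R : Type*} [Group R] [Fintype R] (j : R →* X) {ψ : X → ℂ}
    (hψ : IsCharacter X ψ) (h : IsIrrCharacter R (ψ ∘ j)) : IsIrrCharacter X ψ := by
  classical
  have h1ne : ψ 1 ≠ 0 := by
    have h1 := irr_one_ne_zero h
    simpa using h1
  have hne : ψ ≠ 0 := by
    intro h0
    apply h1ne
    rw [h0]
    rfl
  obtain ⟨ψ₁, hψ₁, hcon⟩ := exists_irr_constituent hψ hne
  have hΔ := IsCharacter.sub_irr hψ hψ₁ hcon
  have hΔj : IsCharacter R ((ψ - ψ₁) ∘ j) := isCharacter_comp_hom hΔ j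
  have hψ₁j : IsCharacter R (ψ₁ ∘ j) := isCharacter_comp_hom (isCharacter_of_isIrrCharacter hψ₁) j
  have hsum : ψ ∘ j = ψ₁ ∘ j + (ψ - ψ₁) ∘ j := by
    funext r
    simp
  -- each nonzero summand contains `ψ ∘ j`
  have key : ∀ Φ Ψ : R → ℂ, IsCharacter R Φ → IsCharacter R Ψ → ψ ∘ j = Φ + Ψ → Φ ≠ 0 →
      ∃ a : ℕ, a ≠ 0 ∧ classInner Φ (ψ ∘ j) = a := by
    intro Φ Ψ hΦ hΨ hs hΦ0
    obtain ⟨φ, hφ, hφc⟩ := exists_irr_constituent hΦ hΦ0
    obtain ⟨a, ha⟩ := classInner_isCharacter_nat hΦ (isCharacter_of_isIrrCharacter hφ)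
    obtain ⟨b, hb⟩ := classInner_isCharacter_nat hΨ (isCharacter_of_isIrrCharacter hφ)
    have h2 : classInner (ψ ∘ j) φ = (a : ℂ) + b := by
      rw [hs, classInner_add_left, ha, hb]
    have ha0 : a ≠ 0 := by
      rintro rfl
      apply hφc
      rw [ha]
      simp
    have h3 : classInner (ψ ∘ j) φ ≠ 0 := by
      rw [h2]
      have : (0 : ℕ) < a + b := by omega
      exact_mod_cast this.ne'
    have h4 : ψ ∘ j = φ := by
      by_contra hneq
      exact h3 (classInner_irr_ne h hφ hneq)
    refine ⟨a, ha0, ?_⟩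
    rw [h4]
    exact ha
  have hψ₁0 : ψ₁ ∘ j ≠ 0 := by
    intro h0
    have h1 := congrFun h0 1
    simp only [Function.comp_apply, map_one, Pi.zero_apply] at h1
    exact irr_one_ne_zero hψ₁ h1
  obtain ⟨a, ha0, ha⟩ := key _ _ hψ₁j hΔj hsum hψ₁0
  have hΔ0 : (ψ - ψ₁) ∘ j = 0 := by
    by_contra hΔne
    obtain ⟨b, hb0, hb⟩ := key _ _ hΔj hψ₁j (by rw [hsum]; abel) hΔne
    have h5 := classInner_irr_self h
    have h6 : classInner (ψ ∘ j) (ψ ∘ j) = (a : ℂ) + b := by
      have h8 := classInner_add_left (ψ₁ ∘ j) ((ψ - ψ₁) ∘ j) (ψ ∘ j)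
      rw [← hsum] at h8
      rw [h8, ha, hb]
    rw [h5] at h6
    have h7 : (1 : ℕ) = a + b := by exact_mod_cast h6
    omega
  have hΔ1 : (ψ - ψ₁) 1 = 0 := by
    have h1 := congrFun hΔ0 1
    simpa using h1
  have hΔz := Cfsg.Agent.S1489.char_eq_zero_of_apply_one hΔ hΔ1
  have hψeq : ψ = ψ₁ := by
    funext x
    have h1 := congrFun hΔz x
    simp only [Pi.sub_apply, Pi.zero_apply] at h1
    exact sub_eq_zero.mp h1
  rw [hψeq]
  exact hψ₁

/-- rigidity: over an extendible character of a normal subgroup `R` of index prime to `p` with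
`X = R C(Q)`, there is at most one irreducible character congruent to its degree on `C(Q)` -/
theorem cong_unique [Fact p.Prime] (hM : IsPModular p M) (R : Subgroup X) [hR : R.Normal]
    [Fintype R] (hidx : ¬ p ∣ R.index) (S : Subgroup X) (hsup : R ⊔ S = ⊤)
    {π χ : X → ℂ} (hπ : IsIrrCharacter X π) (hχ : IsIrrCharacter X χ)
    (hπR : IsIrrCharacter R (fun r : R => π r))
    (hcπ : CongOn M (S : Set X) π) (hcχ : CongOn M (S : Set X) χ)
    (hcon : classInner (fun r : R => χ r) (fun r : R => π r) ≠ 0) : χ = π := by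
  classical
  have hpr := isPrime_of_isPModular hM
  have hnorm : (R.subtype).range.Normal := by
    rw [Subgroup.range_subtype]
    exact hR
  obtain ⟨β, hβ, hβR, hβπ⟩ := gallagher_cover R.subtype (Subgroup.subtype_injective R) hnorm
    hπR hπ (fun n => rfl) hχ hcon
  obtain ⟨b, hb0, hb⟩ := irr_apply_one hβ
  obtain ⟨d, hd0, hd⟩ := irr_apply_one hπ
  have hbc : (b : ℂ) ≠ 0 := by exact_mod_cast hb0.ne'
  have hdc : (d : ℂ) ≠ 0 := by exact_mod_cast hd0.ne'
  have hβc : ∀ g ∈ S, MemLocalIdeal M (β g / β 1 - 1) := by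
    intro g hg
    have ha : MemLocalIdeal M (π g / π 1 - 1) := hcπ g hg
    have hc : MemLocalIdeal M (χ g / χ 1 - 1) := hcχ g hg
    obtain ⟨a, hadef⟩ : ∃ a : ℂ, a = π g / π 1 := ⟨_, rfl⟩
    rw [← hadef] at ha
    have haR : MemLocalRing M a := by
      have h1 : a = (a - 1) + 1 := by ring
      rw [h1]
      exact MemLocalRing.add M (MemLocalIdeal.memLocalRing M ha) (memLocalRing_one M)
    have haI : ¬ MemLocalIdeal M a := by
      intro h
      apply not_memLocalIdeal_one M
      have h1 : (1 : ℂ) = a - (a - 1) := by ring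
      rw [h1]
      exact MemLocalIdeal.sub M h ha
    have hainv := MemLocalRing.inv M haR haI
    have ha0 : a ≠ 0 := by
      intro h0
      apply haI
      rw [h0]
      exact memLocalIdeal_zero M
    have hprod : χ g / χ 1 = (β g / β 1) * a := by
      rw [← hβπ, hadef]
      simp only [Pi.mul_apply]
      rw [hb, hd]
      field_simp
    have h2 : β g / β 1 - 1 = ((χ g / χ 1 - 1) - (a - 1)) * a⁻¹ := by
      rw [hprod]
      field_simp
      ring
    rw [h2]
    exact MemLocalIdeal.mul_right M (MemLocalIdeal.sub M hc ha) hainv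
  obtain ⟨β', hβ', hβeq⟩ := exists_irr_deflate (QuotientGroup.mk' R)
    (QuotientGroup.mk'_surjective R) hβ (by
      intro z hz
      rw [QuotientGroup.ker_mk'] at hz
      exact hβR ⟨z, hz⟩)
  have hβ'1 : β' = fun _ => 1 := by
    by_contra hne
    have h0 : classInner β' (fun _ : X ⧸ R => (1 : ℂ)) = 0 :=
      classInner_irr_ne hβ' isIrrCharacter_one hne
    have hsum : ∑ q : X ⧸ R, β' q = 0 := by
      rw [classInner_def] at h0
      simp only [map_one, mul_one] at h0
      rcases mul_eq_zero.mp h0 with h | h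
      · exact absurd h (inv_ne_zero (card_ne_zero_complex _))
      · exact h
    have hall : ∀ q : X ⧸ R, MemLocalIdeal M (β' q / β' 1 - 1) := by
      intro q
      obtain ⟨x, rfl⟩ := QuotientGroup.mk'_surjective R q
      have hx : x ∈ R ⊔ S := by
        rw [hsup]
        trivial
      have hx' : x ∈ ((R ⊔ S : Subgroup X) : Set X) := hx
      rw [Subgroup.normal_mul] at hx'
      obtain ⟨r, hr, g, hg, rfl⟩ := Set.mem_mul.mp hx'
      have h1 : QuotientGroup.mk' R (r * g) = QuotientGroup.mk' R g := by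
        rw [map_mul]
        have h2 : QuotientGroup.mk' R r = 1 := (QuotientGroup.eq_one_iff r).mpr hr
        rw [h2, one_mul]
      rw [h1]
      have h2 := hβc g hg
      have e1 : β g = β' (QuotientGroup.mk' R g) := congrFun hβeq g
      have e2 : β 1 = β' 1 := by
        have h3 := congrFun hβeq 1
        simpa using h3
      rw [← e1, ← e2]
      exact h2
    have h3 := memLocalIdeal_sum M Finset.univ _ (fun q _ => hall q)
    rw [Finset.sum_sub_distrib, ← Finset.sum_div, hsum, zero_div] at h3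
    simp only [Finset.sum_const, Finset.card_univ, nsmul_eq_mul, mul_one, zero_sub] at h3
    have h4 := MemLocalIdeal.neg M h3
    rw [neg_neg] at h4
    have h5 := (memLocalIdeal_natCast_iff hM _).mp h4
    apply hidx
    rw [Subgroup.index_eq_card, Nat.card_eq_fintype_card]
    exact h5
  funext x
  rw [← hβπ]
  simp only [Pi.mul_apply]
  have h1 : β x = 1 := by
    rw [congrFun hβeq x, hβ'1]
    rfl
  rw [h1, one_mul]

end alp1

end Cfsg.Agent.Lib.Helper25
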