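import Mathlib
import Cfsg.Prelude
import Cfsg.Agent.Lib.Helper25.AlpIso1
import Cfsg.Agent.Lib.Helper2.CharMono

set_option autoImplicit false

/-!
Isomorphic principal blocks (Alperin), part 2: a normal subgroup with cyclic quotient generated
by an element centralizing a Sylow subgroup: the characters of the principal block of the
subgroup are invariant and extend to characters of the principal block of the group.
-/

namespace Cfsg.Agent.Lib.Helper25

open Cfsg Cfsg.Agent.Lib.Helper2
open scoped ComplexConjugate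

section alp2

variable {X : Type*} [Group X] [Fintype X] {p : ℕ} {M : Ideal AlgInt}

omit [Fintype X] in
/-- a normal subgroup of index prime to `p` contains every Sylow `p`-subgroup -/
theorem sylow_le_of_normal_of_not_dvd_index [hp : Fact p.Prime] (R : Subgroup X) [hR : R.Normal]
    (hidx : ¬ p ∣ R.index) (Q : Sylow p X) : (Q : Subgroup X) ≤ R := by
  intro x hx
  obtain ⟨j, hj⟩ := Q.isPGroup' ⟨x, hx⟩
  have h1 : x ^ p ^ j = 1 := by simpa using congrArg Subtype.val hj
  have h2 : (QuotientGroup.mk' R x) ^ p ^ j = 1 := by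
    rw [← map_pow, h1, map_one]
  have h3 : orderOf (QuotientGroup.mk' R x) ∣ p ^ j := orderOf_dvd_of_pow_eq_one h2
  have h4 : orderOf (QuotientGroup.mk' R x) ∣ R.index := by
    rw [Subgroup.index_eq_card]
    exact orderOf_dvd_natCard _
  have h5 : Nat.Coprime R.index (p ^ j) :=
    Nat.Coprime.pow_right _ ((Nat.Prime.coprime_iff_not_dvd hp.out).mpr hidx).symm
  have h6 : orderOf (QuotientGroup.mk' R x) = 1 := Nat.eq_one_of_dvd_coprimes h5 h4 h3
  exact (QuotientGroup.eq_one_iff x).mp (orderOf_eq_one_iff.mp h6)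

/-- characters of the principal block of a normal subgroup with abelian quotient are invariant
under the centralizer of a Sylow subgroup -/
theorem principal_invariant_of_comm [Fact p.Prime] (hM : IsPModular p M) (R : Subgroup X)
    [hR : R.Normal] [Fintype R] (hab : ∀ x y : X, x * y * x⁻¹ * y⁻¹ ∈ R) (Q : Sylow p X)
    (θ : IrrCharacter R) (hθ : θ ∈ principalBlock M R) (k : X)
    (hk : k ∈ Subgroup.centralizer ((Q : Subgroup X) : Set X)) :
    k ∈ inertia R (θ : R → ℂ) := by
  classical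
  have hpr := isPrime_of_isPModular hM
  obtain ⟨χ, hχ, hcon⟩ := exists_principal_over hM R θ hθ
  have := Fintype.ofFinite (inertia R (θ : R → ℂ))
  obtain ⟨ψ, hψ, hind⟩ := exists_clifford_correspondent R χ.2 θ.2 hcon
  by_contra hkT
  have hRT : R ≤ inertia R (θ : R → ℂ) := fun g hg =>
    conjFun_of_mem R (isClassFunction_of_isIrrCharacter θ.2) hg
  have hzero : (χ : X → ℂ) k = 0 := by
    rw [← hind, indFun_apply]
    have h0 : ∀ x : X, extendByZero (inertia R (θ : R → ℂ)) ψ (x⁻¹ * k * x) = 0 := by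
      intro x
      apply extendByZero_of_not_mem
      intro hmem
      apply hkT
      have h1 : k = (x⁻¹ * k * x) * (x⁻¹ * k⁻¹ * x⁻¹⁻¹ * k⁻¹⁻¹) := by group
      rw [h1]
      exact mul_mem hmem (hRT (hab x⁻¹ k⁻¹))
    simp [h0]
  have hc := principal_congOn hM χ hχ Q k hk
  rw [hzero, zero_div, zero_sub] at hc
  have h2 := MemLocalIdeal.neg M hc
  rw [neg_neg] at h2
  exact not_memLocalIdeal_one M h2

/-- cyclic quotient generated by an element centralizing a Sylow subgroup: extension of the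
characters of the principal block -/
theorem principal_ext_cyclic [Fact p.Prime] (hM : IsPModular p M) (R : Subgroup X)
    [hR : R.Normal] [Fintype R] (Q : Sylow p X) (k : X)
    (hk : k ∈ Subgroup.centralizer ((Q : Subgroup X) : Set X))
    (hgen : R ⊔ Subgroup.zpowers k = ⊤) (θ : IrrCharacter R) (hθ : θ ∈ principalBlock M R) :
    ∃ χ : IrrCharacter X, χ ∈ principalBlock M X ∧
      ∀ r : R, (χ : X → ℂ) r = (θ : R → ℂ) r := by
  classical
  have hq : ∀ x : X, ∃ i : ℤ, QuotientGroup.mk' R x = (QuotientGroup.mk' R k) ^ i := by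
    intro x
    have hx : x ∈ ((R ⊔ Subgroup.zpowers k : Subgroup X) : Set X) := by
      rw [hgen]
      trivial
    rw [Subgroup.normal_mul] at hx
    obtain ⟨r, hr, z, hz, rfl⟩ := Set.mem_mul.mp hx
    obtain ⟨i, rfl⟩ := Subgroup.mem_zpowers_iff.mp hz
    refine ⟨i, ?_⟩
    have h2 : QuotientGroup.mk' R r = 1 := (QuotientGroup.eq_one_iff r).mpr hr
    rw [map_mul, map_zpow, h2, one_mul]
  have hcomm : ∀ a b : X ⧸ R, a * b = b * a := by
    intro a b
    obtain ⟨x, rfl⟩ := QuotientGroup.mk'_surjective R a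
    obtain ⟨y, rfl⟩ := QuotientGroup.mk'_surjective R b
    obtain ⟨i, hi⟩ := hq x
    obtain ⟨j, hj⟩ := hq y
    rw [hi, hj, ← zpow_add, ← zpow_add, add_comm]
  have hab : ∀ x y : X, x * y * x⁻¹ * y⁻¹ ∈ R := by
    intro x y
    rw [← QuotientGroup.eq_one_iff]
    have h1 : ((x * y * x⁻¹ * y⁻¹ : X) : X ⧸ R) = QuotientGroup.mk' R x * QuotientGroup.mk' R y
        * (QuotientGroup.mk' R x)⁻¹ * (QuotientGroup.mk' R y)⁻¹ := rfl
    rw [h1, hcomm (QuotientGroup.mk' R x) (QuotientGroup.mk' R y)]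
    group
  have hcyc : IsCyclic (X ⧸ R) := ⟨⟨QuotientGroup.mk' R k, fun a => by
    obtain ⟨x, rfl⟩ := QuotientGroup.mk'_surjective R a
    obtain ⟨i, hi⟩ := hq x
    exact Subgroup.mem_zpowers_iff.mpr ⟨i, hi.symm⟩⟩⟩
  have hT : inertia R (θ : R → ℂ) = ⊤ := by
    rw [eq_top_iff, ← hgen]
    apply sup_le
    · exact fun g hg => conjFun_of_mem R (isClassFunction_of_isIrrCharacter θ.2) hg
    · rw [Subgroup.zpowers_le]
      exact principal_invariant_of_comm hM R hab Q θ hθ k hk
  have hinv : ∀ (g : X) (n : R),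
      (θ : R → ℂ) ⟨g * n * g⁻¹, hR.conj_mem (n : X) n.2 g⟩ = (θ : R → ℂ) n := by
    intro g n
    have hg : g ∈ inertia R (θ : R → ℂ) := by
      rw [hT]
      trivial
    have h1 := congrFun ((mem_inertia R _ g).mp hg) n
    rw [conjFun_apply] at h1
    exact h1
  obtain ⟨π, hπ, hπθ⟩ := Cfsg.Agent.S0886.result R hcyc (θ : R → ℂ) θ.2 hinv
  obtain ⟨χ, hχ, hcon⟩ := exists_principal_over hM R θ hθ
  have hnorm : (R.subtype).range.Normal := by
    rw [Subgroup.range_subtype]
    exact hR
  obtain ⟨β, hβ, hβR, hβπ⟩ := gallagher_cover R.subtype (Subgroup.subtype_injective R) hnorm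
    θ.2 hπ (fun n => hπθ n) χ.2 hcon
  obtain ⟨β', hβ', hβeq⟩ := exists_irr_deflate (QuotientGroup.mk' R)
    (QuotientGroup.mk'_surjective R) hβ (by
      intro z hz
      rw [QuotientGroup.ker_mk'] at hz
      exact hβR ⟨z, hz⟩)
  have hβ'1 := irr_deg_one_of_comm hcomm hβ'
  have hβ1 : β 1 = 1 := by
    rw [hβeq]
    simpa using hβ'1
  refine ⟨χ, hχ, fun r => ?_⟩
  rw [← hβπ]
  simp only [Pi.mul_apply]
  have h1 : β (r : X) = β 1 := hβR r
  rw [h1, hβ1, one_mul]
  exact hπθ r

end alp2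

end Cfsg.Agent.Lib.Helper25
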