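import Mathlib
import Cfsg.Prelude
import Cfsg.Agent.Lib.Helper25.AlpIso2

set_option autoImplicit false

/-!
Isomorphic principal blocks (Alperin), part 3: extension of the characters of the principal
block of a normal subgroup `R` of index prime to `p` with `Γ = R C(Q)` and solvable quotient.
-/

namespace Cfsg.Agent.Lib.Helper25

open Cfsg Cfsg.Agent.Lib.Helper2
open scoped ComplexConjugate

universe u

set_option maxHeartbeats 2000000 in
theorem principal_ext_solvable (p : ℕ) [hp : Fact p.Prime] (M : Ideal AlgInt)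
    (hM : IsPModular p M) :
    ∀ (n : ℕ) (Γ : Type u) [Group Γ] [Finite Γ], Nat.card Γ ≤ n →
    ∀ (R : Subgroup Γ) [R.Normal], ¬ p ∣ R.index →
    ∀ (S : Type u) [Group S] [Group.IsSolvable S] (φ : Γ →* S), φ.ker = R →
    ∀ Q : Sylow p Γ, R ⊔ Subgroup.centralizer ((Q : Subgroup Γ) : Set Γ) = ⊤ →
    ∀ θ : IrrCharacter R, θ ∈ principalBlock M R →
    ∃ χ : IrrCharacter Γ, χ ∈ principalBlock M Γ ∧
      ∀ r : R, (χ : Γ → ℂ) r = (θ : R → ℂ) r := by
  intro n
  induction n with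
  | zero =>
    intro Γ _ _ hcard
    have := Nat.card_pos (α := Γ)
    omega
  | succ n ih =>
    intro Γ _ _ hcard R hR hidx S _ _ φ hker Q hsup θ hθ
    classical
    have := Fintype.ofFinite Γ
    have := Fintype.ofFinite R
    by_cases hRtop : R = ⊤
    · exact principal_ext_cyclic hM R Q 1 (one_mem _) (by rw [hRtop]; simp) θ hθ
    -- a nontrivial linear character of the quotient
    obtain ⟨x₁, hx₁⟩ : ∃ x₁ : Γ, x₁ ∉ R := by
      by_contra hcon
      push Not at hcon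
      exact hRtop (eq_top_iff.mpr (fun x _ => hcon x))
    have hnt : Nontrivial φ.range := by
      refine ⟨⟨φ.rangeRestrict x₁, 1, ?_⟩⟩
      intro h
      apply hx₁
      rw [← hker, MonoidHom.mem_ker]
      have h2 := congrArg Subtype.val h
      exact h2
    have hlt := Group.IsSolvable.commutator_lt_top_of_nontrivial φ.range
    obtain ⟨y, hy⟩ : ∃ y : φ.range, y ∉ commutator φ.range := by
      by_contra hcon
      push Not at hcon
      exact hlt.ne (eq_top_iff.mpr (fun x _ => hcon x))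
    have hfinA : Finite (Abelianization φ.range) := by
      have hfin : Finite φ.range := Finite.of_surjective φ.rangeRestrict φ.rangeRestrict_surjective
      exact Finite.of_surjective (Abelianization.of (G := φ.range))
        (fun a => QuotientGroup.mk_surjective a)
    have hy1 : (Abelianization.of (G := φ.range)) y ∉ (⊥ : Subgroup (Abelianization φ.range)) := by
      rw [Subgroup.mem_bot]
      intro h
      apply hy
      exact (QuotientGroup.eq_one_iff y).mp h
    obtain ⟨ν, -, hν⟩ := exists_hom_trivial_on' (C := Abelianization φ.range)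
      (fun a b => mul_comm a b) ⊥ hy1
    obtain ⟨μ, hμdef⟩ : ∃ μ : Γ →* ℂˣ,
        μ = ν.comp ((Abelianization.of (G := φ.range)).comp φ.rangeRestrict) := ⟨_, rfl⟩
    have hμR : ∀ r ∈ R, μ r = 1 := by
      intro r hr
      rw [← hker, MonoidHom.mem_ker] at hr
      have h1 : φ.rangeRestrict r = 1 := Subtype.ext hr
      rw [hμdef]
      simp only [MonoidHom.comp_apply]
      rw [h1, map_one, map_one]
    obtain ⟨x₀, hx₀⟩ := φ.rangeRestrict_surjective y
    have hμx₀ : μ x₀ ≠ 1 := by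
      rw [hμdef]
      simp only [MonoidHom.comp_apply]
      rw [hx₀]
      exact hν
    obtain ⟨Γ₁, hΓ₁⟩ : ∃ Γ₁ : Subgroup Γ, Γ₁ = μ.ker := ⟨_, rfl⟩
    have hΓ₁n : Γ₁.Normal := by
      rw [hΓ₁]
      infer_instance
    have hmemΓ₁ : ∀ x : Γ, x ∈ Γ₁ ↔ μ x = 1 := by
      intro x
      rw [hΓ₁, MonoidHom.mem_ker]
    have hRΓ₁ : R ≤ Γ₁ := fun r hr => (hmemΓ₁ r).mpr (hμR r hr)
    have hΓ₁ne : Γ₁ ≠ ⊤ := by
      intro h
      apply hμx₀
      rw [← hmemΓ₁, h]
      trivial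
    -- a generator of the quotient in the centralizer
    have hfinr : Finite μ.range := Finite.of_surjective μ.rangeRestrict μ.rangeRestrict_surjective
    have hcycr : IsCyclic μ.range := inferInstance
    obtain ⟨u, hu⟩ := hcycr.exists_generator
    obtain ⟨g, hg⟩ := μ.rangeRestrict_surjective u
    have hgs : g ∈ ((R ⊔ Subgroup.centralizer ((Q : Subgroup Γ) : Set Γ) : Subgroup Γ) : Set Γ) := by
      rw [hsup]
      trivial
    rw [Subgroup.normal_mul] at hgs
    obtain ⟨r₀, hr₀, k, hk, hrk⟩ := Set.mem_mul.mp hgs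
    have hμk : μ k = μ g := by
      rw [← hrk, map_mul, hμR r₀ hr₀, one_mul]
    have hgen : Γ₁ ⊔ Subgroup.zpowers k = ⊤ := by
      rw [eq_top_iff]
      intro x _
      obtain ⟨i, hi⟩ := Subgroup.mem_zpowers_iff.mp (hu (μ.rangeRestrict x))
      have h1 : μ x = (μ k) ^ i := by
        have h2 := congrArg Subtype.val hi
        rw [hμk]
        rw [← hg] at h2
        simpa using h2.symm
      have h3 : x * (k ^ i)⁻¹ ∈ Γ₁ := by
        rw [hmemΓ₁, map_mul, map_inv, map_zpow, h1, mul_inv_cancel]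
      have h4 : x = (x * (k ^ i)⁻¹) * k ^ i := by group
      rw [h4]
      exact mul_mem (Subgroup.mem_sup_left h3)
        (Subgroup.mem_sup_right (Subgroup.zpow_mem_zpowers k i))
    -- the induction hypothesis for `Γ₁`
    have hQR : (Q : Subgroup Γ) ≤ R := sylow_le_of_normal_of_not_dvd_index R hidx Q
    have hQΓ₁ : (Q : Subgroup Γ) ≤ Γ₁ := hQR.trans hRΓ₁
    have hcard₁ : Nat.card Γ₁ ≤ n := by
      have h1 := Subgroup.card_mul_index Γ₁
      have h2 : 1 < Γ₁.index := Subgroup.one_lt_index_of_ne_top hΓ₁ne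
      have h3 : 0 < Nat.card Γ₁ := Nat.card_pos
      nlinarith
    have hidx₁ : ¬ p ∣ (R.subgroupOf Γ₁).index := by
      intro h
      apply hidx
      have h1 : (R.subgroupOf Γ₁).index = R.relIndex Γ₁ := rfl
      rw [h1] at h
      exact h.trans (Subgroup.relIndex_dvd_index_of_normal R Γ₁)
    have hker₁ : (φ.comp Γ₁.subtype).ker = R.subgroupOf Γ₁ := by
      ext x
      rw [MonoidHom.mem_ker, Subgroup.mem_subgroupOf, ← hker, MonoidHom.mem_ker]
      rfl
    have hsup₁ : R.subgroupOf Γ₁ ⊔ Subgroup.centralizer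
        (((Q.subtype hQΓ₁ : Sylow p Γ₁) : Subgroup Γ₁) : Set Γ₁) = ⊤ := by
      rw [eq_top_iff]
      intro x _
      have hxs : (x : Γ) ∈ ((R ⊔ Subgroup.centralizer ((Q : Subgroup Γ) : Set Γ) : Subgroup Γ)
          : Set Γ) := by
        rw [hsup]
        trivial
      rw [Subgroup.normal_mul] at hxs
      obtain ⟨r, hr, c, hc, hrc⟩ := Set.mem_mul.mp hxs
      have hcΓ₁ : c ∈ Γ₁ := by
        have h1 : c = r⁻¹ * (x : Γ) := by rw [← hrc]; group
        rw [h1]
        exact mul_mem (inv_mem (hRΓ₁ hr)) x.2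
      have h2 : x = (⟨r, hRΓ₁ hr⟩ : Γ₁) * ⟨c, hcΓ₁⟩ := Subtype.ext hrc.symm
      rw [h2]
      refine mul_mem (Subgroup.mem_sup_left (Subgroup.mem_subgroupOf.mpr hr))
        (Subgroup.mem_sup_right ?_)
      rw [Subgroup.mem_centralizer_iff]
      intro q hq
      apply Subtype.ext
      have hq' : (q : Γ) ∈ (Q : Subgroup Γ) := hq
      exact Subgroup.mem_centralizer_iff.mp hc (q : Γ) hq'
    have := Fintype.ofFinite (R.subgroupOf Γ₁)
    obtain ⟨e, hedef⟩ : ∃ e : R.subgroupOf Γ₁ ≃* R, e = Subgroup.subgroupOfEquivOfLe hRΓ₁ :=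
      ⟨_, rfl⟩
    have hθ₁ : isoIrr e.symm θ ∈ principalBlock M (R.subgroupOf Γ₁) := by
      rw [← image_isoIrr_principal (M := M) e.symm]
      exact Set.mem_image_of_mem _ hθ
    obtain ⟨χ₁, hχ₁, hχ₁θ⟩ := ih Γ₁ hcard₁ (R.subgroupOf Γ₁) hidx₁ S (φ.comp Γ₁.subtype) hker₁
      (Q.subtype hQΓ₁) hsup₁ (isoIrr e.symm θ) hθ₁
    have := Fintype.ofFinite Γ₁
    obtain ⟨χ, hχ, hχχ₁⟩ := principal_ext_cyclic hM Γ₁ Q k hk hgen χ₁ hχ₁
    refine ⟨χ, hχ, fun r => ?_⟩
    have h1 := hχχ₁ ⟨(r : Γ), hRΓ₁ r.2⟩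
    have h2 := hχ₁θ ⟨⟨(r : Γ), hRΓ₁ r.2⟩, Subgroup.mem_subgroupOf.mpr r.2⟩
    rw [isoIrr_apply] at h2
    have h3 : e.symm.symm ⟨⟨(r : Γ), hRΓ₁ r.2⟩, Subgroup.mem_subgroupOf.mpr r.2⟩ = r := by
      rw [hedef]
      rfl
    rw [h3] at h2
    exact h1.trans h2

end Cfsg.Agent.Lib.Helper25
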