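import Mathlib
import Cfsg.Prelude
import Cfsg.Agent.Lib.Helper25.AlpIso3

set_option autoImplicit false

/-!
Isomorphic principal blocks (Alperin), part 4: extensions of a character of the principal block
of `N` to the principal blocks of intermediate subgroups: they agree on common elements, and
exist for subgroups `N K` with `K` solvable.  Also a Möbius-type vanishing lemma for sums.
-/

namespace Cfsg.Agent.Lib.Helper25

open Cfsg Cfsg.Agent.Lib.Helper2
open scoped ComplexConjugate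

universe u

/-- if the sums of `w` over the members of a family of sets `H x ∋ x`, closed under passing to
`H y` for `y ∈ H x`, all vanish, then the total sum of `w` vanishes -/
theorem sum_eq_zero_of_local {α : Type*} [Fintype α] [DecidableEq α] (H : α → Finset α)
    (w : α → ℂ) (h1 : ∀ x, x ∈ H x) (h2 : ∀ x y, y ∈ H x → H y ⊆ H x)
    (h3 : ∀ g, ∑ x ∈ H g, w x = 0) : ∑ x, w x = 0 := by
  classical
  have key : ∀ n : ℕ, ∀ g : α, (H g).card ≤ n →
      ∑ x ∈ Finset.univ.filter (fun x => H x = H g), w x = 0 := by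
    intro n
    induction n with
    | zero =>
      intro g hg
      have h4 : 0 < (H g).card := Finset.card_pos.mpr ⟨g, h1 g⟩
      omega
    | succ n ih =>
      intro g hg
      have hsplit := Finset.sum_filter_add_sum_filter_not (H g) (fun x => H x = H g) w
      have hfirst : (H g).filter (fun x => H x = H g)
          = Finset.univ.filter (fun x => H x = H g) := by
        ext x
        simp only [Finset.mem_filter, Finset.mem_univ, true_and]
        constructor
        · exact fun h => h.2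
        · intro h
          exact ⟨h ▸ h1 x, h⟩
      have hsecond : ∑ x ∈ (H g).filter (fun x => ¬ H x = H g), w x = 0 := by
        rw [← Finset.sum_fiberwise_of_maps_to (g := H)
          (t := ((H g).filter (fun x => ¬ H x = H g)).image H)
          (fun x hx => Finset.mem_image_of_mem H hx)]
        apply Finset.sum_eq_zero
        intro D hD
        obtain ⟨x₀, hx₀, rfl⟩ := Finset.mem_image.mp hD
        rw [Finset.mem_filter] at hx₀
        have hfib : ((H g).filter (fun x => ¬ H x = H g)).filter (fun x => H x = H x₀)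
            = Finset.univ.filter (fun x => H x = H x₀) := by
          ext x
          simp only [Finset.mem_filter, Finset.mem_univ, true_and]
          constructor
          · exact fun h => h.2
          · intro h
            refine ⟨⟨?_, ?_⟩, h⟩
            · exact h2 g x₀ hx₀.1 (h ▸ h1 x)
            · rw [h]
              exact hx₀.2
        rw [hfib]
        apply ih
        have hss : H x₀ ⊂ H g := Finset.ssubset_iff_subset_ne.mpr ⟨h2 g x₀ hx₀.1, hx₀.2⟩
        have h5 := Finset.card_lt_card hss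
        omega
      rw [hfirst, hsecond, add_zero, h3 g] at hsplit
      exact hsplit
  rw [← Finset.sum_fiberwise_of_maps_to (g := H) (t := Finset.univ.image H)
    (fun x hx => Finset.mem_image_of_mem H hx)]
  apply Finset.sum_eq_zero
  intro D hD
  obtain ⟨x₀, -, rfl⟩ := Finset.mem_image.mp hD
  exact key _ x₀ le_rfl

/-- elementary groups are solvable -/
theorem isSolvable_of_isElementary {E : Type*} [Group E] [Finite E] {q : ℕ} (hq : q.Prime)
    (h : IsElementary q E) : Group.IsSolvable E := by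
  obtain ⟨x, hxc, -, k, hk⟩ := h
  have : Fact q.Prime := ⟨hq⟩
  have hZc : Subgroup.zpowers x ≤ Subgroup.center E := Subgroup.zpowers_le.mpr hxc
  have hZn : (Subgroup.zpowers x).Normal := by
    refine ⟨fun a ha g => ?_⟩
    have h1 := Subgroup.mem_center_iff.mp (hZc ha) g
    have h2 : g * a * g⁻¹ = a := by rw [h1, mul_inv_cancel_right]
    rw [h2]
    exact ha
  have hZs : Group.IsSolvable (Subgroup.zpowers x) := by
    apply Group.isSolvable_of_comm
    intro a b
    apply Subtype.ext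
    obtain ⟨i, hi⟩ := Subgroup.mem_zpowers_iff.mp a.2
    obtain ⟨j, hj⟩ := Subgroup.mem_zpowers_iff.mp b.2
    simp only [Subgroup.coe_mul]
    rw [← hi, ← hj, ← zpow_add, ← zpow_add, add_comm]
  have hQp : IsPGroup q (E ⧸ Subgroup.zpowers x) := by
    apply IsPGroup.of_card (n := k)
    rw [← Subgroup.index_eq_card]
    exact hk
  have hQn : Group.IsNilpotent (E ⧸ Subgroup.zpowers x) := hQp.isNilpotent
  have hQs : Group.IsSolvable (E ⧸ Subgroup.zpowers x) := inferInstance
  apply Group.isSolvable_of_ker_le_range (Subgroup.zpowers x).subtype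
    (QuotientGroup.mk' (Subgroup.zpowers x))
  rw [QuotientGroup.ker_mk', Subgroup.range_subtype]

section alp4

variable {G : Type u} [Group G] [Fintype G] {p : ℕ} {M : Ideal AlgInt}

/-- `ψ` is a character of the principal block of `H` extending `θ` -/
def ExtIn (M : Ideal AlgInt) (N : Subgroup G) (θ : IrrCharacter N) (H : Subgroup G)
    (ψ : IrrCharacter H) : Prop :=
  ψ ∈ principalBlock M H ∧
    ∀ (n : N) (hn : (n : G) ∈ H), (ψ : H → ℂ) ⟨(n : G), hn⟩ = (θ : N → ℂ) n

omit [Fintype G] in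
theorem sup_centralizer_subgroupOf [Fact p.Prime] (N : Subgroup G) [hN : N.Normal]
    (P : Sylow p G) (hsup : N ⊔ Subgroup.centralizer ((P : Subgroup G) : Set G) = ⊤)
    (H : Subgroup G) (hNH : N ≤ H) (hPH : (P : Subgroup G) ≤ H) :
    N.subgroupOf H ⊔ Subgroup.centralizer
      (((P.subtype hPH : Sylow p H) : Subgroup H) : Set H) = ⊤ := by
  rw [eq_top_iff]
  intro x _
  have hxs : (x : G) ∈ ((N ⊔ Subgroup.centralizer ((P : Subgroup G) : Set G) : Subgroup G)
      : Set G) := by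
    rw [hsup]
    trivial
  rw [Subgroup.normal_mul] at hxs
  obtain ⟨r, hr, c, hc, hrc⟩ := Set.mem_mul.mp hxs
  have hcH : c ∈ H := by
    have h1 : c = r⁻¹ * (x : G) := by rw [← hrc]; group
    rw [h1]
    exact mul_mem (inv_mem (hNH hr)) x.2
  have h2 : x = (⟨r, hNH hr⟩ : H) * ⟨c, hcH⟩ := Subtype.ext hrc.symm
  rw [h2]
  refine mul_mem (Subgroup.mem_sup_left (Subgroup.mem_subgroupOf.mpr hr))
    (Subgroup.mem_sup_right ?_)
  rw [Subgroup.mem_centralizer_iff]
  intro q hq
  apply Subtype.ext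
  have hq' : (q : G) ∈ (P : Subgroup G) := hq
  exact Subgroup.mem_centralizer_iff.mp hc (q : G) hq'

omit [Fintype G] in
theorem not_dvd_index_subgroupOf (N : Subgroup G) [hN : N.Normal] (hidx : ¬ p ∣ N.index)
    (H : Subgroup G) : ¬ p ∣ (N.subgroupOf H).index := by
  intro h
  apply hidx
  have h1 : (N.subgroupOf H).index = N.relIndex H := rfl
  rw [h1] at h
  exact h.trans (Subgroup.relIndex_dvd_index_of_normal N H)

set_option maxHeartbeats 1000000 in
/-- two extensions in principal blocks of nested intermediate subgroups agree -/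
theorem ext_agree [hp : Fact p.Prime] (hM : IsPModular p M) (N : Subgroup G) [hN : N.Normal]
    (hidx : ¬ p ∣ N.index) (P : Sylow p G)
    (hsup : N ⊔ Subgroup.centralizer ((P : Subgroup G) : Set G) = ⊤)
    (θ : IrrCharacter N) (H₁ H₂ : Subgroup G) (hNH₁ : N ≤ H₁) (h12 : H₁ ≤ H₂)
    (ψ₁ : IrrCharacter H₁) (ψ₂ : IrrCharacter H₂) (h1 : ExtIn M N θ H₁ ψ₁)
    (h2 : ExtIn M N θ H₂ ψ₂) (y : G) (hy : y ∈ H₁) :
    (ψ₂ : H₂ → ℂ) ⟨y, h12 hy⟩ = (ψ₁ : H₁ → ℂ) ⟨y, hy⟩ := by
  classical
  have := Fintype.ofFinite H₁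
  have := Fintype.ofFinite (N.subgroupOf H₁)
  have hPN : (P : Subgroup G) ≤ N := sylow_le_of_normal_of_not_dvd_index N hidx P
  have hPH₁ : (P : Subgroup G) ≤ H₁ := hPN.trans hNH₁
  have hPH₂ : (P : Subgroup G) ≤ H₂ := hPH₁.trans h12
  have hidx₁ := not_dvd_index_subgroupOf N hidx H₁
  have hsup₁ := sup_centralizer_subgroupOf N P hsup H₁ hNH₁ hPH₁
  have hθe : IsIrrCharacter (N.subgroupOf H₁)
      ((θ : N → ℂ) ∘ (Subgroup.subgroupOfEquivOfLe hNH₁)) :=
    Cfsg.Agent.S1489.isIrrCharacter_comp_iso θ.2 (Subgroup.subgroupOfEquivOfLe hNH₁)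
  have hres₁ : (fun r : N.subgroupOf H₁ => (ψ₁ : H₁ → ℂ) r)
      = (θ : N → ℂ) ∘ (Subgroup.subgroupOfEquivOfLe hNH₁) := by
    funext r
    exact h1.2 (Subgroup.subgroupOfEquivOfLe hNH₁ r) (r : H₁).2
  have hres₂ : (fun r : N.subgroupOf H₁ => (ψ₂ : H₂ → ℂ) (Subgroup.inclusion h12 (r : H₁)))
      = (θ : N → ℂ) ∘ (Subgroup.subgroupOfEquivOfLe hNH₁) := by
    funext r
    exact h2.2 (Subgroup.subgroupOfEquivOfLe hNH₁ r) (h12 (r : H₁).2)
  have hχchar : IsCharacter H₁ ((ψ₂ : H₂ → ℂ) ∘ Subgroup.inclusion h12) :=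
    isCharacter_comp_hom (isCharacter_of_isIrrCharacter ψ₂.2) (Subgroup.inclusion h12)
  have hχ : IsIrrCharacter H₁ ((ψ₂ : H₂ → ℂ) ∘ Subgroup.inclusion h12) := by
    apply isIrr_of_comp_irr (N.subgroupOf H₁).subtype hχchar
    have h3 : ((ψ₂ : H₂ → ℂ) ∘ Subgroup.inclusion h12) ∘ (N.subgroupOf H₁).subtype
        = (θ : N → ℂ) ∘ (Subgroup.subgroupOfEquivOfLe hNH₁) := hres₂
    rw [h3]
    exact hθe
  have hπR : IsIrrCharacter (N.subgroupOf H₁) (fun r : N.subgroupOf H₁ => (ψ₁ : H₁ → ℂ) r) := by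
    rw [hres₁]
    exact hθe
  have hcπ := principal_congOn hM ψ₁ h1.1 (P.subtype hPH₁)
  have hcχ : CongOn M (Subgroup.centralizer
      (((P.subtype hPH₁ : Sylow p H₁) : Subgroup H₁) : Set H₁) : Set H₁)
      ((ψ₂ : H₂ → ℂ) ∘ Subgroup.inclusion h12) := by
    intro g hg
    have hg₂ : Subgroup.inclusion h12 g ∈ Subgroup.centralizer
        (((P.subtype hPH₂ : Sylow p H₂) : Subgroup H₂) : Set H₂) := by
      rw [Subgroup.mem_centralizer_iff]
      intro q hq
      apply Subtype.ext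
      have hq' : (q : G) ∈ (P : Subgroup G) := hq
      have h4 := Subgroup.mem_centralizer_iff.mp hg ⟨(q : G), hPH₁ hq'⟩ hq'
      have h4' : (((⟨(q : G), hPH₁ hq'⟩ : H₁) * g : H₁) : G)
          = ((g * (⟨(q : G), hPH₁ hq'⟩ : H₁) : H₁) : G) := congrArg Subtype.val h4
      exact h4'
    have h5 := principal_congOn hM ψ₂ h2.1 (P.subtype hPH₂) _ hg₂
    have e1 : ((ψ₂ : H₂ → ℂ) ∘ Subgroup.inclusion h12) 1 = (ψ₂ : H₂ → ℂ) 1 := by
      simp only [Function.comp_apply, map_one]
    show MemLocalIdeal M (((ψ₂ : H₂ → ℂ) ∘ Subgroup.inclusion h12) g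
      / ((ψ₂ : H₂ → ℂ) ∘ Subgroup.inclusion h12) 1 - 1)
    rw [e1]
    exact h5
  have hcon : classInner (fun r : N.subgroupOf H₁ =>
        ((ψ₂ : H₂ → ℂ) ∘ Subgroup.inclusion h12) (r : H₁))
      (fun r : N.subgroupOf H₁ => (ψ₁ : H₁ → ℂ) r) ≠ 0 := by
    have h6 : (fun r : N.subgroupOf H₁ => ((ψ₂ : H₂ → ℂ) ∘ Subgroup.inclusion h12) (r : H₁))
        = (θ : N → ℂ) ∘ (Subgroup.subgroupOfEquivOfLe hNH₁) := hres₂
    rw [h6, hres₁, classInner_irr_self hθe]
    exact one_ne_zero
  have key := cong_unique hM (N.subgroupOf H₁) hidx₁ _ hsup₁ ψ₁.2 hχ hπR hcπ hcχ hcon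
  exact congrFun key ⟨y, hy⟩

set_option maxHeartbeats 1000000 in
/-- extensions exist in the principal block of `N K` for solvable `K` -/
theorem ext_exists_of_solvable [hp : Fact p.Prime] (hM : IsPModular p M) (N : Subgroup G)
    [hN : N.Normal] (hidx : ¬ p ∣ N.index) (P : Sylow p G)
    (hsup : N ⊔ Subgroup.centralizer ((P : Subgroup G) : Set G) = ⊤)
    (θ : IrrCharacter N) (hθ : θ ∈ principalBlock M N) (K : Subgroup G)
    [hK : Group.IsSolvable K] :
    ∃ ψ : IrrCharacter ↥(N ⊔ K), ExtIn M N θ (N ⊔ K) ψ := by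
  classical
  have hNH : N ≤ N ⊔ K := le_sup_left
  have hPN : (P : Subgroup G) ≤ N := sylow_le_of_normal_of_not_dvd_index N hidx P
  have hPH : (P : Subgroup G) ≤ N ⊔ K := hPN.trans hNH
  have hidx' := not_dvd_index_subgroupOf N hidx (N ⊔ K)
  have hsup' := sup_centralizer_subgroupOf N P hsup (N ⊔ K) hNH hPH
  have hsolS : Group.IsSolvable (K.map (QuotientGroup.mk' N)) :=
    Group.isSolvable_of_surjective (f := (QuotientGroup.mk' N).subgroupMap K)
      (MonoidHom.subgroupMap_surjective _ _)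
  have hmem : ∀ y : ↥(N ⊔ K),
      ((QuotientGroup.mk' N).comp (N ⊔ K).subtype) y ∈ K.map (QuotientGroup.mk' N) := by
    intro y
    have hy : (y : G) ∈ ((N ⊔ K : Subgroup G) : Set G) := y.2
    rw [Subgroup.normal_mul] at hy
    obtain ⟨n, hn, k, hk, hnk⟩ := Set.mem_mul.mp hy
    have h1 : ((QuotientGroup.mk' N).comp (N ⊔ K).subtype) y = QuotientGroup.mk' N k := by
      show QuotientGroup.mk' N (y : G) = _
      rw [← hnk, map_mul]
      have h2 : QuotientGroup.mk' N n = 1 := (QuotientGroup.eq_one_iff n).mpr hn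
      rw [h2, one_mul]
    rw [h1]
    exact Subgroup.mem_map_of_mem _ hk
  obtain ⟨φ, hφ⟩ : ∃ φ : ↥(N ⊔ K) →* ↥(K.map (QuotientGroup.mk' N)),
      ∀ y, ((φ y : ↥(K.map (QuotientGroup.mk' N))) : G ⧸ N) = QuotientGroup.mk' N (y : G) :=
    ⟨((QuotientGroup.mk' N).comp (N ⊔ K).subtype).codRestrict _ hmem, fun y => rfl⟩
  have hker : φ.ker = N.subgroupOf (N ⊔ K) := by
    ext y
    rw [MonoidHom.mem_ker, Subgroup.mem_subgroupOf]
    constructor
    · intro h
      have h1 := congrArg Subtype.val h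
      rw [hφ] at h1
      exact (QuotientGroup.eq_one_iff (y : G)).mp h1
    · intro h
      apply Subtype.ext
      rw [hφ]
      exact (QuotientGroup.eq_one_iff (y : G)).mpr h
  have := Fintype.ofFinite (N.subgroupOf (N ⊔ K))
  have hθ' : isoIrr (Subgroup.subgroupOfEquivOfLe hNH).symm θ
      ∈ principalBlock M (N.subgroupOf (N ⊔ K)) := by
    rw [← image_isoIrr_principal (M := M) (Subgroup.subgroupOfEquivOfLe hNH).symm]
    exact Set.mem_image_of_mem _ hθ
  obtain ⟨ψ, hψ, hψθ⟩ := principal_ext_solvable p M hM (Nat.card ↥(N ⊔ K)) ↥(N ⊔ K) le_rfl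
    (N.subgroupOf (N ⊔ K)) hidx' ↥(K.map (QuotientGroup.mk' N)) φ hker (P.subtype hPH) hsup'
    _ hθ'
  refine ⟨ψ, hψ, fun n hn => ?_⟩
  have h2 := hψθ ⟨⟨(n : G), hn⟩, Subgroup.mem_subgroupOf.mpr n.2⟩
  rw [isoIrr_apply] at h2
  exact h2

end alp4

end Cfsg.Agent.Lib.Helper25
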