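import Mathlib
import Cfsg.Prelude
import Cfsg.Agent.Lib.Helper25.AlpIso4

set_option autoImplicit false

/-!
Isomorphic principal blocks (Alperin), part 5: if `N` is a normal subgroup of `G` of index prime
to `p` and `G = N C_G(P)` for a Sylow `p`-subgroup `P`, then restriction is a bijection from the
principal block of `G` onto the principal block of `N`.  The extension of a character `θ` of the
principal block of `N` is glued from the extensions to the subgroups `N⟨x⟩` by Brauer's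
characterization of characters.
-/

namespace Cfsg.Agent.Lib.Helper25

open Cfsg Cfsg.Agent.Lib.Helper2
open scoped ComplexConjugate

universe u

section alp5

variable {G : Type u} [Group G] [Fintype G] {p : ℕ} {M : Ideal AlgInt}

set_option maxHeartbeats 4000000 in
theorem principal_ext_general [hp : Fact p.Prime] (hM : IsPModular p M) (N : Subgroup G)
    [hN : N.Normal] (hidx : ¬ p ∣ N.index) (P : Sylow p G)
    (hsup : N ⊔ Subgroup.centralizer ((P : Subgroup G) : Set G) = ⊤)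
    (θ : IrrCharacter N) (hθ : θ ∈ principalBlock M N) :
    ∃ χ : IrrCharacter G, χ ∈ principalBlock M G ∧
      ∀ n : N, (χ : G → ℂ) n = (θ : N → ℂ) n := by
  classical
  have hpr := isPrime_of_isPModular hM
  have := Fintype.ofFinite N
  have hPN : (P : Subgroup G) ≤ N := sylow_le_of_normal_of_not_dvd_index N hidx P
  have hzsol : ∀ x : G, Group.IsSolvable (Subgroup.zpowers x) := by
    intro x
    apply Group.isSolvable_of_comm
    intro a b
    apply Subtype.ext
    obtain ⟨i, hi⟩ := Subgroup.mem_zpowers_iff.mp a.2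
    obtain ⟨j, hj⟩ := Subgroup.mem_zpowers_iff.mp b.2
    simp only [Subgroup.coe_mul]
    rw [← hi, ← hj, ← zpow_add, ← zpow_add, add_comm]
  have hex : ∀ x : G, ∃ ψ : IrrCharacter ↥(N ⊔ Subgroup.zpowers x),
      ExtIn M N θ (N ⊔ Subgroup.zpowers x) ψ := by
    intro x
    have := hzsol x
    exact ext_exists_of_solvable hM N hidx P hsup θ hθ (Subgroup.zpowers x)
  choose Ψ hΨ using hex
  have hxmem : ∀ x : G, x ∈ N ⊔ Subgroup.zpowers x :=
    fun x => Subgroup.mem_sup_right (Subgroup.mem_zpowers x)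
  obtain ⟨Θ, hΘdef⟩ : ∃ Θ : G → ℂ,
      ∀ x, Θ x = (Ψ x : ↥(N ⊔ Subgroup.zpowers x) → ℂ) ⟨x, hxmem x⟩ :=
    ⟨fun x => (Ψ x : ↥(N ⊔ Subgroup.zpowers x) → ℂ) ⟨x, hxmem x⟩, fun x => rfl⟩
  -- the key property: every extension in a principal block agrees with `Θ`
  have KP : ∀ (H : Subgroup G) (_ : N ≤ H) (ψ : IrrCharacter H), ExtIn M N θ H ψ →
      ∀ (x : G) (hx : x ∈ H), (ψ : H → ℂ) ⟨x, hx⟩ = Θ x := by
    intro H hNH ψ hψ x hx
    have h12 : N ⊔ Subgroup.zpowers x ≤ H := sup_le hNH (Subgroup.zpowers_le.mpr hx)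
    rw [hΘdef]
    exact ext_agree hM N hidx P hsup θ _ H le_sup_left h12 (Ψ x) ψ (hΨ x) hψ x (hxmem x)
  have hΘN : ∀ n : N, Θ n = (θ : N → ℂ) n := by
    intro n
    rw [hΘdef]
    exact (hΨ (n : G)).2 n (hxmem (n : G))
  -- `θ` is invariant
  have hinv : ∀ (g : G) (n : N),
      (θ : N → ℂ) ⟨g * n * g⁻¹, hN.conj_mem (n : G) n.2 g⟩ = (θ : N → ℂ) n := by
    intro g n
    have hcf := isClassFunction_of_isIrrCharacter (Ψ g).2
    have hnH : (n : G) ∈ N ⊔ Subgroup.zpowers g := Subgroup.mem_sup_left n.2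
    have h1 := hcf ⟨(n : G), hnH⟩ ⟨g, hxmem g⟩
    have h2 := (hΨ g).2 n hnH
    have h3 := (hΨ g).2 ⟨g * n * g⁻¹, hN.conj_mem (n : G) n.2 g⟩
      (Subgroup.mem_sup_left (hN.conj_mem (n : G) n.2 g))
    rw [← h3, ← h2]
    exact h1
  -- `Θ` is a class function
  have hΘcf : IsClassFunction G Θ := by
    intro x y
    have hf : Function.Injective (MulAut.conj y).toMonoidHom := (MulAut.conj y).injective
    have hNH' : N ≤ (N ⊔ Subgroup.zpowers x).map (MulAut.conj y).toMonoidHom := by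
      intro n hn
      refine Subgroup.mem_map.mpr ⟨y⁻¹ * n * y⁻¹⁻¹,
        Subgroup.mem_sup_left (hN.conj_mem n hn y⁻¹), ?_⟩
      show y * (y⁻¹ * n * y⁻¹⁻¹) * y⁻¹ = n
      group
    have hψ' : ExtIn M N θ ((N ⊔ Subgroup.zpowers x).map (MulAut.conj y).toMonoidHom)
        (isoIrr (Subgroup.equivMapOfInjective (N ⊔ Subgroup.zpowers x)
          (MulAut.conj y).toMonoidHom hf) (Ψ x)) := by
      refine ⟨?_, fun n hn => ?_⟩
      · rw [← image_isoIrr_principal (M := M) (Subgroup.equivMapOfInjective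
          (N ⊔ Subgroup.zpowers x) (MulAut.conj y).toMonoidHom hf)]
        exact Set.mem_image_of_mem _ (hΨ x).1
      · rw [isoIrr_apply]
        have hm : y⁻¹ * (n : G) * y⁻¹⁻¹ ∈ N ⊔ Subgroup.zpowers x :=
          Subgroup.mem_sup_left (hN.conj_mem (n : G) n.2 y⁻¹)
        have hsymm : (Subgroup.equivMapOfInjective (N ⊔ Subgroup.zpowers x)
            (MulAut.conj y).toMonoidHom hf).symm ⟨(n : G), hn⟩
            = ⟨y⁻¹ * (n : G) * y⁻¹⁻¹, hm⟩ := by
          rw [MulEquiv.symm_apply_eq]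
          apply Subtype.ext
          rw [Subgroup.coe_equivMapOfInjective_apply]
          show (n : G) = y * (y⁻¹ * (n : G) * y⁻¹⁻¹) * y⁻¹
          group
        rw [hsymm]
        have h1 := (hΨ x).2 ⟨y⁻¹ * (n : G) * y⁻¹⁻¹, hN.conj_mem (n : G) n.2 y⁻¹⟩ hm
        rw [h1]
        exact hinv y⁻¹ n
    have hz : y * x * y⁻¹ ∈ (N ⊔ Subgroup.zpowers x).map (MulAut.conj y).toMonoidHom :=
      Subgroup.mem_map.mpr ⟨x, hxmem x, rfl⟩
    have h2 := KP _ hNH' _ hψ' (y * x * y⁻¹) hz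
    rw [← h2, isoIrr_apply]
    have hsymm : (Subgroup.equivMapOfInjective (N ⊔ Subgroup.zpowers x)
        (MulAut.conj y).toMonoidHom hf).symm ⟨y * x * y⁻¹, hz⟩ = ⟨x, hxmem x⟩ := by
      rw [MulEquiv.symm_apply_eq]
      apply Subtype.ext
      rw [Subgroup.coe_equivMapOfInjective_apply]
      rfl
    rw [hsymm, hΘdef]
  -- `Θ` is a generalized character
  have hΘgen : IsGeneralizedCharacter G Θ := by
    apply Cfsg.Agent.S0164.result Θ hΘcf
    intro E q hq hE
    have hEs : Group.IsSolvable E := isSolvable_of_isElementary hq hE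
    obtain ⟨ψ, hψ⟩ := ext_exists_of_solvable hM N hidx P hsup θ hθ E
    have h1 : (fun e : E => Θ e)
        = (ψ : ↥(N ⊔ E) → ℂ) ∘ Subgroup.inclusion (le_sup_right : E ≤ N ⊔ E) := by
      funext e
      exact (KP (N ⊔ E) le_sup_left ψ hψ (e : G) (Subgroup.mem_sup_right e.2)).symm
    rw [h1]
    exact ⟨(ψ : ↥(N ⊔ E) → ℂ) ∘ Subgroup.inclusion (le_sup_right : E ≤ N ⊔ E), 0,
      isCharacter_comp_hom (isCharacter_of_isIrrCharacter ψ.2) _, IsCharacter.zero,
      (sub_zero _).symm⟩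
  -- `Θ` has norm one
  have hnorm : classInner Θ Θ = 1 := by
    have hloc : ∀ g : G, ∑ x ∈ Finset.univ.filter (fun x => x ∈ N ⊔ Subgroup.zpowers g),
        (Θ x * conj (Θ x) - 1) = 0 := by
      intro g
      have := Fintype.ofFinite ↥(N ⊔ Subgroup.zpowers g)
      have e1 : ∑ x ∈ Finset.univ.filter (fun x => x ∈ N ⊔ Subgroup.zpowers g),
          (Θ x * conj (Θ x) - 1)
          = ∑ a : ↥(N ⊔ Subgroup.zpowers g), (Θ (a : G) * conj (Θ (a : G)) - 1) :=
        Finset.sum_subtype _ (fun x => by simp) _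
      rw [e1]
      have h1 := classInner_irr_self (Ψ g).2
      rw [classInner_def] at h1
      have h2 : ∀ a : ↥(N ⊔ Subgroup.zpowers g),
          Θ (a : G) = (Ψ g : ↥(N ⊔ Subgroup.zpowers g) → ℂ) a :=
        fun a => (KP _ le_sup_left (Ψ g) (hΨ g) (a : G) a.2).symm
      simp only [h2]
      rw [Finset.sum_sub_distrib]
      have hc := card_ne_zero_complex ↥(N ⊔ Subgroup.zpowers g)
      have h3 : ∑ a : ↥(N ⊔ Subgroup.zpowers g), (Ψ g : ↥(N ⊔ Subgroup.zpowers g) → ℂ) a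
          * conj ((Ψ g : ↥(N ⊔ Subgroup.zpowers g) → ℂ) a)
          = (Nat.card ↥(N ⊔ Subgroup.zpowers g) : ℂ) := by
        rw [inv_mul_eq_iff_eq_mul₀ hc] at h1
        rw [h1, mul_one]
      rw [h3]
      simp [Nat.card_eq_fintype_card]
    have hsum := sum_eq_zero_of_local
      (fun g => Finset.univ.filter (fun x => x ∈ N ⊔ Subgroup.zpowers g))
      (fun x => Θ x * conj (Θ x) - 1) (fun x => by simp [hxmem x])
      (fun x y hy => by
        intro z hz
        simp only [Finset.mem_filter, Finset.mem_univ, true_and] at hy hz ⊢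
        exact (sup_le le_sup_left (Subgroup.zpowers_le.mpr hy)) hz) hloc
    rw [Finset.sum_sub_distrib] at hsum
    simp only [Finset.sum_const, Finset.card_univ, nsmul_eq_mul, mul_one] at hsum
    rw [classInner_def, sub_eq_zero.mp hsum, Nat.card_eq_fintype_card]
    have hc : (Fintype.card G : ℂ) ≠ 0 := by
      exact_mod_cast Fintype.card_ne_zero
    exact inv_mul_cancel₀ hc
  -- `Θ` is irreducible
  obtain ⟨d, hd0, hd⟩ := irr_apply_one θ.2
  have hΘ1 : Θ 1 = d := by
    have h1 := hΘN 1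
    rw [← hd, ← h1]
    rfl
  have hΘirr : IsIrrCharacter G Θ := genChar_irr_of_norm_one hΘgen hnorm ⟨d, hd0, hΘ1⟩
  -- `Θ` lies in the principal block
  obtain ⟨χ₀, hχ₀, hcon⟩ := exists_principal_over hM N θ hθ
  have hΘres : (fun r : N => Θ r) = (θ : N → ℂ) := funext hΘN
  have hcΘ : CongOn M (Subgroup.centralizer ((P : Subgroup G) : Set G) : Set G) Θ := by
    intro g hg
    have hPH : (P : Subgroup G) ≤ N ⊔ Subgroup.zpowers g := hPN.trans le_sup_left
    have hg' : (⟨g, hxmem g⟩ : ↥(N ⊔ Subgroup.zpowers g)) ∈ Subgroup.centralizer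
        (((P.subtype hPH : Sylow p ↥(N ⊔ Subgroup.zpowers g)) :
          Subgroup ↥(N ⊔ Subgroup.zpowers g)) : Set ↥(N ⊔ Subgroup.zpowers g)) := by
      rw [Subgroup.mem_centralizer_iff]
      intro q hq
      apply Subtype.ext
      have hq' : (q : G) ∈ (P : Subgroup G) := hq
      exact Subgroup.mem_centralizer_iff.mp hg (q : G) hq'
    have := Fintype.ofFinite ↥(N ⊔ Subgroup.zpowers g)
    have h1 := principal_congOn hM (Ψ g) (hΨ g).1 (P.subtype hPH) _ hg'
    have h2 : (Ψ g : ↥(N ⊔ Subgroup.zpowers g) → ℂ) 1 = Θ 1 := by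
      have h3 := (hΨ g).2 1 (one_mem _)
      rw [hΘ1, ← hd]
      exact h3
    show MemLocalIdeal M (Θ g / Θ 1 - 1)
    rw [hΘdef g, ← h2]
    exact h1
  have hχ₀eq : (χ₀ : G → ℂ) = Θ :=
    cong_unique hM N hidx _ hsup hΘirr χ₀.2 (by rw [hΘres]; exact θ.2) hcΘ
      (principal_congOn hM χ₀ hχ₀ P) (by rw [hΘres]; exact hcon)
  refine ⟨χ₀, hχ₀, fun n => ?_⟩
  rw [hχ₀eq]
  exact hΘN n

/-- **Alperin's isomorphic blocks**, index prime to `p`: restriction is a bijection between the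
principal blocks of `G` and of `N` when `G = N C_G(P)` -/
theorem alperin_iso [hp : Fact p.Prime] (hM : IsPModular p M) (N : Subgroup G)
    [hN : N.Normal] (hidx : ¬ p ∣ N.index) (P : Sylow p G)
    (hsup : N ⊔ Subgroup.centralizer ((P : Subgroup G) : Set G) = ⊤) :
    (∀ χ ∈ principalBlock M G, ∃ θ ∈ principalBlock M ↥N,
      ∀ n : N, (χ : G → ℂ) n = (θ : N → ℂ) n) ∧
    ∀ θ ∈ principalBlock M ↥N, ∃! χ : IrrCharacter G, χ ∈ principalBlock M G ∧
      ∀ n : N, (χ : G → ℂ) n = (θ : N → ℂ) n := by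
  classical
  have := Fintype.ofFinite N
  constructor
  · intro χ hχ
    have hres : IsCharacter N (fun n : N => (χ : G → ℂ) n) :=
      IsCharacter.restrict (isCharacter_of_isIrrCharacter χ.2) N
    have hne : (fun n : N => (χ : G → ℂ) n) ≠ 0 := by
      intro h0
      have h1 := congrFun h0 1
      exact irr_one_ne_zero χ.2 (by simpa using h1)
    obtain ⟨θ₀, hθ₀, hc⟩ := exists_irr_constituent hres hne
    have hθB := principal_constituent hM N χ hχ ⟨θ₀, hθ₀⟩ hc
    obtain ⟨χ', hχ', hχ'θ⟩ := principal_ext_general hM N hidx P hsup ⟨θ₀, hθ₀⟩ hθB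
    have hres' : (fun r : N => (χ' : G → ℂ) r) = θ₀ := funext hχ'θ
    have heq : (χ : G → ℂ) = (χ' : G → ℂ) :=
      cong_unique hM N hidx _ hsup χ'.2 χ.2 (by rw [hres']; exact hθ₀)
        (principal_congOn hM χ' hχ' P) (principal_congOn hM χ hχ P)
        (by rw [hres']; exact hc)
    refine ⟨⟨θ₀, hθ₀⟩, hθB, fun n => ?_⟩
    rw [heq]
    exact hχ'θ n
  · intro θ hθ
    obtain ⟨χ, hχ, hχθ⟩ := principal_ext_general hM N hidx P hsup θ hθ
    refine ⟨χ, ⟨hχ, hχθ⟩, ?_⟩
    rintro χ' ⟨hχ', hχ'θ⟩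
    have hres : (fun r : N => (χ : G → ℂ) r) = (θ : N → ℂ) := funext hχθ
    have hres' : (fun r : N => (χ' : G → ℂ) r) = (θ : N → ℂ) := funext hχ'θ
    apply Subtype.ext
    exact cong_unique hM N hidx _ hsup χ.2 χ'.2 (by rw [hres]; exact θ.2)
      (principal_congOn hM χ hχ P) (principal_congOn hM χ' hχ' P)
      (by rw [hres, hres', classInner_irr_self θ.2]; exact one_ne_zero)

end alp5

end Cfsg.Agent.Lib.Helper25
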