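import Mathlib
import Cfsg.Prelude
import Cfsg.Agent.Lib.Helper2.CharCover2
import Cfsg.Agent.Lib.Helper2.CharBridge
import Cfsg.Agent.Lib.Helper2.CharLinear
import Cfsg.Agent.Lib.Helper25.Defect0
import Cfsg.Agent.Lib.Helper8.PrincipalQuot2

/-!
# Kernels of irreducible characters and codegrees
-/

namespace Cfsg.Agent.Lib.Helper25

open Cfsg Cfsg.Agent.Lib.Helper2 Cfsg.Agent.Lib.Helper8 Module

open scoped ComplexConjugate

/-- the kernel of an irreducible character is a normal subgroup `K`, and `|K| χ(1)` divides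
`|G|` -/
theorem exists_charKernel {G : Type*} [Group G] [Finite G] (χ : IrrCharacter G) :
    ∃ K : Subgroup G, K.Normal ∧ (∀ g : G, g ∈ K ↔ (χ : G → ℂ) g = (χ : G → ℂ) 1) ∧
      Nat.card K * charDegree (χ : G → ℂ) ∣ Nat.card G := by
  classical
  obtain ⟨n, ρ, hρ, hχ⟩ := χ.2
  have hmem : ∀ g : G, g ∈ MonoidHom.ker ρ ↔ (χ : G → ℂ) g = (χ : G → ℂ) 1 := by
    intro g
    rw [MonoidHom.mem_ker, ← hχ, Representation.char_one, char_eq_finrank_iff]
    rfl
  refine ⟨MonoidHom.ker ρ, MonoidHom.normal_ker ρ, hmem, ?_⟩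
  have hsurj : Function.Surjective (QuotientGroup.mk' (MonoidHom.ker ρ)) :=
    QuotientGroup.mk'_surjective _
  obtain ⟨χb, hχb, hcomp⟩ := exists_irr_deflate (QuotientGroup.mk' (MonoidHom.ker ρ)) hsurj χ.2
    (by
      intro z hz
      rw [QuotientGroup.ker_mk'] at hz
      exact (hmem z).mp hz)
  obtain ⟨d, hd1, -, hddvd, hdeg⟩ := irr_degree (⟨χb, hχb⟩ : IrrCharacter (G ⧸ MonoidHom.ker ρ))
  have h1 : charDegree (χ : G → ℂ) = d := by
    have h2 : (χ : G → ℂ) 1 = χb 1 := by
      rw [hcomp]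
      simp
    unfold charDegree at hdeg ⊢
    rw [h2]
    exact hdeg
  rw [h1, ← Subgroup.card_mul_index (MonoidHom.ker ρ)]
  apply Nat.mul_dvd_mul_left
  rw [Subgroup.index_eq_card]
  exact hddvd

/-- a simple group has, for each prime divisor `p` of its order, a faithful irreducible
character of degree prime to `p` -/
theorem exists_faithful_pprime_degree {S : Type*} [Group S] [Finite S] (hS : IsSimpleGroup S)
    (p : ℕ) (hp : p.Prime) (hpS : p ∣ Nat.card S) :
    ∃ χ : IrrCharacter S, (∀ g : S, (χ : S → ℂ) g = (χ : S → ℂ) 1 → g = 1) ∧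
      ¬ p ∣ charDegree (χ : S → ℂ) := by
  classical
  have : Fintype S := Fintype.ofFinite S
  have : Fintype (IrrCharacter S) := Fintype.ofFinite _
  by_contra hcon
  push Not at hcon
  obtain ⟨χ₀, hχ₀⟩ : ∃ χ₀ : IrrCharacter S, χ₀ = ⟨fun _ => (1 : ℂ), isIrrCharacter_one⟩ :=
    ⟨_, rfl⟩
  have hdvd : ∀ χ ∈ (Finset.univ : Finset (IrrCharacter S)).erase χ₀,
      p ∣ charDegree (χ : S → ℂ) ^ 2 := by
    intro χ hχ
    have hne : χ ≠ χ₀ := (Finset.mem_erase.mp hχ).1
    obtain ⟨K, hKn, hKmem, -⟩ := exists_charKernel χ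
    rcases hKn.eq_bot_or_eq_top with hK | hK
    · apply Dvd.dvd.pow _ (by norm_num)
      apply hcon χ
      intro g hg
      have := (hKmem g).mpr hg
      rw [hK] at this
      exact Subgroup.mem_bot.mp this
    · exfalso
      apply hne
      have hall : ∀ g : S, (χ : S → ℂ) g = (χ : S → ℂ) 1 := by
        intro g
        apply (hKmem g).mp
        rw [hK]
        exact Subgroup.mem_top g
      obtain ⟨d, hd1, hd0, -, -⟩ := irr_degree χ
      by_contra hne'
      have hne2 : (χ : S → ℂ) ≠ (χ₀ : S → ℂ) := fun h => hne' (Subtype.ext h)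
      have h0 := classInner_irr_ne χ.2 χ₀.2 hne2
      rw [hχ₀] at h0
      unfold classInner at h0
      have h3 : ∑ g : S, (χ : S → ℂ) g * conj ((1 : ℂ)) = (Nat.card S : ℂ) * d := by
        rw [Finset.sum_congr rfl (fun g _ => by rw [hall g, hd1, map_one, mul_one]),
          Finset.sum_const, Finset.card_univ, Nat.card_eq_fintype_card]
        simp
      rw [h3, ← mul_assoc, inv_mul_cancel₀ (by
        have : Nat.card S ≠ 0 := Nat.card_pos.ne'
        exact_mod_cast this), one_mul] at h0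
      have : (d : ℂ) ≠ 0 := by exact_mod_cast hd0.ne'
      exact this h0
  have hsum := sum_degree_sq_eq_card (G := S)
  rw [finsum_eq_sum_of_fintype, ← Finset.add_sum_erase Finset.univ _ (Finset.mem_univ χ₀)] at hsum
  have h1 : charDegree (χ₀ : S → ℂ) ^ 2 = 1 := by
    rw [hχ₀]
    simp [charDegree]
  rw [h1] at hsum
  have h2 := Finset.dvd_sum hdvd
  rw [← hsum] at hpS
  have h3 : p ∣ 1 := (Nat.dvd_add_left h2).mp hpS
  exact hp.one_lt.ne' (Nat.dvd_one.mp h3)

end Cfsg.Agent.Lib.Helper25
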