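import Mathlib
import Cfsg.Prelude.Def_Characters
import Cfsg.Agent.Lib.Helper2.CharMore
import Cfsg.Agent.Lib.Helper2.CharLinear
import Cfsg.Agent.Lib.Helper2.CharClifford
import Cfsg.Agent.Lib.Helper2.CharProd
import Cfsg.Agent.Lib.Helper2.LinExt
import Cfsg.Agent.Lib.Helper2.PResSquares
import Cfsg.Agent.S1489

set_option autoImplicit false

namespace Cfsg.Agent.Lib.Helper25

open Cfsg Cfsg.Agent.Lib.Helper2
open ComplexConjugate

/-- expansion of a character with natural multiplicities -/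
theorem dade_expand {G : Type*} [Group G] [Fintype G] [Fintype (IrrCharacter G)] {Φ : G → ℂ}
    (hΦ : IsCharacter G Φ) :
    ∃ n : IrrCharacter G → ℕ, (∀ ψ : IrrCharacter G, classInner Φ (ψ : G → ℂ) = (n ψ : ℂ)) ∧
      ∀ g, Φ g = ∑ ψ : IrrCharacter G, (n ψ : ℂ) * (ψ : G → ℂ) g := by
  have h := fun ψ : IrrCharacter G =>
    classInner_isCharacter_nat hΦ (isCharacter_of_isIrrCharacter ψ.2)
  choose n hn using h
  refine ⟨n, hn, fun g => ?_⟩
  have hexp := congrFun (class_fun_expand Φ (isClassFunction_of_isCharacter hΦ)) g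
  rw [Finset.sum_apply] at hexp
  rw [hexp]
  apply Finset.sum_congr rfl
  intro ψ _
  rw [Pi.smul_apply, smul_eq_mul, hn]

/-- a constituent of a pulled back constituent is a constituent of the pull back -/
theorem dade_mono {G K : Type*} [Group G] [Fintype G] [Group K] [Fintype K] {Θ θ : G → ℂ}
    (hΘ : IsCharacter G Θ) (hθ : IsIrrCharacter G θ) (hcon : classInner Θ θ ≠ 0)
    (j : K →* G) {μ : K → ℂ} (hμ : IsCharacter K μ)
    (h : classInner (fun k => θ (j k)) μ ≠ 0) : classInner (fun k => Θ (j k)) μ ≠ 0 := by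
  classical
  have := Fintype.ofFinite (IrrCharacter G)
  obtain ⟨n, hn, hexp⟩ := dade_expand hΘ
  have hm := fun ψ : IrrCharacter G => classInner_isCharacter_nat
    (IsCharacter.comp_hom (isCharacter_of_isIrrCharacter ψ.2) j) hμ
  choose m hm using hm
  have hfun : (fun k => Θ (j k)) = ∑ ψ : IrrCharacter G, (n ψ : ℂ) • (fun k => (ψ : G → ℂ) (j k)) := by
    funext k
    rw [hexp, Finset.sum_apply]
    rfl
  have hsum : classInner (fun k => Θ (j k)) μ = ((∑ ψ : IrrCharacter G, n ψ * m ψ : ℕ) : ℂ) := by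
    rw [hfun, classInner_sum_left]
    push_cast
    apply Finset.sum_congr rfl
    intro ψ _
    rw [classInner_smul_left]
    have := hm ψ
    change classInner (fun k => (ψ : G → ℂ) (j k)) μ = _ at this
    rw [this]
  rw [hsum]
  have h1 : n ⟨θ, hθ⟩ ≠ 0 := by
    intro h0
    apply hcon
    have := hn ⟨θ, hθ⟩
    rw [h0] at this
    simpa using this
  have h2 : m ⟨θ, hθ⟩ ≠ 0 := by
    intro h0
    apply h
    have h9 : classInner (fun k => θ (j k)) μ = (m ⟨θ, hθ⟩ : ℂ) := hm ⟨θ, hθ⟩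
    rw [h9, h0]
    simp
  have h3 : n ⟨θ, hθ⟩ * m ⟨θ, hθ⟩ ≤ ∑ ψ : IrrCharacter G, n ψ * m ψ :=
    Finset.single_le_sum (f := fun ψ => n ψ * m ψ) (fun _ _ => Nat.zero_le _)
      (Finset.mem_univ (⟨θ, hθ⟩ : IrrCharacter G))
  have h4 : 0 < n ⟨θ, hθ⟩ * m ⟨θ, hθ⟩ := Nat.mul_pos (Nat.pos_of_ne_zero h1) (Nat.pos_of_ne_zero h2)
  have h5 : (∑ ψ : IrrCharacter G, n ψ * m ψ) ≠ 0 := by omega
  exact_mod_cast h5

/-- the degree of a character is at least the sum of the degrees of distinct constituents -/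
theorem dade_deg_ge {G : Type*} [Group G] [Fintype G] {Φ : G → ℂ}
    (hΦ : IsCharacter G Φ) (D : ℕ) (hD : Φ 1 = (D : ℂ)) (S : Finset (IrrCharacter G))
    (hS : ∀ ψ ∈ S, classInner Φ (ψ : G → ℂ) ≠ 0) :
    ∑ ψ ∈ S, charDegree (ψ : G → ℂ) ≤ D := by
  classical
  have := Fintype.ofFinite (IrrCharacter G)
  obtain ⟨n, hn, hexp⟩ := dade_expand hΦ
  have h1 := hexp 1
  rw [hD] at h1
  have h2 : (D : ℂ) = ((∑ ψ : IrrCharacter G, n ψ * charDegree (ψ : G → ℂ) : ℕ) : ℂ) := by
    rw [h1]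
    push_cast
    apply Finset.sum_congr rfl
    intro ψ _
    rw [irr_apply_one_eq_charDegree ψ.2]
  have h3 : D = ∑ ψ : IrrCharacter G, n ψ * charDegree (ψ : G → ℂ) := by exact_mod_cast h2
  rw [h3]
  calc ∑ ψ ∈ S, charDegree (ψ : G → ℂ) ≤ ∑ ψ ∈ S, n ψ * charDegree (ψ : G → ℂ) := by
        apply Finset.sum_le_sum
        intro ψ hψ
        have : n ψ ≠ 0 := by
          intro h0
          apply hS ψ hψ
          rw [hn, h0]
          simp
        exact Nat.le_mul_of_pos_left _ (Nat.pos_of_ne_zero this)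
    _ ≤ ∑ ψ : IrrCharacter G, n ψ * charDegree (ψ : G → ℂ) :=
        Finset.sum_le_sum_of_subset (Finset.subset_univ S)

/-- an irreducible character with a linear constituent on a subgroup of small index is
induced from it -/
theorem dade_criterion {W : Type*} [Group W] [Fintype W] {χ : W → ℂ} (hχ : IsIrrCharacter W χ)
    (X : Subgroup W) [Fintype X] (lam : X →* ℂˣ)
    (hin : classInner (fun x : X => χ x) (fun x => (lam x : ℂ)) ≠ 0)
    (d : ℕ) (hd : χ 1 = (d : ℂ)) (hle : X.index ≤ d) :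
    χ = indFun X (fun x => (lam x : ℂ)) := by
  classical
  have := Fintype.ofFinite (IrrCharacter W)
  have hΦ : IsCharacter W (indFun X (fun x => (lam x : ℂ))) :=
    indFun_isCharacter X (isCharacter_of_hom lam)
  obtain ⟨n, hn, hexp⟩ := dade_expand hΦ
  have hdeg : ∀ ψ : IrrCharacter W, (ψ : W → ℂ) 1 = (charDegree (ψ : W → ℂ) : ℂ) :=
    fun ψ => irr_apply_one_eq_charDegree ψ.2
  have hdpos : ∀ ψ : IrrCharacter W, 0 < charDegree (ψ : W → ℂ) := by
    intro ψ
    obtain ⟨k, hk, hk1⟩ := irr_apply_one ψ.2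
    rw [charDegree_eq_of_apply_one _ k hk1]
    exact hk
  have h1 := hexp 1
  rw [indFun_apply_one] at h1
  have hl1 : ((lam (1 : X) : ℂˣ) : ℂ) = 1 := by simp
  rw [hl1, mul_one] at h1
  have h2 : (X.index : ℂ) = ((∑ ψ : IrrCharacter W, n ψ * charDegree (ψ : W → ℂ) : ℕ) : ℂ) := by
    rw [h1]
    push_cast
    apply Finset.sum_congr rfl
    intro ψ _
    rw [hdeg]
  have h3 : X.index = ∑ ψ : IrrCharacter W, n ψ * charDegree (ψ : W → ℂ) := by exact_mod_cast h2
  have hχ0 : n ⟨χ, hχ⟩ ≠ 0 := by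
    intro h0
    apply hin
    have h4 := hn ⟨χ, hχ⟩
    rw [h0] at h4
    change classInner (indFun X (fun x => (lam x : ℂ))) χ = _ at h4
    rw [frobenius_reciprocity X _ χ (isClassFunction_of_isIrrCharacter hχ)] at h4
    rw [← classInner_conj_symm, h4]
    simp
  have hdχ : charDegree χ = d := charDegree_eq_of_apply_one χ d hd
  have hsplit := Finset.add_sum_erase Finset.univ
    (fun ψ : IrrCharacter W => n ψ * charDegree (ψ : W → ℂ))
    (Finset.mem_univ (⟨χ, hχ⟩ : IrrCharacter W))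
  simp only at hsplit
  change n ⟨χ, hχ⟩ * charDegree χ + _ = _ at hsplit
  rw [hdχ] at hsplit
  have hdp : 0 < d := by
    rw [← hdχ]
    exact hdpos ⟨χ, hχ⟩
  have hn1 : n ⟨χ, hχ⟩ = 1 := by
    have h5 : n ⟨χ, hχ⟩ * d ≤ d := by
      calc n ⟨χ, hχ⟩ * d ≤ ∑ ψ : IrrCharacter W, n ψ * charDegree (ψ : W → ℂ) := by
            rw [← hsplit]
            exact Nat.le_add_right _ _
        _ = X.index := h3.symm
        _ ≤ d := hle
    have h6 : n ⟨χ, hχ⟩ ≤ 1 := by
      by_contra h7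
      push Not at h7
      have : 2 * d ≤ n ⟨χ, hχ⟩ * d := Nat.mul_le_mul_right d h7
      omega
    omega
  have hrest : ∑ ψ ∈ Finset.univ.erase (⟨χ, hχ⟩ : IrrCharacter W),
      n ψ * charDegree (ψ : W → ℂ) = 0 := by
    rw [hn1, one_mul] at hsplit
    have : d + ∑ ψ ∈ Finset.univ.erase (⟨χ, hχ⟩ : IrrCharacter W),
        n ψ * charDegree (ψ : W → ℂ) ≤ d := by
      rw [hsplit, ← h3]
      exact hle
    omega
  have hzero : ∀ ψ : IrrCharacter W, ψ ≠ ⟨χ, hχ⟩ → n ψ = 0 := by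
    intro ψ hψ
    have h8 := (Finset.sum_eq_zero_iff.mp hrest) ψ (Finset.mem_erase.mpr ⟨hψ, Finset.mem_univ _⟩)
    rcases Nat.mul_eq_zero.mp h8 with h9 | h9
    · exact h9
    · exact absurd h9 (hdpos ψ).ne'
  funext g
  rw [hexp g, Finset.sum_eq_single (⟨χ, hχ⟩ : IrrCharacter W)]
  · rw [hn1]
    simp
  · intro ψ _ hψ
    rw [hzero ψ hψ]
    simp
  · intro h
    exact absurd (Finset.mem_univ _) h

/-- the criterion for an injective homomorphism in place of a subgroup -/
theorem dade_criterion_hom {W K : Type*} [Group W] [Fintype W] [Group K] [Fintype K]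
    {χ : W → ℂ} (hχ : IsIrrCharacter W χ) (j : K →* W) (hj : Function.Injective j)
    (lam : K →* ℂˣ) (hin : classInner (fun k : K => χ (j k)) (fun k => (lam k : ℂ)) ≠ 0)
    (d : ℕ) (hd : χ 1 = (d : ℂ)) (hle : Nat.card W ≤ d * Nat.card K) :
    ∃ (H : Subgroup W) (mu : ↥H →* ℂˣ), χ = indFun H (fun h => (mu h : ℂ)) := by
  classical
  obtain ⟨e, he⟩ : ∃ e : K ≃* j.range, ∀ k, ((e k : j.range) : W) = j k :=
    ⟨MonoidHom.ofInjective hj, fun k => rfl⟩
  have := Fintype.ofFinite j.range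
  refine ⟨j.range, lam.comp e.symm.toMonoidHom, ?_⟩
  apply dade_criterion hχ j.range (lam.comp e.symm.toMonoidHom) _ d hd
  · have h1 := (j.range).card_mul_index
    rw [← Nat.card_congr e.toEquiv] at h1
    have hKpos : 0 < Nat.card K := Nat.card_pos
    have h2 : Nat.card K * (j.range).index ≤ Nat.card K * d := by
      rw [h1, mul_comm]
      exact hle
    exact Nat.le_of_mul_le_mul_left h2 hKpos
  · have h1 := Cfsg.Agent.S1489.classInner_comp_iso e (fun x : j.range => χ x)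
      (fun x : j.range => ((lam.comp e.symm.toMonoidHom) x : ℂ))
    have h2 : ((fun x : j.range => χ x) ∘ e) = fun k : K => χ (j k) := by
      funext k
      change χ ((e k : j.range) : W) = χ (j k)
      rw [he]
    have h3 : ((fun x : j.range => ((lam.comp e.symm.toMonoidHom) x : ℂ)) ∘ e)
        = fun k : K => (lam k : ℂ) := by
      funext k
      change ((lam (e.symm (e k)) : ℂˣ) : ℂ) = _
      rw [MulEquiv.symm_apply_apply]
    rw [h2, h3] at h1
    rw [← h1]
    exact hin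

end Cfsg.Agent.Lib.Helper25
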