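import Mathlib
import Cfsg.Prelude.Def_Characters
import Cfsg.Agent.Lib.Helper25.Dade1
import Cfsg.Agent.Lib.Helper2.CharOrtho

set_option autoImplicit false

namespace Cfsg.Agent.Lib.Helper25

open Cfsg Cfsg.Agent.Lib.Helper2
open ComplexConjugate

section pi

variable {Q : Type*} [Fintype Q] [DecidableEq Q]

/-- inner products of product functions on a product of finite groups -/
theorem dade_classInner_pi {K : Q → Type*} [∀ q, Group (K q)] [∀ q, Fintype (K q)]
    (a b : ∀ q, K q → ℂ) :
    classInner (fun f : ∀ q, K q => ∏ q, a q (f q)) (fun f : ∀ q, K q => ∏ q, b q (f q))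
      = ∏ q, classInner (a q) (b q) := by
  simp only [classInner_def]
  rw [Nat.card_pi, Finset.prod_mul_distrib, Fintype.prod_sum]
  push_cast
  rw [Finset.prod_inv_distrib]
  congr 1
  apply Finset.sum_congr rfl
  intro f _
  rw [map_prod, Finset.prod_mul_distrib]

variable {D : Type*} [Group D] [Fintype D]

/-- the product function of a family of functions -/
noncomputable def piChar (fam : Q → D → ℂ) : (Q → D) → ℂ := fun f => ∏ q, fam q (f q)

theorem piChar_apply (fam : Q → D → ℂ) (f : Q → D) : piChar fam f = ∏ q, fam q (f q) := rfl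

theorem piChar_isCharacter (fam : Q → D → ℂ) (h : ∀ q, IsCharacter D (fam q)) :
    IsCharacter (Q → D) (piChar fam) := by
  have key : ∀ s : Finset Q, IsCharacter (Q → D) (fun f => ∏ q ∈ s, fam q (f q)) := by
    intro s
    induction s using Finset.induction_on with
    | empty =>
      have h1 := isCharacter_of_hom (1 : (Q → D) →* ℂˣ)
      have h2 : (fun f : Q → D => (((1 : (Q → D) →* ℂˣ) f : ℂˣ) : ℂ))
          = fun f => ∏ q ∈ (∅ : Finset Q), fam q (f q) := by
        funext f
        simp
      rwa [h2] at h1
    | insert a s ha ih =>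
      have h1 := IsCharacter.mul (IsCharacter.comp_hom (h a) (Pi.evalMonoidHom (fun _ : Q => D) a)) ih
      have h2 : ((fam a ∘ (Pi.evalMonoidHom (fun _ : Q => D) a)) * fun f => ∏ q ∈ s, fam q (f q))
          = fun f => ∏ q ∈ insert a s, fam q (f q) := by
        funext f
        rw [Finset.prod_insert ha]
        rfl
      rwa [h2] at h1
  exact key Finset.univ

theorem piChar_irr (fam : Q → D → ℂ) (h : ∀ q, IsIrrCharacter D (fam q)) :
    IsIrrCharacter (Q → D) (piChar fam) := by
  apply isIrrCharacter_of_norm_one
    (piChar_isCharacter fam (fun q => isCharacter_of_isIrrCharacter (h q)))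
  have h1 := dade_classInner_pi (K := fun _ : Q => D) fam fam
  change classInner (piChar fam) (piChar fam) = _ at h1
  rw [h1]
  apply Finset.prod_eq_one
  intro q _
  exact classInner_irr_self (h q)

open Classical in
theorem colFun_one_eq (g : D) : colFun (1 : D) g = if g = 1 then (Nat.card D : ℂ) else 0 := by
  classical
  unfold colFun
  by_cases hg : g = 1
  · rw [if_pos hg, hg]
    simp [Nat.card_eq_fintype_card]
  · rw [if_neg hg]
    apply Finset.sum_eq_zero
    intro x _
    rw [if_neg]
    intro h
    apply hg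
    have : g = x⁻¹ * (x * g * x⁻¹) * x := by group
    rw [this, h]
    group

/-- every irreducible character of a power of a group is a product of irreducible characters -/
theorem piChar_complete {θ : (Q → D) → ℂ} (hθ : IsIrrCharacter (Q → D) θ) :
    ∃ fam : Q → IrrCharacter D, θ = piChar (fun q => (fam q : D → ℂ)) := by
  classical
  have := Fintype.ofFinite (IrrCharacter D)
  by_contra hno
  push Not at hno
  have hzero : ∀ fam : Q → IrrCharacter D,
      classInner (piChar (fun q => (fam q : D → ℂ))) θ = 0 := by
    intro fam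
    apply classInner_irr_ne (piChar_irr _ (fun q => (fam q).2)) hθ
    exact fun h => hno fam h.symm
  -- the regular function
  have hR : ∀ f : Q → D, ∑ fam : Q → IrrCharacter D,
      (∏ q, conj ((fam q : D → ℂ) 1)) * piChar (fun q => (fam q : D → ℂ)) f
        = if f = 1 then (Nat.card D : ℂ) ^ Fintype.card Q else 0 := by
    intro f
    have h1 : ∀ fam : Q → IrrCharacter D,
        (∏ q, conj ((fam q : D → ℂ) 1)) * piChar (fun q => (fam q : D → ℂ)) f
          = ∏ q, ((fam q : D → ℂ) (f q) * conj ((fam q : D → ℂ) 1)) := by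
      intro fam
      rw [piChar_apply, Finset.prod_mul_distrib, mul_comm]
    rw [Finset.sum_congr rfl (fun fam _ => h1 fam)]
    rw [← Fintype.prod_sum (fun (q : Q) (ψ : IrrCharacter D) =>
      (ψ : D → ℂ) (f q) * conj ((ψ : D → ℂ) 1))]
    rw [Finset.prod_congr rfl (fun q _ => column_orthogonality (f q) (1 : D))]
    by_cases hf : f = 1
    · rw [if_pos hf, hf]
      simp [colFun_one_eq]
    · rw [if_neg hf]
      have : ∃ q, f q ≠ 1 := by
        by_contra hall
        push Not at hall
        exact hf (funext hall)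
      obtain ⟨q, hq⟩ := this
      apply Finset.prod_eq_zero (Finset.mem_univ q)
      rw [colFun_one_eq, if_neg hq]
  have h2 : classInner (fun f : Q → D => ∑ fam : Q → IrrCharacter D,
      (∏ q, conj ((fam q : D → ℂ) 1)) * piChar (fun q => (fam q : D → ℂ)) f) θ = 0 := by
    have hfun : (fun f : Q → D => ∑ fam : Q → IrrCharacter D,
        (∏ q, conj ((fam q : D → ℂ) 1)) * piChar (fun q => (fam q : D → ℂ)) f)
        = ∑ fam : Q → IrrCharacter D,
          (∏ q, conj ((fam q : D → ℂ) 1)) • piChar (fun q => (fam q : D → ℂ)) := by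
      funext f
      rw [Finset.sum_apply]
      rfl
    rw [hfun, classInner_sum_left]
    apply Finset.sum_eq_zero
    intro fam _
    rw [classInner_smul_left, hzero fam, mul_zero]
  rw [classInner_def] at h2
  rw [Finset.sum_eq_single (1 : Q → D)] at h2
  · rw [hR 1, if_pos rfl] at h2
    have hc : (Nat.card (Q → D) : ℂ)⁻¹ ≠ 0 := by
      apply inv_ne_zero
      have : 0 < Nat.card (Q → D) := Nat.card_pos
      exact_mod_cast this.ne'
    have hD : (Nat.card D : ℂ) ^ Fintype.card Q ≠ 0 := by
      apply pow_ne_zero
      have : 0 < Nat.card D := Nat.card_pos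
      exact_mod_cast this.ne'
    obtain ⟨k, hk, hk1⟩ := irr_apply_one hθ
    have hθ1 : conj (θ 1) ≠ 0 := by
      rw [hk1, Complex.conj_natCast]
      exact_mod_cast hk.ne'
    rcases mul_eq_zero.mp h2 with h3 | h3
    · exact hc h3
    · rcases mul_eq_zero.mp h3 with h4 | h4
      · exact hD h4
      · exact hθ1 h4
  · intro f _ hf
    rw [hR f, if_neg hf, zero_mul]
  · intro h
    exact absurd (Finset.mem_univ _) h

/-- the family is determined by the product character -/
theorem piChar_injective (fam fam' : Q → D → ℂ) (h : ∀ q, IsIrrCharacter D (fam q))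
    (h' : ∀ q, IsIrrCharacter D (fam' q)) (heq : piChar fam = piChar fam') : fam = fam' := by
  classical
  funext q
  by_contra hne
  have h0 := classInner_irr_ne (h q) (h' q) hne
  have hval : ∀ (g : Q → D → ℂ) (d : D), piChar g (Pi.mulSingle q d)
      = g q d * ∏ q' ∈ Finset.univ.erase q, g q' 1 := by
    intro g d
    rw [piChar_apply, ← Finset.mul_prod_erase Finset.univ _ (Finset.mem_univ q),
      Pi.mulSingle_eq_same]
    congr 1
    apply Finset.prod_congr rfl
    intro q' hq'
    rw [Pi.mulSingle_eq_of_ne (Finset.ne_of_mem_erase hq')]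
  have hc : ∀ (g : Q → D → ℂ), (∀ q, IsIrrCharacter D (g q)) →
      ∏ q' ∈ Finset.univ.erase q, g q' 1 ≠ 0 := by
    intro g hg
    apply Finset.prod_ne_zero_iff.mpr
    intro q' _
    obtain ⟨k, hk, hk1⟩ := irr_apply_one (hg q')
    rw [hk1]
    exact_mod_cast hk.ne'
  have hfun : fam q = ((∏ q' ∈ Finset.univ.erase q, fam' q' 1)
      / (∏ q' ∈ Finset.univ.erase q, fam q' 1)) • fam' q := by
    funext d
    have h1 := congrFun heq (Pi.mulSingle q d)
    rw [hval fam d, hval fam' d] at h1
    rw [Pi.smul_apply, smul_eq_mul]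
    field_simp [hc fam h]
    rw [h1]
    ring
  rw [hfun, classInner_smul_left, classInner_irr_self (h' q), mul_one] at h0
  exact (div_ne_zero (hc fam' h') (hc fam h)) h0

end pi

end Cfsg.Agent.Lib.Helper25
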