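import Mathlib
import Cfsg.Prelude.Def_Characters
import Cfsg.Agent.Lib.Helper25.Dade2
import Cfsg.Agent.Lib.Helper2.AbSylow

set_option autoImplicit false

namespace Cfsg.Agent.Lib.Helper25

open Cfsg Cfsg.Agent.Lib.Helper2
open ComplexConjugate

/-- a `Fintype` structure on the regular wreath product -/
noncomputable instance wrFintype {D Q : Type*} [Fintype D] [Fintype Q] [DecidableEq Q] :
    Fintype (D ≀ᵣ Q) :=
  Fintype.ofEquiv _ (RegularWreathProduct.equivProd D Q).symm

/-- functoriality of the regular wreath product in the base group -/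
def wrMap {D₁ D₂ : Type*} [Group D₁] [Group D₂] (Q : Type*) [Group Q] (φ : D₁ →* D₂) :
    D₁ ≀ᵣ Q →* D₂ ≀ᵣ Q where
  toFun w := ⟨fun x => φ (w.left x), w.right⟩
  map_one' := by ext <;> simp
  map_mul' a b := by ext <;> simp

theorem wrMap_injective {D₁ D₂ : Type*} [Group D₁] [Group D₂] (Q : Type*) [Group Q]
    (φ : D₁ →* D₂) (hφ : Function.Injective φ) : Function.Injective (wrMap Q φ) := by
  intro a b h
  have h1 := congrArg RegularWreathProduct.left h
  have h2 := congrArg RegularWreathProduct.right h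
  ext x
  · exact hφ (congrFun h1 x)
  · exact h2

/-- the inclusion of the base group -/
def wrBase (D Q : Type*) [Group D] [Group Q] : (Q → D) →* D ≀ᵣ Q where
  toFun f := ⟨f, 1⟩
  map_one' := rfl
  map_mul' a b := by ext <;> simp

/-- the inclusion of a product of subgroups in the base group -/
def wrBaseSub {D Q : Type*} [Group D] [Group Q] (H : Q → Subgroup D) :
    ((q : Q) → H q) →* D ≀ᵣ Q where
  toFun f := ⟨fun q => (f q : D), 1⟩
  map_one' := by ext <;> simp
  map_mul' a b := by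
    ext x
    · have key : ∀ y : Q, y = x → ((b x : H x) : D) = ((b y : H y) : D) := by
        rintro _ rfl
        rfl
      simp only [RegularWreathProduct.mul_left, Pi.mul_apply, Subgroup.coe_mul]
      congr 1
      exact key _ (by simp)
    · simp

theorem wrBaseSub_injective {D Q : Type*} [Group D] [Group Q] (H : Q → Subgroup D) :
    Function.Injective (wrBaseSub H) := by
  intro a b h
  have h1 := congrArg RegularWreathProduct.left h
  funext q
  apply Subtype.ext
  exact congrFun h1 q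

theorem wrBaseSub_eq {D Q : Type*} [Group D] [Group Q] (H : Q → Subgroup D)
    (f : (q : Q) → H q) : wrBaseSub H f = wrBase D Q (fun q => (f q : D)) := rfl

theorem wr_conj {D Q : Type*} [Group D] [Group Q] (r : Q) (f : Q → D) :
    (RegularWreathProduct.inl r : D ≀ᵣ Q) * wrBase D Q f * (RegularWreathProduct.inl r)⁻¹
      = wrBase D Q (fun x => f (r⁻¹ * x)) := by
  ext x <;> simp [wrBase]

theorem wrMap_wrBase {D Q : Type*} [Group D] [Group Q] (H : Subgroup D) (f : Q → H) :
    wrMap Q H.subtype (wrBase H Q f) = wrBase D Q (fun q => (f q : D)) := rfl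

/-- the product of the values of homomorphisms, on a product of groups -/
def piProdHom {Q : Type*} [Fintype Q] {K : Q → Type*} [∀ q, Group (K q)]
    (lam : ∀ q, K q →* ℂˣ) : (∀ q, K q) →* ℂˣ where
  toFun f := ∏ q, lam q (f q)
  map_one' := by simp
  map_mul' a b := by simp [Finset.prod_mul_distrib]

theorem piProdHom_coe {Q : Type*} [Fintype Q] {K : Q → Type*} [∀ q, Group (K q)]
    (lam : ∀ q, K q →* ℂˣ) (f : ∀ q, K q) :
    ((piProdHom lam f : ℂˣ) : ℂ) = ∏ q, ((lam q (f q) : ℂˣ) : ℂ) :=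
  Units.coe_prod _ _

/-- the product of the values of a homomorphism over the coordinates, on a wreath product -/
def wrProdHom {H Q : Type*} [Group H] [Group Q] [Fintype Q] (lam : H →* ℂˣ) :
    H ≀ᵣ Q →* ℂˣ where
  toFun w := ∏ q, lam (w.left q)
  map_one' := by simp
  map_mul' a b := by
    simp only [RegularWreathProduct.mul_left, Pi.mul_apply, map_mul, Finset.prod_mul_distrib]
    congr 1
    exact Fintype.prod_equiv (Equiv.mulLeft a.right⁻¹) _ _ (fun q => rfl)

theorem wrProdHom_coe {H Q : Type*} [Group H] [Group Q] [Fintype Q] (lam : H →* ℂˣ)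
    (w : H ≀ᵣ Q) : ((wrProdHom lam w : ℂˣ) : ℂ) = ∏ q, ((lam (w.left q) : ℂˣ) : ℂ) :=
  Units.coe_prod _ _

/-- summing over a wreath product -/
theorem wr_sum {H Q : Type*} [Fintype H] [Fintype Q] [DecidableEq Q] (F : H ≀ᵣ Q → ℂ) :
    ∑ w : H ≀ᵣ Q, F w = ∑ f : Q → H, ∑ q : Q, F ⟨f, q⟩ := by
  rw [← Fintype.sum_prod_type (f := fun p : (Q → H) × Q => F ⟨p.1, p.2⟩)]
  exact Fintype.sum_equiv (RegularWreathProduct.equivProd H Q) _ _ (fun w => rfl)

/-- a function on a wreath product with abelian top group whose sum over the base group is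
nonzero has a nonzero twisted sum -/
theorem dade_top {H Q : Type*} [Group H] [Fintype H] [Group Q] [Fintype Q] [DecidableEq Q]
    (hQ : ∀ a b : Q, a * b = b * a)
    (Φ : H ≀ᵣ Q → ℂ) (hΦ : ∑ f : Q → H, Φ (wrBase H Q f) ≠ 0) :
    ∃ μ : Q →* ℂˣ, ∑ w : H ≀ᵣ Q, Φ w * conj ((μ w.right : ℂˣ) : ℂ) ≠ 0 := by
  classical
  have := Fintype.ofFinite (IrrCharacter Q)
  by_contra hno
  push Not at hno
  have hψ : ∀ ψ : IrrCharacter Q, ∑ w : H ≀ᵣ Q, Φ w * conj ((ψ : Q → ℂ) w.right) = 0 := by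
    intro ψ
    obtain ⟨μ, hμ⟩ := hom_of_irr_deg_one ψ.2 (irr_deg_one_of_comm hQ ψ.2)
    have e : ∀ q, (ψ : Q → ℂ) q = ((μ q : ℂˣ) : ℂ) := fun q => congrFun hμ q
    simp only [e]
    exact hno μ
  have key : ∑ w : H ≀ᵣ Q, Φ w * conj (∑ ψ : IrrCharacter Q,
      (ψ : Q → ℂ) w.right * conj ((ψ : Q → ℂ) 1)) = 0 := by
    simp only [map_sum, Finset.mul_sum]
    rw [Finset.sum_comm]
    apply Finset.sum_eq_zero
    intro ψ _
    have h1 : ∀ w : H ≀ᵣ Q, Φ w * conj ((ψ : Q → ℂ) w.right * conj ((ψ : Q → ℂ) 1))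
        = (ψ : Q → ℂ) 1 * (Φ w * conj ((ψ : Q → ℂ) w.right)) := by
      intro w
      rw [map_mul, Complex.conj_conj]
      ring
    rw [Finset.sum_congr rfl (fun w _ => h1 w), ← Finset.mul_sum, hψ ψ, mul_zero]
  have h2 : ∀ w : H ≀ᵣ Q, Φ w * conj (∑ ψ : IrrCharacter Q,
      (ψ : Q → ℂ) w.right * conj ((ψ : Q → ℂ) 1))
      = Φ w * (if w.right = 1 then (Nat.card Q : ℂ) else 0) := by
    intro w
    rw [column_orthogonality, colFun_one_eq]
    split_ifs <;> simp
  rw [Finset.sum_congr rfl (fun w _ => h2 w), wr_sum] at key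
  have h3 : ∀ f : Q → H, ∑ q : Q, Φ ⟨f, q⟩ * (if q = 1 then (Nat.card Q : ℂ) else 0)
      = Φ (wrBase H Q f) * (Nat.card Q : ℂ) := by
    intro f
    rw [Finset.sum_eq_single (1 : Q)]
    · rw [if_pos rfl]
      rfl
    · intro q _ hq
      rw [if_neg hq, mul_zero]
    · intro h
      exact absurd (Finset.mem_univ _) h
  rw [Finset.sum_congr rfl (fun f _ => h3 f), ← Finset.sum_mul] at key
  have hQ0 : (Nat.card Q : ℂ) ≠ 0 := by
    have : 0 < Nat.card Q := Nat.card_pos
    exact_mod_cast this.ne'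
  rcases mul_eq_zero.mp key with h4 | h4
  · exact hΦ h4
  · exact hQ0 h4

/-- the base lemma: a product of linear constituents is a constituent -/
theorem dade_base {D Q : Type*} [Group D] [Fintype D] [Fintype Q] [DecidableEq Q]
    {Θ : (Q → D) → ℂ} (hΘ : IsCharacter (Q → D) Θ) (fam : Q → D → ℂ)
    (hfam : ∀ q, IsIrrCharacter D (fam q)) (hcon : classInner Θ (piChar fam) ≠ 0)
    (Hq : Q → Subgroup D) [∀ q, Fintype (Hq q)] (lamq : ∀ q, Hq q →* ℂˣ)
    (hq : ∀ q, classInner (fun h : Hq q => fam q h) (fun h => ((lamq q h : ℂˣ) : ℂ)) ≠ 0) :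
    classInner (fun f : (q : Q) → Hq q => Θ (fun q => (f q : D)))
      (fun f => ((piProdHom lamq f : ℂˣ) : ℂ)) ≠ 0 := by
  classical
  have h1 := dade_mono hΘ (piChar_irr fam hfam) hcon
    (MonoidHom.pi (fun q => (Hq q).subtype.comp (Pi.evalMonoidHom (fun q => Hq q) q)))
    (isCharacter_of_hom (piProdHom lamq))
  apply h1
  have h2 := dade_classInner_pi (K := fun q => Hq q) (fun q (h : Hq q) => fam q h)
    (fun q (h : Hq q) => ((lamq q h : ℂˣ) : ℂ))
  have h3 : (fun f : (q : Q) → Hq q => ((piProdHom lamq f : ℂˣ) : ℂ))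
      = fun f => ∏ q, ((lamq q (f q) : ℂˣ) : ℂ) := funext (fun f => piProdHom_coe lamq f)
  rw [h3]
  change classInner (fun f : (q : Q) → Hq q => ∏ q, fam q (f q)) _ ≠ 0
  rw [h2]
  exact Finset.prod_ne_zero_iff.mpr (fun q _ => hq q)

end Cfsg.Agent.Lib.Helper25
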