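import Mathlib
import Cfsg.Prelude.Def_Characters
import Cfsg.Agent.Lib.Helper25.Dade3

set_option autoImplicit false
set_option maxHeartbeats 1600000

namespace Cfsg.Agent.Lib.Helper25

open Cfsg Cfsg.Agent.Lib.Helper2
open ComplexConjugate

/-- the regular wreath product of an M-group with a group of prime order is an M-group -/
theorem dade_wreath {D Q : Type*} [Group D] [Fintype D] [Group Q] [Fintype Q] [DecidableEq Q]
    (p : ℕ) [hp : Fact p.Prime] (hQ : Nat.card Q = p)
    (hD : ∀ θ : D → ℂ, IsIrrCharacter D θ →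
      ∃ (H : Subgroup D) (lam : ↥H →* ℂˣ), θ = indFun H (fun h => (lam h : ℂ)))
    (χ : D ≀ᵣ Q → ℂ) (hχ : IsIrrCharacter (D ≀ᵣ Q) χ) :
    ∃ (H : Subgroup (D ≀ᵣ Q)) (lam : ↥H →* ℂˣ), χ = indFun H (fun h => (lam h : ℂ)) := by
  classical
  have hQc : Fintype.card Q = p := by
    rw [← Nat.card_eq_fintype_card]
    exact hQ
  have hΘ : IsCharacter (Q → D) (fun f => χ (wrBase D Q f)) :=
    IsCharacter.comp_hom (isCharacter_of_isIrrCharacter hχ) (wrBase D Q)
  obtain ⟨d, hdpos, hd⟩ := irr_apply_one hχ
  have hΘ1 : (fun f : Q → D => χ (wrBase D Q f)) 1 = (d : ℂ) := by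
    change χ (wrBase D Q 1) = _
    rw [map_one, hd]
  have hne : (fun f : Q → D => χ (wrBase D Q f)) ≠ 0 := by
    intro h0
    have h1 : χ (wrBase D Q 1) = 0 := congrFun h0 1
    rw [map_one, hd] at h1
    have h2 : (d : ℂ) ≠ 0 := by exact_mod_cast hdpos.ne'
    exact h2 h1
  obtain ⟨θ', hθ', hcon⟩ := exists_irr_constituent hΘ hne
  obtain ⟨fam, hfam⟩ := piChar_complete hθ'
  subst hfam
  have hfamirr : ∀ q, IsIrrCharacter D (fam q : D → ℂ) := fun q => (fam q).2
  have hex := fun q => hD (fam q : D → ℂ) (fam q).2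
  choose Hq lamq hq using hex
  have : ∀ q, Fintype (Hq q) := fun q => Fintype.ofFinite _
  have hin : ∀ q, classInner (fun h : Hq q => (fam q : D → ℂ) h)
      (fun h => ((lamq q h : ℂˣ) : ℂ)) ≠ 0 := by
    intro q
    have h1 := frobenius_reciprocity (Hq q) (fun h => ((lamq q h : ℂˣ) : ℂ)) (fam q : D → ℂ)
      (isClassFunction_of_isIrrCharacter (fam q).2)
    rw [← hq q, classInner_irr_self (fam q).2] at h1
    rw [← classInner_conj_symm, ← h1]
    simp
  have hdeg : ∀ q, (fam q : D → ℂ) 1 = ((Hq q).index : ℂ) := by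
    intro q
    have h1 := congrFun (hq q) 1
    rw [indFun_apply_one] at h1
    rw [h1]
    simp
  have hcardD : ∀ q, Nat.card (Hq q) * (Hq q).index = Nat.card D :=
    fun q => (Hq q).card_mul_index
  have hW : Nat.card (D ≀ᵣ Q) = Nat.card D ^ p * p := by
    rw [RegularWreathProduct.card, hQ]
  by_cases hconst : ∀ q, fam q = fam 1
  · -- the invariant case
    have hbase := dade_base hΘ (fun q => (fam q : D → ℂ)) hfamirr hcon (fun _ => Hq 1)
      (fun _ => lamq 1) (fun q => by rw [hconst q]; exact hin 1)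
    have hcomm : ∀ a b : Q, a * b = b * a := by
      have hcyc : IsCyclic Q := isCyclic_of_prime_card hQ
      obtain ⟨g, hg⟩ := hcyc.exists_generator
      intro a b
      obtain ⟨i, rfl⟩ := Subgroup.mem_zpowers_iff.mp (hg a)
      obtain ⟨j, rfl⟩ := Subgroup.mem_zpowers_iff.mp (hg b)
      rw [← zpow_add, ← zpow_add, add_comm]
    have hsum : ∑ f : Q → Hq 1, (fun w : (Hq 1) ≀ᵣ Q => χ (wrMap Q (Hq 1).subtype w)
        * conj ((wrProdHom (lamq 1) w : ℂˣ) : ℂ)) (wrBase (Hq 1) Q f) ≠ 0 := by
      intro h0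
      apply hbase
      rw [classInner_def]
      have h1 : ∑ f : Q → Hq 1, χ (wrBase D Q (fun q => (f q : D)))
          * conj ((piProdHom (fun _ : Q => lamq 1) f : ℂˣ) : ℂ) = 0 := by
        rw [← h0]
        apply Finset.sum_congr rfl
        intro f _
        rw [piProdHom_coe]
        change _ = χ (wrMap Q (Hq 1).subtype (wrBase (Hq 1) Q f))
          * conj ((wrProdHom (lamq 1) (wrBase (Hq 1) Q f) : ℂˣ) : ℂ)
        rw [wrMap_wrBase, wrProdHom_coe]
        rfl
      rw [h1, mul_zero]
    obtain ⟨μ, hμ⟩ := dade_top hcomm (fun w : (Hq 1) ≀ᵣ Q => χ (wrMap Q (Hq 1).subtype w)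
        * conj ((wrProdHom (lamq 1) w : ℂˣ) : ℂ)) hsum
    obtain ⟨ξ, hξ⟩ : ∃ ξ : (Hq 1) ≀ᵣ Q →* ℂˣ,
        ξ = wrProdHom (lamq 1) * (μ.comp RegularWreathProduct.rightHom) := ⟨_, rfl⟩
    have hinξ : classInner (fun w : (Hq 1) ≀ᵣ Q => χ (wrMap Q (Hq 1).subtype w))
        (fun w => ((ξ w : ℂˣ) : ℂ)) ≠ 0 := by
      rw [classInner_def]
      apply mul_ne_zero
      · apply inv_ne_zero
        have : 0 < Nat.card ((Hq 1) ≀ᵣ Q) := Nat.card_pos
        exact_mod_cast this.ne'
      · intro h0
        apply hμ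
        rw [← h0]
        apply Finset.sum_congr rfl
        intro w _
        rw [hξ]
        simp only [MonoidHom.mul_apply, MonoidHom.comp_apply, Units.val_mul, map_mul]
        rw [mul_assoc]
        rfl
    have hle : Nat.card (D ≀ᵣ Q) ≤ d * Nat.card ((Hq 1) ≀ᵣ Q) := by
      rw [hW, RegularWreathProduct.card, hQ]
      have hdge : (Hq 1).index ^ p ≤ d := by
        have h1 := dade_deg_ge hΘ d hΘ1 {⟨piChar (fun q => (fam q : D → ℂ)), hθ'⟩} (by
          intro ψ hψ
          rw [Finset.mem_singleton] at hψ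
          rw [hψ]
          exact hcon)
        rw [Finset.sum_singleton] at h1
        have h2 : charDegree (piChar (fun q => (fam q : D → ℂ))) = (Hq 1).index ^ p := by
          apply charDegree_eq_of_apply_one
          rw [piChar_apply]
          have h3 : ∀ q ∈ (Finset.univ : Finset Q),
              (fam q : D → ℂ) ((1 : Q → D) q) = ((Hq 1).index : ℂ) := by
            intro q _
            rw [hconst q]
            exact hdeg 1
          rw [Finset.prod_congr rfl h3, Finset.prod_const, Finset.card_univ, hQc]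
          push_cast
          rfl
        change charDegree (piChar (fun q => (fam q : D → ℂ))) ≤ d at h1
        rw [h2] at h1
        exact h1
      calc Nat.card D ^ p * p = (Nat.card (Hq 1) * (Hq 1).index) ^ p * p := by rw [hcardD 1]
        _ = (Hq 1).index ^ p * (Nat.card (Hq 1) ^ p * p) := by ring
        _ ≤ d * (Nat.card (Hq 1) ^ p * p) := Nat.mul_le_mul_right _ hdge
    exact dade_criterion_hom hχ (wrMap Q (Hq 1).subtype)
      (wrMap_injective Q _ (Hq 1).subtype_injective) ξ hinξ d hd hle
  · -- the non-invariant case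
    have hbase := dade_base hΘ (fun q => (fam q : D → ℂ)) hfamirr hcon Hq lamq hin
    have hinB : classInner (fun f : (q : Q) → Hq q => χ (wrBaseSub Hq f))
        (fun f => ((piProdHom lamq f : ℂˣ) : ℂ)) ≠ 0 := hbase
    have hshift : ∀ r : Q, classInner (fun f : Q → D => χ (wrBase D Q f))
        (piChar (fun q => (fam (r * q) : D → ℂ))) ≠ 0 := by
      intro r
      obtain ⟨σ, hσ⟩ : ∃ σ : (Q → D) ≃* (Q → D), ∀ f x, σ f x = f (r⁻¹ * x) :=
        ⟨{ toFun := fun f x => f (r⁻¹ * x)
           invFun := fun f x => f (r * x)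
           left_inv := fun f => by funext x; simp
           right_inv := fun f => by funext x; simp
           map_mul' := fun a b => rfl }, fun f x => rfl⟩
      have h1 := Cfsg.Agent.S1489.classInner_comp_iso σ (fun f : Q → D => χ (wrBase D Q f))
        (piChar (fun q => (fam q : D → ℂ)))
      have hσ' : ∀ f, σ f = fun x => f (r⁻¹ * x) := fun f => funext (hσ f)
      have h2 : ((fun f : Q → D => χ (wrBase D Q f)) ∘ σ) = fun f => χ (wrBase D Q f) := by
        funext f
        change χ (wrBase D Q (σ f)) = χ (wrBase D Q f)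
        rw [hσ', ← wr_conj r f]
        exact isClassFunction_of_isIrrCharacter hχ _ _
      have h3 : (piChar (fun q => (fam q : D → ℂ)) ∘ σ)
          = piChar (fun q => (fam (r * q) : D → ℂ)) := by
        funext f
        change piChar (fun q => (fam q : D → ℂ)) (σ f) = _
        rw [hσ', piChar_apply, piChar_apply]
        exact (Fintype.prod_equiv (Equiv.mulLeft r) (fun q => (fam (r * q) : D → ℂ) (f q))
          (fun q => (fam q : D → ℂ) (f (r⁻¹ * q))) (fun q => by simp)).symm
      rw [h2, h3] at h1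
      rw [h1]
      exact hcon
    obtain ⟨ψr, hψr⟩ : ∃ ψr : Q → IrrCharacter (Q → D), ∀ r,
        ((ψr r : IrrCharacter (Q → D)) : (Q → D) → ℂ) = piChar (fun q => (fam (r * q) : D → ℂ)) :=
      ⟨fun r => ⟨_, piChar_irr _ (fun q => (fam (r * q)).2)⟩, fun r => rfl⟩
    have hinj : Function.Injective ψr := by
      intro r r' hrr
      by_contra hne
      apply hconst
      have h0 : piChar (fun q => (fam (r * q) : D → ℂ)) = piChar (fun q => (fam (r' * q) : D → ℂ)) := by
        rw [← hψr r, ← hψr r', hrr]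
      have h1 : (fun q => (fam (r * q) : D → ℂ)) = fun q => (fam (r' * q) : D → ℂ) :=
        piChar_injective _ _ (fun q => (fam (r * q)).2) (fun q => (fam (r' * q)).2) h0
      have h2 : ∀ x : Q, fam ((r' * r⁻¹) * x) = fam x := by
        intro x
        have h5 := congrFun h1 (r⁻¹ * x)
        simp only [mul_inv_cancel_left] at h5
        apply Subtype.ext
        rw [mul_assoc]
        exact h5.symm
      have hs : r' * r⁻¹ ≠ 1 := by
        intro h
        apply hne
        exact (mul_inv_eq_one.mp h).symm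
      have h3 : ∀ n : ℕ, ∀ x : Q, fam ((r' * r⁻¹) ^ n * x) = fam x := by
        intro n
        induction n with
        | zero => intro x; simp
        | succ n ih => intro x; rw [pow_succ, mul_assoc, ih, h2]
      intro q
      obtain ⟨n, hn⟩ := (Submonoid.mem_powers_iff _ _).mp (mem_powers_of_prime_card hQ hs (g' := q))
      have h4 := h3 n 1
      rw [mul_one, hn] at h4
      exact h4
    have hI : ∀ r : Q, charDegree ((ψr r : IrrCharacter (Q → D)) : (Q → D) → ℂ)
        = ∏ q, (Hq q).index := by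
      intro r
      apply charDegree_eq_of_apply_one
      rw [hψr r, piChar_apply]
      push_cast
      rw [← Finset.prod_congr rfl (fun q _ => hdeg q)]
      exact Fintype.prod_equiv (Equiv.mulLeft r) _ _ (fun q => rfl)
    have hdge : p * ∏ q, (Hq q).index ≤ d := by
      have h1 := dade_deg_ge hΘ d hΘ1 (Finset.univ.image ψr) (by
        intro ψ hψ
        obtain ⟨r, -, rfl⟩ := Finset.mem_image.mp hψ
        rw [hψr r]
        exact hshift r)
      rw [Finset.sum_image (fun a _ b _ h => hinj h), Finset.sum_congr rfl (fun r _ => hI r),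
        Finset.sum_const, Finset.card_univ, hQc, smul_eq_mul] at h1
      exact h1
    have hle : Nat.card (D ≀ᵣ Q) ≤ d * Nat.card ((q : Q) → Hq q) := by
      rw [hW, Nat.card_pi]
      have h1 : Nat.card D ^ p = ∏ q : Q, (Nat.card (Hq q) * (Hq q).index) := by
        rw [Finset.prod_congr rfl (fun q _ => hcardD q), Finset.prod_const, Finset.card_univ, hQc]
      rw [h1, Finset.prod_mul_distrib]
      calc (∏ q, Nat.card (Hq q)) * (∏ q, (Hq q).index) * p
          = (p * ∏ q, (Hq q).index) * ∏ q, Nat.card (Hq q) := by ring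
        _ ≤ d * ∏ q, Nat.card (Hq q) := Nat.mul_le_mul_right _ hdge
    exact dade_criterion_hom hχ (wrBaseSub Hq) (wrBaseSub_injective Hq) (piProdHom lamq) hinB d
      hd hle

end Cfsg.Agent.Lib.Helper25
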