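import Mathlib
import Cfsg.Prelude.Def_Characters
import Cfsg.Agent.Lib.Helper25.Dade4
import Cfsg.Agent.Lib.Helper21.HallCount
import Cfsg.Agent.Lib.Helper2.CharMono

set_option autoImplicit false

namespace Cfsg.Agent.Lib.Helper25

open Cfsg Cfsg.Agent.Lib.Helper2

universe u

/-- the Kaloujnine-Krasner embedding of a group in the wreath product of a normal subgroup
with the quotient -/
noncomputable def kkHom {G : Type*} [Group G] (N : Subgroup G) [N.Normal] :
    G →* N ≀ᵣ (G ⧸ N) where
  toFun g := ⟨fun x => ⟨(x.out)⁻¹ * g * ((g : G ⧸ N)⁻¹ * x).out, by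
    rw [← QuotientGroup.eq_one_iff, QuotientGroup.mk_mul, QuotientGroup.mk_mul,
      QuotientGroup.mk_inv, QuotientGroup.out_eq', QuotientGroup.out_eq']
    group⟩, (g : G ⧸ N)⟩
  map_one' := by
    ext x
    · simp
    · rfl
  map_mul' g h := by
    ext x
    · simp only [RegularWreathProduct.mul_left, Pi.mul_apply, Subgroup.coe_mul]
      have h1 : ((g * h : G) : G ⧸ N)⁻¹ * x = (h : G ⧸ N)⁻¹ * ((g : G ⧸ N)⁻¹ * x) := by
        rw [QuotientGroup.mk_mul, mul_inv_rev, mul_assoc]
      rw [h1]
      group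
    · rfl

theorem kkHom_injective {G : Type*} [Group G] (N : Subgroup G) [N.Normal] :
    Function.Injective (kkHom N) := by
  rw [injective_iff_map_eq_one]
  intro g hg
  have h1 : (g : G ⧸ N) = 1 := congrArg RegularWreathProduct.right hg
  have h2 := congrArg Subtype.val (congrFun (congrArg RegularWreathProduct.left hg) 1)
  change ((1 : G ⧸ N).out)⁻¹ * g * ((g : G ⧸ N)⁻¹ * 1).out = 1 at h2
  rw [h1, inv_one, one_mul] at h2
  have h3 : g = (1 : G ⧸ N).out * (((1 : G ⧸ N).out)⁻¹ * g * (1 : G ⧸ N).out)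
      * ((1 : G ⧸ N).out)⁻¹ := by group
  rw [h3, h2]
  group

/-- every finite solvable group embeds in a finite group all of whose irreducible characters
are monomial -/
theorem dade_main : ∀ (n : ℕ) (G : Type u) [Group G] [Finite G], Nat.card G = n →
    Group.IsSolvable G →
    ∃ (M : Type u) (_ : Group M) (_ : Fintype M),
      (∀ χ : M → ℂ, IsIrrCharacter M χ →
        ∃ (H : Subgroup M) (lam : ↥H →* ℂˣ), χ = indFun H (fun h => (lam h : ℂ))) ∧
      ∃ f : G →* M, Function.Injective f := by
  intro n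
  induction n using Nat.strong_induction_on with
  | _ n ih =>
  intro G _ _ hn hsolv
  classical
  by_cases htriv : Subsingleton G
  · have := Fintype.ofFinite G
    refine ⟨G, inferInstance, inferInstance, ?_, MonoidHom.id G, fun _ _ h => h⟩
    intro χ hχ
    have h1 : χ 1 = 1 := irr_deg_one_of_comm (fun a b => Subsingleton.elim _ _) hχ
    obtain ⟨lam, hlam⟩ := hom_of_irr_deg_one hχ h1
    refine ⟨⊤, lam.comp (⊤ : Subgroup G).subtype, ?_⟩
    have h2 := indFun_top (isClassFunction_of_isIrrCharacter hχ)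
    conv_lhs => rw [← h2]
    congr 1
    funext h
    exact congrFun hlam h
  · have hnt : Nontrivial G := not_subsingleton_iff_nontrivial.mp htriv
    obtain ⟨N, hNn, hNp⟩ := Cfsg.Agent.Lib.Helper21.exists_normal_index_prime (G := G)
    have hlt : Nat.card N < n := by
      have h1 := N.card_mul_index
      rw [hn] at h1
      have h2 := hNp.two_le
      have h3 : 0 < Nat.card N := Nat.card_pos
      nlinarith
    have hNsolv : Group.IsSolvable N := inferInstance
    obtain ⟨M₀, gM, fM, hM₀, f₀, hf₀⟩ := ih (Nat.card N) hlt N rfl hNsolv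
    have : Fact (N.index).Prime := ⟨hNp⟩
    have hQ : Nat.card (G ⧸ N) = N.index := rfl
    have : Fintype (G ⧸ N) := Fintype.ofFinite _
    refine ⟨M₀ ≀ᵣ (G ⧸ N), inferInstance, wrFintype, ?_,
      (wrMap (G ⧸ N) f₀).comp (kkHom N), ?_⟩
    · exact fun χ hχ => dade_wreath N.index hQ hM₀ χ hχ
    · exact (wrMap_injective _ f₀ hf₀).comp (kkHom_injective N)

end Cfsg.Agent.Lib.Helper25
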