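import Mathlib
import Cfsg.Agent.Lib.Helper25.SecondSum2
import Cfsg.Agent.Lib.Helper25.Central
import Cfsg.Agent.Lib.Helper8.FirstMain
import Cfsg.Agent.Lib.Helper8.DefectLocal
import Cfsg.Agent.S0912
import Cfsg.Agent.S0917
import Cfsg.Agent.S4494
import Cfsg.Agent.S4491

/-!
# Blocks of defect one for the prime 2
-/

set_option autoImplicit false

namespace Cfsg.Agent.Lib.Helper25

open Cfsg Cfsg.Agent.Lib.Helper2 Cfsg.Agent.Lib.Helper8

open scoped ComplexConjugate

section two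

variable {K : Type*} [Group K] [Fintype K] {M : Ideal AlgInt}

/-- a `2`-block with a defect group of order two has exactly two characters -/
theorem card_eq_two_of_defect_two (hM : IsPModular 2 M) (β : Set (IrrCharacter K))
    (hβ : IsPBlock M β) (D : Subgroup K) (hD : IsDefectGroup 2 M β D)
    (hcard : Nat.card D = 2) : Nat.card β = 2 := by
  classical
  have : Fact (Nat.Prime 2) := ⟨Nat.prime_two⟩
  have hdef : blockDefect 2 β = 1 := by
    have h := card_of_isDefectGroup hM β hβ D hD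
    rw [hcard] at h
    have h' : (2 : ℕ) ^ 1 = 2 ^ blockDefect 2 β := by
      rw [pow_one]
      exact h
    exact (Nat.pow_right_injective (le_refl 2) h').symm
  have h1 := Cfsg.Agent.S4494.result 2 M hM β hβ
  rw [hdef] at h1
  have hle : Nat.card β ≤ 2 := by
    have h1' : 4 * Nat.card β ≤ 8 := h1
    omega
  have h2 := Cfsg.Agent.S4491.result 2 M hM β hβ
  rw [hdef] at h2
  obtain ⟨χ₀, hχ₀⟩ := isPBlock_nonempty' hM hβ
  have hpos : 0 < Nat.card β := Nat.card_pos_iff.mpr ⟨⟨χ₀, hχ₀⟩, inferInstance⟩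
  have ha : 1 ≤ (Nat.card K).factorization 2 := by
    have hdvd : 2 ∣ Nat.card K := hcard ▸ Subgroup.card_subgroup_dvd_card D
    exact (Nat.Prime.factorization_pos_of_dvd Nat.prime_two Nat.card_pos.ne' hdvd)
  by_contra hne
  have hone : Nat.card β = 1 := by omega
  have hsing : β = {χ₀} := by
    ext ψ
    constructor
    · intro hψ
      have hsub := (Nat.card_eq_one_iff_unique.mp hone).1
      have h3 := Subsingleton.elim (⟨ψ, hψ⟩ : β) ⟨χ₀, hχ₀⟩
      exact congrArg Subtype.val h3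
    · rintro rfl
      exact hχ₀
  rw [hsing, finsum_mem_singleton, Nat.factorization_pow] at h2
  rw [Finsupp.smul_apply, smul_eq_mul] at h2
  omega

end two

section uniq

variable {G : Type*} [Group G] [Fintype G] {p : ℕ} {M : Ideal AlgInt}

/-- first main theorem, uniqueness, for a subgroup equal to the normalizer -/
theorem induced_unique_of_eq_normalizer [Fact p.Prime] (hM : IsPModular p M) (D : Subgroup G)
    (hD : IsPGroup p D) (B : Set (IrrCharacter G)) (hB : IsPBlock M B) (H : Subgroup G)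
    (hH : H = Subgroup.normalizer (D : Set G)) (b₁ b₂ : Set (IrrCharacter H))
    (hb₁ : IsDefectGroup p M b₁ (D.subgroupOf H)) (h₁ : IsInducedBlock M H b₁ B)
    (h₂ : IsInducedBlock M H b₂ B) : b₂ = b₁ := by
  subst hH
  exact first_main_unique hM D hD B hB b₁ b₂ hb₁ h₁ h₂

omit [Fintype G] in
/-- the centralizer of an involution is the normalizer of the subgroup it generates -/
theorem centralizer_eq_normalizer_of_involution (x : G) (hx : orderOf x = 2) :
    Subgroup.centralizer ({x} : Set G)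
      = Subgroup.normalizer ((Subgroup.zpowers x : Subgroup G) : Set G) := by
  have hx2 : x ^ (2 : ℤ) = 1 := by
    rw [zpow_ofNat, ← hx, pow_orderOf_eq_one]
  apply le_antisymm
  · rw [centralizer_singleton_eq_zpowers]
    exact Subgroup.centralizer_le_normalizer _
  · intro g hg
    rw [Subgroup.mem_centralizer_singleton_iff]
    have h1 := (Subgroup.mem_normalizer_iff.mp hg x).mp (Subgroup.mem_zpowers x)
    obtain ⟨k, hk⟩ := Subgroup.mem_zpowers_iff.mp h1
    rcases Int.emod_two_eq_zero_or_one k with h0 | h1'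
    · exfalso
      have hxk : x ^ k = 1 := by
        obtain ⟨j, rfl⟩ := Int.dvd_of_emod_eq_zero h0
        rw [zpow_mul, hx2, one_zpow]
      rw [hxk] at hk
      have h3 : x = 1 := by
        have h4 : g⁻¹ * (g * x * g⁻¹) * g = x := by group
        rw [← hk] at h4
        rw [← h4]
        group
      rw [h3, orderOf_one] at hx
      omega
    · have hxk : x ^ k = x := by
        have h5 : k = 2 * (k / 2) + 1 := by omega
        rw [h5, zpow_add, zpow_mul, hx2, one_zpow, one_mul, zpow_one]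
      rw [hxk] at hk
      calc g * x = (g * x * g⁻¹) * g := by group
        _ = x * g := by rw [← hk]

omit [Fintype G] in
theorem card_zpowers_subgroupOf_centralizer [Finite G] (x : G) :
    Nat.card ((Subgroup.zpowers x).subgroupOf (Subgroup.centralizer ({x} : Set G)))
      = orderOf x := by
  have hZC : Subgroup.zpowers x ≤ Subgroup.centralizer ({x} : Set G) := by
    rw [Subgroup.zpowers_le]
    exact Subgroup.mem_centralizer_singleton_iff.mpr rfl
  rw [Nat.card_congr (Subgroup.subgroupOfEquivOfLe hZC).toEquiv, Nat.card_zpowers]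

/-- a block of the centralizer of an involution `x` inducing a block with defect group `⟨x⟩`
has defect group `⟨x⟩` -/
theorem defect_of_induced_centralizer_involution (hM : IsPModular 2 M) (x : G)
    (hx : orderOf x = 2) (B : Set (IrrCharacter G)) (hB : IsPBlock M B)
    (hBD : IsDefectGroup 2 M B (Subgroup.zpowers x))
    (b : Set (IrrCharacter (Subgroup.centralizer ({x} : Set G))))
    (hb : IsInducedBlock M (Subgroup.centralizer ({x} : Set G)) b B) :
    IsDefectGroup 2 M b ((Subgroup.zpowers x).subgroupOf (Subgroup.centralizer ({x} : Set G))) := by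
  classical
  have : Fact (Nat.Prime 2) := ⟨Nat.prime_two⟩
  have hpr := isPrime_of_isPModular hM
  have : Fintype (Subgroup.centralizer ({x} : Set G)) := Fintype.ofFinite _
  obtain ⟨Db, hDb⟩ := exists_defectGroup' hM b hb.1
  have hcore := Cfsg.Agent.S0912.result 2 M hM b hb.1 Db hDb
  obtain ⟨E, hE, hle⟩ := Cfsg.Agent.S0917.result 2 M hM (Subgroup.centralizer ({x} : Set G)) b
    hb.1 B hB hb Db hDb
  have hcardE : Nat.card E = 2 := by
    rw [card_of_isDefectGroup hM B hB E hE, ← card_of_isDefectGroup hM B hB _ hBD,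
      Nat.card_zpowers, hx]
  have hcardZ := card_zpowers_subgroupOf_centralizer x
  rw [hx] at hcardZ
  have hZle : (Subgroup.zpowers x).subgroupOf (Subgroup.centralizer ({x} : Set G)) ≤ Db := by
    refine le_trans ?_ hcore
    apply le_sSup
    refine ⟨?_, ?_⟩
    · constructor
      intro n hn g
      rw [Subgroup.mem_subgroupOf] at hn ⊢
      have hg : (g : G) ∈ Subgroup.centralizer (Subgroup.zpowers x : Set G) := by
        rw [← centralizer_singleton_eq_zpowers]
        exact g.2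
      have hcomm : (g : G) * (n : G) = (n : G) * (g : G) :=
        (Subgroup.mem_centralizer_iff.mp hg (n : G) hn).symm
      have e : ((g * n * g⁻¹ : Subgroup.centralizer ({x} : Set G)) : G) = (n : G) := by
        show (g : G) * (n : G) * (g : G)⁻¹ = (n : G)
        rw [hcomm, mul_inv_cancel_right]
      rw [e]
      exact hn
    · apply IsPGroup.of_card (n := 1)
      rw [pow_one]
      exact hcardZ
  have hcardDb : Nat.card Db ≤ 2 := by
    have h1 : Nat.card (Db.map (Subgroup.centralizer ({x} : Set G)).subtype) ≤ Nat.card E :=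
      Subgroup.card_le_of_le hle
    rw [Subgroup.card_map_of_injective (Subgroup.subtype_injective _), hcardE] at h1
    exact h1
  have heq : (Subgroup.zpowers x).subgroupOf (Subgroup.centralizer ({x} : Set G)) = Db :=
    Subgroup.eq_of_le_of_card_ge hZle (by rw [hcardZ]; exact hcardDb)
  rw [heq]
  exact hDb

end uniq

section invol

variable {K : Type*} [Group K]

/-- a central involution acts on an irreducible character by a sign -/
theorem irr_central_involution (ψ : IrrCharacter K) (z : K) (hz : z ∈ Subgroup.center K)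
    (hz2 : z * z = 1) :
    ∃ ε : ℂ, (ε = 1 ∨ ε = -1) ∧ ∀ c : K, (ψ : K → ℂ) (z * c) = ε * (ψ : K → ℂ) c := by
  obtain ⟨n, ρ, hρ, hχ⟩ := ψ.2
  obtain ⟨ω, hω⟩ := central_scalar ρ hρ z hz
  have h1 : ∀ c : K, (ψ : K → ℂ) (z * c) = ω * (ψ : K → ℂ) c := by
    intro c
    rw [← hχ]
    exact char_scalar_mul ρ hω c
  have h2 : ω * ω = 1 := by
    have h3 := h1 (z * 1)
    rw [h1 1, ← mul_assoc z z 1, hz2, one_mul, ← mul_assoc] at h3
    have h0 := irr_one_ne_zero ψ.2
    have h4 : (ω * ω - 1) * (ψ : K → ℂ) 1 = 0 := by linear_combination -h3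
    rcases mul_eq_zero.mp h4 with h | h
    · exact sub_eq_zero.mp h
    · exact absurd h h0
  refine ⟨ω, ?_, h1⟩
  have h5 : (ω - 1) * (ω + 1) = 0 := by linear_combination h2
  rcases mul_eq_zero.mp h5 with h | h
  · left
    exact sub_eq_zero.mp h
  · right
    exact eq_neg_of_add_eq_zero_left h

end invol

section main

variable {G : Type*} [Group G] [Fintype G] {M : Ideal AlgInt}

/-- **Blocks of defect one for the prime `2`.** -/
theorem defect_one_two (hM : IsPModular 2 M) (x : G) (hx : orderOf x = 2)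
    (B : Set (IrrCharacter G)) (hB : IsPBlock M B)
    (hBD : IsDefectGroup 2 M B (Subgroup.zpowers x))
    (b : Set (IrrCharacter (Subgroup.centralizer ({x} : Set G)))) (hb : IsInducedBlock M (Subgroup.centralizer ({x} : Set G)) b B)
    (θ : IrrCharacter (Subgroup.centralizer ({x} : Set G))) (hθ : θ ∈ b)
    (hθx : ∀ z : (Subgroup.centralizer ({x} : Set G)), (z : G) = x → (θ : (Subgroup.centralizer ({x} : Set G)) → ℂ) z = (θ : (Subgroup.centralizer ({x} : Set G)) → ℂ) 1) :
    Nat.card B = 2 ∧ (∀ χ ∈ B, ∀ ψ ∈ B, ∀ g : G, ¬ 2 ∣ orderOf g →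
        (χ : G → ℂ) g = (ψ : G → ℂ) g) ∧
      ∃ χ₁ ∈ B, ∃ χ₂ ∈ B, χ₁ ≠ χ₂ ∧ ∃ ε₁ ε₂ : ℤ, (ε₁ = 1 ∨ ε₁ = -1) ∧ (ε₂ = 1 ∨ ε₂ = -1) ∧
        ε₁ * ε₂ = -1 ∧ ∀ y : (Subgroup.centralizer ({x} : Set G)), ¬ 2 ∣ orderOf y →
          (χ₁ : G → ℂ) (x * y) = (ε₁ : ℂ) * (θ : (Subgroup.centralizer ({x} : Set G)) → ℂ) y
            ∧ (χ₂ : G → ℂ) (x * y) = (ε₂ : ℂ) * (θ : (Subgroup.centralizer ({x} : Set G)) → ℂ) y := by
  classical
  have : Fact (Nat.Prime 2) := ⟨Nat.prime_two⟩
  have hpr := isPrime_of_isPModular hM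
  have : Fintype (Subgroup.centralizer ({x} : Set G)) := Fintype.ofFinite _
  have : Fintype (IrrCharacter (Subgroup.centralizer ({x} : Set G))) := Fintype.ofFinite _
  have : Fintype (IrrCharacter G) := Fintype.ofFinite _
  have hxp : ∃ k : ℕ, orderOf x = 2 ^ k := ⟨1, by rw [hx, pow_one]⟩
  have hcardB : Nat.card B = 2 :=
    card_eq_two_of_defect_two hM B hB _ hBD (by rw [Nat.card_zpowers, hx])
  have hbD := defect_of_induced_centralizer_involution hM x hx B hB hBD b hb
  have hcardb : Nat.card b = 2 :=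
    card_eq_two_of_defect_two hM b hb.1 _ hbD (by rw [card_zpowers_subgroupOf_centralizer, hx])
  have hBc : BlockClosed M B := blockClosed_of_isPBlock M hB
  have hbc : BlockClosed M b := blockClosed_of_isPBlock M hb.1
  have hC : ∀ k : G, k ∈ (Subgroup.centralizer ({x} : Set G)) ↔ x * k = k * x := fun k => by
    rw [Subgroup.mem_centralizer_singleton_iff]
    exact eq_comm
  have hxC : x ∈ (Subgroup.centralizer ({x} : Set G)) := (hC x).mpr rfl
  have hx2 : x * x = 1 := by
    rw [← pow_two, ← hx, pow_orderOf_eq_one]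
  have hxinv : x⁻¹ = x := inv_eq_of_mul_eq_one_left hx2
  have hxCc : (⟨x, hxC⟩ : (Subgroup.centralizer ({x} : Set G))) ∈ Subgroup.center (Subgroup.centralizer ({x} : Set G)) := by
    rw [Subgroup.mem_center_iff]
    intro g
    exact Subtype.ext ((hC g).mp g.2).symm
  have hxC2 : (⟨x, hxC⟩ : (Subgroup.centralizer ({x} : Set G))) * ⟨x, hxC⟩ = 1 := Subtype.ext hx2
  have hxsing : (2 : ℕ) ∣ orderOf x := by rw [hx]
  have hxCsing : (2 : ℕ) ∣ orderOf (⟨x, hxC⟩ : (Subgroup.centralizer ({x} : Set G))) := by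
    rw [← Subgroup.orderOf_coe]
    exact hxsing
  have h1reg : ¬ (2 : ℕ) ∣ orderOf (1 : (Subgroup.centralizer ({x} : Set G))) := by
    rw [orderOf_one]
    norm_num
  have h1regG : ¬ (2 : ℕ) ∣ orderOf (1 : G) := by
    rw [orderOf_one]
    norm_num
  -- the two characters of `b`
  obtain ⟨θ', hθ', hne', hbeq⟩ : ∃ θ' ∈ b, θ' ≠ θ ∧ b = {θ, θ'} := by
    obtain ⟨⟨θ', hθ'⟩, hne, huniq⟩ := (Nat.card_eq_two_iff' (⟨θ, hθ⟩ : b)).mp hcardb
    refine ⟨θ', hθ', fun h => hne (Subtype.ext h), ?_⟩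
    ext ψ
    constructor
    · intro hψ
      by_cases h : ψ = θ
      · left
        exact h
      · right
        have h3 := huniq ⟨ψ, hψ⟩ (fun h' => h (congrArg Subtype.val h'))
        exact congrArg Subtype.val h3
    · rintro (rfl | rfl)
      · exact hθ
      · exact hθ'
  -- the two characters of `B`
  obtain ⟨χ₁, hχ₁⟩ := isPBlock_nonempty' hM hB
  obtain ⟨χ₂, hχ₂, hne, hBeq⟩ : ∃ χ₂ ∈ B, χ₂ ≠ χ₁ ∧ B = {χ₁, χ₂} := by
    obtain ⟨⟨χ₂, hχ₂⟩, hne, huniq⟩ := (Nat.card_eq_two_iff' (⟨χ₁, hχ₁⟩ : B)).mp hcardB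
    refine ⟨χ₂, hχ₂, fun h => hne (Subtype.ext h), ?_⟩
    ext ψ
    constructor
    · intro hψ
      by_cases h : ψ = χ₁
      · left
        exact h
      · right
        have h3 := huniq ⟨ψ, hψ⟩ (fun h' => h (congrArg Subtype.val h'))
        exact congrArg Subtype.val h3
    · rintro (rfl | rfl)
      · exact hχ₁
      · exact hχ₂
  -- the signs of the central involution
  obtain ⟨ε, hε, hεmul⟩ := irr_central_involution θ ⟨x, hxC⟩ hxCc hxC2
  obtain ⟨ε', hε', hε'mul⟩ := irr_central_involution θ' ⟨x, hxC⟩ hxCc hxC2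
  have hθ1 := irr_one_ne_zero θ.2
  have hε1 : ε = 1 := by
    have h1 := hεmul 1
    rw [mul_one, hθx ⟨x, hxC⟩ rfl] at h1
    have h4 : (ε - 1) * (θ : (Subgroup.centralizer ({x} : Set G)) → ℂ) 1 = 0 := by linear_combination -h1
    rcases mul_eq_zero.mp h4 with h | h
    · exact sub_eq_zero.mp h
    · exact absurd h hθ1
  have horth : ∀ s : (Subgroup.centralizer ({x} : Set G)), ¬ 2 ∣ orderOf s →
      (θ : (Subgroup.centralizer ({x} : Set G)) → ℂ) s * (θ : (Subgroup.centralizer ({x} : Set G)) → ℂ) 1 + ε' * ((θ' : (Subgroup.centralizer ({x} : Set G)) → ℂ) s * (θ' : (Subgroup.centralizer ({x} : Set G)) → ℂ) 1) = 0 := by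
    intro s hs
    have h := block_orth_finsum hM b hbc s ⟨x, hxC⟩ hs hxCsing
    rw [hbeq, finsum_mem_pair hne'.symm] at h
    have e1 : conj ((θ : (Subgroup.centralizer ({x} : Set G)) → ℂ) ⟨x, hxC⟩) = (θ : (Subgroup.centralizer ({x} : Set G)) → ℂ) 1 := by
      have h3 := hεmul 1
      rw [mul_one] at h3
      rw [h3, hε1, one_mul, irr_one_conj]
    have e2 : conj ((θ' : (Subgroup.centralizer ({x} : Set G)) → ℂ) ⟨x, hxC⟩) = ε' * (θ' : (Subgroup.centralizer ({x} : Set G)) → ℂ) 1 := by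
      have h3 := hε'mul 1
      rw [mul_one] at h3
      rw [h3, map_mul, irr_one_conj]
      rcases hε' with h4 | h4
      · rw [h4, map_one]
      · rw [h4, map_neg, map_one]
    rw [e1, e2] at h
    linear_combination h
  obtain ⟨n, hn, hn1⟩ := irr_apply_one θ.2
  obtain ⟨n', hn', hn1'⟩ := irr_apply_one θ'.2
  have h11 := horth 1 h1reg
  have hε'neg : ε' = -1 := by
    rcases hε' with h | h
    · exfalso
      rw [h, hn1, hn1'] at h11
      have h5 : ((n * n + n' * n' : ℕ) : ℂ) = 0 := by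
        push_cast
        linear_combination h11
      have h6 : n * n + n' * n' = 0 := by exact_mod_cast h5
      nlinarith
    · exact h
  have hdeg : (θ' : (Subgroup.centralizer ({x} : Set G)) → ℂ) 1 = (θ : (Subgroup.centralizer ({x} : Set G)) → ℂ) 1 := by
    rw [hε'neg, hn1, hn1'] at h11
    have h5 : ((n * n : ℕ) : ℂ) = ((n' * n' : ℕ) : ℂ) := by
      push_cast
      linear_combination h11
    have h6 : n * n = n' * n' := by exact_mod_cast h5
    have h7 : n = n' := Nat.mul_self_inj.mp h6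
    rw [hn1, hn1', h7]
  have hreg : ∀ s : (Subgroup.centralizer ({x} : Set G)), ¬ 2 ∣ orderOf s → (θ' : (Subgroup.centralizer ({x} : Set G)) → ℂ) s = (θ : (Subgroup.centralizer ({x} : Set G)) → ℂ) s := by
    intro s hs
    have h := horth s hs
    rw [hε'neg, hdeg] at h
    have h4 : ((θ : (Subgroup.centralizer ({x} : Set G)) → ℂ) s - (θ' : (Subgroup.centralizer ({x} : Set G)) → ℂ) s) * (θ : (Subgroup.centralizer ({x} : Set G)) → ℂ) 1 = 0 := by
      linear_combination h
    rcases mul_eq_zero.mp h4 with h | h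
    · exact (sub_eq_zero.mp h).symm
    · exact absurd h hθ1
  -- uniqueness of `b`
  have hCN := centralizer_eq_normalizer_of_involution x hx
  have hD2 : IsPGroup 2 (Subgroup.zpowers x) :=
    IsPGroup.of_card (n := 1) (by rw [Nat.card_zpowers, hx, pow_one])
  have huniq : ∀ b' : Set (IrrCharacter (Subgroup.centralizer ({x} : Set G))), IsInducedBlock M (Subgroup.centralizer ({x} : Set G)) b' B → b' = b :=
    fun b' hb' => induced_unique_of_eq_normalizer hM (Subgroup.zpowers x) hD2 B hB (Subgroup.centralizer ({x} : Set G)) hCN b b'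
      hbD hb hb'
  have hA : ∀ χ ∈ B, ∀ y : (Subgroup.centralizer ({x} : Set G)), ¬ 2 ∣ orderOf y → (χ : G → ℂ) (x * (y : G))
      = blockPart b (fun c : (Subgroup.centralizer ({x} : Set G)) => (χ : G → ℂ) (x * (c : G))) y := by
    intro χ hχ y hy
    have h1 := blockPart_section_eq hM x hxp (χ : G → ℂ)
      (isClassFunction_of_isIrrCharacter χ.2) B hB y hy
    rw [blockPart_irr B χ, if_pos hχ] at h1
    rw [h1, Finset.sum_eq_single b]
    · rw [if_pos hb]
    · intro b' _ hne
      rw [if_neg]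
      intro h
      exact hne (huniq b' h)
    · intro h
      exfalso
      apply h
      obtain ⟨ξ, hξ⟩ := hb.1
      rw [hξ]
      exact Finset.mem_image.mpr ⟨ξ, Finset.mem_univ _, rfl⟩
  have hbp : ∀ (Φ : (Subgroup.centralizer ({x} : Set G)) → ℂ) (y : (Subgroup.centralizer ({x} : Set G))), blockPart b Φ y
      = classInner Φ (θ : (Subgroup.centralizer ({x} : Set G)) → ℂ) * (θ : (Subgroup.centralizer ({x} : Set G)) → ℂ) y
        + classInner Φ (θ' : (Subgroup.centralizer ({x} : Set G)) → ℂ) * (θ' : (Subgroup.centralizer ({x} : Set G)) → ℂ) y := by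
    intro Φ y
    rw [blockPart_eq_sum_irr]
    have h3 : ∀ ψ : IrrCharacter (Subgroup.centralizer ({x} : Set G)),
        (if ψ ∈ b then classInner Φ (ψ : (Subgroup.centralizer ({x} : Set G)) → ℂ) * (ψ : (Subgroup.centralizer ({x} : Set G)) → ℂ) y else 0)
        = b.indicator (fun ψ : IrrCharacter (Subgroup.centralizer ({x} : Set G)) =>
            classInner Φ (ψ : (Subgroup.centralizer ({x} : Set G)) → ℂ) * (ψ : (Subgroup.centralizer ({x} : Set G)) → ℂ) y) ψ := by
      intro ψ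
      rw [Set.indicator_apply]
    rw [Finset.sum_congr rfl (fun ψ _ => h3 ψ), ← finsum_mem_eq_sum_indicator, hbeq,
      finsum_mem_pair hne'.symm]
  have hint : ∀ (χ : IrrCharacter G) (ψ : IrrCharacter (Subgroup.centralizer ({x} : Set G))) (εψ : ℂ), (εψ = 1 ∨ εψ = -1) →
      (∀ c : (Subgroup.centralizer ({x} : Set G)), (ψ : (Subgroup.centralizer ({x} : Set G)) → ℂ) (⟨x, hxC⟩ * c) = εψ * (ψ : (Subgroup.centralizer ({x} : Set G)) → ℂ) c) →
      ∃ m : ℕ, classInner (fun c : (Subgroup.centralizer ({x} : Set G)) => (χ : G → ℂ) (x * (c : G))) (ψ : (Subgroup.centralizer ({x} : Set G)) → ℂ)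
        = εψ * (m : ℂ) := by
    intro χ ψ εψ hεψ hmul
    obtain ⟨m, hm⟩ := classInner_isCharacter_nat
      (IsCharacter.restrict (isCharacter_of_isIrrCharacter χ.2)
        (Subgroup.centralizer ({x} : Set G))) (isCharacter_of_isIrrCharacter ψ.2)
    refine ⟨m, ?_⟩
    rw [← hm]
    unfold classInner
    rw [← mul_assoc, mul_comm εψ, mul_assoc]
    congr 1
    rw [Finset.mul_sum]
    have e0 := (Equiv.sum_comp (Equiv.mulLeft (⟨x, hxC⟩ : (Subgroup.centralizer ({x} : Set G))))
      (fun c : (Subgroup.centralizer ({x} : Set G)) => εψ * ((χ : G → ℂ) (c : G) * conj ((ψ : (Subgroup.centralizer ({x} : Set G)) → ℂ) c)))).symm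
    rw [e0]
    apply Finset.sum_congr rfl
    intro c _
    show (χ : G → ℂ) (x * (c : G)) * conj ((ψ : (Subgroup.centralizer ({x} : Set G)) → ℂ) c)
      = εψ * ((χ : G → ℂ) (x * (c : G)) * conj ((ψ : (Subgroup.centralizer ({x} : Set G)) → ℂ) (⟨x, hxC⟩ * c)))
    rw [hmul c, map_mul]
    have h5 : conj εψ = εψ := by
      rcases hεψ with h4 | h4
      · rw [h4, map_one]
      · rw [h4, map_neg, map_one]
    have h6 : εψ * εψ = 1 := by
      rcases hεψ with h4 | h4
      · rw [h4, one_mul]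
      · rw [h4]
        norm_num
    rw [h5]
    linear_combination (-(χ : G → ℂ) (x * (c : G)) * conj ((ψ : (Subgroup.centralizer ({x} : Set G)) → ℂ) c)) * h6
  have hd : ∀ χ ∈ B, ∃ d : ℤ, ∀ y : (Subgroup.centralizer ({x} : Set G)), ¬ 2 ∣ orderOf y →
      (χ : G → ℂ) (x * (y : G)) = (d : ℂ) * (θ : (Subgroup.centralizer ({x} : Set G)) → ℂ) y := by
    intro χ hχ
    obtain ⟨m, hm⟩ := hint χ θ ε hε hεmul
    obtain ⟨m', hm'⟩ := hint χ θ' ε' hε' hε'mul
    refine ⟨(m : ℤ) - m', ?_⟩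
    intro y hy
    rw [hA χ hχ y hy, hbp, hm, hm', hreg y hy, hε1, hε'neg]
    push_cast
    ring
  obtain ⟨d₁, hd₁⟩ := hd χ₁ hχ₁
  obtain ⟨d₂, hd₂⟩ := hd χ₂ hχ₂
  have hχx : ∀ χ ∈ B, ∀ d : ℤ, (∀ y : (Subgroup.centralizer ({x} : Set G)), ¬ 2 ∣ orderOf y →
      (χ : G → ℂ) (x * (y : G)) = (d : ℂ) * (θ : (Subgroup.centralizer ({x} : Set G)) → ℂ) y) →
      (χ : G → ℂ) x = (d : ℂ) * (θ : (Subgroup.centralizer ({x} : Set G)) → ℂ) 1 := by
    intro χ _ d h
    have h3 := h 1 h1reg
    rw [Subgroup.coe_one, mul_one] at h3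
    exact h3
  have hx₁ := hχx χ₁ hχ₁ d₁ hd₁
  have hx₂ := hχx χ₂ hχ₂ d₂ hd₂
  -- the sum of the squares
  have hsum : d₁ * d₁ + d₂ * d₂ = 2 := by
    have hmain := section_main' hM x hxp (Subgroup.centralizer ({x} : Set G)) hC b b hbc hbc 1 1 h1reg h1reg
    rw [hxinv] at hmain
    have hT : ∀ χ : IrrCharacter G,
        blockPart b (fun c : (Subgroup.centralizer ({x} : Set G)) => (χ : G → ℂ) (x * (c : G))) 1
          * blockPart b (fun c : (Subgroup.centralizer ({x} : Set G)) => (χ : G → ℂ) (x * (c : G))) 1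
        = B.indicator (fun χ : IrrCharacter G => (χ : G → ℂ) x * (χ : G → ℂ) x) χ := by
      intro χ
      rw [Set.indicator_apply]
      by_cases hχ : χ ∈ B
      · rw [if_pos hχ, ← hA χ hχ 1 h1reg, Subgroup.coe_one, mul_one]
      · rw [if_neg hχ, section_van' hM x hxp (Subgroup.centralizer ({x} : Set G)) hC b B hb χ hχ 1 h1reg, zero_mul]
    rw [Finset.sum_congr rfl (fun χ _ => hT χ), ← finsum_mem_eq_sum_indicator, hBeq,
      finsum_mem_pair hne.symm, hx₁, hx₂] at hmain
    have hR : ∑ ψ : IrrCharacter (Subgroup.centralizer ({x} : Set G)), (if ψ ∈ b then (ψ : (Subgroup.centralizer ({x} : Set G)) → ℂ) 1 else 0)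
          * (if ψ ∈ b then (ψ : (Subgroup.centralizer ({x} : Set G)) → ℂ) 1 else 0)
        = 2 * ((θ : (Subgroup.centralizer ({x} : Set G)) → ℂ) 1 * (θ : (Subgroup.centralizer ({x} : Set G)) → ℂ) 1) := by
      have h3 : ∀ ψ : IrrCharacter (Subgroup.centralizer ({x} : Set G)), (if ψ ∈ b then (ψ : (Subgroup.centralizer ({x} : Set G)) → ℂ) 1 else 0)
          * (if ψ ∈ b then (ψ : (Subgroup.centralizer ({x} : Set G)) → ℂ) 1 else 0)
          = b.indicator (fun ψ : IrrCharacter (Subgroup.centralizer ({x} : Set G)) => (ψ : (Subgroup.centralizer ({x} : Set G)) → ℂ) 1 * (ψ : (Subgroup.centralizer ({x} : Set G)) → ℂ) 1) ψ := by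
        intro ψ
        rw [Set.indicator_apply]
        by_cases hψ : ψ ∈ b
        · rw [if_pos hψ, if_pos hψ]
        · rw [if_neg hψ, if_neg hψ, zero_mul]
      rw [Finset.sum_congr rfl (fun ψ _ => h3 ψ), ← finsum_mem_eq_sum_indicator, hbeq,
        finsum_mem_pair hne'.symm, hdeg]
      ring
    rw [hR] at hmain
    have h7 : (((d₁ * d₁ + d₂ * d₂ : ℤ) : ℂ) - 2) * ((θ : (Subgroup.centralizer ({x} : Set G)) → ℂ) 1 * (θ : (Subgroup.centralizer ({x} : Set G)) → ℂ) 1) = 0 := by
      push_cast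
      linear_combination hmain
    rcases mul_eq_zero.mp h7 with h | h
    · have h8 : ((d₁ * d₁ + d₂ * d₂ : ℤ) : ℂ) = ((2 : ℤ) : ℂ) := by
        push_cast
        push_cast at h
        linear_combination h
      exact_mod_cast h8
    · exact absurd h (mul_ne_zero hθ1 hθ1)
  have hd₁b : -1 ≤ d₁ ∧ d₁ ≤ 1 := by
    constructor <;> nlinarith [mul_self_nonneg d₂]
  have hd₂b : -1 ≤ d₂ ∧ d₂ ≤ 1 := by
    constructor <;> nlinarith [mul_self_nonneg d₁]
  have hd₁c : d₁ = -1 ∨ d₁ = 0 ∨ d₁ = 1 := by omega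
  have hd₂c : d₂ = -1 ∨ d₂ = 0 ∨ d₂ = 1 := by omega
  have hd₁sq : d₁ = 1 ∨ d₁ = -1 := by
    rcases hd₁c with h1 | h1 | h1 <;> rcases hd₂c with h2 | h2 | h2 <;> rw [h1, h2] at hsum <;>
      first | (right; exact h1) | (left; exact h1) | (exfalso; norm_num at hsum)
  have hd₂sq : d₂ = 1 ∨ d₂ = -1 := by
    rcases hd₁c with h1 | h1 | h1 <;> rcases hd₂c with h2 | h2 | h2 <;> rw [h1, h2] at hsum <;>
      first | (right; exact h2) | (left; exact h2) | (exfalso; norm_num at hsum)
  -- block orthogonality against `x`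
  have hconj : ∀ d : ℤ, conj ((d : ℂ) * (θ : (Subgroup.centralizer ({x} : Set G)) → ℂ) 1) = (d : ℂ) * (θ : (Subgroup.centralizer ({x} : Set G)) → ℂ) 1 := by
    intro d
    rw [map_mul, map_intCast, irr_one_conj]
  have horthG : ∀ g : G, ¬ 2 ∣ orderOf g →
      (d₁ : ℂ) * (χ₁ : G → ℂ) g + (d₂ : ℂ) * (χ₂ : G → ℂ) g = 0 := by
    intro g hg
    have h := block_orth_finsum hM B hBc g x hg hxsing
    rw [hBeq, finsum_mem_pair hne.symm, hx₁, hx₂, hconj, hconj] at h
    have h4 : ((d₁ : ℂ) * (χ₁ : G → ℂ) g + (d₂ : ℂ) * (χ₂ : G → ℂ) g) * (θ : (Subgroup.centralizer ({x} : Set G)) → ℂ) 1 = 0 := by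
      linear_combination h
    rcases mul_eq_zero.mp h4 with h | h
    · exact h
    · exact absurd h hθ1
  obtain ⟨n₁, hn₁, hn₁'⟩ := irr_apply_one χ₁.2
  obtain ⟨n₂, hn₂, hn₂'⟩ := irr_apply_one χ₂.2
  have hprod : d₁ * d₂ = -1 := by
    have h := horthG 1 h1regG
    rw [hn₁', hn₂'] at h
    have h5 : ((d₁ * n₁ + d₂ * n₂ : ℤ) : ℂ) = ((0 : ℤ) : ℂ) := by
      push_cast
      linear_combination h
    have h6 : d₁ * n₁ + d₂ * n₂ = 0 := by exact_mod_cast h5
    have hn₁z : (0 : ℤ) < n₁ := by exact_mod_cast hn₁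
    have hn₂z : (0 : ℤ) < n₂ := by exact_mod_cast hn₂
    rcases hd₁sq with h1 | h1 <;> rcases hd₂sq with h2 | h2
    · rw [h1, h2] at h6
      omega
    · rw [h1, h2]
      norm_num
    · rw [h1, h2]
      norm_num
    · rw [h1, h2] at h6
      omega
  have hd₂eq : d₂ = -d₁ := by
    rcases hd₁sq with h1 | h1 <;> rcases hd₂sq with h2 | h2 <;> rw [h1, h2] at hprod <;>
      rw [h1, h2] <;> omega
  have hodd : ∀ g : G, ¬ 2 ∣ orderOf g → (χ₁ : G → ℂ) g = (χ₂ : G → ℂ) g := by
    intro g hg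
    have h := horthG g hg
    rw [hd₂eq] at h
    have hd₁ne : (d₁ : ℂ) ≠ 0 := by
      rcases hd₁sq with h1 | h1 <;> rw [h1] <;> norm_num
    have h4 : (d₁ : ℂ) * ((χ₁ : G → ℂ) g - (χ₂ : G → ℂ) g) = 0 := by
      push_cast at h
      linear_combination h
    rcases mul_eq_zero.mp h4 with h | h
    · exact absurd h hd₁ne
    · exact sub_eq_zero.mp h
  refine ⟨hcardB, ?_, χ₁, hχ₁, χ₂, hχ₂, hne.symm, d₁, d₂, hd₁sq, hd₂sq, hprod, ?_⟩
  · intro χ hχ ψ hψ g hg
    rw [hBeq] at hχ hψ
    rcases hχ with rfl | rfl <;> rcases hψ with rfl | rfl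
    · rfl
    · exact hodd g hg
    · exact (hodd g hg).symm
    · rfl
  · intro y hy
    exact ⟨hd₁ y hy, hd₂ y hy⟩

end main

end Cfsg.Agent.Lib.Helper25
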