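import Mathlib
import Cfsg.Prelude
import Cfsg.Agent.Lib.Helper2.ItoConv
import Cfsg.Agent.Lib.Helper2.LinExt
import Cfsg.Agent.Lib.Helper2.CharCover2
import Cfsg.Agent.Lib.Helper6.PSolv4
import Cfsg.Agent.S1489

set_option autoImplicit false

/-!
Derived length of Sylow subgroups and character degrees, part 1: an invariant linear character
of a normal `p`-subgroup that extends to a `p`-subgroup of index prime to `p`, all of whose
overlying irreducible characters have degree prime to `p`, forces the `p`-subgroup to be abelian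
modulo the normal subgroup (for `p`-solvable groups).
-/

namespace Cfsg.Agent.Lib.Helper25

open Cfsg Cfsg.Agent.Lib.Helper2
open scoped ComplexConjugate

universe u

set_option maxHeartbeats 1000000 in
theorem derlen_quot_abelian {T : Type u} [Group T] [Fintype T] (p : ℕ) [hp : Fact p.Prime]
    (hsolv : IsPSolvable p T) (N : Subgroup T) [hN : N.Normal] [Fintype N] (hNp : IsPGroup p N)
    (lam : N →* ℂˣ)
    (hinv : ∀ (t : T) (n : N), lam ⟨t * n * t⁻¹, hN.conj_mem (n : T) n.2 t⟩ = lam n)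
    (Q : Subgroup T) (hQ : IsPGroup p Q) (hQi : (Q.index).Coprime p) (hNQ : N ≤ Q)
    (ν : Q →* ℂˣ) (hν : ∀ n : N, ν ⟨(n : T), hNQ n.2⟩ = lam n)
    (hdeg : ∀ ψ : T → ℂ, IsIrrCharacter T ψ →
      classInner (indFun N (fun n => (lam n : ℂ))) ψ ≠ 0 → ∀ d : ℕ, ψ 1 = (d : ℂ) → ¬ p ∣ d) :
    ∀ x ∈ Q, ∀ y ∈ Q, x * y * x⁻¹ * y⁻¹ ∈ N := by
  classical
  have hord : ∀ q : ℕ, q.Prime → q ∣ orderOf lam → q = p := by
    intro q hq hqd
    obtain ⟨k, hk⟩ := IsPGroup.iff_card.mp hNp
    have h1 : lam ^ (p ^ k) = 1 := by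
      ext n
      rw [MonoidHom.pow_apply, ← map_pow, ← hk, pow_card_eq_one', map_one]
      rfl
    have h2 : orderOf lam ∣ p ^ k := orderOf_dvd_of_pow_eq_one h1
    exact (Nat.prime_dvd_prime_iff_eq hq hp.out).mp (hq.dvd_of_dvd_pow (hqd.trans h2))
  obtain ⟨lamT, hlamT⟩ := hom_extends_of_sylow N lam hinv (fun q hq hqd => by
    have hqp := hord q hq hqd
    subst hqp
    exact ⟨Q, hNQ, ν, hQi, hν⟩)
  have hdegQ : ∀ β : T ⧸ N → ℂ, IsIrrCharacter (T ⧸ N) β →
      ∀ d : ℕ, β 1 = (d : ℂ) → ¬ p ∣ d := by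
    intro β hβ d hd
    have h1 := isIrrCharacter_comp_of_surjective hβ (QuotientGroup.mk' N)
      (QuotientGroup.mk'_surjective N)
    have h2 := isIrrCharacter_hom_mul lamT h1
    have hd0 : d ≠ 0 := by
      obtain ⟨d', hd'pos, hd'⟩ := irr_apply_one hβ
      rw [hd] at hd'
      have : d = d' := by exact_mod_cast hd'
      omega
    refine hdeg _ h2 ?_ d ?_
    · rw [frobenius_reciprocity N _ _ (isClassFunction_of_isIrrCharacter h2)]
      have h3 : (fun n : N => ((fun γ => (lamT γ : ℂ)) * (β ∘ QuotientGroup.mk' N)) (n : T))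
          = (d : ℂ) • (fun n : N => (lam n : ℂ)) := by
        funext n
        simp only [Pi.mul_apply, Function.comp_apply, Pi.smul_apply, smul_eq_mul]
        rw [hlamT n]
        have h4 : (QuotientGroup.mk' N (n : T)) = 1 := (QuotientGroup.eq_one_iff _).mpr n.2
        rw [h4, hd, mul_comm]
      rw [h3, classInner_smul_right, classInner_irr_self (isIrrCharacter_of_hom lam)]
      simp only [map_natCast, mul_one, ne_eq, Nat.cast_eq_zero]
      exact hd0
    · simp only [Pi.mul_apply, Function.comp_apply, map_one, Units.val_one, one_mul]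
      exact hd
  have hsolvQ : IsPSolvable p (T ⧸ N) :=
    Cfsg.Agent.Lib.Helper6.isPSolvable_quotient hp.out N hsolv
  have hQ' : IsPGroup p (Q.map (QuotientGroup.mk' N)) := hQ.map _
  obtain ⟨P', hP'⟩ := hQ'.exists_le_sylow
  obtain ⟨-, hc⟩ := ito_conv_aux p (Nat.card (T ⧸ N)) (T ⧸ N) le_rfl hsolvQ hdegQ P'
  intro x hx y hy
  have hx' : QuotientGroup.mk' N x ∈ (P' : Subgroup (T ⧸ N)) :=
    hP' (Subgroup.mem_map_of_mem _ hx)
  have hy' : QuotientGroup.mk' N y ∈ (P' : Subgroup (T ⧸ N)) :=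
    hP' (Subgroup.mem_map_of_mem _ hy)
  have h1 := hc _ hx' _ hy'
  rw [← QuotientGroup.eq_one_iff]
  have h2 : ((x * y * x⁻¹ * y⁻¹ : T) : T ⧸ N)
      = QuotientGroup.mk' N x * QuotientGroup.mk' N y * (QuotientGroup.mk' N x)⁻¹
        * (QuotientGroup.mk' N y)⁻¹ := rfl
  rw [h2, h1]
  group

end Cfsg.Agent.Lib.Helper25
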