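import Mathlib
import Cfsg.Prelude
import Cfsg.Agent.Lib.Helper25.DerLen1
import Cfsg.Agent.Lib.Helper25.FullyRam4

set_option autoImplicit false

/-!
Derived length of Sylow subgroups and character degrees, part 2: if every irreducible character
of degree divisible by `p` of a `p`-solvable group `G` is trivial on the nontrivial normal
`p`-subgroup `N`, then `P / N` is abelian for a Sylow `p`-subgroup `P`.
-/

namespace Cfsg.Agent.Lib.Helper25

open Cfsg Cfsg.Agent.Lib.Helper2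
open scoped ComplexConjugate

universe u

set_option maxHeartbeats 2000000 in
theorem derlen_comm_mem {G : Type u} [Group G] [Fintype G] (p : ℕ) [hp : Fact p.Prime]
    (hsolv : IsPSolvable p G) (N : Subgroup G) [hN : N.Normal] (hNp : IsPGroup p N)
    (hN1 : N ≠ ⊥)
    (hker : ∀ χ : G → ℂ, IsIrrCharacter G χ → ∀ d : ℕ, χ 1 = (d : ℂ) → p ∣ d →
      ∀ n ∈ N, χ n = χ 1)
    (P : Sylow p G) :
    ∀ x ∈ (P : Subgroup G), ∀ y ∈ (P : Subgroup G), x * y * x⁻¹ * y⁻¹ ∈ N := by
  classical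
  have hNP : N ≤ (P : Subgroup G) := hNp.le_sylow_of_normal P
  have := Fintype.ofFinite (P : Subgroup G)
  have := Fintype.ofFinite N
  -- a character not trivial on `N`
  obtain ⟨n₀, hn₀N, hn₀1⟩ : ∃ n₀ ∈ N, n₀ ≠ 1 := by
    by_contra hcon
    push Not at hcon
    apply hN1
    rw [eq_bot_iff]
    intro n hn
    exact Subgroup.mem_bot.mpr (hcon n hn)
  obtain ⟨χ₀, hχ₀, hχ₀n⟩ : ∃ χ₀ : G → ℂ, IsIrrCharacter G χ₀ ∧ χ₀ n₀ ≠ χ₀ 1 := by
    by_contra hcon
    push Not at hcon
    have h1 := Cfsg.Agent.Lib.Helper2.isConj_of_irr_eq n₀ 1 hcon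
    exact hn₀1 (isConj_one_left.mp h1)
  obtain ⟨d₀, hd₀pos, hd₀⟩ := irr_apply_one hχ₀
  have hpd₀ : ¬ p ∣ d₀ := fun h => hχ₀n (hker χ₀ hχ₀ d₀ hd₀ h n₀ hn₀N)
  -- a linear constituent of the restriction to `P`
  have := Fintype.ofFinite (IrrCharacter (P : Subgroup G))
  have hresP : IsCharacter (P : Subgroup G) (fun x : (P : Subgroup G) => χ₀ x) :=
    IsCharacter.restrict (isCharacter_of_isIrrCharacter hχ₀) _
  obtain ⟨μ, hμ, hμ1, hμc⟩ : ∃ μ : ↥(P : Subgroup G) → ℂ, IsIrrCharacter (P : Subgroup G) μ ∧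
      μ 1 = 1 ∧ classInner (fun x : (P : Subgroup G) => χ₀ x) μ ≠ 0 := by
    by_contra hcon
    push Not at hcon
    have h1 : χ₀ 1 = ∑ ψ : IrrCharacter (P : Subgroup G),
        classInner (fun x : (P : Subgroup G) => χ₀ x) (ψ : ↥(P : Subgroup G) → ℂ)
          * (ψ : ↥(P : Subgroup G) → ℂ) 1 := char_apply_one_eq_sum hresP
    have h2 : ∀ ψ : IrrCharacter (P : Subgroup G), ∃ m : ℕ,
        classInner (fun x : (P : Subgroup G) => χ₀ x) (ψ : ↥(P : Subgroup G) → ℂ)
          * (ψ : ↥(P : Subgroup G) → ℂ) 1 = ((p * m : ℕ) : ℂ) := by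
      intro ψ
      obtain ⟨a, ha⟩ := classInner_isCharacter_nat hresP (isCharacter_of_isIrrCharacter ψ.2)
      obtain ⟨b, hb0, hb⟩ := irr_apply_one ψ.2
      by_cases ha0 : a = 0
      · exact ⟨0, by rw [ha, ha0]; simp⟩
      · have hb1 : b ≠ 1 := by
          intro hb1
          have h0 := hcon ψ.1 ψ.2 (by rw [hb, hb1]; simp)
          rw [ha] at h0
          exact ha0 (by exact_mod_cast h0)
        have hbP : b ∣ Nat.card (P : Subgroup G) := irr_deg_dvd_card' ψ.2 b hb
        obtain ⟨k, hk⟩ := IsPGroup.iff_card.mp P.isPGroup'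
        rw [hk] at hbP
        obtain ⟨j, hj, rfl⟩ := (Nat.dvd_prime_pow hp.out).mp hbP
        have hj0 : j ≠ 0 := by
          rintro rfl
          exact hb1 (pow_zero p)
        obtain ⟨j', rfl⟩ : ∃ j', j = j' + 1 := ⟨j - 1, by omega⟩
        exact ⟨a * p ^ j', by rw [ha, hb, pow_succ]; push_cast; ring⟩
    choose m hm using h2
    rw [Finset.sum_congr rfl (fun ψ _ => hm ψ), hd₀] at h1
    apply hpd₀
    have h3 : d₀ = ∑ ψ : IrrCharacter (P : Subgroup G), p * m ψ := by exact_mod_cast h1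
    rw [h3, ← Finset.mul_sum]
    exact dvd_mul_right _ _
  obtain ⟨μh, hμh⟩ := hom_of_irr_deg_one hμ hμ1
  -- the linear character of `N`
  obtain ⟨lam, hlam⟩ : ∃ lam : N →* ℂˣ, lam = μh.comp (Subgroup.inclusion hNP) := ⟨_, rfl⟩
  have hlam_apply : ∀ n : N, lam n = μh ⟨(n : G), hNP n.2⟩ := by
    intro n
    rw [hlam]
    rfl
  obtain ⟨θ, hθdef⟩ : ∃ θ : N → ℂ, θ = fun n => (lam n : ℂ) := ⟨_, rfl⟩
  have hθ : IsIrrCharacter N θ := by
    rw [hθdef]
    exact isIrrCharacter_of_hom lam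
  have hresN : IsCharacter N (fun n : N => χ₀ n) :=
    IsCharacter.restrict (isCharacter_of_isIrrCharacter hχ₀) _
  have hcon : classInner (fun n : N => χ₀ n) θ ≠ 0 := by
    have hΔ := IsCharacter.sub_irr hresP hμ hμc
    have hΔN := isCharacter_comp_hom hΔ (Subgroup.inclusion hNP)
    have h1 : ((fun x : (P : Subgroup G) => χ₀ x) - μ) ∘ (Subgroup.inclusion hNP)
        = (fun n : N => χ₀ n) - θ := by
      funext n
      simp only [Function.comp_apply, Pi.sub_apply]
      rw [hθdef, hμh]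
      simp only [hlam_apply]
      rfl
    rw [h1] at hΔN
    obtain ⟨a, ha⟩ := classInner_isCharacter_nat hΔN (isCharacter_of_isIrrCharacter hθ)
    rw [classInner_sub_left, classInner_irr_self hθ] at ha
    have h2 : classInner (fun n : N => χ₀ n) θ = (a : ℂ) + 1 := by
      rw [← ha]
      ring
    rw [h2]
    exact_mod_cast Nat.succ_ne_zero a
  -- `lam` is not trivial
  obtain ⟨n₁, hn₁⟩ : ∃ n₁ : N, lam n₁ ≠ 1 := by
    by_contra hcon1
    push Not at hcon1
    have hθ1 : θ = fun _ => 1 := by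
      rw [hθdef]
      funext n
      rw [hcon1 n]
      rfl
    have hinv1 : ∀ t : G, Helper2.conjFun N θ t = θ := by
      intro t
      funext n
      rw [conjFun_apply, hθ1]
    have h1 := Cfsg.Agent.S1489.restrict_eq_smul N hθ hinv1 hχ₀ hcon
    have h2 := congrFun h1 ⟨n₀, hn₀N⟩
    have h3 := congrFun h1 1
    simp only [Pi.smul_apply, smul_eq_mul, hθ1] at h2 h3
    apply hχ₀n
    rw [h2]
    exact h3.symm
  -- the inertia group
  obtain ⟨T, hTdef⟩ : ∃ T : Subgroup G, T = inertia N θ := ⟨_, rfl⟩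
  have hT : ∀ g : G, g ∈ T ↔ ∀ h : N, θ ⟨g * h * g⁻¹, hN.conj_mem h h.2 g⟩ = θ h := by
    intro g
    rw [hTdef, mem_inertia]
    constructor
    · intro hg h
      have := congrFun hg h
      rw [conjFun_apply] at this
      exact this
    · intro hg
      funext h
      rw [conjFun_apply]
      exact hg h
  have hNT : N ≤ T := by
    intro g hg
    rw [hTdef]
    exact conjFun_of_mem N (isClassFunction_of_isIrrCharacter hθ) hg
  have hPT : (P : Subgroup G) ≤ T := by
    intro x hx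
    rw [hT]
    intro h
    rw [hθdef]
    simp only [hlam_apply]
    have h1 : (⟨x * (h : G) * x⁻¹, hNP (hN.conj_mem h h.2 x)⟩ : (P : Subgroup G))
        = ⟨x, hx⟩ * ⟨(h : G), hNP h.2⟩ * ⟨x, hx⟩⁻¹ := rfl
    rw [h1, map_mul, map_mul, map_inv, mul_comm, inv_mul_cancel_left]
  have := Fintype.ofFinite T
  have hsolvT : IsPSolvable p T := Cfsg.Agent.Lib.Helper6.isPSolvable_subgroup hp.out T hsolv
  letI := Fintype.ofFinite (N.subgroupOf T)
  have hNTp : IsPGroup p (N.subgroupOf T) :=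
    hNp.of_equiv (Subgroup.subgroupOfEquivOfLe hNT).symm
  obtain ⟨lamT, hlamT⟩ : ∃ lamT : N.subgroupOf T →* ℂˣ,
      lamT = lam.comp (Subgroup.subgroupOfEquivOfLe hNT).toMonoidHom := ⟨_, rfl⟩
  have hlamT_apply : ∀ x : N.subgroupOf T,
      (lamT x : ℂ) = θ ⟨((x : T) : G), Subgroup.mem_subgroupOf.mp x.2⟩ := by
    intro x
    rw [hlamT, hθdef]
    rfl
  have hθT : (fun x : N.subgroupOf T => (lamT x : ℂ))
      = fun x : N.subgroupOf T => θ ⟨((x : T) : G), Subgroup.mem_subgroupOf.mp x.2⟩ :=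
    funext hlamT_apply
  have hinvT : ∀ (t : T) (n : N.subgroupOf T),
      lamT ⟨t * n * t⁻¹, (inferInstance : (N.subgroupOf T).Normal).conj_mem (n : T) n.2 t⟩
        = lamT n := by
    intro t n
    apply Units.ext
    rw [hlamT_apply, hlamT_apply]
    exact (hT t).mp t.2 ⟨((n : T) : G), Subgroup.mem_subgroupOf.mp n.2⟩
  have hQ : IsPGroup p ((P : Subgroup G).subgroupOf T) := P.isPGroup'.comap_subtype
  have hQi : (((P : Subgroup G).subgroupOf T).index).Coprime p := by
    have h1 : ((P : Subgroup G).subgroupOf T).index = (P : Subgroup G).relIndex T := rfl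
    rw [h1]
    have h2 := Subgroup.relIndex_mul_index hPT
    have h3 : ¬ p ∣ (P : Subgroup G).index := P.not_dvd_index
    have h4 : ¬ p ∣ (P : Subgroup G).relIndex T := fun h => h3 (by rw [← h2]; exact h.mul_right _)
    exact ((Nat.Prime.coprime_iff_not_dvd hp.out).mpr h4).symm
  have hNQ : N.subgroupOf T ≤ (P : Subgroup G).subgroupOf T := by
    intro x hx
    exact Subgroup.mem_subgroupOf.mpr (hNP (Subgroup.mem_subgroupOf.mp hx))
  obtain ⟨ν, hνdef⟩ : ∃ ν : (P : Subgroup G).subgroupOf T →* ℂˣ,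
      ν = μh.comp (Subgroup.subgroupOfEquivOfLe hPT).toMonoidHom := ⟨_, rfl⟩
  have hν : ∀ n : N.subgroupOf T, ν ⟨(n : T), hNQ n.2⟩ = lamT n := by
    intro n
    rw [hνdef, hlamT]
    simp only [MonoidHom.comp_apply]
    rw [hlam_apply]
    rfl
  have hdegT : ∀ ψ : T → ℂ, IsIrrCharacter T ψ →
      classInner (indFun (N.subgroupOf T) (fun n => (lamT n : ℂ))) ψ ≠ 0 →
      ∀ d : ℕ, ψ 1 = (d : ℂ) → ¬ p ∣ d := by
    intro ψ hψ hc d hd hpd
    rw [hθT] at hc
    have hirr := (Cfsg.Agent.S1489.result N T θ hθ hT hNT ψ ψ hψ hψ hc hc).1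
    have hχc : classInner (indFun T ψ) (indFun T ψ) ≠ 0 := by
      rw [classInner_irr_self hirr]
      exact one_ne_zero
    have hm := (Cfsg.Agent.S1489.main N T θ hθ hT hNT ψ hψ hc (indFun T ψ) hirr hχc).2
    have hψN : classInner (fun n : N.subgroupOf T => ψ n)
        (fun x : N.subgroupOf T => θ ⟨((x : T) : G), Subgroup.mem_subgroupOf.mp x.2⟩) ≠ 0 := by
      rw [frobenius_reciprocity (N.subgroupOf T) _ _ (isClassFunction_of_isIrrCharacter hψ)]
        at hc
      intro h0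
      apply hc
      rw [← classInner_conj_symm, h0, map_zero]
    have hdeg1 : indFun T ψ 1 = ((T.index * d : ℕ) : ℂ) := by
      rw [indFun_apply_one, hd]
      push_cast
      rfl
    have htriv := hker _ hirr _ hdeg1 (hpd.mul_left _)
    have hconst : (fun n : N.subgroupOf T => indFun T ψ ((n : T) : G))
        = (indFun T ψ 1) • (fun _ : N.subgroupOf T => (1 : ℂ)) := by
      funext n
      simp only [Pi.smul_apply, smul_eq_mul, mul_one]
      exact htriv _ (Subgroup.mem_subgroupOf.mp n.2)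
    have hθTirr : IsIrrCharacter (N.subgroupOf T)
        (fun x : N.subgroupOf T => θ ⟨((x : T) : G), Subgroup.mem_subgroupOf.mp x.2⟩) := by
      rw [← hθT]
      exact isIrrCharacter_of_hom lamT
    have hne : (fun _ : N.subgroupOf T => (1 : ℂ))
        ≠ (fun x : N.subgroupOf T => θ ⟨((x : T) : G), Subgroup.mem_subgroupOf.mp x.2⟩) := by
      intro h
      have h1 := congrFun h ⟨⟨(n₁ : G), hNT n₁.2⟩, Subgroup.mem_subgroupOf.mpr n₁.2⟩
      apply hn₁
      apply Units.ext
      have h2 : θ n₁ = (lam n₁ : ℂ) := by rw [hθdef]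
      rw [← h2]
      exact h1.symm
    apply hψN
    have hm' : classInner (fun n : N.subgroupOf T => indFun T ψ ((n : T) : G))
        (fun x : N.subgroupOf T => θ ⟨((x : T) : G), Subgroup.mem_subgroupOf.mp x.2⟩)
        = classInner (fun n : N.subgroupOf T => ψ n)
        (fun x : N.subgroupOf T => θ ⟨((x : T) : G), Subgroup.mem_subgroupOf.mp x.2⟩) := hm
    rw [← hm', hconst, classInner_smul_left,
      classInner_irr_ne isIrrCharacter_one hθTirr hne, mul_zero]
  have key := derlen_quot_abelian p hsolvT (N.subgroupOf T) hNTp lamT hinvT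
    ((P : Subgroup G).subgroupOf T) hQ hQi hNQ ν hν hdegT
  intro x hx y hy
  have h1 := key ⟨x, hPT hx⟩ (Subgroup.mem_subgroupOf.mpr hx) ⟨y, hPT hy⟩
    (Subgroup.mem_subgroupOf.mpr hy)
  exact Subgroup.mem_subgroupOf.mp h1

end Cfsg.Agent.Lib.Helper25
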