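import Mathlib
import Cfsg.Prelude
import Cfsg.Agent.Lib.Helper25.DerLen2

set_option autoImplicit false

/-!
Derived length of Sylow subgroups and character degrees, part 3: in a `p`-solvable group with
`n` irreducible characters of degree divisible by `p`, the Sylow `p`-subgroups have derived
length at most `n + 1`.
-/

namespace Cfsg.Agent.Lib.Helper25

open Cfsg Cfsg.Agent.Lib.Helper2
open scoped ComplexConjugate

universe u

theorem derlen_charDegree_eq {G : Type*} [Group G] (χ : G → ℂ) (d : ℕ) (h : χ 1 = (d : ℂ)) :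
    charDegree χ = d := by
  unfold charDegree
  rw [h]
  simp

theorem derlen_succ_eq_bot_of_comm {P : Type*} [Group P] (m : ℕ)
    (h : ∀ x ∈ derivedSeries P m, ∀ y ∈ derivedSeries P m, x * y = y * x) :
    derivedSeries P (m + 1) = ⊥ := by
  rw [derivedSeries_succ, Subgroup.commutator_eq_bot_iff_le_centralizer]
  intro x hx
  rw [Subgroup.mem_centralizer_iff]
  intro y hy
  exact h y hy x hx

theorem derlen_eq_bot_of_le {P : Type*} [Group P] (m m' : ℕ) (h : m ≤ m')
    (hm : derivedSeries P m = ⊥) : derivedSeries P m' = ⊥ := by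
  rw [eq_bot_iff, ← hm]
  exact derivedSeries_antitone P h

/-- inflation of irreducible characters of degree divisible by `p` -/
noncomputable def derlenInfl {G : Type u} [Group G] (p : ℕ) (N : Subgroup G) [N.Normal] :
    {χ : IrrCharacter (G ⧸ N) // p ∣ charDegree (χ : G ⧸ N → ℂ)} →
      {χ : IrrCharacter G // p ∣ charDegree (χ : G → ℂ)} :=
  fun χ => ⟨⟨(χ.1 : G ⧸ N → ℂ) ∘ QuotientGroup.mk' N,
    isIrrCharacter_comp_of_surjective χ.1.2 (QuotientGroup.mk' N)
      (QuotientGroup.mk'_surjective N)⟩, by
      have h := χ.2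
      unfold charDegree at h ⊢
      simp only [Function.comp_apply, map_one]
      exact h⟩

theorem derlenInfl_injective {G : Type u} [Group G] (p : ℕ) (N : Subgroup G) [N.Normal] :
    Function.Injective (derlenInfl p N) := by
  intro a b hab
  apply Subtype.ext
  apply Subtype.ext
  funext x
  obtain ⟨g, rfl⟩ := QuotientGroup.mk'_surjective N x
  have h1 := congrArg (fun c : {χ : IrrCharacter G // p ∣ charDegree (χ : G → ℂ)} =>
    (c.1 : G → ℂ) g) hab
  exact h1

set_option maxHeartbeats 2000000 in
theorem derlen_main (p : ℕ) [hp : Fact p.Prime] :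
    ∀ (k : ℕ) (G : Type u) [Group G] [Finite G], Nat.card G ≤ k → IsPSolvable p G →
    ∀ P : Sylow p G, derivedSeries ↥(P : Subgroup G)
      (Nat.card {χ : IrrCharacter G // p ∣ charDegree (χ : G → ℂ)} + 1) = ⊥ := by
  intro k
  induction k with
  | zero =>
    intro G _ _ hcard
    have := Nat.card_pos (α := G)
    omega
  | succ k ih =>
    intro G _ _ hcard hsolv P
    classical
    have := Fintype.ofFinite G
    obtain ⟨n, hn⟩ : ∃ n, n = Nat.card {χ : IrrCharacter G // p ∣ charDegree (χ : G → ℂ)} :=
      ⟨_, rfl⟩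
    rw [← hn]
    by_cases hn0 : n = 0
    · have hdeg : ∀ χ : G → ℂ, IsIrrCharacter G χ → ∀ d : ℕ, χ 1 = (d : ℂ) → ¬ p ∣ d := by
        intro χ hχ d hd hpd
        have hne : Nonempty {χ : IrrCharacter G // p ∣ charDegree (χ : G → ℂ)} :=
          ⟨⟨⟨χ, hχ⟩, by rw [derlen_charDegree_eq χ d hd]; exact hpd⟩⟩
        have h1 : 0 < Nat.card {χ : IrrCharacter G // p ∣ charDegree (χ : G → ℂ)} :=
          Nat.card_pos
        omega
      obtain ⟨-, hc⟩ := ito_conv_aux p (Nat.card G) G le_rfl hsolv hdeg P
      rw [hn0]
      apply derlen_succ_eq_bot_of_comm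
      intro x _ y _
      exact Subtype.ext (hc x x.2 y y.2)
    by_cases htop : (⊤ : Subgroup G) = ⊥
    · rw [eq_bot_iff]
      intro x _
      rw [Subgroup.mem_bot]
      apply Subtype.ext
      have hx : (x : G) ∈ (⊥ : Subgroup G) := htop ▸ Subgroup.mem_top _
      exact Subgroup.mem_bot.mp hx
    have quot : ∀ (N : Subgroup G) [N.Normal], N ≠ ⊥ →
        ∀ x ∈ derivedSeries ↥(P : Subgroup G)
          (Nat.card {χ : IrrCharacter (G ⧸ N) // p ∣ charDegree (χ : G ⧸ N → ℂ)} + 1),
          (x : G) ∈ N := by
      intro N _ hNne x hx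
      have hcardQ : Nat.card (G ⧸ N) ≤ k := by
        have h1 : Nat.card N * Nat.card (G ⧸ N) = Nat.card G := by
          rw [← Subgroup.index_eq_card]
          exact Subgroup.card_mul_index N
        have h2 : 1 < Nat.card N := (Subgroup.one_lt_card_iff_ne_bot N).mpr hNne
        have h3 : 0 < Nat.card (G ⧸ N) := Nat.card_pos
        nlinarith
      have hsolvQ := Cfsg.Agent.Lib.Helper6.isPSolvable_quotient hp.out N hsolv
      have ihQ : derivedSeries ↥((P : Subgroup G).map (QuotientGroup.mk' N))
          (Nat.card {χ : IrrCharacter (G ⧸ N) // p ∣ charDegree (χ : G ⧸ N → ℂ)} + 1) = ⊥ :=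
        ih (G ⧸ N) hcardQ hsolvQ (P.mapSurjective (QuotientGroup.mk'_surjective N))
      have h := map_derivedSeries_le_derivedSeries
        ((QuotientGroup.mk' N).subgroupMap (P : Subgroup G))
        (Nat.card {χ : IrrCharacter (G ⧸ N) // p ∣ charDegree (χ : G ⧸ N → ℂ)} + 1)
      rw [ihQ] at h
      have h1 := h (Subgroup.mem_map_of_mem _ hx)
      have h2 := Subgroup.mem_bot.mp h1
      have h3 : ((x : G) : G ⧸ N) = 1 := congrArg Subtype.val h2
      exact (QuotientGroup.eq_one_iff _).mp h3
    have hle : ∀ (N : Subgroup G) [N.Normal],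
        Nat.card {χ : IrrCharacter (G ⧸ N) // p ∣ charDegree (χ : G ⧸ N → ℂ)} ≤ n := by
      intro N _
      rw [hn]
      exact Nat.card_le_card_of_injective _ (derlenInfl_injective p N)
    obtain ⟨M, -, hMn, hMne, hMp⟩ :=
      Cfsg.Agent.Lib.Helper6.exists_normal_p_or_p' hp.out hsolv ⊤ htop
    rcases hMp with hMp | hMp
    · -- a normal `p`-subgroup: pass to its centre
      obtain ⟨N, hNdef⟩ : ∃ N : Subgroup G, N = M ⊓ Subgroup.centralizer (M : Set G) :=
        ⟨_, rfl⟩
      have hNn : N.Normal := by
        rw [hNdef]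
        infer_instance
      have hNM : N ≤ M := by
        rw [hNdef]
        exact inf_le_left
      have hNp : IsPGroup p N := hMp.to_le hNM
      have hNab : ∀ a ∈ N, ∀ b ∈ N, a * b = b * a := by
        intro a ha b hb
        rw [hNdef] at ha hb
        exact (Subgroup.mem_centralizer_iff.mp ha.2 b hb.1).symm
      have hNne : N ≠ ⊥ := by
        have hnt : Nontrivial M := by
          rw [← Subgroup.nontrivial_iff_ne_bot] at hMne
          exact hMne
        have hc := hMp.center_nontrivial
        obtain ⟨z, hz⟩ := exists_ne (1 : Subgroup.center M)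
        intro hbot
        apply hz
        apply Subtype.ext
        apply Subtype.ext
        have hzN : ((z : M) : G) ∈ N := by
          rw [hNdef]
          refine ⟨(z : M).2, ?_⟩
          show ((z : M) : G) ∈ Subgroup.centralizer (M : Set G)
          rw [Subgroup.mem_centralizer_iff]
          intro m hm
          have h1 := Subgroup.mem_center_iff.mp z.2 ⟨m, hm⟩
          exact congrArg Subtype.val h1
        rw [hbot] at hzN
        exact Subgroup.mem_bot.mp hzN
      by_cases hlt : Nat.card {χ : IrrCharacter (G ⧸ N) // p ∣ charDegree (χ : G ⧸ N → ℂ)} < n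
      · have h1 := derlen_succ_eq_bot_of_comm (P := ↥(P : Subgroup G))
          (Nat.card {χ : IrrCharacter (G ⧸ N) // p ∣ charDegree (χ : G ⧸ N → ℂ)} + 1)
          (fun x hx y hy => Subtype.ext (hNab _ (quot N hNne x hx) _ (quot N hNne y hy)))
        exact derlen_eq_bot_of_le _ _ (by omega) h1
      · have hbij : Function.Bijective (derlenInfl p N) :=
          (derlenInfl_injective p N).bijective_of_nat_card_le (by rw [← hn]; omega)
        have hker : ∀ χ : G → ℂ, IsIrrCharacter G χ → ∀ d : ℕ, χ 1 = (d : ℂ) → p ∣ d →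
            ∀ a ∈ N, χ a = χ 1 := by
          intro χ hχ d hd hpd a ha
          obtain ⟨χ', hχ'⟩ := hbij.2 ⟨⟨χ, hχ⟩, by rw [derlen_charDegree_eq χ d hd]; exact hpd⟩
          have h1 : χ = (χ'.1 : G ⧸ N → ℂ) ∘ QuotientGroup.mk' N := by
            have h2 := congrArg (fun c : {χ : IrrCharacter G // p ∣ charDegree (χ : G → ℂ)} =>
              (c.1 : G → ℂ)) hχ'
            exact h2.symm
          rw [h1]
          simp only [Function.comp_apply, map_one]
          have h3 : QuotientGroup.mk' N a = 1 := (QuotientGroup.eq_one_iff _).mpr ha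
          rw [h3]
        have key := derlen_comm_mem p hsolv N hNp hNne hker P
        have h1 : derivedSeries ↥(P : Subgroup G) (1 + 1) = ⊥ := by
          apply derlen_succ_eq_bot_of_comm
          have hsub : ∀ x ∈ derivedSeries ↥(P : Subgroup G) 1, (x : G) ∈ N := by
            have h2 : derivedSeries ↥(P : Subgroup G) 1
                ≤ N.subgroupOf (P : Subgroup G) := by
              rw [derivedSeries_succ, derivedSeries_zero, Subgroup.commutator_le]
              intro a _ b _
              rw [Subgroup.mem_subgroupOf, commutatorElement_def]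
              exact key a a.2 b b.2
            intro x hx
            exact Subgroup.mem_subgroupOf.mp (h2 hx)
          intro x hx y hy
          exact Subtype.ext (hNab _ (hsub x hx) _ (hsub y hy))
        exact derlen_eq_bot_of_le _ _ (by omega) h1
    · -- a normal `p'`-subgroup
      have hord : ∀ m ∈ M, ∀ j : ℕ, m ^ p ^ j = 1 → m = 1 := by
        intro m hm j hj
        have h2 : orderOf m ∣ p ^ j := orderOf_dvd_of_pow_eq_one hj
        have h3 : orderOf m ∣ Nat.card M := by
          have h := orderOf_dvd_natCard (⟨m, hm⟩ : M)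
          rwa [Subgroup.orderOf_mk] at h
        have h4 : Nat.Coprime (Nat.card M) (p ^ j) := Nat.Coprime.pow_right _ hMp
        have h5 : orderOf m = 1 := Nat.eq_one_of_dvd_coprimes h4 h3 h2
        exact orderOf_eq_one_iff.mp h5
      have h1 : derivedSeries ↥(P : Subgroup G)
          (Nat.card {χ : IrrCharacter (G ⧸ M) // p ∣ charDegree (χ : G ⧸ M → ℂ)} + 1) = ⊥ := by
        rw [eq_bot_iff]
        intro x hx
        rw [Subgroup.mem_bot]
        have hxM := quot M hMne x hx
        obtain ⟨j, hj⟩ := P.isPGroup' x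
        have h2 : (x : G) ^ p ^ j = 1 := by simpa using congrArg Subtype.val hj
        exact Subtype.ext (hord _ hxM j h2)
      exact derlen_eq_bot_of_le _ _ (by have := hle M; omega) h1

end Cfsg.Agent.Lib.Helper25
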