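import Mathlib
import Cfsg.Prelude
import Cfsg.Agent.Lib.Helper25.FullyRam4

set_option autoImplicit false

/-!
Fully ramified characters, part 5: the DeMeyer–Janusz property: if `χ` is fully ramified over
`Z` (`χ_Z = e θ`, `e ^ 2 = |H : Z|`) and `Z ≤ S` with `|S : Z| = q ^ 2`, `e = q e'`,
`gcd(q, e') = 1`, then `S` has an irreducible character restricting to `q θ`.
-/

namespace Cfsg.Agent.Lib.Helper25

open Cfsg Cfsg.Agent.Lib.Helper2
open scoped ComplexConjugate

section dj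

variable {H : Type*} [Group H] [Fintype H]

theorem irr_normSq_sum {K : Type*} [Group K] [Fintype K] {θ : K → ℂ} (hθ : IsIrrCharacter K θ) :
    ∑ z : K, Complex.normSq (θ z) = (Nat.card K : ℝ) := by
  have h1 := irr_norm_sum hθ
  have h2 : ((∑ z : K, Complex.normSq (θ z) : ℝ) : ℂ) = ((Nat.card K : ℝ) : ℂ) := by
    rw [Complex.ofReal_sum]
    push_cast
    rw [← h1]
    apply Finset.sum_congr rfl
    intro s _
    rw [Complex.mul_conj]
  exact_mod_cast h2

/-- the character below a fully ramified character is invariant -/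
theorem fullyRam_invariant (Z : Subgroup H) [hZn : Z.Normal] (χ : H → ℂ) (hχ : IsIrrCharacter H χ)
    (θ : Z → ℂ) (e : ℕ) (he : e ^ 2 = Z.index)
    (hres : ∀ z : Z, χ z = (e : ℂ) * θ z) (g : H) (z : Z) :
    θ ⟨g * z * g⁻¹, hZn.conj_mem z z.2 g⟩ = θ z := by
  have he0 : (e : ℂ) ≠ 0 := by
    intro h0
    have h1 : e = 0 := by exact_mod_cast h0
    rw [h1] at he
    apply Subgroup.index_ne_zero_of_finite (H := Z)
    rw [← he]
    norm_num
  have h1 : χ (g * z * g⁻¹) = (e : ℂ) * θ ⟨g * z * g⁻¹, hZn.conj_mem z z.2 g⟩ :=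
    hres ⟨g * z * g⁻¹, hZn.conj_mem z z.2 g⟩
  have h2 := hres z
  have h3 : χ (g * z * g⁻¹) = χ z := isClassFunction_of_isIrrCharacter hχ z g
  have h4 : (e : ℂ) * θ ⟨g * z * g⁻¹, hZn.conj_mem z z.2 g⟩ = (e : ℂ) * θ z := by
    rw [← h1, ← h2]
    exact h3
  exact mul_left_cancel₀ he0 h4

/-- **DeMeyer–Janusz**: full ramification passes to subgroups `S ≥ Z` with `|S : Z| = q ^ 2`
where `e = q e'` and `gcd(q, e') = 1`. -/
theorem fullyRam_sylow (Z : Subgroup H) [Fintype Z] (χ : H → ℂ) (hχ : IsIrrCharacter H χ)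
    (θ : Z → ℂ) (hθ : IsIrrCharacter Z θ) (e : ℕ) (he : e ^ 2 = Z.index)
    (hres : ∀ z : Z, χ z = (e : ℂ) * θ z)
    (S : Subgroup H) [Fintype S] (hZS : Z ≤ S) (q e' : ℕ) (hq : q ^ 2 = Z.relIndex S)
    (hee : e = q * e') (hcop : Nat.Coprime q e') :
    ∃ σ : S → ℂ, IsIrrCharacter S σ ∧ (∀ z : Z, σ ⟨z, hZS z.2⟩ = (q : ℂ) * θ z) := by
  classical
  have hχS : IsCharacter S (fun s : S => χ s) :=
    IsCharacter.restrict (isCharacter_of_isIrrCharacter hχ) S
  have hχS0 : (fun s : S => χ s) ≠ 0 := by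
    intro h0
    have h1 : χ 1 = 0 := congrFun h0 1
    exact irr_one_ne_zero hχ h1
  obtain ⟨ξ, hξ, hcon⟩ := exists_irr_constituent hχS hχS0
  refine ⟨ξ, hξ, ?_⟩
  have hsub : IsCharacter S ((fun s : S => χ s) - ξ) := IsCharacter.sub_irr hχS hξ hcon
  have hξZ : IsCharacter Z (ξ ∘ Subgroup.inclusion hZS) :=
    isCharacter_comp_hom (isCharacter_of_isIrrCharacter hξ) _
  have hsubZ : IsCharacter Z ((fun s : S => χ s) ∘ Subgroup.inclusion hZS
      - ξ ∘ Subgroup.inclusion hZS) := isCharacter_comp_hom hsub (Subgroup.inclusion hZS)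
  have hΨ : ((fun s : S => χ s) ∘ Subgroup.inclusion hZS) = (e : ℂ) • θ := by
    funext z
    exact hres z
  obtain ⟨b, hb, hb'⟩ := isCharacter_sub_multiple hθ e hΨ hξZ hsubZ
  have hbz : ∀ z : Z, ξ ⟨z, hZS z.2⟩ = (b : ℂ) * θ z := fun z => congrFun hb z
  obtain ⟨c, hc⟩ := classInner_isCharacter_nat hχS (isCharacter_of_isIrrCharacter hξ)
  have hkey := fullyRam_inner Z χ hχ θ hθ e he hres S hZS ξ
  have h1 : classInner (fun z : Z => ξ ⟨z, hZS z.2⟩) θ = b := hb'
  rw [h1, ← classInner_conj_symm, hc, Complex.conj_natCast] at hkey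
  have hcardS : Nat.card S = q ^ 2 * Nat.card Z := by
    rw [card_eq_relIndex_mul_card hZS, hq]
  have hZpos : 0 < Nat.card Z := Nat.card_pos
  have hqpos : 0 < q := by
    rcases Nat.eq_zero_or_pos q with h0 | h0
    · exfalso
      rw [h0] at hcardS
      have hpos : 0 < Nat.card S := Nat.card_pos
      rw [hcardS] at hpos
      simp at hpos
    · exact h0
  have hS0 : (Nat.card S : ℂ) ≠ 0 := card_ne_zero_complex S
  have h2 : c * q = e' * b := by
    have h3 : (c : ℂ) * (Nat.card S : ℂ) = (e : ℂ) * Nat.card Z * b := by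
      rw [hkey]
      field_simp
    have h4 : c * (q ^ 2 * Nat.card Z) = e * Nat.card Z * b := by
      rw [← hcardS]
      exact_mod_cast h3
    rw [hee] at h4
    have h5 : (c * q) * (q * Nat.card Z) = (e' * b) * (q * Nat.card Z) := by
      calc (c * q) * (q * Nat.card Z) = c * (q ^ 2 * Nat.card Z) := by ring
        _ = q * e' * Nat.card Z * b := h4
        _ = (e' * b) * (q * Nat.card Z) := by ring
    exact Nat.eq_of_mul_eq_mul_right (Nat.mul_pos hqpos hZpos) h5
  have hqb : q ∣ b := by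
    have h6 : q ∣ e' * b := ⟨c, by rw [← h2]; ring⟩
    exact hcop.dvd_of_dvd_mul_left h6
  have hR1 := irr_normSq_sum hξ
  have hR2 := irr_normSq_sum hθ
  have hR3 : ∑ z : Z, Complex.normSq (ξ ⟨z, hZS z.2⟩) = (b : ℝ) ^ 2 * Nat.card Z := by
    rw [← hR2, Finset.mul_sum]
    apply Finset.sum_congr rfl
    intro z _
    rw [hbz z, Complex.normSq_mul, Complex.normSq_natCast]
    ring
  have hR4 : ∑ z : Z, Complex.normSq (ξ ⟨z, hZS z.2⟩) ≤ ∑ s : S, Complex.normSq (ξ s) := by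
    have h7 : ∑ z : Z, Complex.normSq (ξ ⟨z, hZS z.2⟩)
        = ∑ s ∈ Finset.univ.image (Subgroup.inclusion hZS), Complex.normSq (ξ s) := by
      rw [Finset.sum_image]
      · rfl
      · intro a _ b _ h
        exact Subgroup.inclusion_injective hZS h
    rw [h7]
    exact Finset.sum_le_sum_of_subset_of_nonneg (Finset.subset_univ _)
      (fun _ _ _ => Complex.normSq_nonneg _)
  have hbq : b ≤ q := by
    have h6 : (b : ℝ) ^ 2 * Nat.card Z ≤ (q : ℝ) ^ 2 * Nat.card Z := by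
      rw [← hR3]
      calc ∑ z : Z, Complex.normSq (ξ ⟨z, hZS z.2⟩) ≤ ∑ s : S, Complex.normSq (ξ s) := hR4
        _ = (q : ℝ) ^ 2 * Nat.card Z := by
          rw [hR1, hcardS]
          push_cast
          ring
    have hZposR : (0 : ℝ) < Nat.card Z := by exact_mod_cast hZpos
    have h7 : (b : ℝ) ^ 2 ≤ (q : ℝ) ^ 2 := le_of_mul_le_mul_right h6 hZposR
    have h8 : (b : ℝ) ≤ q :=
      (pow_le_pow_iff_left₀ (Nat.cast_nonneg b) (Nat.cast_nonneg q) (by norm_num)).mp h7
    exact_mod_cast h8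
  have hb0 : b ≠ 0 := by
    intro h0
    have h9 := hbz 1
    rw [h0] at h9
    simp only [Nat.cast_zero, zero_mul] at h9
    exact irr_one_ne_zero hξ h9
  have hbeq : b = q :=
    Nat.le_antisymm hbq (Nat.le_of_dvd (Nat.pos_of_ne_zero hb0) hqb)
  intro z
  rw [hbz z, hbeq]

end dj

end Cfsg.Agent.Lib.Helper25
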