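import Mathlib
import Cfsg.Prelude
import Cfsg.Agent.Lib.Helper25.FullyRam5

set_option autoImplicit false

/-!
Fully ramified characters, part 6: the characters of `S ∩ K` over `θ`, for a suitable
"Sylow" subgroup `S ≥ Z`: they form a single `S`-orbit of size `|S : S ∩ K|`, and the
restriction of a constituent `ψ` of `χ_K` to `S ∩ K` has a number of constituents
(with multiplicity) prime to `p`.
-/

namespace Cfsg.Agent.Lib.Helper25

open Cfsg Cfsg.Agent.Lib.Helper2
open scoped ComplexConjugate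

section orbit

variable {H : Type*} [Group H]

/-- the inclusion of `K ⊓ S`, as a subgroup of `S`, into `K` -/
def subOfHom (K S : Subgroup H) : ↥(K.subgroupOf S) →* ↥K where
  toFun u := ⟨((u : S) : H), Subgroup.mem_subgroupOf.mp u.2⟩
  map_one' := rfl
  map_mul' _ _ := rfl

/-- the inclusion of `Z` into `K ⊓ S`, as a subgroup of `S` -/
def zToSub {Z K S : Subgroup H} (hZS : Z ≤ S) (hZK : Z ≤ K) : ↥Z →* ↥(K.subgroupOf S) where
  toFun z := ⟨⟨z, hZS z.2⟩, Subgroup.mem_subgroupOf.mpr (hZK z.2)⟩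
  map_one' := rfl
  map_mul' _ _ := rfl

theorem fr_arith (p n : ℕ) (hp : p.Prime) (e' f N f' N' M g' : ℕ)
    (h1 : f ^ 2 * N = p ^ n * g') (h3 : f' ^ 2 * N' = p ^ n)
    (h5 : e' * f' * N' = f * N * M) (hpe' : ¬ p ∣ e') (hpf : ¬ p ∣ f) :
    f' = 1 ∧ N' = p ^ n ∧ ¬ p ∣ M := by
  have hpn : 0 < p ^ n := pos_of_ne_zero (pow_ne_zero _ hp.ne_zero)
  have h6 : p ^ n * (e' * f) = p ^ n * (g' * f' * M) := by
    calc p ^ n * (e' * f) = e' * (f' ^ 2 * N') * f := by rw [h3]; ring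
      _ = (e' * f' * N') * (f' * f) := by ring
      _ = (f * N * M) * (f' * f) := by rw [h5]
      _ = (f ^ 2 * N) * f' * M := by ring
      _ = p ^ n * (g' * f' * M) := by rw [h1]; ring
  have h7 : e' * f = g' * f' * M := Nat.eq_of_mul_eq_mul_left hpn h6
  have h8 : ¬ p ∣ e' * f := by
    intro h
    rcases (Nat.Prime.dvd_mul hp).mp h with h | h
    · exact hpe' h
    · exact hpf h
  have hf' : ¬ p ∣ f' := by
    intro h
    apply h8
    rw [h7]
    exact Dvd.dvd.mul_right (Dvd.dvd.mul_left h g') M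
  have hM : ¬ p ∣ M := by
    intro h
    apply h8
    rw [h7]
    exact Dvd.dvd.mul_left h _
  have h9 : f' ∣ p ^ n := ⟨f' * N', by rw [← h3]; ring⟩
  obtain ⟨j, -, hj⟩ := (Nat.dvd_prime_pow hp).mp h9
  have hj0 : j = 0 := by
    by_contra hne
    apply hf'
    rw [hj]
    exact dvd_pow_self p hne
  have hf1 : f' = 1 := by rw [hj, hj0, pow_zero]
  refine ⟨hf1, ?_, hM⟩
  rw [hf1] at h3
  simpa using h3

variable [Fintype H]

open Classical in
/-- a constituent of `χ_K` restricts to a multiple of `θ` on `Z` -/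
theorem fullyRam_below (Z : Subgroup H) (χ : H → ℂ) (hχ : IsIrrCharacter H χ)
    (θ : Z → ℂ) (hθ : IsIrrCharacter Z θ) (e : ℕ)
    (hres : ∀ z : Z, χ z = (e : ℂ) * θ z) (K : Subgroup H) (hZK : Z ≤ K)
    (ψ : K → ℂ) (hψ : IsIrrCharacter K ψ)
    (hcon : classInner (fun k : K => χ k) ψ ≠ 0) :
    ∃ a : ℕ, ψ ∘ Subgroup.inclusion hZK = (a : ℂ) • θ := by
  have hχK : IsCharacter K (fun k : K => χ k) :=
    IsCharacter.restrict (isCharacter_of_isIrrCharacter hχ) K
  have hsub := IsCharacter.sub_irr hχK hψ hcon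
  have hsubZ : IsCharacter Z ((fun k : K => χ k) ∘ Subgroup.inclusion hZK
      - ψ ∘ Subgroup.inclusion hZK) := isCharacter_comp_hom hsub (Subgroup.inclusion hZK)
  have hΨ : ((fun k : K => χ k) ∘ Subgroup.inclusion hZK) = (e : ℂ) • θ := by
    funext z
    exact hres z
  obtain ⟨a, ha, -⟩ := isCharacter_sub_multiple hθ e hΨ
    (isCharacter_comp_hom (isCharacter_of_isIrrCharacter hψ) _) hsubZ
  exact ⟨a, ha⟩

open Classical in
/-- constituents of a character lying over a multiple of `θ` lie over `θ` -/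
theorem over_of_constituent {Z : Type*} [Group Z] [Fintype Z] {θ : Z → ℂ}
    (hθ : IsIrrCharacter Z θ) {W : Type*} [Group W] [Fintype W] (Φ : W → ℂ)
    (hΦ : IsCharacter W Φ) (ι : Z →* W) (a : ℕ) (hΦZ : Φ ∘ ι = (a : ℂ) • θ)
    (η' : W → ℂ) (hη' : IsIrrCharacter W η') (hcon : classInner Φ η' ≠ 0) :
    classInner (η' ∘ ι) θ ≠ 0 := by
  have hsub := IsCharacter.sub_irr hΦ hη' hcon
  have hsubZ : IsCharacter Z (Φ ∘ ι - η' ∘ ι) := isCharacter_comp_hom hsub ι
  obtain ⟨b', hb', hb''⟩ := isCharacter_sub_multiple hθ a hΦZ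
    (isCharacter_comp_hom (isCharacter_of_isIrrCharacter hη') ι) hsubZ
  rw [hb'']
  intro h0
  have h1 : b' = 0 := by exact_mod_cast h0
  have h2 := congrFun hb' 1
  rw [h1] at h2
  simp only [Function.comp_apply, map_one, Nat.cast_zero, zero_smul, Pi.zero_apply] at h2
  exact irr_one_ne_zero hη' h2

end orbit

end Cfsg.Agent.Lib.Helper25
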