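import Mathlib
import Cfsg.Prelude
import Cfsg.Agent.Lib.Helper25.FullyRam6

set_option autoImplicit false

/-!
Fully ramified characters, part 7: the orbit of characters of `S ∩ K` over `θ`.
-/

namespace Cfsg.Agent.Lib.Helper25

open Cfsg Cfsg.Agent.Lib.Helper2
open scoped ComplexConjugate

section orbit7

variable {H : Type*} [Group H] [Fintype H]

set_option maxHeartbeats 1000000 in
open Classical in
/-- the characters of `S ∩ K` over `θ` form a single `S`-orbit `O'` of size `|S : S ∩ K|`,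
and the multiplicities `m` of the restriction of `ψ` to `S ∩ K` have sum prime to `p`. -/
theorem fullyRam_sylow_orbit (Z : Subgroup H) (χ : H → ℂ) (hχ : IsIrrCharacter H χ)
    (θ : Z → ℂ) (hθ : IsIrrCharacter Z θ) (e : ℕ) (he : e ^ 2 = Z.index)
    (hres : ∀ z : Z, χ z = (e : ℂ) * θ z)
    (K : Subgroup H) [hKn : K.Normal] (hZK : Z ≤ K) (p n : ℕ) (hp : p.Prime)
    (S : Subgroup H) (hZS : Z ≤ S) (q e' : ℕ) (hq : q ^ 2 = Z.relIndex S) (hee : e = q * e')
    (hcop : Nat.Coprime q e') (hpe' : ¬ p ∣ e') (hKS : K.relIndex S = p ^ n)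
    (ψ : K → ℂ) (hψ : IsIrrCharacter K ψ) (f : ℕ)
    (hf : classInner (fun k : K => χ k) ψ = f) (hf0 : f ≠ 0) (hpf : ¬ p ∣ f) :
    ∃ (η : K.subgroupOf S → ℂ) (O' : Finset (K.subgroupOf S → ℂ))
      (m : (K.subgroupOf S → ℂ) → ℕ),
      IsIrrCharacter (K.subgroupOf S) η ∧ η ∈ O' ∧
      (∀ η' ∈ O', IsIrrCharacter (K.subgroupOf S) η') ∧
      (∀ η' : K.subgroupOf S → ℂ, IsIrrCharacter (K.subgroupOf S) η' →
        (η' ∈ O' ↔ classInner (η' ∘ zToSub hZS hZK) θ ≠ 0)) ∧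
      (∀ η' : K.subgroupOf S → ℂ,
        η' ∈ O' ↔ ∃ g : S, η' = Helper2.conjFun (K.subgroupOf S) η g) ∧
      O'.card = p ^ n ∧ (¬ p ∣ ∑ η' ∈ O', m η') ∧
      (∀ η' : K.subgroupOf S → ℂ, IsIrrCharacter (K.subgroupOf S) η' →
        classInner (ψ ∘ subOfHom K S) η' = m η') := by
  obtain ⟨σ, hσ, hσres⟩ := fullyRam_sylow Z χ hχ θ hθ e he hres S hZS q e' hq hee hcop
  let ez : ↥(Z.subgroupOf S) ≃* ↥Z := Subgroup.subgroupOfEquivOfLe hZS
  have hθ' : IsIrrCharacter (Z.subgroupOf S) (θ ∘ ez) :=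
    Cfsg.Agent.S1489.isIrrCharacter_comp_iso hθ ez
  have hq' : q ^ 2 = (Z.subgroupOf S).index := hq
  have hres' : ∀ z' : Z.subgroupOf S, σ z' = (q : ℂ) * (θ ∘ ez) z' := by
    intro z'
    have h1 := hσres (ez z')
    have h2 : (⟨((ez z' : Z) : H), hZS (ez z').2⟩ : S) = (z' : S) := Subtype.ext rfl
    rw [h2] at h1
    exact h1
  have hZN : Z.subgroupOf S ≤ K.subgroupOf S := by
    intro z' hz'
    exact Subgroup.mem_subgroupOf.mpr (hZK (Subgroup.mem_subgroupOf.mp hz'))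
  have hσKS : IsCharacter (K.subgroupOf S) (fun u : K.subgroupOf S => σ u) :=
    IsCharacter.restrict (isCharacter_of_isIrrCharacter hσ) _
  have hσKS0 : (fun u : K.subgroupOf S => σ u) ≠ 0 := by
    intro h0
    exact irr_one_ne_zero hσ (congrFun h0 1)
  obtain ⟨η, hη, hηcon⟩ := exists_irr_constituent hσKS hσKS0
  obtain ⟨f', hf'⟩ := classInner_isCharacter_nat hσKS (isCharacter_of_isIrrCharacter hη)
  have hf'0 : f' ≠ 0 := by
    intro h0
    rw [hf', h0] at hηcon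
    exact hηcon (by simp)
  obtain ⟨O', hO'⟩ : ∃ O' : Finset (K.subgroupOf S → ℂ), ∀ η',
      η' ∈ O' ↔ ∃ g : S, η' = Helper2.conjFun (K.subgroupOf S) η g :=
    ⟨Finset.univ.image (fun g : S => Helper2.conjFun (K.subgroupOf S) η g), by
      intro η'
      simp [eq_comm]⟩
  obtain ⟨hA3, hA4, hC⟩ := fullyRam_clifford (Z.subgroupOf S) σ hσ (θ ∘ ez) hθ' q hq' hres'
    (K.subgroupOf S) hZN η hη f' hf' hf'0 O' hO'
  obtain ⟨O, hO⟩ : ∃ O : Finset (K → ℂ), ∀ ψ',
      ψ' ∈ O ↔ ∃ g : H, ψ' = Helper2.conjFun K ψ g :=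
    ⟨Finset.univ.image (fun g : H => Helper2.conjFun K ψ g), by
      intro ψ'
      simp [eq_comm]⟩
  obtain ⟨hA1, hA2, -⟩ := fullyRam_clifford Z χ hχ θ hθ e he hres K hZK ψ hψ f hf hf0 O hO
  have hconv : ∀ η' : K.subgroupOf S → ℂ,
      classInner (fun z' : Z.subgroupOf S => η' ⟨z', hZN z'.2⟩) (θ ∘ ez)
        = classInner (η' ∘ zToSub hZS hZK) θ := by
    intro η'
    have h1 : (fun z' : Z.subgroupOf S => η' ⟨z', hZN z'.2⟩)
        = (η' ∘ zToSub hZS hZK) ∘ ez := by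
      funext z'
      show η' _ = η' _
      congr 1
    rw [h1, Cfsg.Agent.S1489.classInner_comp_iso]
  obtain ⟨a, ha⟩ := fullyRam_below Z χ hχ θ hθ e hres K hZK ψ hψ (by
    rw [hf]
    exact_mod_cast hf0)
  have hΦ : IsCharacter (K.subgroupOf S) (ψ ∘ subOfHom K S) :=
    isCharacter_comp_hom (isCharacter_of_isIrrCharacter hψ) _
  have hΦZ : (ψ ∘ subOfHom K S) ∘ zToSub hZS hZK = (a : ℂ) • θ := by
    rw [← ha]
    rfl
  have : Fintype (IrrCharacter (K.subgroupOf S)) := Fintype.ofFinite _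
  choose m0 hm0 using fun ψ' : IrrCharacter (K.subgroupOf S) =>
    classInner_isCharacter_nat hΦ (isCharacter_of_isIrrCharacter ψ'.2)
  obtain ⟨m, hm⟩ : ∃ m : (K.subgroupOf S → ℂ) → ℕ, ∀ η' : K.subgroupOf S → ℂ,
      IsIrrCharacter (K.subgroupOf S) η' → classInner (ψ ∘ subOfHom K S) η' = m η' := by
    refine ⟨fun η' => if h : IsIrrCharacter (K.subgroupOf S) η' then m0 ⟨η', h⟩ else 0, ?_⟩
    intro η' h
    simp only [dif_pos h]
    exact hm0 ⟨η', h⟩
  have hO'irr : ∀ η' ∈ O', IsIrrCharacter (K.subgroupOf S) η' := by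
    intro η' h
    obtain ⟨g, rfl⟩ := (hO' η').mp h
    exact conjFun_irr _ hη g
  have hO'one : ∀ η' ∈ O', η' 1 = η 1 := by
    intro η' h
    obtain ⟨g, rfl⟩ := (hO' η').mp h
    rw [conjFun_apply]
    congr 1
    apply Subtype.ext
    simp
  have hA5 : ψ 1 = ((∑ η' ∈ O', m η' : ℕ) : ℂ) * η 1 := by
    have hexp := class_fun_expand (ψ ∘ subOfHom K S) (isClassFunction_of_isCharacter hΦ)
    have h2 : (ψ ∘ subOfHom K S) 1 = ∑ ψ' : IrrCharacter (K.subgroupOf S),
        classInner (ψ ∘ subOfHom K S) ψ'.1 * ψ'.1 1 := by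
      have h3 := congrFun hexp 1
      rw [Finset.sum_apply] at h3
      exact h3
    have h1 : ψ 1 = (ψ ∘ subOfHom K S) 1 := by
      rw [Function.comp_apply, map_one]
    rw [h1, h2]
    calc ∑ ψ' : IrrCharacter (K.subgroupOf S), classInner (ψ ∘ subOfHom K S) ψ'.1 * ψ'.1 1
        = ∑ ψ' : IrrCharacter (K.subgroupOf S),
            (if ψ'.1 ∈ O' then (m ψ'.1 : ℂ) * η 1 else 0) := by
          apply Finset.sum_congr rfl
          intro ψ' _
          split_ifs with h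
          · rw [hm ψ'.1 ψ'.2, hO'one ψ'.1 h]
          · have h4 : classInner (ψ ∘ subOfHom K S) ψ'.1 = 0 := by
              by_contra hne
              apply h
              apply (hC ψ'.1 ψ'.2).mpr
              rw [hconv]
              exact over_of_constituent hθ _ hΦ _ a hΦZ ψ'.1 ψ'.2 hne
            rw [h4, zero_mul]
      _ = ∑ η' ∈ O', (m η' : ℂ) * η 1 := by
          rw [← Finset.sum_filter]
          apply Finset.sum_bij (fun (ψ' : IrrCharacter (K.subgroupOf S)) _ => ψ'.1)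
          · intro ψ' hψ'
            exact (Finset.mem_filter.mp hψ').2
          · intro a _ b _ hab
            exact Subtype.ext hab
          · intro η' hη'
            exact ⟨⟨η', hO'irr η' hη'⟩, Finset.mem_filter.mpr ⟨Finset.mem_univ _, hη'⟩, rfl⟩
          · intro ψ' _
            rfl
      _ = ((∑ η' ∈ O', m η' : ℕ) : ℂ) * η 1 := by
          rw [Nat.cast_sum, Finset.sum_mul]
  have hχ1 : χ 1 = (e : ℂ) * θ 1 := hres 1
  have hσ1 : σ 1 = (q : ℂ) * θ 1 := hσres 1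
  have h5c : ((e' * f' * O'.card : ℕ) : ℂ)
      = ((f * O.card * (∑ η' ∈ O', m η') : ℕ) : ℂ) := by
    have hη1 : η 1 ≠ 0 := irr_one_ne_zero hη
    apply mul_right_cancel₀ hη1
    calc ((e' * f' * O'.card : ℕ) : ℂ) * η 1 = e' * ((f' : ℂ) * O'.card * η 1) := by
          push_cast
          ring
      _ = e' * σ 1 := by rw [hA4]
      _ = e' * ((q : ℂ) * θ 1) := by rw [hσ1]
      _ = (e : ℂ) * θ 1 := by
          rw [hee]
          push_cast
          ring
      _ = χ 1 := hχ1.symm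
      _ = (f : ℂ) * O.card * ψ 1 := hA2
      _ = ((f * O.card * (∑ η' ∈ O', m η') : ℕ) : ℂ) * η 1 := by
          rw [hA5]
          push_cast
          ring
  have h5 : e' * f' * O'.card = f * O.card * (∑ η' ∈ O', m η') := by exact_mod_cast h5c
  obtain ⟨g', hg'⟩ : K.relIndex S ∣ K.index := Subgroup.relIndex_dvd_index_of_normal K S
  have h1 : f ^ 2 * O.card = p ^ n * g' := by rw [hA1, hg', hKS]
  have h3 : f' ^ 2 * O'.card = p ^ n := by
    rw [hA3]
    exact hKS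
  obtain ⟨hf1, hN', hM⟩ := fr_arith p n hp e' f O.card f' O'.card _ g' h1 h3 h5 hpe' hpf
  refine ⟨η, O', m, hη, ?_, hO'irr, ?_, hO', hN', hM, hm⟩
  · apply (hO' η).mpr
    refine ⟨1, ?_⟩
    funext u
    rw [conjFun_apply]
    congr 1
    apply Subtype.ext
    simp
  · intro η' h
    rw [← hconv]
    exact hC η' h

end orbit7

end Cfsg.Agent.Lib.Helper25
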