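import Mathlib
import Cfsg.Prelude
import Cfsg.Agent.Lib.Helper25.FullyRam7

set_option autoImplicit false

/-!
Fully ramified characters, part 8: permutation-group lemmas and the action of the normalizer
of `S ⊓ K` on the functions on `S ⊓ K`.
-/

namespace Cfsg.Agent.Lib.Helper25

open Cfsg Cfsg.Agent.Lib.Helper2
open scoped ComplexConjugate Pointwise

section perm

/-- a normal subgroup `Y` of a group acting transitively on a set `Λ` of prime power size,
preserving a weight function whose total is prime to `p`, acts trivially on `Λ` -/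
theorem perm_trivial_of_weight {Γ : Type*} [Group Γ] {X : Type*} [MulAction Γ X]
    (Y : Subgroup Γ) [hY : Y.Normal] (Λ : Finset X) (hΛ : ∀ g : Γ, ∀ x ∈ Λ, g • x ∈ Λ)
    (x₀ : X) (hx₀ : x₀ ∈ Λ) (htrans : ∀ x ∈ Λ, ∃ g : Γ, g • x₀ = x) (p n : ℕ) (hp : p.Prime)
    (hcard : Λ.card = p ^ n) (m : X → ℕ) (hm : ∀ y ∈ Y, ∀ x ∈ Λ, m (y • x) = m x)
    (hpm : ¬ p ∣ ∑ x ∈ Λ, m x) : ∀ y ∈ Y, ∀ x ∈ Λ, y • x = x := by
  classical
  obtain ⟨F, hFdef⟩ : ∃ F : X → Finset X, ∀ x x', x' ∈ F x ↔ (x' ∈ Λ ∧ ∃ y ∈ Y, y • x = x') :=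
    ⟨fun x => Λ.filter (fun x' => ∃ y ∈ Y, y • x = x'), by
      intro x x'
      simp only [Finset.mem_filter]⟩
  have hF1 : ∀ x ∈ Λ, x ∈ F x := fun x hx => (hFdef x x).mpr ⟨hx, 1, Y.one_mem, one_smul _ _⟩
  have hF2 : ∀ x x', x' ∈ F x → F x' = F x := by
    intro x x' hx'
    obtain ⟨-, y, hy, rfl⟩ := (hFdef x _).mp hx'
    ext x''
    rw [hFdef, hFdef]
    constructor
    · rintro ⟨h1, y', hy', rfl⟩
      exact ⟨h1, y' * y, Y.mul_mem hy' hy, mul_smul _ _ _⟩
    · rintro ⟨h1, y', hy', rfl⟩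
      refine ⟨h1, y' * y⁻¹, Y.mul_mem hy' (Y.inv_mem hy), ?_⟩
      rw [mul_smul, inv_smul_smul]
  have hF3 : ∀ (g : Γ) (x : X), x ∈ Λ → (F (g • x)).card = (F x).card := by
    intro g x hx
    have h1 : F (g • x) = (F x).image (fun x' => g • x') := by
      ext x''
      rw [hFdef, Finset.mem_image]
      constructor
      · rintro ⟨h1, y, hy, rfl⟩
        refine ⟨(g⁻¹ * y * g) • x, (hFdef x _).mpr ⟨hΛ _ x hx, g⁻¹ * y * g, ?_, rfl⟩, ?_⟩
        · have h2 := hY.conj_mem y hy g⁻¹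
          simpa using h2
        · simp [mul_smul]
      · rintro ⟨x', hx', rfl⟩
        obtain ⟨h1, y, hy, rfl⟩ := (hFdef x _).mp hx'
        refine ⟨hΛ g _ h1, g * y * g⁻¹, hY.conj_mem y hy g, ?_⟩
        simp [mul_smul]
    rw [h1, Finset.card_image_of_injective _ (MulAction.injective g)]
  obtain ⟨d, hd⟩ : ∃ d, d = (F x₀).card := ⟨_, rfl⟩
  have hFd : ∀ x ∈ Λ, (F x).card = d := by
    intro x hx
    obtain ⟨g, rfl⟩ := htrans x hx
    rw [hF3 g x₀ hx₀, hd]
  have hfib : ∀ x₁ ∈ Λ, Λ.filter (fun x => F x = F x₁) = F x₁ := by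
    intro x₁ hx₁
    ext x
    constructor
    · intro h
      obtain ⟨hx, hFx⟩ := Finset.mem_filter.mp h
      rw [← hFx]
      exact hF1 x hx
    · intro h
      exact Finset.mem_filter.mpr ⟨((hFdef x₁ x).mp h).1, hF2 x₁ x h⟩
  have hdvd1 : d ∣ ∑ x ∈ Λ, m x := by
    rw [← Finset.sum_fiberwise_of_maps_to (g := F) (t := Λ.image F)
      (fun x hx => Finset.mem_image_of_mem F hx)]
    apply Finset.dvd_sum
    intro B hB
    obtain ⟨x₁, hx₁, rfl⟩ := Finset.mem_image.mp hB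
    rw [hfib x₁ hx₁]
    have h2 : ∀ x ∈ F x₁, m x = m x₁ := by
      intro x hx
      obtain ⟨-, y, hy, rfl⟩ := (hFdef x₁ _).mp hx
      exact hm y hy x₁ hx₁
    rw [Finset.sum_congr rfl h2, Finset.sum_const, smul_eq_mul, hFd x₁ hx₁]
    exact dvd_mul_right _ _
  have hdvd2 : d ∣ p ^ n := by
    rw [← hcard, Finset.card_eq_sum_card_fiberwise (f := F) (t := Λ.image F)
      (fun x hx => Finset.mem_image_of_mem F hx)]
    apply Finset.dvd_sum
    intro B hB
    obtain ⟨x₁, hx₁, rfl⟩ := Finset.mem_image.mp hB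
    rw [hfib x₁ hx₁, hFd x₁ hx₁]
  obtain ⟨j, -, hj⟩ := (Nat.dvd_prime_pow hp).mp hdvd2
  have hj0 : j = 0 := by
    by_contra hne
    apply hpm
    exact dvd_trans (by rw [hj]; exact dvd_pow_self p hne) hdvd1
  have hd1 : d = 1 := by rw [hj, hj0, pow_zero]
  intro y hy x hx
  have h3 : (F x).card = 1 := by rw [hFd x hx, hd1]
  obtain ⟨a, ha⟩ := Finset.card_eq_one.mp h3
  have h4 : x ∈ F x := hF1 x hx
  have h5 : y • x ∈ F x := (hFdef x _).mpr ⟨hΛ y x hx, y, hy, rfl⟩
  rw [ha, Finset.mem_singleton] at h4 h5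
  exact h5.trans h4.symm

/-- a subgroup of `H / K` from a point stabilizer in a supplement of `K` containing `K ∩ 𝒩` -/
theorem exists_subgroup_index_of_stabilizer {H : Type*} [Group H] (K : Subgroup H) [K.Normal]
    (N : Subgroup H) (hsup : N ⊔ K = ⊤) {X : Type*} [MulAction N X] (x₀ : X)
    (hfix : ∀ y : N, (y : H) ∈ K → y • x₀ = x₀) :
    ∃ M : Subgroup (H ⧸ K), M.index = (MulAction.stabilizer N x₀).index := by
  have hker : ((QuotientGroup.mk' K).comp N.subtype).ker ≤ MulAction.stabilizer N x₀ := by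
    intro y hy
    rw [MonoidHom.mem_ker] at hy
    exact MulAction.mem_stabilizer_iff.mpr (hfix y ((QuotientGroup.eq_one_iff _).mp hy))
  have hsurj : Function.Surjective ((QuotientGroup.mk' K).comp N.subtype) := by
    intro g
    obtain ⟨h, rfl⟩ := QuotientGroup.mk'_surjective K g
    have h1 : h ∈ (N : Set H) * (K : Set H) := by
      rw [← Subgroup.mul_normal, hsup]
      trivial
    obtain ⟨y, hy, k, hk, rfl⟩ := Set.mem_mul.mp h1
    refine ⟨⟨y, hy⟩, ?_⟩
    exact (QuotientGroup.mk'_eq_mk' K).mpr ⟨k, hk, rfl⟩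
  refine ⟨(MulAction.stabilizer N x₀).map ((QuotientGroup.mk' K).comp N.subtype), ?_⟩
  rw [Subgroup.index_map, sup_eq_left.mpr hker, MonoidHom.range_eq_top.mpr hsurj,
    Subgroup.index_top, mul_one]

end perm

section conjact

variable {H : Type*} [Group H]

theorem conj_mem_inf_of_mem_normalizer (S K : Subgroup H)
    (y : Subgroup.normalizer ((S ⊓ K : Subgroup H) : Set H)) (u : K.subgroupOf S) :
    (y : H)⁻¹ * ((u : S) : H) * (y : H) ∈ S ⊓ K :=
  (Subgroup.mem_normalizer_iff''.mp y.2 _).mp ⟨(u : S).2, Subgroup.mem_subgroupOf.mp u.2⟩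

/-- conjugation by an element of the normalizer of `S ⊓ K`, on `K.subgroupOf S` -/
def cjE (S K : Subgroup H) (y : Subgroup.normalizer ((S ⊓ K : Subgroup H) : Set H)) :
    ↥(K.subgroupOf S) ≃* ↥(K.subgroupOf S) where
  toFun u := ⟨⟨(y : H)⁻¹ * ((u : S) : H) * (y : H), (conj_mem_inf_of_mem_normalizer S K y u).1⟩,
    Subgroup.mem_subgroupOf.mpr (conj_mem_inf_of_mem_normalizer S K y u).2⟩
  invFun u := ⟨⟨((y⁻¹ : Subgroup.normalizer ((S ⊓ K : Subgroup H) : Set H)) : H)⁻¹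
      * ((u : S) : H) * ((y⁻¹ : Subgroup.normalizer ((S ⊓ K : Subgroup H) : Set H)) : H),
      (conj_mem_inf_of_mem_normalizer S K y⁻¹ u).1⟩,
    Subgroup.mem_subgroupOf.mpr (conj_mem_inf_of_mem_normalizer S K y⁻¹ u).2⟩
  left_inv u := by
    apply Subtype.ext
    apply Subtype.ext
    simp [mul_assoc]
  right_inv u := by
    apply Subtype.ext
    apply Subtype.ext
    simp [mul_assoc]
  map_mul' u v := by
    apply Subtype.ext
    apply Subtype.ext
    simp [mul_assoc]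

theorem cjE_coe (S K : Subgroup H) (y : Subgroup.normalizer ((S ⊓ K : Subgroup H) : Set H))
    (u : K.subgroupOf S) :
    (((cjE S K y u : K.subgroupOf S) : S) : H) = (y : H)⁻¹ * ((u : S) : H) * (y : H) := rfl

/-- the action of the normalizer of `S ⊓ K` on the functions on `K.subgroupOf S` -/
@[reducible] def cjMulAction (S K : Subgroup H) :
    MulAction (Subgroup.normalizer ((S ⊓ K : Subgroup H) : Set H)) (↥(K.subgroupOf S) → ℂ) where
  smul y η' := η' ∘ cjE S K y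
  one_smul η' := by
    funext u
    show η' (cjE S K 1 u) = η' u
    congr 1
    apply Subtype.ext
    apply Subtype.ext
    rw [cjE_coe]
    simp
  mul_smul y₁ y₂ η' := by
    funext u
    show η' (cjE S K (y₁ * y₂) u) = η' (cjE S K y₂ (cjE S K y₁ u))
    congr 1
    apply Subtype.ext
    apply Subtype.ext
    rw [cjE_coe, cjE_coe, cjE_coe]
    simp [mul_assoc]

end conjact

end Cfsg.Agent.Lib.Helper25
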