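import Mathlib
import Cfsg.Prelude
import Cfsg.Agent.Lib.Helper25.FullyRam8

set_option autoImplicit false

/-!
Fully ramified characters, part 9: from the orbit of characters of `S ∩ K` over `θ` to a
subgroup of `H / K` of `p`-power index.
-/

namespace Cfsg.Agent.Lib.Helper25

open Cfsg Cfsg.Agent.Lib.Helper2
open scoped ComplexConjugate

section index9

variable {H : Type*} [Group H] [Fintype H]

set_option maxHeartbeats 1000000 in
open Classical in
theorem fullyRam_index_of_orbit (Z : Subgroup H) [hZn : Z.Normal] (χ : H → ℂ)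
    (hχ : IsIrrCharacter H χ) (θ : Z → ℂ) (e : ℕ) (he : e ^ 2 = Z.index)
    (hres : ∀ z : Z, χ z = (e : ℂ) * θ z)
    (K : Subgroup H) [hKn : K.Normal] (hZK : Z ≤ K) (p n : ℕ) (hp : p.Prime)
    (S : Subgroup H) (hZS : Z ≤ S)
    (hsup : Subgroup.normalizer ((S ⊓ K : Subgroup H) : Set H) ⊔ K = ⊤)
    (ψ : K → ℂ) (hψ : IsIrrCharacter K ψ)
    (η : K.subgroupOf S → ℂ) (O' : Finset (K.subgroupOf S → ℂ))
    (m : (K.subgroupOf S → ℂ) → ℕ) (hηO : η ∈ O')
    (hOirr : ∀ η' ∈ O', IsIrrCharacter (K.subgroupOf S) η')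
    (hOover : ∀ η' : K.subgroupOf S → ℂ, IsIrrCharacter (K.subgroupOf S) η' →
      (η' ∈ O' ↔ classInner (η' ∘ zToSub hZS hZK) θ ≠ 0))
    (hOorb : ∀ η' : K.subgroupOf S → ℂ,
      η' ∈ O' ↔ ∃ g : S, η' = Helper2.conjFun (K.subgroupOf S) η g)
    (hcard : O'.card = p ^ n) (hpm : ¬ p ∣ ∑ η' ∈ O', m η')
    (hm : ∀ η' : K.subgroupOf S → ℂ, IsIrrCharacter (K.subgroupOf S) η' →
      classInner (ψ ∘ subOfHom K S) η' = m η') :
    ∃ M : Subgroup (H ⧸ K), M.index = p ^ n := by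
  let _ := cjMulAction S K
  have hP1 : ∀ (y : Subgroup.normalizer ((S ⊓ K : Subgroup H) : Set H))
      (η' : K.subgroupOf S → ℂ), IsIrrCharacter (K.subgroupOf S) η' →
      IsIrrCharacter (K.subgroupOf S) (y • η') :=
    fun y η' h => Cfsg.Agent.S1489.isIrrCharacter_comp_iso h (cjE S K y)
  have hP2 : ∀ (y : Subgroup.normalizer ((S ⊓ K : Subgroup H) : Set H))
      (η' : K.subgroupOf S → ℂ),
      classInner ((y • η') ∘ zToSub hZS hZK) θ = classInner (η' ∘ zToSub hZS hZK) θ := by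
    intro y η'
    obtain ⟨cZ, hcZ⟩ : ∃ cZ : ↥Z ≃* ↥Z, ∀ z : Z, ((cZ z : Z) : H) = (y : H)⁻¹ * z * (y : H) :=
      ⟨MulAut.conjNormal ((y : H)⁻¹), by
        intro z
        rw [MulAut.conjNormal_apply, inv_inv]⟩
    have h1 : (y • η') ∘ zToSub hZS hZK = (η' ∘ zToSub hZS hZK) ∘ cZ := by
      funext z
      show η' (cjE S K y (zToSub hZS hZK z)) = η' (zToSub hZS hZK (cZ z))
      congr 1
      apply Subtype.ext
      apply Subtype.ext
      rw [cjE_coe]
      exact (hcZ z).symm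
    have h2 : θ ∘ cZ = θ := by
      funext z
      have h3 := fullyRam_invariant Z χ hχ θ e he hres ((y : H)⁻¹) z
      rw [← h3]
      show θ (cZ z) = _
      congr 1
      apply Subtype.ext
      rw [hcZ z]
      show _ = (y : H)⁻¹ * (z : H) * ((y : H)⁻¹)⁻¹
      rw [inv_inv]
    rw [h1]
    calc classInner ((η' ∘ zToSub hZS hZK) ∘ cZ) θ
        = classInner ((η' ∘ zToSub hZS hZK) ∘ cZ) (θ ∘ cZ) := by rw [h2]
      _ = classInner (η' ∘ zToSub hZS hZK) θ := Cfsg.Agent.S1489.classInner_comp_iso cZ _ _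
  have hSN : ∀ g : S, (g : H)⁻¹ ∈ Subgroup.normalizer ((S ⊓ K : Subgroup H) : Set H) := by
    intro g
    apply Subgroup.inv_mem
    rw [Subgroup.mem_normalizer_iff]
    intro h
    constructor
    · intro hh
      exact ⟨S.mul_mem (S.mul_mem g.2 hh.1) (S.inv_mem g.2), hKn.conj_mem h hh.2 g⟩
    · intro hh
      have h1 : h = (g : H)⁻¹ * ((g : H) * h * (g : H)⁻¹) * (g : H) := by group
      rw [h1]
      refine ⟨S.mul_mem (S.mul_mem (S.inv_mem g.2) hh.1) g.2, ?_⟩
      have h2 := hKn.conj_mem _ hh.2 (g : H)⁻¹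
      rw [inv_inv] at h2
      exact h2
  have hP3 : ∀ (g : S) (η' : K.subgroupOf S → ℂ),
      Helper2.conjFun (K.subgroupOf S) η' g
        = (⟨(g : H)⁻¹, hSN g⟩ : Subgroup.normalizer ((S ⊓ K : Subgroup H) : Set H)) • η' := by
    intro g η'
    funext u
    rw [conjFun_apply]
    show _ = η' (cjE S K _ u)
    congr 1
    apply Subtype.ext
    apply Subtype.ext
    rw [cjE_coe]
    simp
  have hP4 : ∀ (y : Subgroup.normalizer ((S ⊓ K : Subgroup H) : Set H)),
      ∀ η' ∈ O', y • η' ∈ O' := by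
    intro y η' h
    apply (hOover _ (hP1 y η' (hOirr η' h))).mpr
    rw [hP2]
    exact (hOover η' (hOirr η' h)).mp h
  have htrans : ∀ η' ∈ O', ∃ y : Subgroup.normalizer ((S ⊓ K : Subgroup H) : Set H),
      y • η = η' := by
    intro η' h
    obtain ⟨g, rfl⟩ := (hOorb η').mp h
    exact ⟨⟨(g : H)⁻¹, hSN g⟩, (hP3 g η).symm⟩
  have hP5 : ∀ y ∈ K.subgroupOf (Subgroup.normalizer ((S ⊓ K : Subgroup H) : Set H)),
      ∀ η' ∈ O', m (y • η') = m η' := by
    intro y hy η' h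
    have hyK : (y : H) ∈ K := Subgroup.mem_subgroupOf.mp hy
    have hcf := isClassFunction_of_isIrrCharacter hψ
    have h1 : (ψ ∘ subOfHom K S) ∘ cjE S K y = ψ ∘ subOfHom K S := by
      funext u
      show ψ (subOfHom K S (cjE S K y u)) = ψ (subOfHom K S u)
      have h2 : subOfHom K S (cjE S K y u)
          = (⟨(y : H), hyK⟩ : K)⁻¹ * subOfHom K S u * (⟨(y : H), hyK⟩ : K)⁻¹⁻¹ := by
        apply Subtype.ext
        rw [inv_inv]
        rfl
      rw [h2]
      exact hcf _ _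
    have h3 : ((m (y • η') : ℕ) : ℂ) = ((m η' : ℕ) : ℂ) := by
      rw [← hm _ (hP1 y η' (hOirr η' h)), ← hm η' (hOirr η' h)]
      calc classInner (ψ ∘ subOfHom K S) (y • η')
          = classInner ((ψ ∘ subOfHom K S) ∘ cjE S K y) (η' ∘ cjE S K y) := by
            rw [h1]
            rfl
        _ = classInner (ψ ∘ subOfHom K S) η' :=
            Cfsg.Agent.S1489.classInner_comp_iso (cjE S K y) _ _
    exact_mod_cast h3
  have hfixall := perm_trivial_of_weight
    (K.subgroupOf (Subgroup.normalizer ((S ⊓ K : Subgroup H) : Set H))) O' hP4 η hηO htrans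
    p n hp hcard m hP5 hpm
  obtain ⟨M, hM⟩ := exists_subgroup_index_of_stabilizer K
    (Subgroup.normalizer ((S ⊓ K : Subgroup H) : Set H)) hsup η
    (fun y hy => hfixall y (Subgroup.mem_subgroupOf.mpr hy) η hηO)
  refine ⟨M, ?_⟩
  have horb : MulAction.orbit (Subgroup.normalizer ((S ⊓ K : Subgroup H) : Set H)) η
      = (O' : Set (K.subgroupOf S → ℂ)) := by
    ext x
    constructor
    · rintro ⟨y, rfl⟩
      exact hP4 y η hηO
    · intro hx
      obtain ⟨y, hy⟩ := htrans x hx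
      exact ⟨y, hy⟩
  rw [hM, MulAction.index_stabilizer, horb, Set.ncard_coe_finset, hcard]

end index9

end Cfsg.Agent.Lib.Helper25
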