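import Mathlib
import Cfsg.Prelude
import Cfsg.Agent.Lib.Helper25.FullyRam9

set_option autoImplicit false

/-!
Fully ramified characters, part 10: if `χ` is fully ramified over `Z ≤ K`, `K` normal, and the
ramification of `χ` over `K` is prime to `p`, then `H / K` has a subgroup of index the full
`p`-part of `|H / K|` (a `p`-complement).
-/

namespace Cfsg.Agent.Lib.Helper25

open Cfsg Cfsg.Agent.Lib.Helper2
open scoped ComplexConjugate Pointwise

section index10

theorem factorization_of_eq_pow_mul (p : ℕ) (hp : p.Prime) (a n c : ℕ) (h : a = p ^ n * c)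
    (hc : ¬ p ∣ c) : a.factorization p = n := by
  have hc0 : c ≠ 0 := by
    intro h0
    apply hc
    rw [h0]
    exact dvd_zero p
  rw [h, Nat.factorization_mul (pow_ne_zero n hp.ne_zero) hc0, Finsupp.add_apply,
    Nat.Prime.factorization_pow hp, Finsupp.single_eq_same,
    Nat.factorization_eq_zero_of_not_dvd hc, add_zero]

variable {H : Type*} [Group H] [Fintype H]

set_option maxHeartbeats 1000000 in
open Classical in
/-- **`p`-complements in `H / K`** for a fully ramified character whose ramification over `K`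
is prime to `p`. -/
theorem fullyRam_exists_index (Z : Subgroup H) [hZn : Z.Normal] (χ : H → ℂ)
    (hχ : IsIrrCharacter H χ) (θ : Z → ℂ) (hθ : IsIrrCharacter Z θ) (e : ℕ)
    (he : e ^ 2 = Z.index) (hres : ∀ z : Z, χ z = (e : ℂ) * θ z)
    (K : Subgroup H) [hKn : K.Normal] (hZK : Z ≤ K) (p : ℕ) [hp : Fact p.Prime]
    (ψ : K → ℂ) (hψ : IsIrrCharacter K ψ) (f : ℕ)
    (hf : classInner (fun k : K => χ k) ψ = f) (hf0 : f ≠ 0) (hpf : ¬ p ∣ f) :
    ∃ M : Subgroup (H ⧸ K), M.index = p ^ (Nat.card (H ⧸ K)).factorization p := by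
  obtain ⟨Q₀⟩ : Nonempty (Sylow p K) := inferInstance
  have hA₀p : IsPGroup p ((Q₀ : Subgroup K).map K.subtype) :=
    IsPGroup.map Q₀.isPGroup' K.subtype
  obtain ⟨S₁, hS₁⟩ := hA₀p.exists_le_sylow
  obtain ⟨S, hSdef⟩ : ∃ S : Subgroup H, S = (S₁ : Subgroup H) ⊔ Z := ⟨_, rfl⟩
  have hZS : Z ≤ S := by
    rw [hSdef]
    exact le_sup_right
  have hS₁S : (S₁ : Subgroup H) ≤ S := by
    rw [hSdef]
    exact le_sup_left
  have hS₁K : ∀ x : H, x ∈ (S₁ : Subgroup H) → x ∈ K →
      x ∈ (Q₀ : Subgroup K).map K.subtype := by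
    intro x hx hxK
    have h1 : IsPGroup p (((S₁ : Subgroup H) ⊓ K).subgroupOf K) :=
      IsPGroup.comap_subtype (S₁.isPGroup'.to_le inf_le_left)
    have h2 : (Q₀ : Subgroup K) ≤ ((S₁ : Subgroup H) ⊓ K).subgroupOf K := by
      intro k hk
      rw [Subgroup.mem_subgroupOf]
      exact ⟨hS₁ (Subgroup.mem_map_of_mem K.subtype hk), k.2⟩
    have h3 := Q₀.is_maximal' h1 h2
    have h4 : (⟨x, hxK⟩ : K) ∈ ((S₁ : Subgroup H) ⊓ K).subgroupOf K :=
      Subgroup.mem_subgroupOf.mpr ⟨hx, hxK⟩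
    rw [h3] at h4
    exact ⟨⟨x, hxK⟩, h4, rfl⟩
  have hSK : S ⊓ K = (Q₀ : Subgroup K).map K.subtype ⊔ Z := by
    apply le_antisymm
    · rintro x ⟨hxS, hxK⟩
      rw [hSdef] at hxS
      have h1 : x ∈ ((S₁ : Subgroup H) : Set H) * (Z : Set H) := by
        rw [← Subgroup.mul_normal]
        exact hxS
      obtain ⟨s, hs, z, hz, rfl⟩ := Set.mem_mul.mp h1
      have hsK : s ∈ K := by
        have h2 := K.mul_mem hxK (K.inv_mem (hZK hz))
        simpa using h2
      exact Subgroup.mul_mem _ (Subgroup.mem_sup_left (hS₁K s hs hsK))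
        (Subgroup.mem_sup_right hz)
    · apply sup_le
      · intro x hx
        obtain ⟨k, hk, rfl⟩ := Subgroup.mem_map.mp hx
        exact ⟨hS₁S (hS₁ (Subgroup.mem_map_of_mem _ hk)), k.2⟩
      · exact le_inf hZS hZK
  have hfrat := Sylow.normalizer_sup_eq_top Q₀
  have hnorm_le : Subgroup.normalizer
      ((((Q₀ : Subgroup K).map K.subtype : Subgroup H)) : Set H)
      ≤ Subgroup.normalizer ((S ⊓ K : Subgroup H) : Set H) := by
    have key : ∀ y ∈ Subgroup.normalizer
        ((((Q₀ : Subgroup K).map K.subtype : Subgroup H)) : Set H),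
        ∀ x ∈ S ⊓ K, y * x * y⁻¹ ∈ S ⊓ K := by
      intro y hy x hx
      rw [hSK] at hx ⊢
      have h1 : x ∈ ((((Q₀ : Subgroup K).map K.subtype : Subgroup H)) : Set H) * (Z : Set H) := by
        rw [← Subgroup.mul_normal]
        exact hx
      obtain ⟨a, ha, z, hz, rfl⟩ := Set.mem_mul.mp h1
      have h2 : y * (a * z) * y⁻¹ = (y * a * y⁻¹) * (y * z * y⁻¹) := by group
      rw [h2]
      exact Subgroup.mul_mem _
        (Subgroup.mem_sup_left ((Subgroup.mem_normalizer_iff.mp hy a).mp ha))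
        (Subgroup.mem_sup_right (hZn.conj_mem z hz y))
    intro y hy
    rw [Subgroup.mem_normalizer_iff]
    intro x
    constructor
    · exact key y hy x
    · intro hx
      have h3 := key y⁻¹ (Subgroup.inv_mem _ hy) _ hx
      have h4 : y⁻¹ * (y * x * y⁻¹) * y⁻¹⁻¹ = x := by group
      rw [h4] at h3
      exact h3
  have hsup : Subgroup.normalizer ((S ⊓ K : Subgroup H) : Set H) ⊔ K = ⊤ := by
    apply top_le_iff.mp
    rw [← hfrat]
    exact sup_le_sup_right hnorm_le K
  have hpS₁ : ¬ p ∣ (S₁ : Subgroup H).index := S₁.not_dvd_index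
  have hpS : ¬ p ∣ S.index := fun h =>
    hpS₁ (dvd_trans h (Subgroup.index_dvd_of_le hS₁S))
  have hpSK : ¬ p ∣ (S ⊔ K).index := fun h =>
    hpS (dvd_trans h (Subgroup.index_dvd_of_le le_sup_left))
  obtain ⟨b, hb⟩ : ∃ b, Z.relIndex S = p ^ b := by
    have h1 : Z.relIndex S = Z.relIndex (S₁ : Subgroup H) := by
      rw [hSdef, Subgroup.relIndex_sup_right]
    have h2 : Z.relIndex (S₁ : Subgroup H) ∣ Nat.card (S₁ : Subgroup H) :=
      Subgroup.relIndex_dvd_card _ _
    obtain ⟨a, ha⟩ := IsPGroup.iff_card.mp S₁.isPGroup'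
    rw [ha] at h2
    obtain ⟨b, -, hb⟩ := (Nat.dvd_prime_pow hp.out).mp h2
    exact ⟨b, h1.trans hb⟩
  obtain ⟨n, hn⟩ : ∃ n, K.relIndex S = p ^ n := by
    have h1 : K.relIndex S ∣ Z.relIndex S := Subgroup.relIndex_dvd_of_le_left S hZK
    rw [hb] at h1
    obtain ⟨n, -, hn⟩ := (Nat.dvd_prime_pow hp.out).mp h1
    exact ⟨n, hn⟩
  have hKidx : K.index = p ^ n * (S ⊔ K).index := by
    rw [← hn, ← Subgroup.relIndex_sup_right S K]
    exact (Subgroup.relIndex_mul_index le_sup_right).symm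
  have hnfact : (Nat.card (H ⧸ K)).factorization p = n :=
    factorization_of_eq_pow_mul p hp.out _ n _ hKidx hpSK
  have he0 : e ≠ 0 := by
    intro h0
    rw [h0] at he
    apply Subgroup.index_ne_zero_of_finite (H := Z)
    rw [← he]
    norm_num
  have hZidx : Z.index = p ^ b * S.index := by
    rw [← hb]
    exact (Subgroup.relIndex_mul_index hZS).symm
  have hbfact : (Z.index).factorization p = b :=
    factorization_of_eq_pow_mul p hp.out _ b _ hZidx hpS
  have hb2 : b = 2 * e.factorization p := by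
    rw [← hbfact, ← he, Nat.factorization_pow]
    rfl
  have hee : e = p ^ e.factorization p * (e / p ^ e.factorization p) :=
    (Nat.ordProj_mul_ordCompl_eq_self e p).symm
  have hpe' : ¬ p ∣ e / p ^ e.factorization p := Nat.not_dvd_ordCompl hp.out he0
  have hcop : Nat.Coprime (p ^ e.factorization p) (e / p ^ e.factorization p) :=
    Nat.Coprime.pow_left _ (Nat.coprime_ordCompl hp.out he0)
  have hq : (p ^ e.factorization p) ^ 2 = Z.relIndex S := by
    rw [hb, hb2, ← pow_mul, mul_comm]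
  obtain ⟨η, O', m, hη, hηO, hOirr, hOover, hOorb, hcard, hpm, hm⟩ :=
    fullyRam_sylow_orbit Z χ hχ θ hθ e he hres K hZK p n hp.out S hZS
      (p ^ e.factorization p) (e / p ^ e.factorization p) hq hee hcop hpe' hn ψ hψ f hf hf0 hpf
  obtain ⟨M, hM⟩ := fullyRam_index_of_orbit Z χ hχ θ e he hres K hZK p n hp.out S hZS hsup
    ψ hψ η O' m hηO hOirr hOover hOorb hcard hpm hm
  exact ⟨M, by rw [hM, hnfact]⟩

end index10

end Cfsg.Agent.Lib.Helper25
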