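import Mathlib
import Cfsg.Prelude
import Cfsg.Agent.Lib.Helper25.FullyRam10
import Cfsg.Agent.S0006

set_option autoImplicit false

/-!
Fully ramified characters, part 11: if a fully ramified character is induced from a normal
subgroup `K ≥ Z`, then `H / K` is solvable (it has `p`-complements for all primes `p`).
-/

namespace Cfsg.Agent.Lib.Helper25

open Cfsg Cfsg.Agent.Lib.Helper2
open scoped ComplexConjugate

section solv11

variable {H : Type*} [Group H] [Fintype H]

set_option maxHeartbeats 1000000 in
open Classical in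
theorem fullyRam_induced_solvable (Z : Subgroup H) [hZn : Z.Normal] (χ : H → ℂ)
    (hχ : IsIrrCharacter H χ) (θ : Z → ℂ) (hθ : IsIrrCharacter Z θ) (e : ℕ)
    (he : e ^ 2 = Z.index) (hres : ∀ z : Z, χ z = (e : ℂ) * θ z)
    (K : Subgroup H) [hKn : K.Normal] (hZK : Z ≤ K) (φ : K → ℂ) (hφ : IsCharacter K φ)
    (hind : indFun K φ = χ) : Group.IsSolvable (H ⧸ K) := by
  have hχK : IsCharacter K (fun k : K => χ k) :=
    IsCharacter.restrict (isCharacter_of_isIrrCharacter hχ) K
  have hχK0 : (fun k : K => χ k) ≠ 0 := by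
    intro h0
    exact irr_one_ne_zero hχ (congrFun h0 1)
  obtain ⟨ψ, hψ, hcon⟩ := exists_irr_constituent hχK hχK0
  obtain ⟨f, hf⟩ := classInner_isCharacter_nat hχK (isCharacter_of_isIrrCharacter hψ)
  have hf0 : f ≠ 0 := by
    intro h0
    rw [hf, h0] at hcon
    exact hcon (by simp)
  have hf1 : f = 1 := by
    have h1 : classInner φ (fun k : K => χ k) = 1 := by
      rw [← frobenius_reciprocity K φ χ (isClassFunction_of_isIrrCharacter hχ), hind,
        classInner_irr_self hχ]
    have : Fintype (IrrCharacter K) := Fintype.ofFinite _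
    choose c hc using fun ψ' : IrrCharacter K =>
      classInner_isCharacter_nat hφ (isCharacter_of_isIrrCharacter ψ'.2)
    have hexp := class_fun_expand φ (isClassFunction_of_isCharacter hφ)
    have h2 : classInner φ (fun k : K => χ k)
        = ∑ ψ' : IrrCharacter K, (c ψ' : ℂ) * classInner ψ'.1 (fun k : K => χ k) := by
      conv_lhs => rw [hexp]
      rw [classInner_sum_left]
      apply Finset.sum_congr rfl
      intro ψ' _
      rw [classInner_smul_left, hc ψ']
    have h3 : ∀ ψ' : IrrCharacter K, ∃ d : ℕ,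
        classInner ψ'.1 (fun k : K => χ k) = ((f * d : ℕ) : ℂ) := by
      intro ψ'
      by_cases h : ∃ g : H, ψ'.1 = Helper2.conjFun K ψ g
      · obtain ⟨g, hg⟩ := h
        refine ⟨1, ?_⟩
        rw [← classInner_conj_symm, hg,
          classInner_restrict_conjFun K (isClassFunction_of_isIrrCharacter hχ) ψ g, hf]
        simp
      · refine ⟨0, ?_⟩
        push Not at h
        rw [← classInner_conj_symm, clifford_conj K hχ hψ hcon ψ'.2 h]
        simp
    choose d hd using h3
    have h4 : ((f * ∑ ψ' : IrrCharacter K, c ψ' * d ψ' : ℕ) : ℂ) = 1 := by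
      rw [← h1, h2]
      push_cast
      rw [Finset.mul_sum]
      apply Finset.sum_congr rfl
      intro ψ' _
      rw [hd ψ']
      push_cast
      ring
    have h5 : f * ∑ ψ' : IrrCharacter K, c ψ' * d ψ' = 1 := by exact_mod_cast h4
    exact Nat.dvd_one.mp ⟨_, h5.symm⟩
  apply Cfsg.Agent.S0006.result
  intro p hp
  have : Fact p.Prime := ⟨hp⟩
  exact fullyRam_exists_index Z χ hχ θ hθ e he hres K hZK p ψ hψ f hf hf0 (by
    rw [hf1]
    exact hp.not_dvd_one)

end solv11

end Cfsg.Agent.Lib.Helper25
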