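import Mathlib
import Cfsg.Prelude
import Cfsg.Agent.Lib.Helper25.FullyRam10
import Cfsg.Agent.S0886

set_option autoImplicit false

/-!
Fully ramified characters, part 12: if all `p`-subgroups of `H / K` are cyclic, then the
ramification of a fully ramified character over `K` is prime to `p`.
-/

namespace Cfsg.Agent.Lib.Helper25

open Cfsg Cfsg.Agent.Lib.Helper2
open scoped ComplexConjugate

section ramcop

variable {H : Type*} [Group H]

/-- extension of an invariant irreducible character over a cyclic quotient, in relative form -/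
theorem exists_ext_of_cyclic [Finite H] (Z U : Subgroup H) (hZU : Z ≤ U) {A : Type*} [Group A]
    (hcyc : IsCyclic A) (f : U →* A) (hsurj : Function.Surjective f)
    (hker : ∀ u : U, f u = 1 ↔ (u : H) ∈ Z) (θ : Z → ℂ) (hθ : IsIrrCharacter Z θ)
    (hinv : ∀ (u : U) (z z' : Z), (z' : H) = u * z * (u : H)⁻¹ → θ z' = θ z) :
    ∃ η : U → ℂ, IsIrrCharacter U η ∧ ∀ z : Z, η ⟨z, hZU z.2⟩ = θ z := by
  classical
  have : Fintype H := Fintype.ofFinite H
  have hkerZ : ∀ n : f.ker, ((n : U) : H) ∈ Z := fun n =>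
    (hker n).mp (MonoidHom.mem_ker.mp n.2)
  let ι : f.ker →* Z :=
    { toFun := fun n => ⟨((n : U) : H), hkerZ n⟩
      map_one' := rfl
      map_mul' := fun _ _ => rfl }
  have hιbij : Function.Bijective ι := by
    constructor
    · intro a b hab
      apply Subtype.ext
      apply Subtype.ext
      have h1 := congrArg Subtype.val hab
      exact h1
    · intro z
      refine ⟨⟨⟨z, hZU z.2⟩, ?_⟩, ?_⟩
      · rw [MonoidHom.mem_ker]
        exact (hker _).mpr z.2
      · rfl
  let ε : f.ker ≃* Z := MulEquiv.ofBijective ι hιbij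
  have hϑ : IsIrrCharacter f.ker (θ ∘ ε) := Cfsg.Agent.S1489.isIrrCharacter_comp_iso hθ ε
  have hcycQ : IsCyclic (U ⧸ f.ker) := by
    have e1 := QuotientGroup.quotientKerEquivOfSurjective f hsurj
    exact isCyclic_of_surjective e1.symm e1.symm.surjective
  obtain ⟨η, hη, hηext⟩ := Cfsg.Agent.S0886.result f.ker hcycQ (θ ∘ ε) hϑ (by
    intro u n
    exact hinv u (ε n) _ rfl)
  refine ⟨η, hη, ?_⟩
  intro z
  have hzk : (⟨z, hZU z.2⟩ : U) ∈ f.ker := by
    rw [MonoidHom.mem_ker]
    exact (hker _).mpr z.2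
  have h1 := hηext ⟨⟨z, hZU z.2⟩, hzk⟩
  have h2 : ε ⟨⟨z, hZU z.2⟩, hzk⟩ = z := Subtype.ext rfl
  rw [Function.comp_apply, h2] at h1
  exact h1

/-- the conjugation action of `H` on the functions on a normal subgroup -/
@[reducible] noncomputable def conjFunAction (K : Subgroup H) [K.Normal] : MulAction H (K → ℂ) where
  smul h ψ' := Helper2.conjFun K ψ' h⁻¹
  one_smul ψ' := by
    show Helper2.conjFun K ψ' 1⁻¹ = ψ'
    funext k
    rw [conjFun_apply]
    congr 1
    apply Subtype.ext
    simp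
  mul_smul g h ψ' := by
    show Helper2.conjFun K ψ' (g * h)⁻¹ = Helper2.conjFun K (Helper2.conjFun K ψ' h⁻¹) g⁻¹
    rw [mul_inv_rev, conjFun_mul]

end ramcop

end Cfsg.Agent.Lib.Helper25
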