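import Mathlib
import Cfsg.Prelude
import Cfsg.Agent.Lib.Helper25.FullyRam12

set_option autoImplicit false

/-!
Fully ramified characters, part 13: if all `p`-subgroups of `H / K` are cyclic, then the
ramification of a fully ramified character over `K` is prime to `p`.
-/

namespace Cfsg.Agent.Lib.Helper25

open Cfsg Cfsg.Agent.Lib.Helper2
open scoped ComplexConjugate

section ramcop13

variable {H : Type*} [Group H] [Fintype H]

set_option maxHeartbeats 1000000 in
open Classical in
theorem fullyRam_ram_coprime (Z : Subgroup H) [hZn : Z.Normal] (χ : H → ℂ)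
    (hχ : IsIrrCharacter H χ) (θ : Z → ℂ) (hθ : IsIrrCharacter Z θ) (e : ℕ)
    (he : e ^ 2 = Z.index) (hres : ∀ z : Z, χ z = (e : ℂ) * θ z)
    (K : Subgroup H) [hKn : K.Normal] (hZK : Z ≤ K) (p : ℕ) [hp : Fact p.Prime]
    (hcycp : ∀ A : Subgroup (H ⧸ K), IsPGroup p A → IsCyclic A)
    (ψ : K → ℂ) (hψ : IsIrrCharacter K ψ) (f : ℕ)
    (hf : classInner (fun k : K => χ k) ψ = f) (hf0 : f ≠ 0) : ¬ p ∣ f := by
  let _ := conjFunAction K
  obtain ⟨O, hO⟩ : ∃ O : Finset (K → ℂ), ∀ ψ',
      ψ' ∈ O ↔ ∃ g : H, ψ' = Helper2.conjFun K ψ g :=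
    ⟨Finset.univ.image (fun g : H => Helper2.conjFun K ψ g), by
      intro ψ'
      simp [eq_comm]⟩
  obtain ⟨hA1, hA2, -⟩ := fullyRam_clifford Z χ hχ θ hθ e he hres K hZK ψ hψ f hf hf0 O hO
  obtain ⟨T, hTdef⟩ : ∃ T : Subgroup H, T = MulAction.stabilizer H ψ := ⟨_, rfl⟩
  have hTmem : ∀ h : H, h ∈ T ↔ Helper2.conjFun K ψ h⁻¹ = ψ := by
    intro h
    rw [hTdef]
    exact MulAction.mem_stabilizer_iff
  have hTconj : ∀ h ∈ T, Helper2.conjFun K ψ h = ψ := by
    intro h hh
    have h1 := (hTmem h⁻¹).mp (T.inv_mem hh)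
    rwa [inv_inv] at h1
  have hKT : K ≤ T := by
    intro k hk
    rw [hTmem]
    exact conjFun_of_mem K (isClassFunction_of_isIrrCharacter hψ) (K.inv_mem hk)
  have hψO : ψ ∈ O := (hO ψ).mpr ⟨1, by
    funext k
    rw [conjFun_apply]
    congr 1
    apply Subtype.ext
    simp⟩
  have hO0 : 0 < O.card := Finset.card_pos.mpr ⟨ψ, hψO⟩
  have hTidx : T.index = O.card := by
    rw [hTdef, MulAction.index_stabilizer]
    have horb : MulAction.orbit H ψ = (O : Set (K → ℂ)) := by
      ext x
      constructor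
      · rintro ⟨h, rfl⟩
        exact (hO _).mpr ⟨h⁻¹, rfl⟩
      · intro hx
        obtain ⟨g, rfl⟩ := (hO x).mp hx
        refine ⟨g⁻¹, ?_⟩
        show Helper2.conjFun K ψ g⁻¹⁻¹ = _
        rw [inv_inv]
    rw [horb, Set.ncard_coe_finset]
  have hf2 : f ^ 2 = K.relIndex T := by
    have h1 : K.relIndex T * T.index = K.index := Subgroup.relIndex_mul_index hKT
    rw [hTidx, ← hA1] at h1
    exact (Nat.eq_of_mul_eq_mul_right hO0 h1).symm
  obtain ⟨R⟩ : Nonempty (Sylow p (T.map (QuotientGroup.mk' K))) := inferInstance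
  obtain ⟨A, hAdef⟩ : ∃ A : Subgroup (H ⧸ K),
      A = (R : Subgroup (T.map (QuotientGroup.mk' K))).map (Subgroup.subtype _) := ⟨_, rfl⟩
  have hAp : IsPGroup p A := by
    rw [hAdef]
    exact IsPGroup.map R.isPGroup' _
  have hAcyc : IsCyclic A := hcycp A hAp
  have hTcard : Nat.card (T.map (QuotientGroup.mk' K)) = f ^ 2 := by
    have h1 := Subgroup.relIndex_ker (QuotientGroup.mk' K) (K := T)
    rw [QuotientGroup.ker_mk'] at h1
    rw [← h1, hf2]
  have hAcard : Nat.card A = p ^ (f ^ 2).factorization p := by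
    rw [hAdef, Subgroup.card_map_of_injective (Subgroup.subtype_injective _),
      Sylow.card_eq_multiplicity, hTcard]
  have hKL : K ≤ A.comap (QuotientGroup.mk' K) := by
    intro k hk
    rw [Subgroup.mem_comap]
    have h1 : (QuotientGroup.mk' K) k = 1 := (QuotientGroup.eq_one_iff k).mpr hk
    rw [h1]
    exact A.one_mem
  have hLT : A.comap (QuotientGroup.mk' K) ≤ T := by
    intro x hx
    rw [Subgroup.mem_comap, hAdef] at hx
    obtain ⟨r, hr, hrx⟩ := Subgroup.mem_map.mp hx
    obtain ⟨t, ht, htr⟩ := Subgroup.mem_map.mp r.2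
    have h1 : (QuotientGroup.mk' K) t = (QuotientGroup.mk' K) x := by
      rw [htr]
      exact hrx
    obtain ⟨k, hk, hkx⟩ := (QuotientGroup.mk'_eq_mk' K).mp h1
    rw [← hkx]
    exact T.mul_mem ht (hKT hk)
  have hLidx : K.relIndex (A.comap (QuotientGroup.mk' K)) = p ^ (f ^ 2).factorization p := by
    have h1 := Subgroup.relIndex_ker (QuotientGroup.mk' K)
      (K := A.comap (QuotientGroup.mk' K))
    rw [QuotientGroup.ker_mk', Subgroup.map_comap_eq_self_of_surjective
      (QuotientGroup.mk'_surjective K) A, hAcard] at h1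
    exact h1
  obtain ⟨ψh, hψh, hψhext⟩ := exists_ext_of_cyclic K (A.comap (QuotientGroup.mk' K)) hKL hAcyc
    ((QuotientGroup.mk' K).subgroupComap A)
    (MonoidHom.subgroupComap_surjective_of_surjective (QuotientGroup.mk' K) A
      (QuotientGroup.mk'_surjective K))
    (by
      intro u
      constructor
      · intro h
        exact (QuotientGroup.eq_one_iff (u : H)).mp (congrArg Subtype.val h)
      · intro h
        exact Subtype.ext ((QuotientGroup.eq_one_iff (u : H)).mpr h))
    ψ hψ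
    (by
      intro u z z' hz'
      have h1 := congrFun (hTconj (u : H) (hLT u.2)) z
      rw [conjFun_apply] at h1
      rw [← h1]
      congr 1
      exact Subtype.ext hz')
  have hχL : IsCharacter (A.comap (QuotientGroup.mk' K))
      (fun l : A.comap (QuotientGroup.mk' K) => χ l) :=
    IsCharacter.restrict (isCharacter_of_isIrrCharacter hχ) _
  obtain ⟨c, hc⟩ := classInner_isCharacter_nat hχL (isCharacter_of_isIrrCharacter hψh)
  have hkey := fullyRam_inner Z χ hχ θ hθ e he hres (A.comap (QuotientGroup.mk' K))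
    (hZK.trans hKL) ψh
  have hcon : classInner (fun k : K => χ k) ψ ≠ 0 := by
    rw [hf]
    exact_mod_cast hf0
  obtain ⟨a, ha⟩ := fullyRam_below Z χ hχ θ hθ e hres K hZK ψ hψ hcon
  have h1 : (fun z : Z => ψh ⟨z, (hZK.trans hKL) z.2⟩) = (a : ℂ) • θ := by
    rw [← ha]
    funext z
    exact hψhext ⟨z, hZK z.2⟩
  rw [h1, classInner_smul_left, classInner_irr_self hθ, mul_one, ← classInner_conj_symm, hc,
    Complex.conj_natCast] at hkey
  have hL0 : (Nat.card (A.comap (QuotientGroup.mk' K)) : ℂ) ≠ 0 := card_ne_zero_complex _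
  have hcL : c * Nat.card (A.comap (QuotientGroup.mk' K)) = e * Nat.card Z * a := by
    have h3 : (c : ℂ) * (Nat.card (A.comap (QuotientGroup.mk' K)) : ℂ)
        = (e : ℂ) * Nat.card Z * a := by
      rw [hkey]
      field_simp
    exact_mod_cast h3
  have hθ1 : θ 1 ≠ 0 := irr_one_ne_zero hθ
  have hψ1 : ψ 1 = (a : ℂ) * θ 1 := by
    have h4 := congrFun ha 1
    simpa using h4
  have ha0 : a ≠ 0 := by
    intro h0
    rw [h0] at hψ1
    simp only [Nat.cast_zero, zero_mul] at hψ1
    exact irr_one_ne_zero hψ hψ1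
  have hχ1 : χ 1 = (e : ℂ) * θ 1 := hres 1
  have heq : e = f * O.card * a := by
    have h4 : (e : ℂ) * θ 1 = ((f * O.card * a : ℕ) : ℂ) * θ 1 := by
      calc (e : ℂ) * θ 1 = χ 1 := hχ1.symm
        _ = (f : ℂ) * O.card * ψ 1 := hA2
        _ = ((f * O.card * a : ℕ) : ℂ) * θ 1 := by
          rw [hψ1]
          push_cast
          ring
    exact_mod_cast mul_right_cancel₀ hθ1 h4
  have hfpos : 0 < f ^ 2 * O.card := Nat.mul_pos (pow_pos (Nat.pos_of_ne_zero hf0) 2) hO0
  have hNa : O.card * a ^ 2 = Z.relIndex K := by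
    have h5 : Z.relIndex K * K.index = Z.index := Subgroup.relIndex_mul_index hZK
    rw [← he, ← hA1, heq] at h5
    have h6 : (O.card * a ^ 2) * (f ^ 2 * O.card) = Z.relIndex K * (f ^ 2 * O.card) := by
      rw [h5]
      ring
    exact Nat.eq_of_mul_eq_mul_right hfpos h6
  have hcf : c * p ^ (f ^ 2).factorization p = f := by
    have hcardL : Nat.card (A.comap (QuotientGroup.mk' K))
        = p ^ (f ^ 2).factorization p * Nat.card K := by
      rw [card_eq_relIndex_mul_card hKL, hLidx]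
    have hcardK : Nat.card K = Z.relIndex K * Nat.card Z := card_eq_relIndex_mul_card hZK
    rw [hcardL, hcardK, ← hNa, heq] at hcL
    have hpos : 0 < O.card * a ^ 2 * Nat.card Z :=
      Nat.mul_pos (Nat.mul_pos hO0 (pow_pos (Nat.pos_of_ne_zero ha0) 2)) Nat.card_pos
    have h7 : (c * p ^ (f ^ 2).factorization p) * (O.card * a ^ 2 * Nat.card Z)
        = f * (O.card * a ^ 2 * Nat.card Z) := by
      calc (c * p ^ (f ^ 2).factorization p) * (O.card * a ^ 2 * Nat.card Z)
          = c * (p ^ (f ^ 2).factorization p * (O.card * a ^ 2 * Nat.card Z)) := by ring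
        _ = f * O.card * a * Nat.card Z * a := hcL
        _ = f * (O.card * a ^ 2 * Nat.card Z) := by ring
    exact Nat.eq_of_mul_eq_mul_right hpos h7
  intro hpdvd
  have hv : 0 < f.factorization p := hp.out.factorization_pos_of_dvd hf0 hpdvd
  have h8 : p ^ (f ^ 2).factorization p ∣ f := Dvd.intro_left c hcf
  have h9 := (hp.out.pow_dvd_iff_le_factorization hf0).mp h8
  rw [Nat.factorization_pow] at h9
  simp only [Finsupp.smul_apply, smul_eq_mul] at h9
  omega

end ramcop13

end Cfsg.Agent.Lib.Helper25
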