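import Mathlib
import Cfsg.Prelude
import Cfsg.Agent.Lib.Helper25.FullyRam13

set_option autoImplicit false

/-!
Fully ramified characters, part 14: a cyclic Sylow `p`-subgroup of `H / K` has a complement.
-/

namespace Cfsg.Agent.Lib.Helper25

open Cfsg Cfsg.Agent.Lib.Helper2
open scoped ComplexConjugate

section compl14

variable {H : Type*} [Group H] [Fintype H]

set_option maxHeartbeats 1000000 in
open Classical in
theorem fullyRam_cyclic_sylow_complement (Z : Subgroup H) [hZn : Z.Normal] (χ : H → ℂ)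
    (hχ : IsIrrCharacter H χ) (θ : Z → ℂ) (hθ : IsIrrCharacter Z θ) (e : ℕ)
    (he : e ^ 2 = Z.index) (hres : ∀ z : Z, χ z = (e : ℂ) * θ z)
    (K : Subgroup H) [hKn : K.Normal] (hZK : Z ≤ K) (p : ℕ) [hp : Fact p.Prime]
    (P : Sylow p (H ⧸ K)) (hcyc : IsCyclic P) :
    ∃ M : Subgroup (H ⧸ K), M.IsComplement' (P : Subgroup (H ⧸ K)) := by
  have hcycp : ∀ A : Subgroup (H ⧸ K), IsPGroup p A → IsCyclic A := by
    intro A hA
    obtain ⟨Q, hQ⟩ := hA.exists_le_sylow
    obtain ⟨g, rfl⟩ := MulAction.exists_smul_eq (H ⧸ K) P Q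
    have h1 : IsCyclic ↥(g • P : Sylow p (H ⧸ K)) := (Sylow.equivSMul P g).isCyclic.mp hcyc
    exact Subgroup.isCyclic_of_le hQ
  have hχK : IsCharacter K (fun k : K => χ k) :=
    IsCharacter.restrict (isCharacter_of_isIrrCharacter hχ) K
  have hχK0 : (fun k : K => χ k) ≠ 0 := by
    intro h0
    exact irr_one_ne_zero hχ (congrFun h0 1)
  obtain ⟨ψ, hψ, hcon⟩ := exists_irr_constituent hχK hχK0
  obtain ⟨f, hf⟩ := classInner_isCharacter_nat hχK (isCharacter_of_isIrrCharacter hψ)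
  have hf0 : f ≠ 0 := by
    intro h0
    rw [hf, h0] at hcon
    exact hcon (by simp)
  have hpf := fullyRam_ram_coprime Z χ hχ θ hθ e he hres K hZK p hcycp ψ hψ f hf hf0
  obtain ⟨M, hM⟩ := fullyRam_exists_index Z χ hχ θ hθ e he hres K hZK p ψ hψ f hf hf0 hpf
  refine ⟨M, ?_⟩
  have hPcard : Nat.card P = p ^ (Nat.card (H ⧸ K)).factorization p :=
    Sylow.card_eq_multiplicity P
  have h1 : Nat.card M * Nat.card (P : Subgroup (H ⧸ K)) = Nat.card (H ⧸ K) := by
    rw [hPcard, ← hM]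
    exact Subgroup.card_mul_index M
  apply Subgroup.isComplement'_of_coprime h1
  rw [hPcard]
  apply Nat.Coprime.pow_right
  rw [Nat.coprime_comm, Nat.Prime.coprime_iff_not_dvd hp.out]
  intro hdvd
  obtain ⟨c, hc⟩ := hdvd
  have h2 : p ^ ((Nat.card (H ⧸ K)).factorization p + 1)
      ∣ Nat.card M * Nat.card (P : Subgroup (H ⧸ K)) := by
    rw [hPcard, hc]
    exact ⟨c, by ring⟩
  rw [h1] at h2
  exact Nat.pow_succ_factorization_not_dvd (Nat.card_pos.ne') hp.out h2

end compl14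

end Cfsg.Agent.Lib.Helper25
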