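import Mathlib
import Cfsg.Prelude
import Cfsg.Agent.Lib.Helper25.FullyRam

set_option autoImplicit false

/-!
Fully ramified characters, part 2: `H / Z` has no self-centralizing cyclic subgroup.
-/

namespace Cfsg.Agent.Lib.Helper25

open Cfsg Cfsg.Agent.Lib.Helper2
open scoped ComplexConjugate

section fullyRam2

variable {H : Type*} [Group H] [Fintype H]

/-- the core contradiction: an irreducible character `η` of `U`, all of whose twists by
characters of the abelian quotient `A` of `U` induce to functions vanishing off the kernel,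
cannot exist when some coset is "self-centralizing". -/
theorem fullyRam_core {A : Type*} [Group A] [Finite A] [DecidableEq A]
    (hcomm : ∀ a b : A, a * b = b * a)
    (U : Subgroup H) [Fintype U] (f : U →* A) (η : U → ℂ) (hη : IsIrrCharacter U η)
    (hind : ∀ φ : A →* ℂˣ, ∀ u : U, f u ≠ 1 →
      indFun U (fun v : U => ((φ (f v) : ℂˣ) : ℂ) * η v) (u : H) = 0)
    (hnorm : (Nat.card A : ℂ) * ∑ u : U, (if f u = 1 then η u * conj (η u) else 0)
      = (Nat.card U : ℂ))
    (c : U) (hc : f c ≠ 1)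
    (hcent : ∀ u : U, f u = f c → ∀ x : H, ∀ hx : x⁻¹ * (u : H) * x ∈ U,
      f ⟨x⁻¹ * (u : H) * x, hx⟩ = f c → x ∈ U) : False := by
  classical
  have : Fintype (A →* ℂˣ) := Fintype.ofFinite _
  have hN : (Fintype.card (A →* ℂˣ) : ℂ) = (Nat.card A : ℂ) := by
    let _ : CommGroup A := { (inferInstance : Group A) with mul_comm := hcomm }
    have : NeZero ((Monoid.exponent A : ℕ) : ℂ) :=
      ⟨by exact_mod_cast Monoid.exponent_ne_zero_of_finite⟩
    rw [← Nat.card_eq_fintype_card, CommGroup.card_monoidHom_of_hasEnoughRootsOfUnity A ℂ]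
  have hN0 : (Nat.card A : ℂ) ≠ 0 := card_ne_zero_complex A
  have hU0 : (Nat.card U : ℂ) ≠ 0 := card_ne_zero_complex U
  have htw : ∀ (a b : A) (t : ℂ),
      ∑ φ : A →* ℂˣ, ((φ a⁻¹ : ℂˣ) : ℂ) * (((φ b : ℂˣ) : ℂ) * t)
        = if b = a then (Nat.card A : ℂ) * t else 0 := by
    intro a b t
    have h1 : ∀ φ : A →* ℂˣ, ((φ a⁻¹ : ℂˣ) : ℂ) * (((φ b : ℂˣ) : ℂ) * t)
        = ((φ (a⁻¹ * b) : ℂˣ) : ℂ) * t := by
      intro φ
      rw [map_mul, Units.val_mul]; ring
    simp only [h1]
    rw [← Finset.sum_mul]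
    split_ifs with hab
    · rw [hab, inv_mul_cancel]
      simp only [map_one, Units.val_one, Finset.sum_const, Finset.card_univ, nsmul_eq_mul,
        mul_one]
      rw [hN]
    · rw [sum_hom_eq_zero hcomm (x := a⁻¹ * b), zero_mul]
      intro h0
      apply hab
      rw [inv_mul_eq_one] at h0
      exact h0.symm
  have hηcf := isClassFunction_of_isIrrCharacter hη
  -- Step 1: η vanishes on the coset of c
  have hvan : ∀ u : U, f u = f c → η u = 0 := by
    intro u hu
    have hfu : f u ≠ 1 := by rw [hu]; exact hc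
    have h1 : ∑ φ : A →* ℂˣ, ((φ (f c)⁻¹ : ℂˣ) : ℂ) * ∑ x : H,
        extendByZero U (fun v : U => ((φ (f v) : ℂˣ) : ℂ) * η v) (x⁻¹ * (u : H) * x) = 0 := by
      apply Finset.sum_eq_zero
      intro φ _
      have h2 := hind φ u hfu
      rw [indFun_apply] at h2
      rcases mul_eq_zero.mp h2 with h3 | h3
      · exact absurd (inv_eq_zero.mp h3) hU0
      · rw [h3, mul_zero]
    simp only [Finset.mul_sum] at h1
    rw [Finset.sum_comm] at h1
    have h4 : ∀ x : H, ∑ φ : A →* ℂˣ, ((φ (f c)⁻¹ : ℂˣ) : ℂ) *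
        extendByZero U (fun v : U => ((φ (f v) : ℂˣ) : ℂ) * η v) (x⁻¹ * (u : H) * x)
          = if x ∈ U then (Nat.card A : ℂ) * η u else 0 := by
      intro x
      by_cases hx : x⁻¹ * (u : H) * x ∈ U
      · simp only [extendByZero_of_mem U _ hx]
        rw [htw]
        by_cases hxU : x ∈ U
        · have h5 : (⟨x⁻¹ * (u : H) * x, hx⟩ : U)
              = (⟨x, hxU⟩ : U)⁻¹ * u * (⟨x, hxU⟩ : U)⁻¹⁻¹ := by
            apply Subtype.ext
            simp
          have h6 : f ⟨x⁻¹ * (u : H) * x, hx⟩ = f c := by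
            rw [h5, map_mul, map_mul, hcomm (f _) (f u), mul_assoc, ← map_mul,
              mul_inv_cancel, map_one, mul_one]
            exact hu
          rw [if_pos h6, if_pos hxU, h5, hηcf u _]
        · have h6 : f ⟨x⁻¹ * (u : H) * x, hx⟩ ≠ f c := fun h => hxU (hcent u hu x hx h)
          rw [if_neg h6, if_neg hxU]
      · simp only [extendByZero_of_not_mem U _ hx, mul_zero, Finset.sum_const_zero]
        have hxU : x ∉ U := by
          intro hxU
          apply hx
          exact U.mul_mem (U.mul_mem (U.inv_mem hxU) u.2) hxU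
        rw [if_neg hxU]
    simp only [h4] at h1
    rw [← Finset.sum_filter, Finset.sum_const, nsmul_eq_mul] at h1
    rcases mul_eq_zero.mp h1 with h7 | h7
    · exfalso
      have h8 : (Finset.univ.filter (· ∈ U)).card ≠ 0 :=
        Finset.card_ne_zero.mpr ⟨1, by simp [U.one_mem]⟩
      exact h8 (by exact_mod_cast h7)
    · rcases mul_eq_zero.mp h7 with h8 | h8
      · exact absurd h8 hN0
      · exact h8
  -- Step 2: inner products of the twists with η
  have hS : ∀ φ : A →* ℂˣ, classInner (fun v : U => ((φ (f v) : ℂˣ) : ℂ) * η v) η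
      = if (fun v : U => ((φ (f v) : ℂˣ) : ℂ) * η v) = η then 1 else 0 := by
    intro φ
    have h1 := isIrrCharacter_hom_mul (φ.comp f) hη
    exact classInner_irr h1 hη
  have hsumS : ∀ a : A, ∑ φ : A →* ℂˣ, ((φ a⁻¹ : ℂˣ) : ℂ) *
      classInner (fun v : U => ((φ (f v) : ℂˣ) : ℂ) * η v) η
      = (Nat.card U : ℂ)⁻¹ * ((Nat.card A : ℂ) *
          ∑ u : U, if f u = a then η u * conj (η u) else 0) := by
    intro a
    have h1 : ∀ φ : A →* ℂˣ, ((φ a⁻¹ : ℂˣ) : ℂ) *
        classInner (fun v : U => ((φ (f v) : ℂˣ) : ℂ) * η v) η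
        = (Nat.card U : ℂ)⁻¹ * ∑ u : U, ((φ a⁻¹ : ℂˣ) : ℂ) *
            (((φ (f u) : ℂˣ) : ℂ) * (η u * conj (η u))) := by
      intro φ
      unfold classInner
      rw [Finset.mul_sum, Finset.mul_sum, Finset.mul_sum]
      apply Finset.sum_congr rfl
      intro u _
      beta_reduce
      ring
    rw [Finset.sum_congr rfl (fun φ _ => h1 φ), ← Finset.mul_sum, Finset.sum_comm]
    congr 1
    rw [Finset.sum_congr rfl (fun u _ => htw a (f u) _), Finset.mul_sum]
    apply Finset.sum_congr rfl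
    intro u _
    split_ifs <;> simp
  have hS1 : classInner (fun v : U => (((1 : A →* ℂˣ) (f v) : ℂˣ) : ℂ) * η v) η = 1 := by
    have h1 : (fun v : U => (((1 : A →* ℂˣ) (f v) : ℂˣ) : ℂ) * η v) = η := by
      funext v
      simp
    rw [h1]
    exact classInner_irr_self hη
  have hsum1 := hsumS 1
  simp only [inv_one, map_one, Units.val_one, one_mul] at hsum1
  rw [hnorm, inv_mul_cancel₀ hU0] at hsum1
  obtain ⟨t, ht⟩ : ∃ t : (A →* ℂˣ) → ℕ, ∀ φ,
      classInner (fun v : U => ((φ (f v) : ℂˣ) : ℂ) * η v) η = (t φ : ℂ) := by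
    refine ⟨fun φ => if (fun v : U => ((φ (f v) : ℂˣ) : ℂ) * η v) = η then 1 else 0,
      fun φ => ?_⟩
    rw [hS φ]
    by_cases h : (fun v : U => ((φ (f v) : ℂˣ) : ℂ) * η v) = η
    · simp [h]
    · simp [h]
  have ht1 : t 1 = 1 := by
    have h1 := ht 1
    rw [hS1] at h1
    exact_mod_cast h1.symm
  have htsum : ∑ φ : A →* ℂˣ, t φ = 1 := by
    have h1 : ((∑ φ : A →* ℂˣ, t φ : ℕ) : ℂ) = 1 := by
      rw [Nat.cast_sum, ← hsum1]
      apply Finset.sum_congr rfl
      intro φ _
      rw [ht φ]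
    exact_mod_cast h1
  have htz : ∀ φ : A →* ℂˣ, φ ≠ 1 → t φ = 0 := by
    intro φ hφ
    have h1 : t 1 + ∑ ψ ∈ Finset.univ.erase (1 : A →* ℂˣ), t ψ = ∑ ψ : A →* ℂˣ, t ψ :=
      Finset.add_sum_erase Finset.univ t (Finset.mem_univ (1 : A →* ℂˣ))
    have h2 : ∑ ψ ∈ Finset.univ.erase (1 : A →* ℂˣ), t ψ = 0 := by omega
    exact Finset.sum_eq_zero_iff.mp h2 φ (Finset.mem_erase.mpr ⟨hφ, Finset.mem_univ _⟩)
  have hfin := hsumS (f c)
  have hz : ∑ u : U, (if f u = f c then η u * conj (η u) else 0) = 0 := by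
    apply Finset.sum_eq_zero
    intro u _
    split_ifs with h
    · rw [hvan u h, zero_mul]
    · rfl
  rw [hz, mul_zero, mul_zero, Finset.sum_eq_single (1 : A →* ℂˣ)] at hfin
  · rw [hS1] at hfin
    simp at hfin
  · intro φ _ hφ
    rw [ht φ, htz φ hφ]
    simp
  · intro h
    exact absurd (Finset.mem_univ _) h

end fullyRam2

end Cfsg.Agent.Lib.Helper25
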