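import Mathlib
import Cfsg.Prelude
import Cfsg.Agent.Lib.Helper25.FullyRam2

set_option autoImplicit false

/-!
Fully ramified characters, part 3: `H / Z` has no self-centralizing cyclic subgroup.
-/

namespace Cfsg.Agent.Lib.Helper25

open Cfsg Cfsg.Agent.Lib.Helper2
open scoped ComplexConjugate

section fullyRam3

variable {H : Type*} [Group H] [Fintype H]

/-- abstract form: `U / Z` cyclic (as the image `A` of `f`), and a coset `f c ≠ 1` whose
"centralizer" lies in `U`: impossible for a fully ramified character. -/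
theorem fullyRam_aux (Z : Subgroup H) [hZn : Z.Normal] (χ : H → ℂ) (hχ : IsIrrCharacter H χ)
    (θ : Z → ℂ) (hθ : IsIrrCharacter Z θ) (e : ℕ) (he : e ^ 2 = Z.index)
    (hres : ∀ z : Z, χ z = (e : ℂ) * θ z)
    {A : Type*} [Group A] [Finite A] (hcyc : IsCyclic A)
    (U : Subgroup H) (hZU : Z ≤ U) (f : U →* A) (hsurj : Function.Surjective f)
    (hker : ∀ u : U, f u = 1 ↔ (u : H) ∈ Z)
    (c : U) (hc : f c ≠ 1)
    (hcent : ∀ u : U, f u = f c → ∀ x : H, ∀ hx : x⁻¹ * (u : H) * x ∈ U,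
      f ⟨x⁻¹ * (u : H) * x, hx⟩ = f c → x ∈ U) : False := by
  classical
  have hcomm : ∀ a b : A, a * b = b * a := by
    let _ : CommGroup A := IsCyclic.commGroup
    intro a b
    exact mul_comm a b
  have he0 : (e : ℂ) ≠ 0 := by
    intro h0
    have h1 : e = 0 := by exact_mod_cast h0
    rw [h1] at he
    apply Subgroup.index_ne_zero_of_finite (H := Z)
    rw [← he]
    norm_num
  have hinvθ : ∀ (g : H) (z : Z), θ ⟨g * z * g⁻¹, hZn.conj_mem z z.2 g⟩ = θ z := by
    intro g z
    have h1 : χ (g * z * g⁻¹) = (e : ℂ) * θ ⟨g * z * g⁻¹, hZn.conj_mem z z.2 g⟩ :=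
      hres ⟨g * z * g⁻¹, hZn.conj_mem z z.2 g⟩
    have h2 := hres z
    have h3 : χ (g * z * g⁻¹) = χ z := isClassFunction_of_isIrrCharacter hχ z g
    have h4 : (e : ℂ) * θ ⟨g * z * g⁻¹, hZn.conj_mem z z.2 g⟩ = (e : ℂ) * θ z := by
      rw [← h1, ← h2]
      exact h3
    exact mul_left_cancel₀ he0 h4
  have hkerZ : ∀ n : f.ker, ((n : U) : H) ∈ Z := fun n =>
    (hker n).mp (MonoidHom.mem_ker.mp n.2)
  let ι : f.ker →* Z :=
    { toFun := fun n => ⟨((n : U) : H), hkerZ n⟩
      map_one' := rfl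
      map_mul' := fun _ _ => rfl }
  have hιbij : Function.Bijective ι := by
    constructor
    · intro a b hab
      apply Subtype.ext
      apply Subtype.ext
      have h1 := congrArg Subtype.val hab
      exact h1
    · intro z
      refine ⟨⟨⟨z, hZU z.2⟩, ?_⟩, ?_⟩
      · rw [MonoidHom.mem_ker]
        exact (hker _).mpr z.2
      · rfl
  let ε : f.ker ≃* Z := MulEquiv.ofBijective ι hιbij
  have hϑ : IsIrrCharacter f.ker (θ ∘ ε) := Cfsg.Agent.S1489.isIrrCharacter_comp_iso hθ ε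
  have hcycQ : IsCyclic (U ⧸ f.ker) := by
    have e1 := QuotientGroup.quotientKerEquivOfSurjective f hsurj
    exact isCyclic_of_surjective e1.symm e1.symm.surjective
  obtain ⟨η, hη, hηext⟩ := Cfsg.Agent.S0886.result f.ker hcycQ (θ ∘ ε) hϑ (by
    intro u n
    exact hinvθ (u : H) (ε n))
  have hext : ∀ z : Z, η ⟨z, hZU z.2⟩ = θ z := by
    intro z
    have hzk : (⟨z, hZU z.2⟩ : U) ∈ f.ker := by
      rw [MonoidHom.mem_ker]
      exact (hker _).mpr z.2
    have h1 := hηext ⟨⟨z, hZU z.2⟩, hzk⟩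
    have h2 : ε ⟨⟨z, hZU z.2⟩, hzk⟩ = z := Subtype.ext rfl
    rw [Function.comp_apply, h2] at h1
    exact h1
  refine fullyRam_core hcomm U f η hη ?_ ?_ c hc hcent
  · intro φ u hu
    have hirr : IsIrrCharacter U (fun v : U => ((φ (f v) : ℂˣ) : ℂ) * η v) :=
      isIrrCharacter_hom_mul (φ.comp f) hη
    apply fullyRam_ind_vanish Z χ hχ θ hθ e he hres U hZU _ hirr
    · intro z
      have h1 : f ⟨z, hZU z.2⟩ = 1 := (hker _).mpr z.2
      simp only [h1, map_one, Units.val_one, one_mul]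
      exact hext z
    · intro hz
      exact hu ((hker u).mpr hz)
  · have h1 : ∑ u : U, (if f u = 1 then η u * conj (η u) else 0)
        = ∑ z : Z, θ z * conj (θ z) := by
      rw [← Finset.sum_filter]
      symm
      apply Finset.sum_bij (fun (z : Z) _ => (⟨z, hZU z.2⟩ : U))
      · intro z _
        rw [Finset.mem_filter]
        exact ⟨Finset.mem_univ _, (hker _).mpr z.2⟩
      · intro a _ b _ hab
        have h1 := congrArg Subtype.val hab
        exact Subtype.ext h1
      · intro u hu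
        rw [Finset.mem_filter] at hu
        exact ⟨⟨u, (hker u).mp hu.2⟩, Finset.mem_univ _, Subtype.ext rfl⟩
      · intro z _
        rw [hext z]
    have e1 := QuotientGroup.quotientKerEquivOfSurjective f hsurj
    have hc1 : Nat.card U = Nat.card (U ⧸ f.ker) * Nat.card f.ker :=
      Subgroup.card_eq_card_quotient_mul_card_subgroup f.ker
    rw [Nat.card_congr e1.toEquiv, Nat.card_congr ε.toEquiv] at hc1
    rw [h1, irr_norm_sum hθ, hc1]
    push_cast
    ring

/-- **no self-centralizing cyclic subgroup of `H / Z`** for a fully ramified character -/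
theorem fullyRam_main (Z : Subgroup H) [hZn : Z.Normal] (χ : H → ℂ) (hχ : IsIrrCharacter H χ)
    (θ : Z → ℂ) (hθ : IsIrrCharacter Z θ) (e : ℕ) (he : e ^ 2 = Z.index)
    (hres : ∀ z : Z, χ z = (e : ℂ) * θ z) (hZ : Z ≠ ⊤) (C : Subgroup (H ⧸ Z))
    (hC : IsCyclic C) : Subgroup.centralizer (C : Set (H ⧸ Z)) ≠ C := by
  classical
  intro hcen
  by_cases hCbot : C = ⊥
  · rw [hCbot] at hcen
    apply hZ
    rw [eq_top_iff]
    intro x _
    have h1 : (QuotientGroup.mk x : H ⧸ Z)
        ∈ Subgroup.centralizer ((⊥ : Subgroup (H ⧸ Z)) : Set (H ⧸ Z)) := by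
      rw [Subgroup.mem_centralizer_iff]
      intro y hy
      rw [Subgroup.coe_bot, Set.mem_singleton_iff] at hy
      rw [hy, one_mul, mul_one]
    rw [hcen, Subgroup.mem_bot] at h1
    exact (QuotientGroup.eq_one_iff x).mp h1
  obtain ⟨g, hg⟩ := hC.exists_generator
  have hg1 : g ≠ 1 := by
    intro h1
    apply hCbot
    rw [eq_bot_iff]
    intro y hy
    have h2 := hg ⟨y, hy⟩
    rw [h1, Subgroup.zpowers_one_eq_bot, Subgroup.mem_bot] at h2
    rw [Subgroup.mem_bot]
    exact congrArg Subtype.val h2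
  obtain ⟨c0, hc0⟩ := QuotientGroup.mk'_surjective Z (g : H ⧸ Z)
  have hc0U : c0 ∈ C.comap (QuotientGroup.mk' Z) := by
    rw [Subgroup.mem_comap, hc0]
    exact g.2
  have hfc : ((QuotientGroup.mk' Z).subgroupComap C) ⟨c0, hc0U⟩ = g := Subtype.ext hc0
  refine fullyRam_aux Z χ hχ θ hθ e he hres hC (C.comap (QuotientGroup.mk' Z)) ?_
    ((QuotientGroup.mk' Z).subgroupComap C) ?_ ?_ ⟨c0, hc0U⟩ ?_ ?_
  · intro z hz
    rw [Subgroup.mem_comap]
    have h1 : (QuotientGroup.mk' Z) z = 1 := (QuotientGroup.eq_one_iff z).mpr hz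
    rw [h1]
    exact C.one_mem
  · exact MonoidHom.subgroupComap_surjective_of_surjective (QuotientGroup.mk' Z) C
      (QuotientGroup.mk'_surjective Z)
  · intro u
    constructor
    · intro h
      exact (QuotientGroup.eq_one_iff (u : H)).mp (congrArg Subtype.val h)
    · intro h
      exact Subtype.ext ((QuotientGroup.eq_one_iff (u : H)).mpr h)
  · rw [hfc]
    exact hg1
  · intro u hu x hx hx2
    rw [hfc] at hu hx2
    rw [Subgroup.mem_comap, ← hcen, Subgroup.mem_centralizer_iff]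
    intro y hy
    obtain ⟨k, hk⟩ := Subgroup.mem_zpowers_iff.mp (hg ⟨y, hy⟩)
    have hy' : y = (g : H ⧸ Z) ^ k := by
      rw [← Subgroup.coe_zpow, hk]
    have h3 : (QuotientGroup.mk' Z) (x⁻¹ * (u : H) * x) = (g : H ⧸ Z) :=
      congrArg Subtype.val hx2
    have h4 : (QuotientGroup.mk' Z) (u : H) = (g : H ⧸ Z) := congrArg Subtype.val hu
    rw [map_mul, map_mul, map_inv, h4] at h3
    have hcomm2 : Commute (g : H ⧸ Z) ((QuotientGroup.mk' Z) x) := by
      show (g : H ⧸ Z) * (QuotientGroup.mk' Z) x = (QuotientGroup.mk' Z) x * (g : H ⧸ Z)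
      calc (g : H ⧸ Z) * (QuotientGroup.mk' Z) x
          = (QuotientGroup.mk' Z) x
            * (((QuotientGroup.mk' Z) x)⁻¹ * (g : H ⧸ Z) * (QuotientGroup.mk' Z) x) := by
            group
        _ = (QuotientGroup.mk' Z) x * (g : H ⧸ Z) := by rw [h3]
    rw [hy']
    exact (Commute.zpow_left hcomm2 k).eq

end fullyRam3

end Cfsg.Agent.Lib.Helper25
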