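import Mathlib
import Cfsg.Agent.Lib.Helper25.Gagola2
import Cfsg.Agent.Lib.Helper25.Dade5
import Cfsg.Agent.Lib.Helper21.HallCount

set_option autoImplicit false

namespace Cfsg.Agent.Lib.Helper25

universe u

theorem wrCoc_nondeg {Γ₀ Q : Type*} [Group Γ₀] [Group Q] [Fintype Q] [DecidableEq Q]
    (c₀ : Coc Γ₀ ℂˣ)
    (b : Q → Q → ℂˣ) (hb1 : ∀ j j' q, b (j * j') q = b j q * b j' q)
    (hb2 : ∀ j q q', b j (q * q') = b j q * b j q')
    (hnd₀ : ∀ g : Γ₀, g ≠ 1 → ∃ h, g * h = h * g ∧ c₀.α g h ≠ c₀.α h g)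
    (hbnd : ∀ j q, j ≠ 1 → q ≠ 1 → b j q ≠ 1) (hQ : ∀ a a' : Q, a * a' = a' * a) :
    ∀ g : (Γ₀ ≀ᵣ Q) × Q, g ≠ 1 → ∃ h, g * h = h * g ∧
      (wrCoc c₀ b hb1 hb2).α g h ≠ (wrCoc c₀ b hb1 hb2).α h g := by
  have hb1' : ∀ q, b 1 q = 1 := fun q => by simpa using hb1 1 1 q
  have hb2' : ∀ j, b j 1 = 1 := fun j => by simpa using hb2 j 1 1
  rintro ⟨⟨f, q⟩, j⟩ hg
  by_cases hq : q = 1
  · subst hq
    by_cases hf : f = 1
    · subst hf
      have hj : j ≠ 1 := by
        intro hj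
        apply hg
        rw [hj]
        rfl
      refine ⟨(⟨1, j⟩, 1), ?_, ?_⟩
      · refine Prod.ext ?_ ?_
        · show (1 : Γ₀ ≀ᵣ Q) * ⟨1, j⟩ = ⟨1, j⟩ * 1
          rw [mul_one, one_mul]
        · show j * 1 = 1 * j
          rw [mul_one, one_mul]
      · rw [wrCoc_apply, wrCoc_apply]
        simp only [Pi.one_apply, c₀.one_left, Finset.prod_const_one, one_mul, hb1']
        exact hbnd j j hj hj
    · obtain ⟨t₀, ht₀⟩ : ∃ t₀, f t₀ ≠ 1 := by
        by_contra hcon
        push Not at hcon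
        exact hf (funext hcon)
      obtain ⟨d, hd, hne⟩ := hnd₀ (f t₀) ht₀
      refine ⟨(⟨Pi.mulSingle t₀ d, 1⟩, 1), ?_, ?_⟩
      · refine Prod.ext ?_ ?_
        · show (⟨f, 1⟩ : Γ₀ ≀ᵣ Q) * ⟨Pi.mulSingle t₀ d, 1⟩ = ⟨Pi.mulSingle t₀ d, 1⟩ * ⟨f, 1⟩
          ext t
          · simp only [RegularWreathProduct.mul_left, Pi.mul_apply, inv_one, one_mul]
            by_cases ht : t = t₀
            · subst ht
              rw [Pi.mulSingle_eq_same]
              exact hd
            · rw [Pi.mulSingle_eq_of_ne ht, mul_one, one_mul]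
          · rfl
        · show j * 1 = 1 * j
          rw [mul_one, one_mul]
      · rw [wrCoc_apply, wrCoc_apply]
        simp only [inv_one, one_mul, hb1', hb2', mul_one]
        rw [Finset.prod_eq_single t₀, Finset.prod_eq_single t₀]
        · rw [Pi.mulSingle_eq_same]
          exact hne
        · intro t _ ht
          rw [Pi.mulSingle_eq_of_ne ht, c₀.one_left]
        · intro h
          exact absurd (Finset.mem_univ _) h
        · intro t _ ht
          rw [Pi.mulSingle_eq_of_ne ht, c₀.one_right]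
        · intro h
          exact absurd (Finset.mem_univ _) h
  · refine ⟨(1, q), ?_, ?_⟩
    · refine Prod.ext ?_ ?_
      · show (⟨f, q⟩ : Γ₀ ≀ᵣ Q) * 1 = 1 * ⟨f, q⟩
        rw [mul_one, one_mul]
      · exact hQ j q
    · rw [wrCoc_apply, wrCoc_apply]
      simp only [RegularWreathProduct.one_left, RegularWreathProduct.one_right,
        Pi.one_apply, c₀.one_left, c₀.one_right, Finset.prod_const_one, one_mul, hb2']
      exact (hbnd q q hq hq).symm

/-- cocycle data for a solvable group -/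
theorem gagola_data : ∀ (n : ℕ) (G : Type u) [Group G] [Finite G], Nat.card G = n →
    Group.IsSolvable G →
    ∃ (Γ : Type u) (_ : Group Γ) (_ : Finite Γ) (c : Coc Γ ℂˣ),
      (∀ g h, c.α g h ∈ rootsOfUnity (∏ q ∈ (Nat.card G).primeFactors, q) ℂ) ∧
      (∀ q : ℕ, q.Prime → q ∣ Nat.card Γ → q ∣ Nat.card G) ∧
      (∀ g : Γ, g ≠ 1 → ∃ h, g * h = h * g ∧ c.α g h ≠ c.α h g) ∧
      ∃ φ : G →* Γ, Function.Injective φ := by
  intro n
  induction n using Nat.strong_induction_on with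
  | _ n ih =>
  intro G _ _ hn hsolv
  classical
  by_cases htriv : Subsingleton G
  · refine ⟨G, inferInstance, inferInstance,
      ⟨fun _ _ => 1, fun _ => rfl, fun _ => rfl, fun _ _ _ => rfl⟩, ?_, ?_, ?_,
      MonoidHom.id G, fun _ _ h => h⟩
    · intro g h
      exact one_mem _
    · intro q _ h
      exact h
    · intro g hg
      exact absurd (Subsingleton.elim g 1) hg
  · have hnt : Nontrivial G := not_subsingleton_iff_nontrivial.mp htriv
    obtain ⟨M, hMn, hMp⟩ := Cfsg.Agent.Lib.Helper21.exists_normal_index_prime (G := G)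
    have hlt : Nat.card M < n := by
      have h1 := M.card_mul_index
      rw [hn] at h1
      have h2 := hMp.two_le
      have h3 : 0 < Nat.card M := Nat.card_pos
      nlinarith
    have hMsolv : Group.IsSolvable M := inferInstance
    obtain ⟨Γ₀, gΓ, fΓ, c₀, hval₀, hpr₀, hnd₀, φ₀, hφ₀⟩ := ih (Nat.card M) hlt M rfl hMsolv
    have : Fact (M.index).Prime := ⟨hMp⟩
    have hQ : Nat.card (G ⧸ M) = M.index := rfl
    have : Fintype (G ⧸ M) := Fintype.ofFinite _
    obtain ⟨b, hb1, hb2, hbnd, hbmem, hQc⟩ := exists_bichar M.index (G ⧸ M) hQ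
    have hcard0 : Nat.card G ≠ 0 := Nat.card_pos.ne'
    have hdvd1 : (∏ q ∈ (Nat.card M).primeFactors, q) ∣ ∏ q ∈ (Nat.card G).primeFactors, q :=
      Finset.prod_dvd_prod_of_subset _ _ _
        (Nat.primeFactors_mono (Subgroup.card_subgroup_dvd_card M) hcard0)
    have hdvd2 : M.index ∣ ∏ q ∈ (Nat.card G).primeFactors, q :=
      Finset.dvd_prod_of_mem (fun q => q)
        (Nat.mem_primeFactors.mpr ⟨hMp, Subgroup.index_dvd_card M, hcard0⟩)
    refine ⟨(Γ₀ ≀ᵣ (G ⧸ M)) × (G ⧸ M), inferInstance, inferInstance, wrCoc c₀ b hb1 hb2,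
      ?_, ?_, ?_, ?_⟩
    · exact wrCoc_mem c₀ b hb1 hb2 _ (fun g h => rootsOfUnity_le_of_dvd hdvd1 (hval₀ g h))
        (fun j q => rootsOfUnity_le_of_dvd hdvd2 (hbmem j q))
    · intro q hq hdvd
      rw [Nat.card_prod, RegularWreathProduct.card, hQ] at hdvd
      have hqp : q ∣ M.index → q ∣ Nat.card G := fun h => h.trans (Subgroup.index_dvd_card M)
      rcases (Nat.Prime.dvd_mul hq).mp hdvd with h1 | h1
      · rcases (Nat.Prime.dvd_mul hq).mp h1 with h2 | h2
        · exact (hpr₀ q hq (hq.dvd_of_dvd_pow h2)).trans (Subgroup.card_subgroup_dvd_card M)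
        · exact hqp h2
      · exact hqp h1
    · exact wrCoc_nondeg c₀ b hb1 hb2 hnd₀ hbnd hQc
    · have hinl : Function.Injective (MonoidHom.inl (Γ₀ ≀ᵣ (G ⧸ M)) (G ⧸ M)) :=
        fun _ _ h => congrArg Prod.fst h
      refine ⟨(MonoidHom.inl _ _).comp ((wrMap (G ⧸ M) φ₀).comp (kkHom M)), ?_⟩
      intro x y hxy
      exact kkHom_injective M (wrMap_injective _ φ₀ hφ₀ (hinl hxy))

end Cfsg.Agent.Lib.Helper25
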