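import Mathlib
import Cfsg.Prelude.Def_Characters
import Cfsg.Prelude.Def_Blocks
import Cfsg.Agent.Lib.Helper25.Gagola3

set_option autoImplicit false

namespace Cfsg.Agent.Lib.Helper25

open Cfsg

universe u

/-- restriction of the coefficients of a cocycle to a subgroup containing its values -/
def Coc.restrict {Γ A : Type*} [Group Γ] [CommGroup A] (c : Coc Γ A) (B : Subgroup A)
    (h : ∀ g k, c.α g k ∈ B) : Coc Γ B where
  α g k := ⟨c.α g k, h g k⟩
  one_left g := Subtype.ext (c.one_left g)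
  one_right g := Subtype.ext (c.one_right g)
  coc g k l := Subtype.ext (c.coc g k l)

/-- Gagola's embedding theorem, given the central type criterion -/
theorem gagola_main
    (hCT : ∀ (H : Type u) [Group H] [Finite H] (Z : Subgroup H), Z ≤ Subgroup.center H →
      ∀ lam : ↥Z →* ℂˣ, Function.Injective lam →
      (∀ y : H, y ∉ Z → ∃ x : H, x * y * x⁻¹ * y⁻¹ ∈ Z ∧ x * y * x⁻¹ * y⁻¹ ≠ 1) →
      ∃ χ : Cfsg.IrrCharacter H, (∀ h : H, (χ : H → ℂ) h = (χ : H → ℂ) 1 → h = 1) ∧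
        (Cfsg.charDegree (χ : H → ℂ)) ^ 2 = Z.index ∧ Subgroup.center H = Z)
    {G : Type u} [Group G] [Finite G] (hsolv : Group.IsSolvable G) :
    ∃ (H : Type u) (_ : Group H) (_ : Finite H) (χ : Cfsg.IrrCharacter H), (∀ h : H, (χ : H → ℂ) h = (χ : H → ℂ) 1 → h = 1) ∧ (Cfsg.charDegree (χ : H → ℂ)) ^ 2 = (Subgroup.center H).index ∧ (∃ f : G →* H ⧸ Subgroup.center H, Function.Injective f) ∧ (∀ p : ℕ, p.Prime → ((p ∣ Nat.card H ↔ p ∣ Nat.card G) ∧ (p ∣ Nat.card (Subgroup.center H) ↔ p ∣ Nat.card G))) ∧ Squarefree (Nat.card (Subgroup.center H)) := by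
  obtain ⟨Γ, gΓ, fΓ, c', hval, hpr, hnd, φ, hφ⟩ := gagola_data (Nat.card G) G rfl hsolv
  obtain ⟨N, hNdef⟩ : ∃ N : ℕ, N = ∏ q ∈ (Nat.card G).primeFactors, q := ⟨_, rfl⟩
  rw [← hNdef] at hval
  have hcard0 : Nat.card G ≠ 0 := Nat.card_pos.ne'
  have hprime : ∀ q ∈ (Nat.card G).primeFactors, q.Prime :=
    fun q hq => (Nat.mem_primeFactors.mp hq).1
  have hN0 : N ≠ 0 := by
    rw [hNdef]
    exact Finset.prod_ne_zero_iff.mpr (fun q hq => (hprime q hq).ne_zero)
  have hNsq : Squarefree N := by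
    rw [hNdef]
    refine Finset.squarefree_prod_of_pairwise_isCoprime (fun a ha b hb hab => ?_)
      (fun q hq => (hprime q hq).prime.squarefree)
    show IsRelPrime a b
    rw [← Nat.coprime_iff_isRelPrime]
    exact (Nat.coprime_primes (hprime a ha) (hprime b hb)).mpr hab
  have hNdvd : ∀ q : ℕ, q.Prime → (q ∣ N ↔ q ∣ Nat.card G) := by
    intro q hq
    have h1 : N.primeFactors = (Nat.card G).primeFactors := by
      rw [hNdef]
      exact Nat.primeFactors_prod_primeFactors _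
    constructor
    · intro h
      have h2 : q ∈ N.primeFactors := Nat.mem_primeFactors.mpr ⟨hq, h, hN0⟩
      rw [h1] at h2
      exact (Nat.mem_primeFactors.mp h2).2.1
    · intro h
      have h2 : q ∈ (Nat.card G).primeFactors := Nat.mem_primeFactors.mpr ⟨hq, h, hcard0⟩
      rw [← h1] at h2
      exact (Nat.mem_primeFactors.mp h2).2.1
  have : NeZero N := ⟨hN0⟩
  obtain ⟨c, hc⟩ : ∃ c : Coc Γ (rootsOfUnity N ℂ), c = c'.restrict (rootsOfUnity N ℂ) hval :=
    ⟨_, rfl⟩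
  have hndc : ∀ g : Γ, g ≠ 1 → ∃ h, g * h = h * g ∧ c.α g h ≠ c.α h g := by
    intro g hg
    obtain ⟨h, h1, h2⟩ := hnd g hg
    refine ⟨h, h1, fun h3 => h2 ?_⟩
    rw [hc] at h3
    exact congrArg Subtype.val h3
  have hcen := CExt.center_eq c hndc
  have hιinj := CExt.ι_injective c
  obtain ⟨lam, hlam⟩ : ∃ lam : ↥(CExt.ι c).range →* ℂˣ, Function.Injective lam := by
    refine ⟨(rootsOfUnity N ℂ).subtype.comp (MonoidHom.ofInjective hιinj).symm.toMonoidHom, ?_⟩
    intro x y hxy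
    exact (MonoidHom.ofInjective hιinj).symm.injective (Subtype.ext hxy)
  obtain ⟨χ, hfaith, hdeg, hcen'⟩ := hCT (CExt c) (CExt.ι c).range (CExt.range_ι_le_center c)
    lam hlam (CExt.comm_hyp c hndc)
  have hA : Nat.card (rootsOfUnity N ℂ) = N := Complex.card_rootsOfUnity N
  have hH : Nat.card (CExt c) = N * Nat.card Γ := by rw [CExt.card_eq, hA]
  have hZ : Nat.card (Subgroup.center (CExt c)) = N := by
    rw [hcen]
    exact ((Nat.card_congr (MonoidHom.ofInjective hιinj).toEquiv).symm).trans hA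
  refine ⟨CExt c, inferInstance, inferInstance, χ, hfaith, ?_, ?_, ?_, ?_⟩
  · rw [hdeg, hcen]
  · refine ⟨(CExt.toQuot c).comp φ, ?_⟩
    intro x y hxy
    exact hφ (CExt.toQuot_injective c hcen.le hxy)
  · intro p hp
    rw [hH, hZ]
    refine ⟨⟨fun h => ?_, fun h => Dvd.dvd.mul_right ((hNdvd p hp).mpr h) _⟩, hNdvd p hp⟩
    rcases (Nat.Prime.dvd_mul hp).mp h with h1 | h1
    · exact (hNdvd p hp).mp h1
    · exact hpr p hp h1
  · rw [hZ]
    exact hNsq

end Cfsg.Agent.Lib.Helper25
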