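import Mathlib
import Cfsg.Prelude.Def_Characters
import Cfsg.Prelude.Def_Solvable
import Cfsg.Agent.Lib.Helper2.CharCover2
import Cfsg.Agent.Lib.Helper12.GaloisTwist
import Cfsg.Agent.Lib.Helper24.Fitting
import Cfsg.Agent.Lib.Helper25.GalProd1

set_option autoImplicit false

namespace Cfsg.Agent.Lib.Helper25

open Cfsg.Agent.Lib.Helper2 Module TensorProduct
open scoped ComplexConjugate

/-- an exponent `j` with `(g ^ j) ^ k = g⁻¹` for all `g`, when `k` is coprime to the group order -/
theorem gp_exists_j {G : Type*} [Group G] [Finite G] (k : ℕ) (hk : Nat.Coprime k (Nat.card G)) :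
    ∃ j : ℕ, ∀ g : G, (g ^ j) ^ k = g⁻¹ := by
  have hpos : 0 < Nat.card G := Nat.card_pos
  rcases Nat.lt_or_ge 1 (Nat.card G) with hN | hN
  · obtain ⟨u, -, hu⟩ := Nat.exists_mul_mod_eq_one_of_coprime hk hN
    refine ⟨u * (Nat.card G - 1), fun g => ?_⟩
    have h1 : g ^ (k * u) = g := by
      have h2 := Nat.div_add_mod (k * u) (Nat.card G)
      rw [hu] at h2
      rw [← h2, pow_add, pow_mul, pow_card_eq_one', one_pow, one_mul, pow_one]
    have h3 : g ^ (Nat.card G - 1) * g = 1 := by
      rw [← pow_succ, Nat.sub_add_cancel hpos, pow_card_eq_one']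
    rw [← pow_mul, show u * (Nat.card G - 1) * k = (k * u) * (Nat.card G - 1) by ring, pow_mul, h1]
    exact eq_inv_of_mul_eq_one_left h3
  · have h1 : Nat.card G = 1 := le_antisymm hN hpos
    have hsub : Subsingleton G := (Nat.card_eq_one_iff_unique.mp h1).1
    exact ⟨0, fun g => Subsingleton.elim _ _⟩

section main

variable {G : Type*} [Group G] [Fintype G]
variable {V W : Type*} [AddCommGroup V] [Module ℂ V] [FiniteDimensional ℂ V]
  [AddCommGroup W] [Module ℂ W] [FiniteDimensional ℂ W]

omit [Fintype G] in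
/-- a faithful irreducible character vanishes at `w` when some conjugate of `w` is a
nontrivial central multiple of `w` -/
theorem gp_vanish (ρ : Representation ℂ G V) (hρ : ρ.IsIrreducible)
    (hfaith : ∀ g : G, ρ.character g = ρ.character 1 → g = 1) (w y : G)
    (hz : w⁻¹ * y * w * y⁻¹ ∈ Subgroup.center G) (hne : w * y ≠ y * w) :
    ρ.character w = 0 := by
  obtain ⟨ω, hω⟩ := central_scalar ρ hρ _ hz
  have h1 := char_mul_scalar ρ hω w
  have h2 : w * (w⁻¹ * y * w * y⁻¹) = y * w * y⁻¹ := by group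
  rw [h2, Representation.char_conj] at h1
  by_cases hω1 : ω = 1
  · exfalso
    have h3 : ρ (w⁻¹ * y * w * y⁻¹) = ρ 1 := by rw [hω, hω1, one_smul, map_one]
    have h4 : ρ.character (w⁻¹ * y * w * y⁻¹) = ρ.character 1 := by
      unfold Representation.character
      rw [h3]
    have h5 := hfaith _ h4
    apply hne
    have h6 : w⁻¹ * y * w = y := by
      have := mul_inv_eq_one.mp h5
      exact this
    calc w * y = w * (w⁻¹ * y * w) := by rw [h6]
      _ = y * w := by group
  · have h3 : ρ.character w * (1 - ω) = 0 := by rw [mul_sub, mul_one, ← h1, sub_self]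
    rcases mul_eq_zero.mp h3 with h4 | h4
    · exact h4
    · exact absurd (sub_eq_zero.mp h4).symm hω1

omit [Fintype G] in
theorem gp_sum_ne_zero (ρ : Representation ℂ G V) [hρ : ρ.IsIrreducible]
    (T : Subgroup G) [Fintype T] :
    (∑ x : T, ρ.character (x : G) * conj (ρ.character (x : G))) ≠ 0 := by
  have h1 : (∑ x : T, ρ.character (x : G) * conj (ρ.character (x : G)))
      = ((∑ x : T, Complex.normSq (ρ.character (x : G)) : ℝ) : ℂ) := by
    push_cast
    apply Finset.sum_congr rfl
    intro x _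
    rw [Complex.mul_conj]
  rw [h1]
  have hpos : 0 < ∑ x : T, Complex.normSq (ρ.character (x : G)) := by
    have h2 : Complex.normSq (ρ.character ((1 : T) : G))
        ≤ ∑ x : T, Complex.normSq (ρ.character (x : G)) :=
      Finset.single_le_sum (f := fun x : T => Complex.normSq (ρ.character (x : G)))
        (fun x _ => Complex.normSq_nonneg _) (Finset.mem_univ (1 : T))
    have h3 : 0 < Complex.normSq (ρ.character ((1 : T) : G)) := by
      rw [Complex.normSq_pos, Subgroup.coe_one, Representation.char_one]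
      have := irr_finrank_pos ρ
      exact_mod_cast this.ne'
    linarith
  exact_mod_cast hpos.ne'

variable (ρ : Representation ℂ G V) (τ : Representation ℂ G W)

/-- the hypotheses of the product situation -/
structure GPHyp (j k : ℕ) : Prop where
  irrρ : ρ.IsIrreducible
  irrT : (ρ.tprod τ).IsIrreducible
  faith : ∀ g : G, ρ.character g = ρ.character 1 → g = 1
  tw : ∀ g : G, τ.character g = ρ.character (g ^ k)
  jk : ∀ g : G, (g ^ j) ^ k = g⁻¹

variable {ρ τ} {j k : ℕ}

omit [Fintype G] [FiniteDimensional ℂ V] [FiniteDimensional ℂ W] in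
theorem GPHyp.tw_pow [Finite G] [FiniteDimensional ℂ V] (h : GPHyp ρ τ j k) (x : G) :
    τ.character (x ^ j) = conj (ρ.character x) := by
  rw [h.tw, h.jk, char_inv]

omit [Fintype G] [FiniteDimensional ℂ V] [FiniteDimensional ℂ W] in
theorem GPHyp.tw_pow_inv (h : GPHyp ρ τ j k) (x : G) :
    τ.character (x ^ j)⁻¹ = ρ.character x := by
  rw [h.tw, inv_pow, h.jk, inv_inv]

omit [Fintype G] in
theorem GPHyp.finrank_eq (h : GPHyp ρ τ j k) : (finrank ℂ W : ℂ) = (finrank ℂ V : ℂ) := by
  rw [← Representation.char_one τ, ← Representation.char_one ρ, h.tw, one_pow]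

omit [Fintype G] [FiniteDimensional ℂ W] in
theorem GPHyp.finrank_ne (h : GPHyp ρ τ j k) : (finrank ℂ V : ℂ) ≠ 0 := by
  have := h.irrρ
  have := irr_finrank_pos ρ
  exact_mod_cast this.ne'

theorem GPHyp.twist (h : GPHyp ρ τ j k) (T : Subgroup G) [T.Normal] [Fintype T] (a b : G) :
    (finrank ℂ V : ℂ) * (finrank ℂ V : ℂ) *
        ∑ x : T, ρ.character ((x : G) * a) * τ.character ((x : G) ^ j * b)
      = (∑ x : T, ρ.character (x : G) * conj (ρ.character (x : G))) *
          (ρ.character a * τ.character b) := by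
  have := h.irrT
  have h1 := gp_twist ρ τ T j a b
  rw [h.finrank_eq] at h1
  rw [h1]
  congr 1
  apply Finset.sum_congr rfl
  intro x _
  rw [h.tw_pow]

/-- a normal subgroup whose commutators are central is abelian -/
theorem GPHyp.abelian (h : GPHyp ρ τ j k) (T : Subgroup G) [T.Normal]
    (hTT : ∀ w ∈ T, ∀ y ∈ T, w⁻¹ * y * w * y⁻¹ ∈ Subgroup.center G) :
    ∀ w ∈ T, ∀ y ∈ T, w * y = y * w := by
  classical
  by_contra hcon
  push Not at hcon
  obtain ⟨w0, hw0, y, hy, hne⟩ := hcon
  have hχy : ρ.character y = 0 := by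
    apply gp_vanish ρ h.irrρ h.faith y w0 (hTT y hy w0 hw0)
    exact fun e => hne e.symm
  have h1 := h.twist T y⁻¹ (y ^ j)⁻¹
  rw [h.tw_pow_inv, hχy, mul_zero, mul_zero] at h1
  have h2 : ∑ x : T, ρ.character ((x : G) * y⁻¹) * τ.character ((x : G) ^ j * (y ^ j)⁻¹)
      = ∑ x : T, ρ.character (x : G) * conj (ρ.character (x : G)) := by
    apply Fintype.sum_equiv (Equiv.mulRight (⟨y, hy⟩⁻¹ : T))
    intro x
    have e1 : ((Equiv.mulRight (⟨y, hy⟩⁻¹ : T)) x : G) = (x : G) * y⁻¹ := rfl
    rw [e1]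
    by_cases hc : (x : G) * y⁻¹ * y = y * ((x : G) * y⁻¹)
    · have e2 : (x : G) ^ j = ((x : G) * y⁻¹) ^ j * y ^ j := by
        have hcomm : Commute ((x : G) * y⁻¹) y := hc
        rw [← hcomm.mul_pow, inv_mul_cancel_right]
      rw [e2, mul_inv_cancel_right, h.tw_pow]
    · have hwT : (x : G) * y⁻¹ ∈ T := T.mul_mem x.2 (T.inv_mem hy)
      have e3 : ρ.character ((x : G) * y⁻¹) = 0 :=
        gp_vanish ρ h.irrρ h.faith _ y (hTT _ hwT y hy) hc
      rw [e3, zero_mul, zero_mul]
  rw [h2] at h1
  have h3 := gp_sum_ne_zero (hρ := h.irrρ) ρ T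
  have h4 := h.finrank_ne
  rcases mul_eq_zero.mp h1 with h5 | h5
  · rcases mul_eq_zero.mp h5 with h6 | h6 <;> exact h4 h6
  · exact h3 h5

/-- an abelian normal subgroup is central -/
theorem GPHyp.central (h : GPHyp ρ τ j k) (T : Subgroup G) [T.Normal]
    (hab : ∀ w ∈ T, ∀ y ∈ T, w * y = y * w) : T ≤ Subgroup.center G := by
  classical
  intro y hy
  have hS := gp_sum_ne_zero (hρ := h.irrρ) ρ T
  have hd := h.finrank_ne
  have key : ∀ a' : G, ρ.character a' * (finrank ℂ V : ℂ)
      = ρ.character (y⁻¹ * a') * ρ.character y := by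
    intro a'
    have h1 := h.twist T (y⁻¹ * a') (y ^ j)⁻¹
    have h2 := h.twist T a' 1
    rw [h.tw_pow_inv] at h1
    have h3 : ∑ x : T, ρ.character ((x : G) * (y⁻¹ * a')) * τ.character ((x : G) ^ j * (y ^ j)⁻¹)
        = ∑ x : T, ρ.character ((x : G) * a') * τ.character ((x : G) ^ j * 1) := by
      apply Fintype.sum_equiv (Equiv.mulRight (⟨y, hy⟩⁻¹ : T))
      intro x
      have e1 : ((Equiv.mulRight (⟨y, hy⟩⁻¹ : T)) x : G) = (x : G) * y⁻¹ := rfl
      rw [e1, mul_one, mul_assoc]
      have hcomm : Commute (x : G) y⁻¹ := by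
        have := hab x x.2 y hy
        exact (Commute.inv_right this)
      rw [hcomm.mul_pow, inv_pow]
    rw [h3, h2] at h1
    have h4 := mul_left_cancel₀ hS h1
    rw [Representation.char_one τ, h.finrank_eq] at h4
    exact h4
  have hy0 : ρ.character y ≠ 0 := by
    intro h0
    have := key 1
    rw [h0, mul_zero, Representation.char_one] at this
    rcases mul_eq_zero.mp this with h5 | h5 <;> exact hd h5
  rw [Subgroup.mem_center_iff]
  intro g
  have h1 := key (g * y * g⁻¹)
  rw [Representation.char_conj] at h1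
  have h2 : ρ.character (y⁻¹ * (g * y * g⁻¹)) = ρ.character 1 := by
    rw [Representation.char_one]
    have h3 : ρ.character y * (finrank ℂ V : ℂ) = ρ.character y * ρ.character (y⁻¹ * (g * y * g⁻¹)) := by
      rw [h1, mul_comm]
    exact (mul_left_cancel₀ hy0 h3).symm
  have h3 := h.faith _ h2
  have h4 : g * y * g⁻¹ = y := by
    have := inv_mul_eq_one.mp h3
    exact this.symm
  calc g * y = g * y * g⁻¹ * g := by group
    _ = y * g := by rw [h4]

end main

end Cfsg.Agent.Lib.Helper25
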