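import Mathlib
import Cfsg.Agent.Lib.Helper25.GalProd2

set_option autoImplicit false

namespace Cfsg.Agent.Lib.Helper25

open Cfsg.Agent.Lib.Helper2 Module TensorProduct
open scoped ComplexConjugate

theorem gpL_normal {G : Type*} [Group G] (F : Subgroup G) [hF : F.Normal] (i : ℕ) :
    (F.lowerCentralSeries i).Normal := by
  induction i with
  | zero => exact hF
  | succ i ih =>
    have := ih
    rw [Subgroup.lowerCentralSeries_succ]
    exact Subgroup.commutator_normal (F.lowerCentralSeries i) F

theorem gpL_le {G : Type*} [Group G] (F : Subgroup G) (i : ℕ) :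
    F.lowerCentralSeries i ≤ F := by
  have h := Subgroup.lowerCentralSeries_antitone (S := F) (Nat.zero_le i)
  exact h

theorem gp_center_nilpotent {G : Type*} [Group G] : Group.IsNilpotent (Subgroup.center G) := by
  rw [Subgroup.isNilpotent_iff_lowerCentralSeries]
  refine ⟨1, ?_⟩
  rw [Subgroup.lowerCentralSeries_succ, Subgroup.lowerCentralSeries_zero,
    Subgroup.commutator_eq_bot_iff_le_centralizer]
  exact Subgroup.center_le_centralizer _

section main

variable {G : Type*} [Group G] [Fintype G]
variable {V W : Type*} [AddCommGroup V] [Module ℂ V] [FiniteDimensional ℂ V]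
  [AddCommGroup W] [Module ℂ W] [FiniteDimensional ℂ W]
variable {ρ : Representation ℂ G V} {τ : Representation ℂ G W} {j k : ℕ}

/-- a nilpotent normal subgroup is central -/
theorem GPHyp.nilpotent_le (h : GPHyp ρ τ j k) (F : Subgroup G) [hFn : F.Normal]
    (hF : Group.IsNilpotent F) : F ≤ Subgroup.center G := by
  obtain ⟨n, hLn⟩ := (Subgroup.isNilpotent_iff_lowerCentralSeries F).mp hF
  have step : ∀ i, F.lowerCentralSeries (i + 1) ≤ Subgroup.center G → F.lowerCentralSeries i ≤ Subgroup.center G := by
    intro i hi
    have := gpL_normal F i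
    apply h.central (F.lowerCentralSeries i)
    apply h.abelian (F.lowerCentralSeries i)
    intro w hw y hy
    apply hi
    have hyF : y ∈ F := gpL_le F i hy
    have h1 := Subgroup.commutator_mem_commutator (H₁ := F.lowerCentralSeries i) (H₂ := F) (inv_mem hw) hyF
    rw [commutatorElement_def, inv_inv] at h1
    exact h1
  have all : ∀ m, F.lowerCentralSeries m ≤ Subgroup.center G → F.lowerCentralSeries 0 ≤ Subgroup.center G := by
    intro m
    induction m with
    | zero => exact fun hm => hm
    | succ m ih => exact fun hm => ih (step m hm)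
  exact all n (by rw [hLn]; exact bot_le)

end main

/-- if the product of a faithful irreducible character with a Galois conjugate is irreducible
then the Fitting subgroup is the centre -/
theorem gp_main {G : Type*} [Group G] [Finite G] (χ : Cfsg.IrrCharacter G)
    (hfaith : ∀ g : G, (χ : G → ℂ) g = (χ : G → ℂ) 1 → g = 1) (k : ℕ)
    (hk : Nat.Coprime k (Nat.card G))
    (hirr : Cfsg.IsIrrCharacter G (fun g => (χ : G → ℂ) g * (χ : G → ℂ) (g ^ k))) :
    Cfsg.fittingSubgroup G = Subgroup.center G := by
  classical
  have := Fintype.ofFinite G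
  obtain ⟨n, ρ, hρ, hρc⟩ := χ.2
  obtain ⟨m, τ, hτ, hτc⟩ := Cfsg.Agent.Lib.Helper12.isIrrCharacter_pow_coprime k hk χ.2
  obtain ⟨j, hj⟩ := gp_exists_j (G := G) k hk
  have htp : (ρ.tprod τ).IsIrreducible := by
    apply isIrreducible_of_char_irr
    rw [Representation.char_tensor, hρc, hτc]
    exact hirr
  have H : GPHyp ρ τ j k :=
    ⟨hρ, htp, fun g hg => hfaith g (by rw [← hρc]; exact hg),
      fun g => by rw [hτc, hρc], hj⟩
  have hFn := Cfsg.Agent.Lib.Helper24.fitting_normal' (G := G)
  have hFnil := Cfsg.Agent.Lib.Helper24.fitting_nilpotent (G := G)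
  apply le_antisymm (H.nilpotent_le _ hFnil)
  exact Cfsg.Agent.Lib.Helper24.le_fitting (Subgroup.center G) inferInstance gp_center_nilpotent

end Cfsg.Agent.Lib.Helper25
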