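import Mathlib
import Cfsg.Prelude
import Cfsg.Agent.Lib.Helper2.GlaubPGroup
import Cfsg.Agent.Lib.Helper2.CharLinear
import Cfsg.Agent.Lib.Helper2.CharOrtho

set_option autoImplicit false

/-!
Kernels of the irreducible characters of degree prime to `p`, part 1: consequences of the
Glauberman correspondence for a `p`-group of operators.  If the fixed points are trivial, the
only invariant irreducible character is the trivial one; if they are not, there is a nontrivial
invariant irreducible character.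
-/

namespace Cfsg.Agent.Lib.Helper25

open Cfsg Cfsg.Agent.Lib.Helper2
open scoped ComplexConjugate

/-- trivial fixed points: the only invariant irreducible character is the trivial one -/
theorem kerpd_glaub_triv {Γ : Type*} [Group Γ] [Finite Γ] (p : ℕ) [hp : Fact p.Prime]
    (N S : Subgroup Γ) [Fintype N]
    (hnorm : ∀ s ∈ S, ∀ g ∈ N, s * g * s⁻¹ ∈ N) (hS : IsPGroup p S)
    (hcop : (Nat.card N).Coprime (Nat.card S))
    (hC : N ⊓ Subgroup.centralizer (S : Set Γ) = ⊥)
    (θ : N → ℂ) (hθ : IsIrrCharacter N θ) (hinv : SInv N S θ) : θ = fun _ => 1 := by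
  classical
  obtain ⟨C, hCdef⟩ : ∃ C : Subgroup Γ, C = N ⊓ Subgroup.centralizer (S : Set Γ) := ⟨_, rfl⟩
  have hCG : C ≤ N := hCdef ▸ inf_le_left
  have : Fintype C := Fintype.ofFinite C
  obtain ⟨h1, h2, -⟩ := glaub_pgroup p N S C hnorm hS hcop hCdef hCG
  have hCbot : C = ⊥ := hCdef.trans hC
  have hsub : Subsingleton C := by
    rw [hCbot]
    infer_instance
  have hcard : Nat.card (IrrCharacter C) = 1 := by
    rw [card_irr_eq_card_conjClasses]
    have hss : Subsingleton (ConjClasses C) := by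
      constructor
      intro a b
      obtain ⟨a, rfl⟩ := ConjClasses.mk_surjective a
      obtain ⟨b, rfl⟩ := ConjClasses.mk_surjective b
      rw [Subsingleton.elim a b]
    have hne : Nonempty (ConjClasses C) := ⟨ConjClasses.mk 1⟩
    exact Nat.card_eq_one_iff_unique.mpr ⟨hss, hne⟩
  have hsubI : Subsingleton (IrrCharacter C) := (Nat.card_eq_one_iff_unique.mp hcard).1
  have hone : IsIrrCharacter N (fun _ => (1 : ℂ)) := isIrrCharacter_one
  have hinv1 : SInv N S (fun _ => (1 : ℂ)) := fun s hs g g' hg => rfl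
  obtain ⟨β₀, ⟨m, hm, hmod⟩, -⟩ := h1 θ hθ hinv
  obtain ⟨β₁, ⟨m', hm', hmod'⟩, -⟩ := h1 _ hone hinv1
  have hβ : β₁ = β₀ := Subsingleton.elim _ _
  rw [hβ] at hm'
  exact h2 θ _ hθ hone hinv hinv1 β₀ m m' hm (not_dvd_of_pm_one p hp.out m hmod) hm'
    (not_dvd_of_pm_one p hp.out m' hmod')

/-- nontrivial fixed points: there is a nontrivial invariant irreducible character -/
theorem kerpd_glaub_nontriv {Γ : Type*} [Group Γ] [Finite Γ] (p : ℕ) [hp : Fact p.Prime]
    (N S : Subgroup Γ) [Fintype N]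
    (hnorm : ∀ s ∈ S, ∀ g ∈ N, s * g * s⁻¹ ∈ N) (hS : IsPGroup p S)
    (hcop : (Nat.card N).Coprime (Nat.card S))
    (hC : N ⊓ Subgroup.centralizer (S : Set Γ) ≠ ⊥) :
    ∃ θ : N → ℂ, IsIrrCharacter N θ ∧ SInv N S θ ∧ θ ≠ fun _ => 1 := by
  classical
  obtain ⟨C, hCdef⟩ : ∃ C : Subgroup Γ, C = N ⊓ Subgroup.centralizer (S : Set Γ) := ⟨_, rfl⟩
  have hCG : C ≤ N := hCdef ▸ inf_le_left
  have : Fintype C := Fintype.ofFinite C
  obtain ⟨-, -, h3⟩ := glaub_pgroup p N S C hnorm hS hcop hCdef hCG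
  rw [← hCdef] at hC
  obtain ⟨c, hcC, hc1⟩ : ∃ c ∈ C, c ≠ 1 := by
    by_contra hcon
    push Not at hcon
    apply hC
    rw [eq_bot_iff]
    intro n hn
    exact Subgroup.mem_bot.mpr (hcon n hn)
  -- a nontrivial irreducible character of `C`
  have hcard : 1 < Nat.card (IrrCharacter C) := by
    rw [card_irr_eq_card_conjClasses]
    have : Finite (ConjClasses C) := inferInstance
    rw [Finite.one_lt_card_iff_nontrivial]
    refine ⟨ConjClasses.mk (1 : C), ConjClasses.mk (⟨c, hcC⟩ : C), ?_⟩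
    intro h
    rw [ConjClasses.mk_eq_mk_iff_isConj, isConj_one_right] at h
    exact hc1 (congrArg Subtype.val h)
  have : Finite (IrrCharacter C) := Nat.finite_of_card_ne_zero (by omega)
  have hnt : Nontrivial (IrrCharacter C) := Finite.one_lt_card_iff_nontrivial.mp hcard
  obtain ⟨β, hβ⟩ := exists_ne (⟨fun _ => (1 : ℂ), isIrrCharacter_one⟩ : IrrCharacter C)
  obtain ⟨χ, hχ, hinv, m, hm, hpm⟩ := h3 β
  refine ⟨χ, hχ, hinv, ?_⟩
  intro h1
  apply hpm
  have h2 : (χ ∘ Subgroup.inclusion hCG) = fun _ => (1 : ℂ) := by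
    funext x
    rw [Function.comp_apply, h1]
  rw [h2, classInner_irr_ne isIrrCharacter_one β.2 (fun h => hβ (Subtype.ext h.symm))] at hm
  have : m = 0 := by exact_mod_cast hm.symm
  rw [this]
  exact dvd_zero p

end Cfsg.Agent.Lib.Helper25
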