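import Mathlib
import Cfsg.Prelude
import Cfsg.Agent.Lib.Helper25.KerPd1
import Cfsg.Agent.Lib.Helper25.KerPd2
import Cfsg.Agent.Lib.Helper2.GlaubOverAux

set_option autoImplicit false

/-!
Kernels of the irreducible characters of degree prime to `p`, part 3: if the Sylow `p`-subgroup
`P` has trivial centralizer in the normal subgroup `N`, every irreducible character of degree
prime to `p` is trivial on the normal core of `N P'`.
-/

namespace Cfsg.Agent.Lib.Helper25

open Cfsg Cfsg.Agent.Lib.Helper2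
open scoped ComplexConjugate
open scoped commutatorElement

universe u

/-- a normal subgroup in which a Sylow `p`-subgroup has trivial centralizer has order prime to
`p` -/
theorem kerpd_coprime {G : Type*} [Group G] [Finite G] (p : ℕ) [hp : Fact p.Prime]
    (P : Sylow p G) (N : Subgroup G) [hN : N.Normal]
    (hC : N ⊓ Subgroup.centralizer ((P : Subgroup G) : Set G) = ⊥) : ¬ p ∣ Nat.card N := by
  classical
  intro hdvd
  let φ : ↥(P : Subgroup G) →* MulAut ↥N := (MulAut.conjNormal).comp (P : Subgroup G).subtype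
  let _ : MulAction ↥(P : Subgroup G) ↥N := MulAction.compHom ↥N φ
  have hsm : ∀ (s : ↥(P : Subgroup G)) (m : ↥N), s • m = φ s m := fun s m => rfl
  have h1 : (1 : ↥N) ∈ MulAction.fixedPoints ↥(P : Subgroup G) ↥N := by
    intro s
    rw [hsm]
    exact map_one _
  obtain ⟨b, hb, hb1⟩ :=
    P.isPGroup'.exists_fixed_point_of_prime_dvd_card_of_fixed_point ↥N hdvd h1
  have hbc : (b : G) ∈ N ⊓ Subgroup.centralizer ((P : Subgroup G) : Set G) := by
    refine Subgroup.mem_inf.mpr ⟨b.2, ?_⟩
    rw [Subgroup.mem_centralizer_iff]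
    intro s hs
    have h2 := hb ⟨s, hs⟩
    rw [hsm] at h2
    have h3 : s * (b : G) * s⁻¹ = b := by
      have := congrArg Subtype.val h2
      simpa [φ] using this
    calc s * (b : G) = s * b * s⁻¹ * s := by group
      _ = b * s := by rw [h3]
  rw [hC, Subgroup.mem_bot] at hbc
  exact hb1 (Subtype.ext hbc).symm

set_option maxHeartbeats 1600000 in
/-- the irreducible characters of degree prime to `p` are trivial on the core of `N P'` -/
theorem kerpd_ge {G : Type u} [Group G] [Fintype G] (p : ℕ) [hp : Fact p.Prime]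
    (P : Sylow p G) (N : Subgroup G) [hN : N.Normal]
    (hC : N ⊓ Subgroup.centralizer ((P : Subgroup G) : Set G) = ⊥)
    (χ : G → ℂ) (hχ : IsIrrCharacter G χ) (d : ℕ) (hd : χ 1 = (d : ℂ)) (hpd : ¬ p ∣ d) :
    ∀ g ∈ (N ⊔ ⁅(P : Subgroup G), (P : Subgroup G)⁆).normalCore, χ g = χ 1 := by
  classical
  obtain ⟨H, hHdef⟩ : ∃ H : Subgroup G, H = N ⊔ (P : Subgroup G) := ⟨_, rfl⟩
  have hNH : N ≤ H := hHdef ▸ le_sup_left
  have hPH : (P : Subgroup G) ≤ H := hHdef ▸ le_sup_right
  have : Fintype H := Fintype.ofFinite H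
  -- a constituent of degree prime to `p` on `H`
  obtain ⟨ψ, hψ, hψne, e, he, hpe⟩ := kerpd_constituent p
    (IsCharacter.comp_hom (isCharacter_of_isIrrCharacter hχ) H.subtype) d
    (by rw [Function.comp_apply, map_one]; exact hd) hpd
  -- the normal subgroup `N` of `H`
  obtain ⟨N', hN'def⟩ : ∃ N' : Subgroup H, N' = N.subgroupOf H := ⟨_, rfl⟩
  have hN'n : N'.Normal := hN'def ▸ Subgroup.normal_subgroupOf
  have : Fintype N' := Fintype.ofFinite N'
  obtain ⟨S', hS'def⟩ : ∃ S' : Subgroup H, S' = (P : Subgroup G).subgroupOf H := ⟨_, rfl⟩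
  have hcardN' : Nat.card N' = Nat.card N := by
    rw [hN'def]
    exact Nat.card_congr (Subgroup.subgroupOfEquivOfLe hNH).toEquiv
  have hcardS' : Nat.card S' = Nat.card (P : Subgroup G) := by
    rw [hS'def]
    exact Nat.card_congr (Subgroup.subgroupOfEquivOfLe hPH).toEquiv
  obtain ⟨k, hk⟩ := IsPGroup.iff_card.mp P.isPGroup'
  have hpN : ¬ p ∣ Nat.card N := kerpd_coprime p P N hC
  have hcopN : (Nat.card N).Coprime p :=
    (Nat.Prime.coprime_iff_not_dvd hp.out).mpr hpN |>.symm
  have hidx : N'.index ∣ p ^ k := by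
    have h1 : N'.index = N.relIndex H := by
      rw [hN'def]
      rfl
    rw [h1, hHdef, Subgroup.relIndex_sup_left, ← hk]
    exact Subgroup.relIndex_dvd_card _ _
  -- an irreducible constituent of the restriction to `N'`
  have hψc := isCharacter_of_isIrrCharacter hψ
  have hψN : IsCharacter N' (fun n : N' => ψ n) := IsCharacter.restrict hψc N'
  have hepos : 0 < e := by
    obtain ⟨e', he'pos, he'⟩ := irr_apply_one hψ
    have h0 : e = e' := by
      rw [he] at he'
      exact_mod_cast he'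
    rw [h0]
    exact he'pos
  have hψN0 : (fun n : N' => ψ n) ≠ 0 := by
    intro h0
    have h1 := congrFun h0 1
    simp only [Pi.zero_apply, Subgroup.coe_one] at h1
    rw [he] at h1
    have : e = 0 := by exact_mod_cast h1
    omega
  obtain ⟨φ, hφ, hφne⟩ := exists_irr_constituent hψN hψN0
  obtain ⟨dφ, hdφpos, hdφ⟩ := irr_apply_one hφ
  obtain ⟨e', he'⟩ := clifford_degree N' hψ hφ hφne e dφ he hdφ
  -- the constituent is invariant
  have hNI : N' ≤ inertia N' φ := by
    intro g hg
    rw [mem_inertia]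
    exact conjFun_of_mem N' (isClassFunction_of_isIrrCharacter hφ) hg
  have hItop : inertia N' φ = ⊤ := by
    rw [← Subgroup.index_eq_one]
    have h1 : (inertia N' φ).index ∣ p ^ k := (Subgroup.index_dvd_of_le hNI).trans hidx
    obtain ⟨j, -, hj⟩ := (Nat.dvd_prime_pow hp.out).mp h1
    rcases Nat.eq_zero_or_pos j with h0 | hpos
    · rw [hj, h0, pow_zero]
    · exfalso
      apply hpe
      rw [he', hj]
      exact Dvd.dvd.mul_left (Dvd.dvd.mul_right (dvd_pow_self p hpos.ne') _) _
  have hinv : SInv N' S' φ := by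
    intro s hs g g' hg
    have h1 : s ∈ inertia N' φ := by
      rw [hItop]
      exact Subgroup.mem_top s
    rw [mem_inertia] at h1
    have h2 := congrFun h1 g
    rw [conjFun_apply] at h2
    rw [← h2]
    congr 1
    exact Subtype.ext hg
  -- Glauberman: the constituent is trivial
  have hS'p : IsPGroup p S' := by
    rw [hS'def]
    exact P.isPGroup'.of_injective ((Subgroup.subgroupOfEquivOfLe hPH).toMonoidHom)
      (MulEquiv.injective _)
  have hC' : N' ⊓ Subgroup.centralizer (S' : Set H) = ⊥ := by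
    rw [eq_bot_iff]
    intro x hx
    obtain ⟨hx1, hx2⟩ := Subgroup.mem_inf.mp hx
    rw [Subgroup.mem_bot]
    apply Subtype.ext
    have h1 : (x : G) ∈ N ⊓ Subgroup.centralizer ((P : Subgroup G) : Set G) := by
      refine Subgroup.mem_inf.mpr ⟨?_, ?_⟩
      · rw [hN'def] at hx1
        exact hx1
      · rw [Subgroup.mem_centralizer_iff]
        intro s hs
        rw [Subgroup.mem_centralizer_iff] at hx2
        have h2 := hx2 ⟨s, hPH hs⟩ (by rw [hS'def]; exact hs)
        exact congrArg Subtype.val h2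
    rw [hC, Subgroup.mem_bot] at h1
    exact h1
  have hφ1 : φ = fun _ => 1 := by
    apply kerpd_glaub_triv p N' S' (fun s _ g hg => hN'n.conj_mem g hg s) hS'p ?_ hC' φ hφ hinv
    rw [hcardN', hcardS', hk]
    exact Nat.Coprime.pow_right k hcopN
  -- `ψ` is trivial on `N'`, hence linear
  rw [hφ1] at hφne
  have hker := kerpd_clifford_ker N' hψ hφne
  have he1 : e = 1 := by
    have h1 : classInner (fun n : N' => ψ n) (fun _ => (1 : ℂ)) = (e : ℂ) := by
      have h2 : (fun n : N' => ψ n) = (e : ℂ) • (fun _ : N' => (1 : ℂ)) := by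
        funext n
        rw [hker n n.2, he]
        simp
      rw [h2, classInner_smul_left, classInner_irr_self isIrrCharacter_one, mul_one]
    have h3 := mult_dvd_index N' hψ (isIrrCharacter_one (G := N')) e h1 hepos.ne'
    have h4 : e ∣ p ^ k := h3.trans hidx
    have h5 : (e).Coprime (p ^ k) :=
      Nat.Coprime.pow_right k ((Nat.Prime.coprime_iff_not_dvd hp.out).mpr hpe).symm
    exact Nat.Coprime.eq_one_of_dvd h5 h4
  rw [he1, Nat.cast_one] at he
  obtain ⟨Λ, hΛ⟩ := hom_of_irr_deg_one hψ he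
  -- `ψ` is trivial on `N P'`
  have hZ : N ⊔ ⁅(P : Subgroup G), (P : Subgroup G)⁆ ≤ Λ.ker.map H.subtype := by
    apply sup_le
    · intro n hn
      refine ⟨⟨n, hNH hn⟩, MonoidHom.mem_ker.mpr ?_, rfl⟩
      apply Units.ext
      have h1 := hker ⟨n, hNH hn⟩ (by rw [hN'def]; exact hn)
      rw [he, hΛ] at h1
      exact h1
    · rw [Subgroup.commutator_le]
      intro a ha b hb
      refine ⟨⁅(⟨a, hPH ha⟩ : H), (⟨b, hPH hb⟩ : H)⁆, MonoidHom.mem_ker.mpr ?_, rfl⟩
      rw [map_commutatorElement]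
      exact commutatorElement_eq_one_iff_commute.mpr (Commute.all _ _)
  -- the core
  obtain ⟨K, hKdef⟩ : ∃ K : Subgroup G,
      K = (N ⊔ ⁅(P : Subgroup G), (P : Subgroup G)⁆).normalCore := ⟨_, rfl⟩
  have hKn : K.Normal := hKdef ▸ Subgroup.normalCore_normal _
  have hKle : K ≤ N ⊔ ⁅(P : Subgroup G), (P : Subgroup G)⁆ := hKdef ▸ Subgroup.normalCore_le _
  have hKH : K ≤ H := by
    intro x hx
    obtain ⟨y, -, hy⟩ := hZ (hKle hx)
    rw [← hy]
    exact y.2
  have : Fintype K := Fintype.ofFinite K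
  have hψK : ψ ∘ Subgroup.inclusion hKH = fun _ => (1 : ℂ) := by
    funext x
    obtain ⟨y, hy, hyx⟩ := hZ (hKle x.2)
    have h1 : Subgroup.inclusion hKH x = y := Subtype.ext hyx.symm
    rw [Function.comp_apply, h1, hΛ]
    have hy' : Λ y = 1 := MonoidHom.mem_ker.mp hy
    show ((Λ y : ℂˣ) : ℂ) = 1
    rw [hy']
    rfl
  have h2 : classInner (ψ ∘ Subgroup.inclusion hKH) (fun _ : K => (1 : ℂ)) ≠ 0 := by
    rw [hψK, classInner_irr_self isIrrCharacter_one]
    exact one_ne_zero
  have h3 := kerpd_over_trans H.subtype (Subgroup.inclusion hKH)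
    (isCharacter_of_isIrrCharacter hχ) hψ (isIrrCharacter_one (G := K)) hψne h2
  have h4 := kerpd_clifford_ker K hχ h3
  rw [← hKdef]
  exact h4

end Cfsg.Agent.Lib.Helper25
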