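import Mathlib
import Cfsg.Prelude
import Cfsg.Agent.Lib.Helper25.KerPd1
import Cfsg.Agent.Lib.Helper25.KerPd2
import Cfsg.Agent.Lib.Helper25.Osima
import Cfsg.Agent.Lib.Helper2.HallDeg
import Cfsg.Agent.Lib.Helper18.PGroupFrat
import Cfsg.Agent.S0081

set_option autoImplicit false

/-!
Kernels of the irreducible characters of degree prime to `p`, part 4: a normal subgroup `L` on
which all irreducible characters of degree prime to `p` are trivial lies in `N P'`, where `N`
contains every normal subgroup in which the Sylow `p`-subgroup `P` has trivial centralizer.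
-/

namespace Cfsg.Agent.Lib.Helper25

open Cfsg Cfsg.Agent.Lib.Helper2
open scoped ComplexConjugate
open scoped commutatorElement
open Pointwise

universe u

/-- an element of a Sylow `p`-subgroup `P` in the kernel of all irreducible characters of
degree prime to `p` lies in the derived subgroup of `P` -/
theorem kerpd_mem_commutator {G : Type*} [Group G] [Fintype G] (p : ℕ) [hp : Fact p.Prime]
    (P : Sylow p G) (x : G) (hxP : x ∈ (P : Subgroup G))
    (hx : ∀ χ : G → ℂ, IsIrrCharacter G χ → ∀ d : ℕ, χ 1 = (d : ℂ) → ¬ p ∣ d → χ x = χ 1) :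
    (⟨x, hxP⟩ : (P : Subgroup G)) ∈ commutator (P : Subgroup G) := by
  classical
  have : Fintype (P : Subgroup G) := Fintype.ofFinite _
  by_contra hcon
  have hne : (Abelianization.of (⟨x, hxP⟩ : (P : Subgroup G)))
      ∉ (⊥ : Subgroup (Abelianization (P : Subgroup G))) := by
    rw [Subgroup.mem_bot]
    intro h
    apply hcon
    rw [← Abelianization.ker_of]
    exact MonoidHom.mem_ker.mpr h
  obtain ⟨φ, -, hφ⟩ := exists_hom_trivial_on' (C := Abelianization (P : Subgroup G))
    (fun a b => mul_comm a b) ⊥ hne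
  obtain ⟨Λ, hΛ⟩ : ∃ Λ : (P : Subgroup G) →* ℂˣ, Λ = φ.comp Abelianization.of := ⟨_, rfl⟩
  have hψ : IsIrrCharacter (P : Subgroup G) (fun u => ((Λ u : ℂˣ) : ℂ)) :=
    isIrrCharacter_of_hom Λ
  obtain ⟨χ, hχ, hne', d, hd, hpd⟩ := kerpd_exists_over p (P : Subgroup G) P.not_dvd_index hψ 1
    (by simp) (fun h => hp.out.one_lt.ne' (Nat.dvd_one.mp h))
  have h1 := hx χ hχ d hd hpd
  have h2 := kerpd_ker_constituent (Θ := fun h : (P : Subgroup G) => χ h)
    (IsCharacter.restrict (isCharacter_of_isIrrCharacter hχ) _) (x := ⟨x, hxP⟩) h1 hψ hne'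
  apply hφ
  simp only [map_one, Units.val_one] at h2
  have h3 : Λ ⟨x, hxP⟩ = 1 := Units.ext h2
  rw [hΛ] at h3
  exact h3

set_option maxHeartbeats 1600000 in
/-- a normal subgroup in the kernel of all irreducible characters of degree prime to `p` lies
in `N P'` -/
theorem kerpd_le {G : Type u} [Group G] [Fintype G] (p : ℕ) [hp : Fact p.Prime]
    (P : Sylow p G) (N : Subgroup G)
    (hmax : ∀ L : Subgroup G, L.Normal →
      L ⊓ Subgroup.centralizer ((P : Subgroup G) : Set G) = ⊥ → L ≤ N)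
    (L : Subgroup G) [hL : L.Normal]
    (hker : ∀ g ∈ L, ∀ χ : G → ℂ, IsIrrCharacter G χ → ∀ d : ℕ, χ 1 = (d : ℂ) → ¬ p ∣ d →
      χ g = χ 1) :
    L ≤ N ⊔ ⁅(P : Subgroup G), (P : Subgroup G)⁆ := by
  classical
  have hpr : p.Prime := hp.out
  have hB1 : ∀ x (hxP : x ∈ (P : Subgroup G)), x ∈ L →
      (⟨x, hxP⟩ : (P : Subgroup G)) ∈ commutator (P : Subgroup G) :=
    fun x hxP hxL => kerpd_mem_commutator p P x hxP (hker x hxL)
  have hLP : L ⊓ (P : Subgroup G) ≤ ⁅(P : Subgroup G), (P : Subgroup G)⁆ := by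
    intro x hx
    obtain ⟨hxL, hxP⟩ := Subgroup.mem_inf.mp hx
    rw [← Subgroup.map_subtype_commutator]
    exact ⟨⟨x, hxP⟩, hB1 x hxP hxL, rfl⟩
  -- the subgroup generated by the elements of `L` of order prime to `p`
  obtain ⟨K, hKdef⟩ : ∃ K : Subgroup G, K = (Cfsg.pResidual p L).map L.subtype := ⟨_, rfl⟩
  have hKL : K ≤ L := hKdef ▸ Subgroup.map_subtype_le _
  have hKn : K.Normal := by
    constructor
    intro k hk g
    rw [hKdef] at hk ⊢
    obtain ⟨n, hn, rfl⟩ := hk
    exact ⟨MulAut.conjNormal g n,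
      Cfsg.Agent.S0081.pResidual_map_mulEquiv p (MulAut.conjNormal g) hn, rfl⟩
  have hKgen : K ≤ Subgroup.closure {g : G | g ∈ K ∧ (orderOf g).Coprime p} := by
    conv_lhs => rw [hKdef]
    unfold Cfsg.pResidual
    rw [MonoidHom.map_closure, Subgroup.closure_le]
    rintro _ ⟨n, hn, rfl⟩
    apply Subgroup.subset_closure
    refine ⟨?_, ?_⟩
    · rw [hKdef]
      exact Subgroup.mem_map_of_mem _ (Subgroup.subset_closure hn)
    · show Nat.Coprime (orderOf (L.subtype n)) p
      rw [Subgroup.coe_subtype, Subgroup.orderOf_coe]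
      exact hn
  have : Group.IsNilpotent (P : Subgroup G) := P.isPGroup'.isNilpotent
  have hKP : K ⊓ (P : Subgroup G) ≤ (frattini P).map (P : Subgroup G).subtype := by
    intro x hx
    obtain ⟨hxK, hxP⟩ := Subgroup.mem_inf.mp hx
    exact ⟨⟨x, hxP⟩, Cfsg.Agent.Lib.Helper18.commutator_le_frattini_of_isNilpotent
      (hB1 x hxP (hKL hxK)), rfl⟩
  have hbot := Cfsg.Agent.Lib.Helper1.tate_aux P K hKgen hKP
  have hcopK : (Nat.card K).Coprime p := by
    rw [Nat.coprime_comm, Nat.Prime.coprime_iff_not_dvd hpr]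
    intro hdvd
    obtain ⟨k, hk⟩ := exists_prime_orderOf_dvd_card' p hdvd
    have hzp : IsPGroup p (Subgroup.zpowers (k : G)) := by
      apply IsPGroup.of_card (n := 1)
      rw [Nat.card_zpowers, pow_one, Subgroup.orderOf_coe]
      exact hk
    obtain ⟨Q, hQ⟩ := hzp.exists_le_sylow
    obtain ⟨g, hg⟩ := MulAction.exists_smul_eq G Q P
    have h1 : g * (k : G) * g⁻¹ ∈ (P : Subgroup G) := by
      rw [← hg, Sylow.coe_subgroup_smul, Cfsg.Agent.Lib.Helper1.mem_conj_smul_iff]
      apply hQ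
      convert Subgroup.mem_zpowers (k : G) using 1
      group
    have h2 : g * (k : G) * g⁻¹ ∈ K := hKn.conj_mem _ k.2 g
    have h3 : g * (k : G) * g⁻¹ ∈ K ⊓ (P : Subgroup G) := Subgroup.mem_inf.mpr ⟨h2, h1⟩
    rw [hbot, Subgroup.mem_bot] at h3
    have h4 : (k : G) = 1 := by
      have e : (k : G) = g⁻¹ * (g * (k : G) * g⁻¹) * g := by group
      rw [e, h3]
      group
    have h5 : k = 1 := Subtype.ext h4
    rw [h5, orderOf_one] at hk
    exact hpr.one_lt.ne' hk.symm
  -- `P` has trivial centralizer in `K`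
  have hKC : K ⊓ Subgroup.centralizer ((P : Subgroup G) : Set G) = ⊥ := by
    by_contra hne
    obtain ⟨H, hHdef⟩ : ∃ H : Subgroup G, H = K ⊔ (P : Subgroup G) := ⟨_, rfl⟩
    have hKH : K ≤ H := hHdef ▸ le_sup_left
    have hPH : (P : Subgroup G) ≤ H := hHdef ▸ le_sup_right
    have : Fintype H := Fintype.ofFinite H
    obtain ⟨K', hK'def⟩ : ∃ K' : Subgroup H, K' = K.subgroupOf H := ⟨_, rfl⟩
    have hK'n : K'.Normal := hK'def ▸ Subgroup.normal_subgroupOf
    have : Fintype K' := Fintype.ofFinite K'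
    obtain ⟨S', hS'def⟩ : ∃ S' : Subgroup H, S' = (P : Subgroup G).subgroupOf H := ⟨_, rfl⟩
    have hcardK' : Nat.card K' = Nat.card K := by
      rw [hK'def]
      exact Nat.card_congr (Subgroup.subgroupOfEquivOfLe hKH).toEquiv
    have hcardS' : Nat.card S' = Nat.card (P : Subgroup G) := by
      rw [hS'def]
      exact Nat.card_congr (Subgroup.subgroupOfEquivOfLe hPH).toEquiv
    obtain ⟨k, hk⟩ := IsPGroup.iff_card.mp P.isPGroup'
    have hS'p : IsPGroup p S' := by
      rw [hS'def]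
      exact P.isPGroup'.of_injective ((Subgroup.subgroupOfEquivOfLe hPH).toMonoidHom)
        (MulEquiv.injective _)
    have hcop' : (Nat.card K').Coprime (Nat.card S') := by
      rw [hcardK', hcardS', hk]
      exact Nat.Coprime.pow_right k hcopK
    have hC' : K' ⊓ Subgroup.centralizer (S' : Set H) ≠ ⊥ := by
      intro h0
      apply hne
      rw [eq_bot_iff]
      intro c hc
      obtain ⟨hcK, hcC⟩ := Subgroup.mem_inf.mp hc
      have h1 : (⟨c, hKH hcK⟩ : H) ∈ K' ⊓ Subgroup.centralizer (S' : Set H) := by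
        refine Subgroup.mem_inf.mpr ⟨by rw [hK'def]; exact hcK, ?_⟩
        rw [Subgroup.mem_centralizer_iff]
        intro s hs
        apply Subtype.ext
        rw [Subgroup.mem_centralizer_iff] at hcC
        exact hcC s (by rw [hS'def] at hs; exact hs)
      rw [h0, Subgroup.mem_bot] at h1
      exact Subgroup.mem_bot.mpr (congrArg Subtype.val h1)
    obtain ⟨θ, hθ, hθinv, hθ1⟩ := kerpd_glaub_nontriv p K' S'
      (fun s _ g hg => hK'n.conj_mem g hg s) hS'p hcop' hC'
    -- invariance under the whole of `H`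
    have hGinv : GInv K' θ := by
      intro g n
      have hg : (g : G) ∈ K ⊔ (P : Subgroup G) := hHdef ▸ g.2
      obtain ⟨a, ha, u, hu, hau⟩ := Subgroup.mem_sup_of_normal_left.mp hg
      obtain ⟨u', hu'⟩ : ∃ u' : H, u' = ⟨u, hPH hu⟩ := ⟨_, rfl⟩
      obtain ⟨a', ha'⟩ : ∃ a' : K', a' = ⟨⟨a, hKH ha⟩, by rw [hK'def]; exact ha⟩ := ⟨_, rfl⟩
      obtain ⟨m, hm⟩ : ∃ m : K', m = ⟨u' * n * u'⁻¹, hK'n.conj_mem n n.2 u'⟩ := ⟨_, rfl⟩
      have h1 : θ m = θ n :=
        hθinv u' (by rw [hS'def, hu']; exact hu) n m (by rw [hm])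
      have h2 : (⟨g * n * g⁻¹, hK'n.conj_mem (n : H) n.2 g⟩ : K') = a' * m * a'⁻¹ := by
        apply Subtype.ext
        apply Subtype.ext
        rw [ha', hm, hu']
        simp only [Subgroup.coe_mul, Subgroup.coe_inv]
        rw [← hau]
        group
      rw [h2, isClassFunction_of_isIrrCharacter hθ m a', h1]
    have hidxK' : K'.index ∣ p ^ k := by
      have h1 : K'.index = K.relIndex H := by
        rw [hK'def]
        rfl
      rw [h1, hHdef, Subgroup.relIndex_sup_left, ← hk]
      exact Subgroup.relIndex_dvd_card _ _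
    have hcopidx : (Nat.card K').Coprime K'.index :=
      Nat.Coprime.coprime_dvd_right hidxK' (by rw [hcardK']; exact Nat.Coprime.pow_right k hcopK)
    obtain ⟨ψ, hψ, hext⟩ := exists_ext_of_coprime K' hcopidx θ hθ hGinv
    obtain ⟨e, hepos, he⟩ := irr_apply_one hθ
    have heK : e ∣ Nat.card K' := irr_deg_dvd_card' hθ e he
    have hpe : ¬ p ∣ e := by
      intro h
      have h1 : p ∣ Nat.card K := hcardK' ▸ h.trans heK
      exact (Nat.Prime.coprime_iff_not_dvd hpr).mp hcopK.symm h1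
    have hψ1 : ψ 1 = (e : ℂ) := by
      rw [← he]
      exact hext 1
    have hidxH : ¬ p ∣ H.index :=
      fun h => P.not_dvd_index (h.trans (Subgroup.index_dvd_of_le hPH))
    obtain ⟨χ, hχ, hχne, d, hd, hpd⟩ := kerpd_exists_over p H hidxH hψ e hψ1 hpe
    have hθconst : ∀ n : K', θ n = θ 1 := by
      intro n
      have hnK : ((n : H) : G) ∈ K := by
        have h : (n : H) ∈ K' := n.2
        have h' : K' ≤ K.subgroupOf H := hK'def.le
        exact Subgroup.mem_subgroupOf.mp (h' h)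
      have h1 : χ ((n : H) : G) = χ 1 := hker _ (hKL hnK) χ hχ d hd hpd
      have h2 := kerpd_ker_constituent (Θ := fun h : H => χ h)
        (IsCharacter.restrict (isCharacter_of_isIrrCharacter hχ) H) (x := (n : H)) h1 hψ hχne
      rw [← hext n, ← hext 1]
      exact h2
    apply hθ1
    have h3 : θ = (e : ℂ) • (fun _ : K' => (1 : ℂ)) := by
      funext n
      rw [hθconst n, he]
      simp
    by_contra hne1
    have h4 := classInner_irr_ne hθ (isIrrCharacter_one (G := K')) hne1
    rw [h3, classInner_smul_left, classInner_irr_self isIrrCharacter_one, mul_one] at h4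
    have h5 : e = 0 := by exact_mod_cast h4
    omega
  have hKN : K ≤ N := hmax K hKn hKC
  -- `L` is the product of `K` and `L ∩ P`
  obtain ⟨PN⟩ : Nonempty (Sylow p L) := inferInstance
  have hcopM : (Nat.card (Cfsg.pResidual p L)).Coprime p := by
    rw [← Subgroup.card_map_of_injective L.subtype_injective, ← hKdef]
    exact hcopK
  have hnormR := Cfsg.Agent.Lib.Helper1.pResidual_normal (G := L) p
  obtain ⟨j, hj⟩ := IsPGroup.iff_card.mp
    (Cfsg.Agent.Lib.Helper1.isPGroup_quotient_pResidual (G := L) p)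
  have hcompl := Cfsg.Agent.S0072.isComplement'_sylow_of_coprime _ hcopM (j := j) hj PN
  have hPNp : IsPGroup p ((PN : Subgroup L).map L.subtype) := PN.isPGroup'.map _
  obtain ⟨Q, hQ⟩ := hPNp.exists_le_sylow
  obtain ⟨g, hg⟩ := MulAction.exists_smul_eq G Q P
  have hconj : ∀ u ∈ (PN : Subgroup L), g * (u : G) * g⁻¹ ∈ (P : Subgroup G) := by
    intro u hu
    rw [← hg, Sylow.coe_subgroup_smul, Cfsg.Agent.Lib.Helper1.mem_conj_smul_iff]
    apply hQ
    refine ⟨u, hu, ?_⟩
    rw [Subgroup.coe_subtype]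
    group
  intro y hy
  have hy' : g⁻¹ * y * g ∈ L := by
    have := hL.conj_mem y hy g⁻¹
    rwa [inv_inv] at this
  have hmem : (⟨g⁻¹ * y * g, hy'⟩ : L) ∈ Cfsg.pResidual p L ⊔ (PN : Subgroup L) := by
    rw [hcompl.sup_eq_top]
    exact Subgroup.mem_top _
  obtain ⟨a, ha, u, hu, hau⟩ := Subgroup.mem_sup_of_normal_left.mp hmem
  have hau' : (a : G) * (u : G) = g⁻¹ * y * g := congrArg Subtype.val hau
  have hyeq : y = (g * (a : G) * g⁻¹) * (g * (u : G) * g⁻¹) := by
    have : g * (a : G) * g⁻¹ * (g * (u : G) * g⁻¹) = g * ((a : G) * (u : G)) * g⁻¹ := by group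
    rw [this, hau']
    group
  rw [hyeq]
  apply Subgroup.mul_mem
  · apply Subgroup.mem_sup_left
    apply hKN
    apply hKn.conj_mem
    rw [hKdef]
    exact ⟨a, ha, rfl⟩
  · apply Subgroup.mem_sup_right
    apply hLP
    exact Subgroup.mem_inf.mpr ⟨hL.conj_mem _ u.2 g, hconj u hu⟩

end Cfsg.Agent.Lib.Helper25
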