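import Mathlib
import Cfsg.Agent.Lib.Helper25.DefectOne
import Cfsg.Agent.S0936
import Cfsg.Agent.S4646
import Cfsg.Agent.S4691

/-!
# The principal `2`-block of a group with a Klein four Sylow `2`-subgroup and one class of
involutions
-/

set_option autoImplicit false

namespace Cfsg.Agent.Lib.Helper25

open Cfsg Cfsg.Agent.Lib.Helper2 Cfsg.Agent.Lib.Helper8

open scoped ComplexConjugate

section four

variable {G : Type*} [Group G] [Fintype G] {M : Ideal AlgInt}

/-- the principal `2`-block of a group whose Sylow `2`-subgroups have order four has exactly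
four characters -/
theorem card_principal_of_sylow_four (hM : IsPModular 2 M)
    (hG : (Nat.card G).factorization 2 = 2) : Nat.card (principalBlock M G) = 4 := by
  classical
  have : Fact (Nat.Prime 2) := ⟨Nat.prime_two⟩
  have hpr := isPrime_of_isPModular hM
  have : Fintype (IrrCharacter G) := Fintype.ofFinite _
  let one : IrrCharacter G := ⟨fun _ => 1, isIrrCharacter_one⟩
  have hone : one ∈ principalBlock M G := sameBlock_refl M _
  have hB : IsPBlock M (principalBlock M G) := ⟨one, rfl⟩
  have hdeg1 : charDegree (one : G → ℂ) = 1 := by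
    simp [charDegree, one]
  obtain ⟨m0, hm0, -, hall⟩ := blockDefect_spec (p := 2) (principalBlock M G) ⟨one, hone⟩
  have hm00 : m0 = 0 := by
    have h := hall one hone
    rw [hdeg1] at h
    by_contra hne
    have h2 : 2 ∣ 2 ^ m0 := dvd_pow_self 2 hne
    have h3 := Nat.le_of_dvd one_pos (h2.trans h)
    omega
  have hdef : blockDefect 2 (principalBlock M G) = 2 := by omega
  have h1 := Cfsg.Agent.S4494.result 2 M hM _ hB
  rw [hdef] at h1
  have h2 := Cfsg.Agent.S4491.result 2 M hM _ hB
  rw [hdef, hG] at h2
  have hdeg : ∀ χ ∈ principalBlock M G, charDegree (χ : G → ℂ) ^ 2 % 8 = 1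
      ∨ charDegree (χ : G → ℂ) ^ 2 % 8 = 4 := by
    intro χ hχ
    obtain ⟨d, hd1, hdpos, hdvd, hcd⟩ := irr_degree χ
    rw [hcd]
    have hnot4 : ¬ 4 ∣ d := by
      intro h4
      have hfd : 2 ≤ d.factorization 2 :=
        (Nat.Prime.pow_dvd_iff_le_factorization Nat.prime_two hdpos.ne').mp h4
      have hp : ¬ 2 ∣ Nat.card G / d :=
        not_dvd_div_of_factorization_le Nat.card_pos hdvd (by rw [hG]; exact hfd)
      have he := eq_of_sameBlock_of_defect_zero hM χ one (sameBlock_symm M hχ) d hd1 hdvd hp
      have h5 : (d : ℂ) = 1 := by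
        rw [← hd1, ← he]
      have h6 : d = 1 := by exact_mod_cast h5
      rw [h6] at h4
      omega
    have h8 : d % 8 = 1 ∨ d % 8 = 2 ∨ d % 8 = 3 ∨ d % 8 = 5 ∨ d % 8 = 6 ∨ d % 8 = 7 := by
      omega
    rcases h8 with h | h | h | h | h | h <;> simp [Nat.pow_mod, h]
  set T : Finset (IrrCharacter G) :=
    Finset.univ.filter (fun χ : IrrCharacter G => χ ∈ principalBlock M G) with hT
  have hcardT : Nat.card (principalBlock M G) = T.card := by
    rw [Nat.card_eq_fintype_card, Fintype.card_subtype]
  have hsum : (∑ᶠ χ ∈ principalBlock M G, charDegree (χ : G → ℂ) ^ 2)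
      = ∑ χ ∈ T, charDegree (χ : G → ℂ) ^ 2 := by
    rw [finsum_mem_eq_sum_indicator, hT, Finset.sum_filter]
    apply Finset.sum_congr rfl
    intro χ _
    by_cases hχ : χ ∈ principalBlock M G
    · rw [Set.indicator_of_mem hχ, if_pos hχ]
    · rw [Set.indicator_of_notMem hχ, if_neg hχ]
  rw [hsum] at h2
  set S : ℕ := ∑ χ ∈ T, charDegree (χ : G → ℂ) ^ 2 with hS
  have hS0 : S ≠ 0 := by
    intro h0
    rw [h0] at h2
    simp at h2
  have hS4 : S % 8 = 4 := by
    have h4 : 2 ^ 2 ∣ S :=
      (Nat.Prime.pow_dvd_iff_le_factorization Nat.prime_two hS0).mpr (by omega)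
    have h8 : ¬ 2 ^ 3 ∣ S := fun h =>
      absurd ((Nat.Prime.pow_dvd_iff_le_factorization Nat.prime_two hS0).mp h) (by omega)
    omega
  have hmod : S % 8 = (∑ χ ∈ T, (if charDegree (χ : G → ℂ) ^ 2 % 8 = 1 then 1 else 4)) % 8 := by
    rw [hS, Finset.sum_nat_mod]
    congr 1
    apply Finset.sum_congr rfl
    intro χ hχ
    have hχ' : χ ∈ principalBlock M G := (Finset.mem_filter.mp hχ).2
    rcases hdeg χ hχ' with h | h
    · rw [if_pos h, h]
    · rw [if_neg (by omega), h]
  rw [Finset.sum_ite, Finset.sum_const, Finset.sum_const, smul_eq_mul, smul_eq_mul, mul_one]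
    at hmod
  have hk := Finset.card_filter_add_card_filter_not (s := T)
    (fun χ : IrrCharacter G => charDegree (χ : G → ℂ) ^ 2 % 8 = 1)
  have hk0 : 0 < (T.filter (fun χ : IrrCharacter G => charDegree (χ : G → ℂ) ^ 2 % 8 = 1)).card := by
    apply Finset.card_pos.mpr
    refine ⟨one, Finset.mem_filter.mpr ⟨Finset.mem_filter.mpr ⟨Finset.mem_univ _, hone⟩, ?_⟩⟩
    rw [hdeg1]
    norm_num
  rw [hcardT] at h1 ⊢
  omega

end four

section count2

variable {G : Type*} [Group G] [Fintype G] {p : ℕ} {M : Ideal AlgInt}

/-- the blocks of the centralizer of the identity inducing `B` have total rank the rank of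
`B` -/
theorem finsum_induced_one [Fact p.Prime] (hM : IsPModular p M) (B : Set (IrrCharacter G))
    (hB : IsPBlock M B) :
    (∑ᶠ b ∈ {b : Set (IrrCharacter (Subgroup.centralizer ({(1 : G)} : Set G))) |
      IsInducedBlock M (Subgroup.centralizer ({(1 : G)} : Set G)) b B}, blockRank p b)
      = blockRank p B := by
  classical
  have hpr := isPrime_of_isPModular hM
  have : Fintype (IrrCharacter G) := Fintype.ofFinite _
  have : Fintype (Subgroup.centralizer ({(1 : G)} : Set G)) := Fintype.ofFinite _
  have hx : ∃ k : ℕ, orderOf (1 : G) = p ^ k := ⟨0, by simp⟩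
  have h1 := section_count hM B hB (1 : G) hx
  have hmem : ∀ g : G, g ∈ Subgroup.centralizer ({(1 : G)} : Set G) := by
    intro g
    rw [Subgroup.mem_centralizer_singleton_iff]
    simp
  let e : Subgroup.centralizer ({(1 : G)} : Set G) ≃ G :=
    ⟨fun y => y.1, fun g => ⟨g, hmem g⟩, fun y => rfl, fun g => rfl⟩
  have hcard : Nat.card (Subgroup.centralizer ({(1 : G)} : Set G)) = Nat.card G :=
    Nat.card_congr e
  have h2 : ∀ χ : IrrCharacter G,
      (∑ᶠ y : Subgroup.centralizer ({(1 : G)} : Set G),
        pRegularPart p (fun c : Subgroup.centralizer ({(1 : G)} : Set G) =>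
          (χ : G → ℂ) (1 * (c : G)) * (χ : G → ℂ) (1 * (c : G))⁻¹) y)
      = ∑ g : G, if IsPRegular p g then (χ : G → ℂ) g * (χ : G → ℂ) g⁻¹ else 0 := by
    intro χ
    rw [finsum_eq_sum_of_fintype]
    apply Fintype.sum_equiv e
    intro y
    have hy : IsPRegular p y ↔ IsPRegular p (e y) := by
      unfold IsPRegular
      show ¬ p ∣ orderOf y ↔ ¬ p ∣ orderOf (y : G)
      rw [Subgroup.orderOf_coe]
    unfold pRegularPart
    by_cases hs : IsPRegular p y
    · rw [if_pos hs, if_pos (hy.mp hs)]
      show (χ : G → ℂ) (1 * (y : G)) * (χ : G → ℂ) (1 * (y : G))⁻¹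
        = (χ : G → ℂ) (y : G) * (χ : G → ℂ) (y : G)⁻¹
      rw [one_mul]
    · rw [if_neg hs, if_neg (fun h => hs (hy.mpr h))]
  have h3 : ∑ χ : IrrCharacter G, (if χ ∈ B then
      ∑ᶠ y : Subgroup.centralizer ({(1 : G)} : Set G),
        pRegularPart p (fun c : Subgroup.centralizer ({(1 : G)} : Set G) =>
          (χ : G → ℂ) (1 * (c : G)) * (χ : G → ℂ) (1 * (c : G))⁻¹) y else 0)
      = (Nat.card G : ℂ) * (blockRank p B : ℂ) := by
    rw [← sum_regular_eq_blockRank hM B (blockClosed_of_isPBlock M hB)]
    rw [Finset.sum_congr rfl (fun χ _ => by rw [h2 χ])]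
    have h4 : ∀ χ : IrrCharacter G, (if χ ∈ B then
        ∑ g : G, (if IsPRegular p g then (χ : G → ℂ) g * (χ : G → ℂ) g⁻¹ else 0) else 0)
        = ∑ g : G, (if IsPRegular p g then
            (if χ ∈ B then (χ : G → ℂ) g * (χ : G → ℂ) g⁻¹ else 0) else 0) := by
      intro χ
      by_cases hχ : χ ∈ B
      · simp only [if_pos hχ]
      · simp only [if_neg hχ, ite_self, Finset.sum_const_zero]
    rw [Finset.sum_congr rfl (fun χ _ => h4 χ), Finset.sum_comm]
    apply Finset.sum_congr rfl
    intro g _
    by_cases hg : IsPRegular p g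
    · simp only [if_pos hg]
    · simp only [if_neg hg, Finset.sum_const_zero]
  rw [h3, hcard] at h1
  have hne := card_ne_zero_complex G
  have h5 := mul_left_cancel₀ hne h1
  exact (Nat.cast_injective h5).symm

/-- **Brauer's count of the characters in a block by subsections**, with the term of the
identity written as the rank of the block -/
theorem card_block_eq_rank_add [Fact p.Prime] (hM : IsPModular p M) (B : Set (IrrCharacter G))
    (hB : IsPBlock M B) (X : Finset G) (hX : ∀ x ∈ X, ∃ k : ℕ, orderOf x = p ^ k)
    (hX1 : (1 : G) ∉ X)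
    (hXrep : ∀ g : G, (∃ k : ℕ, orderOf g = p ^ k) → g ≠ 1 → ∃! x, x ∈ X ∧ IsConj g x) :
    Nat.card B = blockRank p B
      + ∑ x ∈ X, ∑ᶠ b ∈ {b : Set (IrrCharacter (Subgroup.centralizer ({x} : Set G))) |
        IsInducedBlock M (Subgroup.centralizer ({x} : Set G)) b B}, blockRank p b := by
  classical
  have h1 := card_block_eq_sum hM B hB (insert 1 X) (by
    intro x hx
    rcases Finset.mem_insert.mp hx with rfl | hx
    · exact ⟨0, by simp⟩
    · exact hX x hx) (by
    intro g hg
    by_cases hg1 : g = 1
    · refine ⟨1, ⟨Finset.mem_insert_self _ _, by rw [hg1]⟩, ?_⟩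
      rintro y ⟨-, hy⟩
      rw [hg1] at hy
      exact isConj_one_right.mp hy
    · obtain ⟨x, ⟨hxX, hxc⟩, huniq⟩ := hXrep g hg hg1
      refine ⟨x, ⟨Finset.mem_insert_of_mem hxX, hxc⟩, ?_⟩
      rintro y ⟨hy, hyc⟩
      rcases Finset.mem_insert.mp hy with rfl | hy
      · exact absurd (isConj_one_left.mp hyc) hg1
      · exact huniq y ⟨hy, hyc⟩)
  rw [Finset.sum_insert hX1, finsum_induced_one hM B hB] at h1
  exact h1

/-- only the principal block of the centralizer of a `p`-element induces the principal
block -/
theorem finsum_induced_principal [Fact p.Prime] (hM : IsPModular p M) (x : G)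
    (hx : ∃ k : ℕ, orderOf x = p ^ k) :
    (∑ᶠ b ∈ {b : Set (IrrCharacter (Subgroup.centralizer ({x} : Set G))) |
      IsInducedBlock M (Subgroup.centralizer ({x} : Set G)) b (principalBlock M G)},
        blockRank p b)
      = blockRank p (principalBlock M (Subgroup.centralizer ({x} : Set G))) := by
  classical
  have : Fintype (Subgroup.centralizer ({x} : Set G)) := Fintype.ofFinite _
  have hset : {b : Set (IrrCharacter (Subgroup.centralizer ({x} : Set G))) |
      IsInducedBlock M (Subgroup.centralizer ({x} : Set G)) b (principalBlock M G)}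
      = {principalBlock M (Subgroup.centralizer ({x} : Set G))} := by
    ext b
    rw [Set.mem_singleton_iff]
    show IsInducedBlock M (Subgroup.centralizer ({x} : Set G)) b (principalBlock M G) ↔ _
    constructor
    · intro h
      exact (Cfsg.Agent.S0936.result p M hM _ b ⟨_, h⟩).mp h
    · rintro rfl
      obtain ⟨χ₁, hind⟩ := exists_induced_of_centralizer hM x hx
        (principalBlock M (Subgroup.centralizer ({x} : Set G)))
        ⟨Lib.Helper8.trivIrr _, rfl⟩
      exact (Cfsg.Agent.S0936.result p M hM _ _ ⟨_, hind⟩).mpr rfl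
  rw [hset, finsum_mem_singleton]

end count2

section klein

variable {G : Type*} [Group G]

/-- in a subgroup of exponent two, any two elements commute -/
theorem commute_of_sq_eq_one (P : Subgroup G) (hexp : ∀ x : P, x * x = 1) (x y : G)
    (hx : x ∈ P) (hy : y ∈ P) : x * y = y * x := by
  have h1 : x * x = 1 := congrArg Subtype.val (hexp ⟨x, hx⟩)
  have h2 : y * y = 1 := congrArg Subtype.val (hexp ⟨y, hy⟩)
  have h3 : (x * y) * (x * y) = 1 := congrArg Subtype.val (hexp ⟨x * y, P.mul_mem hx hy⟩)
  have hx' : x⁻¹ = x := (eq_inv_of_mul_eq_one_left h1).symm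
  have hy' : y⁻¹ = y := (eq_inv_of_mul_eq_one_left h2).symm
  have hxy' : (x * y)⁻¹ = x * y := (eq_inv_of_mul_eq_one_left h3).symm
  rw [mul_inv_rev, hx', hy'] at hxy'
  exact hxy'.symm

/-- the centralizer of an involution of a group whose Sylow `2`-subgroups are Klein four
groups has a normal `2`-complement -/
theorem hasNormalPComplement_centralizer_involution [Finite G] (P : Sylow 2 G)
    (hP : Nat.card P = 4) (hexp : ∀ x : P, x * x = 1) (u : G) (huP : u ∈ P) (hu1 : u ≠ 1) :
    HasNormalPComplement 2 (Subgroup.centralizer ({u} : Set G)) := by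
  classical
  have : Fact (Nat.Prime 2) := ⟨Nat.prime_two⟩
  have hcomm : ∀ x y : G, x ∈ P → y ∈ P → x * y = y * x := fun x y hx hy =>
    commute_of_sq_eq_one (P : Subgroup G) hexp x y hx hy
  have hsq : ∀ x : G, x ∈ P → x * x = 1 := fun x hx => congrArg Subtype.val (hexp ⟨x, hx⟩)
  have hle : (P : Subgroup G) ≤ Subgroup.centralizer ({u} : Set G) := by
    intro x hx
    rw [Subgroup.mem_centralizer_singleton_iff]
    exact hcomm x u hx huP
  have hP'mem : ∀ y : Subgroup.centralizer ({u} : Set G),
      y ∈ (P.subtype hle : Subgroup (Subgroup.centralizer ({u} : Set G))) ↔ (y : G) ∈ P := by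
    intro y
    rw [Sylow.coe_subtype, Subgroup.mem_subgroupOf]
    rfl
  have hN : Subgroup.normalizer
        (((P.subtype hle : Subgroup (Subgroup.centralizer ({u} : Set G)))) :
          Set (Subgroup.centralizer ({u} : Set G)))
      ≤ Subgroup.centralizer
        (((P.subtype hle : Subgroup (Subgroup.centralizer ({u} : Set G)))) :
          Set (Subgroup.centralizer ({u} : Set G))) := by
    intro n hn
    rw [Subgroup.mem_centralizer_iff]
    intro y hy
    have hyP : (y : G) ∈ P := (hP'mem y).mp hy
    have hnu : (n : G) * u = u * (n : G) := Subgroup.mem_centralizer_singleton_iff.mp n.2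
    have hun : (n : G) * u * (n : G)⁻¹ = u := by
      rw [hnu, mul_inv_cancel_right]
    have hnorm : ∀ z : G, z ∈ P → (n : G) * z * (n : G)⁻¹ ∈ P := by
      intro z hz
      have hzC : z ∈ Subgroup.centralizer ({u} : Set G) := hle hz
      have h1 := (Subgroup.mem_normalizer_iff.mp hn ⟨z, hzC⟩).mp ((hP'mem _).mpr hz)
      exact (hP'mem _).mp h1
    have hc1 : ∀ x : G, x ∈ P → (n : G) * ((n : G) * x * (n : G)⁻¹) * (n : G)⁻¹ = x := by
      intro x hx
      by_cases hx1 : x = 1
      · rw [hx1]
        group
      by_cases hxu : x = u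
      · rw [hxu, hun, hun]
      have hS : ∀ z : G, z ∈ P → z = 1 ∨ z = u ∨ z = x ∨ z = u * x := by
        have : Fintype (P : Subgroup G) := Fintype.ofFinite _
        have hux : u * x ∈ (P : Subgroup G) := Subgroup.mul_mem _ huP hx
        set T : Finset (P : Subgroup G) :=
          insert (1 : (P : Subgroup G)) (insert ⟨u, huP⟩ (insert ⟨x, hx⟩ {⟨u * x, hux⟩}))
          with hT
        have hcardT : T.card = 4 := by
          rw [hT, Finset.card_insert_of_notMem, Finset.card_insert_of_notMem,
            Finset.card_insert_of_notMem, Finset.card_singleton]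
          · rw [Finset.mem_singleton]
            intro h
            have h' : x = u * x := congrArg Subtype.val h
            exact hu1 (by
              have := mul_right_cancel (a := (1 : G)) (b := x) (c := u) (by rw [one_mul]; exact h')
              exact this.symm)
          · rw [Finset.mem_insert, Finset.mem_singleton]
            rintro (h | h)
            · exact hxu (congrArg Subtype.val h).symm
            · have h' : u = u * x := congrArg Subtype.val h
              exact hx1 (by
                have := mul_left_cancel (a := u) (b := (1 : G)) (c := x) (by rw [mul_one]; exact h')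
                exact this.symm)
          · rw [Finset.mem_insert, Finset.mem_insert, Finset.mem_singleton]
            rintro (h | h | h)
            · exact hu1 (congrArg Subtype.val h).symm
            · exact hx1 (congrArg Subtype.val h).symm
            · have h' : (1 : G) = u * x := congrArg Subtype.val h
              apply hxu
              have h2 : u * u = u * x := by rw [hsq u huP]; exact h'
              exact (mul_left_cancel h2).symm
        have huniv : T = Finset.univ := by
          apply Finset.eq_univ_of_card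
          rw [hcardT, ← Nat.card_eq_fintype_card]
          exact hP.symm
        intro z hz
        have hzT : (⟨z, hz⟩ : (P : Subgroup G)) ∈ T := by
          rw [huniv]
          exact Finset.mem_univ _
        rw [hT, Finset.mem_insert, Finset.mem_insert, Finset.mem_insert, Finset.mem_singleton]
          at hzT
        rcases hzT with h | h | h | h
        · exact Or.inl (congrArg Subtype.val h)
        · exact Or.inr (Or.inl (congrArg Subtype.val h))
        · exact Or.inr (Or.inr (Or.inl (congrArg Subtype.val h)))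
        · exact Or.inr (Or.inr (Or.inr (congrArg Subtype.val h)))
      rcases hS _ (hnorm x hx) with h | h | h | h
      · exfalso
        apply hx1
        have h2 : x = (n : G)⁻¹ * ((n : G) * x * (n : G)⁻¹) * (n : G) := by group
        rw [h2, h]
        group
      · exfalso
        apply hxu
        have h2 : x = (n : G)⁻¹ * ((n : G) * x * (n : G)⁻¹) * (n : G) := by group
        rw [h2, h, mul_assoc, ← hnu, inv_mul_cancel_left]
      · rw [h, h]
      · rw [h]
        calc (n : G) * (u * x) * (n : G)⁻¹
            = ((n : G) * u * (n : G)⁻¹) * ((n : G) * x * (n : G)⁻¹) := by group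
          _ = u * (u * x) := by rw [hun, h]
          _ = x := by rw [← mul_assoc, hsq u huP, one_mul]
    obtain ⟨a, m, hmodd, hord⟩ := Nat.exists_eq_two_pow_mul_odd (orderOf_pos n).ne'
    have hQ : IsPGroup 2 (Subgroup.zpowers (n ^ m)) := by
      have h1 : (n ^ m) ^ (2 ^ a) = 1 := by
        rw [← pow_mul, mul_comm, ← hord, pow_orderOf_eq_one]
      intro g
      obtain ⟨g, hg⟩ := g
      obtain ⟨j, rfl⟩ := Subgroup.mem_zpowers_iff.mp hg
      refine ⟨a, Subtype.ext ?_⟩
      show ((n ^ m) ^ j) ^ (2 ^ a) = 1
      rw [← zpow_natCast, ← zpow_mul, mul_comm, zpow_mul, zpow_natCast, h1, one_zpow]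
    have hQN : Subgroup.zpowers (n ^ m)
        ≤ Subgroup.normalizer
          (((P.subtype hle : Subgroup (Subgroup.centralizer ({u} : Set G)))) :
          Set (Subgroup.centralizer ({u} : Set G))) := by
      rw [Subgroup.zpowers_le]
      exact Subgroup.pow_mem _ hn m
    have hsup := IsPGroup.to_sup_of_normal_right' hQ (P.subtype hle).2 hQN
    have heq := (P.subtype hle).is_maximal' hsup le_sup_right
    have hnm : n ^ m ∈ (P.subtype hle : Subgroup (Subgroup.centralizer ({u} : Set G))) := by
      have h0 : n ^ m ∈ Subgroup.zpowers (n ^ m)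
          ⊔ (P.subtype hle : Subgroup (Subgroup.centralizer ({u} : Set G))) :=
        (le_sup_left : Subgroup.zpowers (n ^ m) ≤ _) (Subgroup.mem_zpowers _)
      rw [heq] at h0
      exact h0
    have hnmP : (n : G) ^ m ∈ P := by
      have := (hP'mem _).mp hnm
      rwa [Subgroup.coe_pow] at this
    have hcm : Commute ((n : G) ^ m) (y : G) := hcomm _ _ hnmP hyP
    have hc2 : Commute ((n : G) * (n : G)) (y : G) := by
      show (n : G) * (n : G) * (y : G) = (y : G) * ((n : G) * (n : G))
      calc (n : G) * (n : G) * (y : G)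
          = ((n : G) * ((n : G) * (y : G) * (n : G)⁻¹) * (n : G)⁻¹) * ((n : G) * (n : G)) := by
            group
        _ = (y : G) * ((n : G) * (n : G)) := by rw [hc1 _ hyP]
    obtain ⟨j, hj⟩ := hmodd
    have hn' : (n : G) = (((n : G) * (n : G)) ^ j)⁻¹ * (n : G) ^ m := by
      rw [hj, pow_succ, pow_mul, pow_two, inv_mul_cancel_left]
    have hfin : Commute (n : G) (y : G) := by
      rw [hn']
      exact Commute.mul_left ((hc2.pow_left j).inv_left) hcm
    apply Subtype.ext
    show (y : G) * (n : G) = (n : G) * (y : G)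
    exact hfin.eq.symm
  exact ⟨P.subtype hle, (MonoidHom.transferSylow (P.subtype hle) hN).ker,
    MonoidHom.normal_ker _, MonoidHom.ker_transferSylow_isComplement' (P.subtype hle) hN⟩

end klein

section main

variable {G : Type*} [Group G] [Fintype G] {M : Ideal AlgInt}

/-- the principal `2`-block of a group with a Klein four Sylow `2`-subgroup and one class of
involutions has three irreducible Brauer characters -/
theorem klein_principal_rank (hM : IsPModular 2 M) (P : Sylow 2 G)
    (hP : Nat.card P = 4) (hexp : ∀ x : P, x * x = 1)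
    (hone : ∀ s t : G, orderOf s = 2 → orderOf t = 2 → IsConj s t) :
    blockRank 2 (principalBlock M G) = 3 := by
  classical
  have : Fact (Nat.Prime 2) := ⟨Nat.prime_two⟩
  have hpr := isPrime_of_isPModular hM
  have hsq : ∀ x : G, x ∈ P → x * x = 1 := fun x hx => congrArg Subtype.val (hexp ⟨x, hx⟩)
  obtain ⟨u, huP, hu1⟩ : ∃ u : G, u ∈ P ∧ u ≠ 1 := by
    have h1 : 1 < Nat.card P := by
      rw [hP]
      norm_num
    have hnt : Nontrivial P := Finite.one_lt_card_iff_nontrivial.mp h1
    obtain ⟨x, hx⟩ := exists_ne (1 : P)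
    exact ⟨x, x.2, fun h => hx (Subtype.ext h)⟩
  have hu2 : orderOf u = 2 := orderOf_eq_prime (by rw [pow_two]; exact hsq u huP) hu1
  have hG : (Nat.card G).factorization 2 = 2 := by
    have h := P.card_eq_multiplicity
    rw [hP] at h
    have h' : 2 ^ 2 = 2 ^ (Nat.card G).factorization 2 := by
      rw [← h]
      norm_num
    exact (Nat.pow_right_injective (le_refl 2) h').symm
  have hk := card_principal_of_sylow_four hM hG
  have hB : IsPBlock M (principalBlock M G) := ⟨Lib.Helper8.trivIrr G, rfl⟩
  have hcount := card_block_eq_rank_add hM (principalBlock M G) hB {u} (by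
      intro x hx
      rw [Finset.mem_singleton] at hx
      subst hx
      exact ⟨1, by rw [hu2, pow_one]⟩)
    (by
      rw [Finset.mem_singleton]
      exact fun h => hu1 h.symm)
    (by
      intro g hg hg1
      have hg2 : orderOf g = 2 := by
        obtain ⟨k, hk⟩ := hg
        have hQ : IsPGroup 2 (Subgroup.zpowers g) := by
          apply IsPGroup.of_card (n := k)
          rw [Nat.card_zpowers, hk]
        obtain ⟨Q', hQ'⟩ := hQ.exists_le_sylow
        obtain ⟨c, hc⟩ := MulAction.exists_smul_eq G P Q'
        have hgQ : g ∈ (Q' : Subgroup G) := hQ' (Subgroup.mem_zpowers g)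
        rw [← hc, Sylow.coe_subgroup_smul, Subgroup.mem_smul_pointwise_iff_exists] at hgQ
        obtain ⟨x, hx, hxg⟩ := hgQ
        rw [MulAut.smul_def, MulAut.conj_apply] at hxg
        have hgg : g * g = 1 := by
          rw [← hxg]
          calc c * x * c⁻¹ * (c * x * c⁻¹) = c * (x * x) * c⁻¹ := by group
            _ = 1 := by rw [hsq x hx]; group
        exact orderOf_eq_prime (by rw [pow_two]; exact hgg) hg1
      refine ⟨u, ⟨Finset.mem_singleton_self _, hone g u hg2 hu2⟩, ?_⟩
      rintro y ⟨hy, -⟩
      exact Finset.mem_singleton.mp hy)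
  rw [Finset.sum_singleton, finsum_induced_principal hM u ⟨1, by rw [hu2, pow_one]⟩, hk]
    at hcount
  have hnc := hasNormalPComplement_centralizer_involution P hP hexp u huP hu1
  have : Fintype (Subgroup.centralizer ({u} : Set G)) := Fintype.ofFinite _
  have hl := (Cfsg.Agent.S4646.result 2 M hM).mp ((Cfsg.Agent.S4691.result 2 M hM).mp hnc)
  rw [hl] at hcount
  omega

end main

end Cfsg.Agent.Lib.Helper25
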