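import Mathlib
import Cfsg.Agent.Lib.Helper25.Klein
import Cfsg.Agent.Lib.Helper25.Nilpotent3
import Cfsg.Agent.Lib.Helper25.Abelian
import Cfsg.Agent.Lib.Helper8.Extended

/-!
# Blocks with a Klein four defect group: counting characters
-/

set_option autoImplicit false

namespace Cfsg.Agent.Lib.Helper25

open Cfsg Cfsg.Agent.Lib.Helper2 Cfsg.Agent.Lib.Helper8

open scoped ComplexConjugate

section kfour

variable {G : Type*} [Group G] [Fintype G] {M : Ideal AlgInt}

/-- a `2`-block of defect two has exactly four characters -/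
theorem card_block_of_defect_two (hM : IsPModular 2 M) (B : Set (IrrCharacter G))
    (hB : IsPBlock M B) (hdef : blockDefect 2 B = 2) : Nat.card B = 4 := by
  classical
  have : Fact (Nat.Prime 2) := ⟨Nat.prime_two⟩
  have hpr := isPrime_of_isPModular hM
  have : Fintype (IrrCharacter G) := Fintype.ofFinite _
  have hne := isPBlock_nonempty hM hB
  obtain ⟨m0, hm0, ⟨χ0, hχ0, hχ0m⟩, hall⟩ := blockDefect_spec (p := 2) B hne
  rw [hdef] at hm0
  have h1 := Cfsg.Agent.S4494.result 2 M hM _ hB
  rw [hdef] at h1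
  have h2 := Cfsg.Agent.S4491.result 2 M hM _ hB
  rw [hdef, ← hm0] at h2
  -- the reduced degrees
  have hdeg : ∀ χ ∈ B, ∃ y : ℕ, charDegree (χ : G → ℂ) = 2 ^ m0 * y ∧
      (y ^ 2 % 8 = 1 ∨ y ^ 2 % 8 = 4) := by
    intro χ hχ
    obtain ⟨d, hd1, hdpos, hdvd, hcd⟩ := irr_degree χ
    obtain ⟨y, hy⟩ := hall χ hχ
    refine ⟨y, hy, ?_⟩
    rw [hcd] at hy
    have hy0 : y ≠ 0 := by
      rintro rfl
      rw [mul_zero] at hy
      omega
    have hnot4 : ¬ 4 ∣ y := by
      intro h4
      have hfd : m0 + 2 ≤ d.factorization 2 := by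
        apply (Nat.Prime.pow_dvd_iff_le_factorization Nat.prime_two hdpos.ne').mp
        rw [hy, pow_add]
        exact Nat.mul_dvd_mul_left _ h4
      have hp : ¬ 2 ∣ Nat.card G / d :=
        not_dvd_div_of_factorization_le Nat.card_pos hdvd (by omega)
      have he := eq_of_sameBlock_of_defect_zero hM χ χ0
        (isPBlock_sameBlock hM hB χ hχ χ0 hχ0) d hd1 hdvd hp
      rw [he, hcd] at hχ0m
      omega
    have h8 : y % 8 = 1 ∨ y % 8 = 2 ∨ y % 8 = 3 ∨ y % 8 = 5 ∨ y % 8 = 6 ∨ y % 8 = 7 := by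
      omega
    rcases h8 with h | h | h | h | h | h <;> simp [Nat.pow_mod, h]
  choose! y hy hy8 using hdeg
  set T : Finset (IrrCharacter G) :=
    Finset.univ.filter (fun χ : IrrCharacter G => χ ∈ B) with hT
  have hcardT : Nat.card B = T.card := by
    rw [Nat.card_eq_fintype_card, Fintype.card_subtype]
  have hsum : (∑ᶠ χ ∈ B, charDegree (χ : G → ℂ) ^ 2)
      = 4 ^ m0 * ∑ χ ∈ T, y χ ^ 2 := by
    rw [finsum_mem_eq_sum_indicator, hT, Finset.sum_filter, Finset.mul_sum]
    apply Finset.sum_congr rfl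
    intro χ _
    by_cases hχ : χ ∈ B
    · rw [Set.indicator_of_mem hχ, if_pos hχ, hy χ hχ, mul_pow, ← pow_mul,
        show (4 : ℕ) = 2 ^ 2 by norm_num, ← pow_mul, mul_comm m0 2]
    · rw [Set.indicator_of_notMem hχ, if_neg hχ, mul_zero]
  rw [hsum] at h2
  set S : ℕ := ∑ χ ∈ T, y χ ^ 2 with hS
  have hS0 : S ≠ 0 := by
    intro h0
    rw [h0] at h2
    simp at h2
    omega
  have hfac : (4 ^ m0 * S).factorization 2 = 2 * m0 + S.factorization 2 := by
    rw [Nat.factorization_mul (by positivity) hS0, Finsupp.add_apply,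
      show (4 : ℕ) = 2 ^ 2 by norm_num, ← pow_mul, Nat.factorization_pow,
      Finsupp.smul_apply, Nat.Prime.factorization_self Nat.prime_two]
    simp
  rw [hfac] at h2
  have hS4 : S % 8 = 4 := by
    have h4 : 2 ^ 2 ∣ S :=
      (Nat.Prime.pow_dvd_iff_le_factorization Nat.prime_two hS0).mpr (by omega)
    have h8 : ¬ 2 ^ 3 ∣ S := fun h =>
      absurd ((Nat.Prime.pow_dvd_iff_le_factorization Nat.prime_two hS0).mp h) (by omega)
    omega
  have hmod : S % 8 = (∑ χ ∈ T, (if y χ ^ 2 % 8 = 1 then 1 else 4)) % 8 := by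
    rw [hS, Finset.sum_nat_mod]
    congr 1
    apply Finset.sum_congr rfl
    intro χ hχ
    have hχ' : χ ∈ B := (Finset.mem_filter.mp hχ).2
    rcases hy8 χ hχ' with h | h
    · rw [if_pos h, h]
    · rw [if_neg (by omega), h]
  rw [Finset.sum_ite, Finset.sum_const, Finset.sum_const, smul_eq_mul, smul_eq_mul, mul_one]
    at hmod
  have hk := Finset.card_filter_add_card_filter_not (s := T)
    (fun χ : IrrCharacter G => y χ ^ 2 % 8 = 1)
  have hk0 : 0 < (T.filter (fun χ : IrrCharacter G => y χ ^ 2 % 8 = 1)).card := by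
    apply Finset.card_pos.mpr
    refine ⟨χ0, Finset.mem_filter.mpr ⟨Finset.mem_filter.mpr ⟨Finset.mem_univ _, hχ0⟩, ?_⟩⟩
    have hyχ0 := hy χ0 hχ0
    have hy0 : y χ0 ≠ 0 := by
      intro h0
      rw [h0, mul_zero] at hyχ0
      obtain ⟨d, hd1, hdpos, hdvd, hcd⟩ := irr_degree χ0
      omega
    have hodd : ¬ 2 ∣ y χ0 := by
      intro h2'
      have h3 : 2 ^ (m0 + 1) ∣ charDegree (χ0 : G → ℂ) := by
        rw [hyχ0, pow_succ]
        exact Nat.mul_dvd_mul_left _ h2'
      have hd0 : charDegree (χ0 : G → ℂ) ≠ 0 := by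
        obtain ⟨d, hd1, hdpos, hdvd, hcd⟩ := irr_degree χ0
        omega
      have := (Nat.Prime.pow_dvd_iff_le_factorization Nat.prime_two hd0).mp h3
      omega
    have h8 : y χ0 % 8 = 1 ∨ y χ0 % 8 = 3 ∨ y χ0 % 8 = 5 ∨ y χ0 % 8 = 7 := by omega
    rcases h8 with h | h | h | h <;> simp [Nat.pow_mod, h]
  rw [hcardT] at h1 ⊢
  omega

end kfour

section bridge2

variable {G : Type*} [Group G] [Fintype G] {p : ℕ} {M : Ideal AlgInt}

/-- converse of `isInducedBlock_of_brauerPairOf`: a block of `C(P)` inducing `B` gives a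
Brauer pair of `B` -/
theorem isBrauerPairOf_of_isInducedBlock [Fact p.Prime] (hM : IsPModular p M)
    (B : Set (IrrCharacter G)) (P : Subgroup G) (hP : IsPGroup p P)
    (hPC : P ≤ Subgroup.centralizer (P : Set G))
    (e : Set (IrrCharacter (Subgroup.centralizer (P : Set G))))
    (hind : IsInducedBlock M (Subgroup.centralizer (P : Set G)) e B) :
    IsBrauerPairOf p M B P e := by
  classical
  have hpr := isPrime_of_isPModular hM
  have : Fintype (Subgroup.centralizer (P : Set G)) := Fintype.ofFinite _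
  have : Fintype (IrrCharacter G) := Fintype.ofFinite _
  obtain ⟨ξ, hξ⟩ := hind.1
  obtain ⟨χ, -, h⟩ := exists_brauer_correspondent hM P (Subgroup.centralizer (P : Set G)) hP
    le_rfl (Subgroup.centralizer_le_normalizer _) ξ
  have hB' : IsPBlock M (blockOf M (χ : G → ℂ)) := ⟨χ, rfl⟩
  have hpair : IsBrauerPairOf p M (blockOf M (χ : G → ℂ)) P e := by
    refine ⟨⟨hP, hind.1⟩, hB', ?_⟩
    intro ξ' hξ'
    have h1 := h (blockCoeff (blockOf M (χ : G → ℂ))) (blockCoeff_isClassFunction _)
      (fun g => blockCoeff_memLocalRing hM _ (blockClosed_of_isPBlock M hB') g)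
    have h2 : omegaFun (ξ : Subgroup.centralizer (P : Set G) → ℂ)
        (brauerMap P (Subgroup.centralizer (P : Set G)) (blockCoeff (blockOf M (χ : G → ℂ))))
        = brauerOmega P (blockCoeff (blockOf M (χ : G → ℂ)))
          (ξ : Subgroup.centralizer (P : Set G) → ℂ) := by
      unfold omegaFun brauerOmega brauerMap
      rw [finsum_eq_sum_of_fintype, Finset.sum_div]
      apply Finset.sum_congr rfl
      intro x _
      rw [if_pos x.2]
    rw [h2, Cfsg.Agent.Lib.Helper25.omegaFun_blockCoeff _ χ,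
      if_pos (show χ ∈ blockOf M (χ : G → ℂ) from sameBlock_refl M _)] at h1
    have hsb : SameBlock M (ξ' : Subgroup.centralizer (P : Set G) → ℂ)
        (ξ : Subgroup.centralizer (P : Set G) → ℂ) := by
      rw [hξ] at hξ'
      exact sameBlock_symm M hξ'
    have h3 := brauerOmega_sameBlock hM P (blockCoeff (blockOf M (χ : G → ℂ)))
      (fun g => blockCoeff_memLocalRing hM _ (blockClosed_of_isPBlock M hB') g)
      (conjInv_of_isClassFunction _ (blockCoeff_isClassFunction _)) ξ' ξ hsb
    have := MemLocalIdeal.add M h3 h1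
    rwa [sub_add_sub_cancel] at this
  have hind' := isInducedBlock_of_brauerPairOf hM _ P hPC e hpair
  have := isInducedBlock_unique hM _ hind hind'
  rw [this]
  exact hpair

omit [Fintype G] in
/-- representatives of the classes of nontrivial `p`-elements -/
theorem exists_class_reps [Finite G] (p : ℕ) :
    ∃ X : Finset G, (∀ x ∈ X, ∃ k : ℕ, orderOf x = p ^ k) ∧ (1 : G) ∉ X ∧
      ∀ g : G, (∃ k : ℕ, orderOf g = p ^ k) → g ≠ 1 → ∃! x, x ∈ X ∧ IsConj g x := by
  classical
  have : Fintype G := Fintype.ofFinite G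
  let R : G → G := fun g => Quotient.out (ConjClasses.mk g)
  have hR : ∀ g, IsConj g (R g) := fun g => by
    have h1 : ConjClasses.mk (R g) = ConjClasses.mk g := Quotient.out_eq _
    exact ConjClasses.mk_eq_mk_iff_isConj.mp h1.symm
  have hR' : ∀ g h, IsConj g h → R g = R h := fun g h hgh => by
    show Quotient.out (ConjClasses.mk g) = Quotient.out (ConjClasses.mk h)
    rw [ConjClasses.mk_eq_mk_iff_isConj.mpr hgh]
  have hord : ∀ g h : G, IsConj g h → orderOf h = orderOf g := by
    intro g h hgh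
    obtain ⟨c, hc⟩ := isConj_iff.mp hgh
    rw [← hc]
    exact orderOf_injective (MulAut.conj c).toMonoidHom (MulAut.conj c).injective g
  refine ⟨(Finset.univ.filter
    (fun g : G => (∃ k : ℕ, orderOf g = p ^ k) ∧ g ≠ 1)).image R, ?_, ?_, ?_⟩
  · intro x hx
    obtain ⟨g, hg, rfl⟩ := Finset.mem_image.mp hx
    obtain ⟨k, hk⟩ := (Finset.mem_filter.mp hg).2.1
    exact ⟨k, by rw [hord g (R g) (hR g), hk]⟩
  · intro h1
    obtain ⟨g, hg, hg1⟩ := Finset.mem_image.mp h1
    have h2 := hR g
    rw [hg1] at h2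
    exact (Finset.mem_filter.mp hg).2.2 (isConj_one_left.mp h2)
  · intro g hg hg1
    refine ⟨R g, ⟨Finset.mem_image.mpr ⟨g, Finset.mem_filter.mpr ⟨Finset.mem_univ _, hg, hg1⟩,
      rfl⟩, hR g⟩, ?_⟩
    rintro y ⟨hy, hgy⟩
    obtain ⟨g', -, rfl⟩ := Finset.mem_image.mp hy
    have h3 : R g = R (R g') := hR' g (R g') hgy
    have h4 : R (R g') = R g' := (hR' g' (R g') (hR g')).symm
    rw [h3, h4]

omit [Fintype G] in
theorem finsum_induced_congr {H H' : Subgroup G} (h : H = H') (B : Set (IrrCharacter G)) :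
    (∑ᶠ b ∈ {b : Set (IrrCharacter H) | IsInducedBlock M H b B}, blockRank p b)
      = ∑ᶠ b ∈ {b : Set (IrrCharacter H') | IsInducedBlock M H' b B}, blockRank p b := by
  subst h
  rfl

/-- the rank of a set of characters is invariant under isomorphisms -/
theorem blockRank_image_isoIrr {K H : Type*} [Group K] [Group H] [Finite K] [Finite H]
    (φ : K ≃* H) (p : ℕ) (f : Set (IrrCharacter K)) :
    blockRank p (isoIrr φ '' f) = blockRank p f := by
  classical
  unfold blockRank
  let L : (K → ℂ) ≃ₗ[ℂ] (H → ℂ) := LinearEquiv.funCongrLeft ℂ ℂ φ.symm.toEquiv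
  have h : ∀ χ : IrrCharacter K,
      pRegularPart p (isoIrr φ χ : H → ℂ) = L (pRegularPart p (χ : K → ℂ)) := by
    intro χ
    funext y
    show pRegularPart p (isoIrr φ χ : H → ℂ) y = pRegularPart p (χ : K → ℂ) (φ.symm y)
    unfold pRegularPart IsPRegular
    rw [isoIrr_apply, MulEquiv.orderOf_eq]
  have hset : (fun χ : IrrCharacter H => pRegularPart p (χ : H → ℂ)) '' (isoIrr φ '' f)
      = (L.toLinearMap : (K → ℂ) → (H → ℂ)) ''
        ((fun χ : IrrCharacter K => pRegularPart p (χ : K → ℂ)) '' f) := by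
    rw [Set.image_image, Set.image_image]
    apply Set.image_congr
    intro χ _
    exact h χ
  rw [hset, ← Submodule.map_span]
  exact LinearEquiv.finrank_map_eq L _

omit [Fintype G] in
theorem blockRank_conjBlock [Finite G] (Q : Subgroup G) (x : G)
    (f : Set (IrrCharacter (Subgroup.centralizer (Q : Set G)))) :
    blockRank p (conjBlock Q x f) = blockRank p f := by
  rw [conjBlock_eq]
  exact blockRank_image_isoIrr _ _ _

/-- a nonempty set of characters has positive rank -/
theorem blockRank_pos {K : Type*} [Group K] [Finite K] [hp : Fact p.Prime]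
    (f : Set (IrrCharacter K)) (hf : f.Nonempty) : 0 < blockRank p f := by
  classical
  obtain ⟨χ, hχ⟩ := hf
  unfold blockRank
  rw [Module.finrank_pos_iff_exists_ne_zero]
  refine ⟨⟨pRegularPart p (χ : K → ℂ), Submodule.subset_span ⟨χ, hχ, rfl⟩⟩, ?_⟩
  intro h0
  have h1 : pRegularPart p (χ : K → ℂ) = 0 := congrArg Subtype.val h0
  have h2 := congrFun h1 1
  have hreg : IsPRegular p (1 : K) := by
    unfold IsPRegular
    rw [orderOf_one]
    exact hp.out.one_lt.ne' ∘ Nat.dvd_one.mp
  unfold pRegularPart at h2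
  rw [if_pos hreg] at h2
  exact irr_one_ne_zero χ.2 h2

omit [Fintype G] in
theorem zpowers_le_centralizer_zpowers (x : G) :
    Subgroup.zpowers x ≤ Subgroup.centralizer (Subgroup.zpowers x : Set G) := by
  intro v hv
  rw [mem_centralizer_zpowers_iff]
  obtain ⟨n, rfl⟩ := Subgroup.mem_zpowers_iff.mp hv
  exact (Commute.zpow_right (Commute.refl x) n).eq

omit [Fintype G] in
theorem isPGroup_zpowers [Finite G] [Fact p.Prime] (x : G) (hx : ∃ k : ℕ, orderOf x = p ^ k) :
    IsPGroup p (Subgroup.zpowers x) := by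
  obtain ⟨k, hk⟩ := hx
  exact IsPGroup.of_card (n := k) (by rw [Nat.card_zpowers, hk])

/-- Brauer's count of the characters of a block, in terms of Brauer pairs on cyclic
subgroups -/
theorem card_block_eq_rank_add_pairs [Fact p.Prime] (hM : IsPModular p M)
    (B : Set (IrrCharacter G)) (hB : IsPBlock M B) (X : Finset G)
    (hX : ∀ x ∈ X, ∃ k : ℕ, orderOf x = p ^ k) (hX1 : (1 : G) ∉ X)
    (hXrep : ∀ g : G, (∃ k : ℕ, orderOf g = p ^ k) → g ≠ 1 → ∃! x, x ∈ X ∧ IsConj g x) :
    Nat.card B = blockRank p B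
      + ∑ x ∈ X, ∑ᶠ f ∈ {f : Set (IrrCharacter
          (Subgroup.centralizer (Subgroup.zpowers x : Set G))) |
        IsBrauerPairOf p M B (Subgroup.zpowers x) f}, blockRank p f := by
  rw [card_block_eq_rank_add hM B hB X hX hX1 hXrep]
  congr 1
  apply Finset.sum_congr rfl
  intro x hx
  rw [finsum_induced_congr (centralizer_singleton_eq_zpowers x) B]
  have hset : {f : Set (IrrCharacter (Subgroup.centralizer (Subgroup.zpowers x : Set G))) |
      IsInducedBlock M (Subgroup.centralizer (Subgroup.zpowers x : Set G)) f B}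
      = {f : Set (IrrCharacter (Subgroup.centralizer (Subgroup.zpowers x : Set G))) |
        IsBrauerPairOf p M B (Subgroup.zpowers x) f} := by
    ext f
    constructor
    · exact isBrauerPairOf_of_isInducedBlock hM B _ (isPGroup_zpowers x (hX x hx))
        (zpowers_le_centralizer_zpowers x) f
    · exact isInducedBlock_of_brauerPairOf hM B _ (zpowers_le_centralizer_zpowers x) f
  rw [hset]

/-- a lower bound for the subsection sum from a family of distinct Brauer pairs on the
cyclic subgroups of the representatives -/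
theorem card_le_sum_pairs [Fact p.Prime] (hM : IsPModular p M) (B : Set (IrrCharacter G))
    (X : Finset G) (J : Finset G) (π : G → BrauerPairIdx G) (hinj : Set.InjOn π J)
    (hπ : ∀ u ∈ J, ∃ x ∈ X, ∃ f : Set (IrrCharacter
        (Subgroup.centralizer (Subgroup.zpowers x : Set G))),
      IsBrauerPairOf p M B (Subgroup.zpowers x) f ∧ π u = ⟨Subgroup.zpowers x, f⟩) :
    J.card ≤ ∑ x ∈ X, ∑ᶠ f ∈ {f : Set (IrrCharacter
          (Subgroup.centralizer (Subgroup.zpowers x : Set G))) |
        IsBrauerPairOf p M B (Subgroup.zpowers x) f}, blockRank p f := by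
  classical
  choose! x hxX f hf hπf using hπ
  let ρ : G → (Σ x : G, Set (IrrCharacter (Subgroup.centralizer (Subgroup.zpowers x : Set G)))) :=
    fun u => ⟨x u, f u⟩
  let S : Finset (Σ x : G, Set (IrrCharacter (Subgroup.centralizer (Subgroup.zpowers x : Set G)))) :=
    X.sigma (fun x => (Set.toFinite {f : Set (IrrCharacter
          (Subgroup.centralizer (Subgroup.zpowers x : Set G))) |
        IsBrauerPairOf p M B (Subgroup.zpowers x) f}).toFinset)
  have hρinj : Set.InjOn ρ J := by
    intro u hu u' hu' h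
    apply hinj hu hu'
    rw [hπf u hu, hπf u' hu']
    have h2 : (⟨Subgroup.zpowers (ρ u).1, (ρ u).2⟩ : BrauerPairIdx G)
        = ⟨Subgroup.zpowers (ρ u').1, (ρ u').2⟩ := by rw [h]
    exact h2
  have hρS : ∀ u ∈ J, ρ u ∈ S := by
    intro u hu
    exact Finset.mem_sigma.mpr ⟨hxX u hu, (Set.Finite.mem_toFinset _).mpr (hf u hu)⟩
  have h1 : J.card ≤ S.card := Finset.card_le_card_of_injOn ρ hρS hρinj
  refine h1.trans ?_
  rw [Finset.card_sigma]
  apply Finset.sum_le_sum
  intro x _
  rw [finsum_mem_eq_finite_toFinset_sum _ (Set.toFinite _), Finset.card_eq_sum_ones]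
  apply Finset.sum_le_sum
  intro f hf'
  have hf'' := (Set.Finite.mem_toFinset _).mp hf'
  exact blockRank_pos f (isPBlock_nonempty hM hf''.1.2)

end bridge2

end Cfsg.Agent.Lib.Helper25
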