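import Mathlib
import Cfsg.Agent.Lib.Helper25.KleinBlock1
import Cfsg.Agent.Lib.Helper25.BlockFusion2

/-!
# Blocks with a Klein four defect group: the inertial index
-/

set_option autoImplicit false

namespace Cfsg.Agent.Lib.Helper25

open Cfsg Cfsg.Agent.Lib.Helper2 Cfsg.Agent.Lib.Helper8

open scoped ComplexConjugate

section inertial

variable {G : Type*} [Group G] [Fintype G] {p : ℕ} {M : Ideal AlgInt}

omit [Fintype G] in
theorem centralizer_subgroupOf_normal (P T : Subgroup G)
    (hTN : T ≤ Subgroup.normalizer (P : Set G)) :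
    ((Subgroup.centralizer (P : Set G)).subgroupOf T).Normal := by
  constructor
  intro n hn g
  rw [Subgroup.mem_subgroupOf] at hn ⊢
  exact (conj_mem_centralizer_iff (hTN g.2) (n : G)).mpr hn

omit [Fintype G] in
/-- transport of the stabilizer data along an equality of pairs -/
theorem stab_data_of_pair_eq {a b : BrauerPairIdx G} (h : a = b) (P T : Subgroup G)
    (hT : ∀ y : G, y ∈ T ↔ y ∈ Subgroup.normalizer (b.1 : Set G) ∧
      StabilizesBlock (Subgroup.centralizer (b.1 : Set G)) b.2 y)
    (hdata : ∀ (T' : Subgroup G), (∀ y : G, y ∈ T' ↔ y ∈ Subgroup.normalizer (a.1 : Set G) ∧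
        StabilizesBlock (Subgroup.centralizer (a.1 : Set G)) a.2 y) →
      ∃ F' : Set (IrrCharacter T'), IsPBlock M F' ∧
        (∀ t : T', blockCoeff F' t
          = subgroupBlockCoeff (Subgroup.centralizer (a.1 : Set G)) a.2 (t : G)) ∧
        IsDefectGroup p M F' ((P ⊓ Subgroup.normalizer (a.1 : Set G)).subgroupOf T')) :
    ∃ F : Set (IrrCharacter T), IsPBlock M F ∧
      (∀ t : T, blockCoeff F t
        = subgroupBlockCoeff (Subgroup.centralizer (b.1 : Set G)) b.2 (t : G)) ∧
      IsDefectGroup p M F ((P ⊓ Subgroup.normalizer (b.1 : Set G)).subgroupOf T) := by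
  subst h
  exact hdata T hT

/-- **the inertial index of a maximal Brauer pair with abelian subgroup is prime to `p`** -/
theorem stab_relIndex_not_dvd [Fact p.Prime] (hM : IsPModular p M)
    {B : Set (IrrCharacter G)} {P : Subgroup G}
    {e : Set (IrrCharacter (Subgroup.centralizer (P : Set G)))}
    (hmax : IsMaximalBrauerPair p M B P e) (hPC : P ≤ Subgroup.centralizer (P : Set G))
    (T : Subgroup G)
    (hT : ∀ y : G, y ∈ T ↔ y ∈ Subgroup.normalizer (P : Set G) ∧
      StabilizesBlock (Subgroup.centralizer (P : Set G)) e y) :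
    ¬ p ∣ (Subgroup.centralizer (P : Set G)).relIndex T := by
  classical
  have hPe : IsBrauerPair p M P e := hmax.1.1
  have he : IsPBlock M e := hPe.2
  obtain ⟨-, x, hle', hdata⟩ := normalizerIn_defectGroup hM hmax (le_refl P) he
    Relation.ReflTransGen.refl T hT
  have hfst : P.map (MulAut.conj x).toMonoidHom = P :=
    Subgroup.eq_of_le_of_card_ge (subpairLE_le hle') (le_of_eq (card_map_conj P x).symm)
  have heq : (⟨P.map (MulAut.conj x).toMonoidHom, conjBlock P x e⟩ : BrauerPairIdx G)
      = ⟨P, e⟩ := subpairLE_same hM _ hle' hfst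
  obtain ⟨F, hF, hFc, hD⟩ := stab_data_of_pair_eq (p := p) (M := M) heq P T hT hdata
  have hCT : Subgroup.centralizer (P : Set G) ≤ T := fun c hc =>
    (hT c).mpr ⟨Subgroup.centralizer_le_normalizer _ hc, stabilizesBlock_of_mem_centralizer P e hc⟩
  have hTS : T ≤ pairStab hM P e he := fun t ht => (hT t).mp ht
  let _ : Fintype ↥T := Fintype.ofFinite _
  obtain ⟨hn, c', hc', hst', hBc', -⟩ := stab_transport (p := p) hM P e he T hCT hTS F hFc
  have hidx := (defect_of_same_idempotent hM _ c' hc' hst' F hF hBc' _ hD).1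
  have hle : (P ⊓ Subgroup.normalizer (P : Set G)).subgroupOf T
      ≤ (Subgroup.centralizer (P : Set G)).subgroupOf T := by
    intro u hu
    rw [Subgroup.mem_subgroupOf] at hu ⊢
    exact hPC hu.1
  rw [sup_eq_left.mpr hle] at hidx
  exact hidx

omit [Fintype G] in
/-- the stabilizer modulo the centralizer embeds in the symmetric group on `P` -/
theorem relIndex_centralizer_dvd [Finite G] (P : Subgroup G) (T : Subgroup G)
    (hTN : T ≤ Subgroup.normalizer (P : Set G)) :
    (Subgroup.centralizer (P : Set G)).relIndex T ∣ (Nat.card P).factorial := by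
  classical
  have : Fintype P := Fintype.ofFinite _
  let φ : T →* Equiv.Perm P :=
    (MulAut.toPerm P).comp ((normAut P).comp (Subgroup.inclusion hTN))
  have hker : φ.ker = (Subgroup.centralizer (P : Set G)).subgroupOf T := by
    ext t
    rw [MonoidHom.mem_ker, Subgroup.mem_subgroupOf, Subgroup.mem_centralizer_iff]
    constructor
    · intro h u hu
      have h1 : φ t ⟨u, hu⟩ = ⟨u, hu⟩ := by rw [h]; rfl
      have h2 : (t : G) * u * (t : G)⁻¹ = u := congrArg Subtype.val h1
      calc u * (t : G) = ((t : G) * u * (t : G)⁻¹) * (t : G) := by rw [h2]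
        _ = (t : G) * u := by group
    · intro h
      apply Equiv.ext
      intro u
      apply Subtype.ext
      show (t : G) * u * (t : G)⁻¹ = u
      rw [← h u u.2]
      group
  have h1 : (Subgroup.centralizer (P : Set G)).relIndex T = Nat.card φ.range := by
    rw [← Subgroup.index_ker, hker]
    rfl
  rw [h1]
  have h2 : Nat.card (Equiv.Perm P) = (Nat.card P).factorial := by
    rw [Nat.card_eq_fintype_card, Fintype.card_perm, Nat.card_eq_fintype_card]
  rw [← h2]
  exact Subgroup.card_subgroup_dvd_card _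

omit [Fintype G] in
/-- in a quotient of odd order, an element with square in the subgroup lies in it -/
theorem mem_of_sq_mem_of_odd_relIndex [Finite G] (C T : Subgroup G)
    (hn : (C.subgroupOf T).Normal) (hodd : ¬ 2 ∣ C.relIndex T) (t : G) (ht : t ∈ T)
    (ht2 : t * t ∈ C) : t ∈ C := by
  have := hn
  have h1 : (QuotientGroup.mk (⟨t, ht⟩ : T) : T ⧸ C.subgroupOf T) ^ 2 = 1 := by
    rw [← QuotientGroup.mk_pow, QuotientGroup.eq_one_iff, Subgroup.mem_subgroupOf, pow_two]
    exact ht2
  have h2 : orderOf (QuotientGroup.mk (⟨t, ht⟩ : T) : T ⧸ C.subgroupOf T) ∣ 2 :=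
    orderOf_dvd_of_pow_eq_one h1
  have h3 : orderOf (QuotientGroup.mk (⟨t, ht⟩ : T) : T ⧸ C.subgroupOf T)
      ∣ Nat.card (T ⧸ C.subgroupOf T) := orderOf_dvd_natCard _
  have h4 : Nat.card (T ⧸ C.subgroupOf T) = C.relIndex T :=
    (Subgroup.index_eq_card _).symm
  rw [h4] at h3
  have h5 : orderOf (QuotientGroup.mk (⟨t, ht⟩ : T) : T ⧸ C.subgroupOf T) = 1 := by
    rcases (Nat.dvd_prime Nat.prime_two).mp h2 with h | h
    · exact h
    · exfalso
      rw [h] at h3
      exact hodd h3
  have h6 := orderOf_eq_one_iff.mp h5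
  have h7 := (QuotientGroup.eq_one_iff _).mp h6
  exact Subgroup.mem_subgroupOf.mp h7

end inertial

end Cfsg.Agent.Lib.Helper25
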