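import Mathlib
import Cfsg.Agent.Lib.Helper25.KleinBlock2

/-!
# Blocks with a Klein four defect group: trivial inertial quotient
-/

set_option autoImplicit false

namespace Cfsg.Agent.Lib.Helper25

open Cfsg Cfsg.Agent.Lib.Helper2 Cfsg.Agent.Lib.Helper8

open scoped ComplexConjugate

section pairtools

variable {G : Type*} [Group G] {p : ℕ} {M : Ideal AlgInt}

theorem isBrauerPairOf_of_eq {B : Set (IrrCharacter G)} {a : BrauerPairIdx G} {Q : Subgroup G}
    {f : Set (IrrCharacter (Subgroup.centralizer (Q : Set G)))}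
    (h : a = ⟨Q, f⟩) (ha : IsBrauerPairOf p M B a.1 a.2) : IsBrauerPairOf p M B Q f := by
  subst h
  exact ha

theorem mem_zpowers_of_sq (a x : G) (haa : a * a = 1) (hx : x ∈ Subgroup.zpowers a) :
    x = 1 ∨ x = a := by
  obtain ⟨n, rfl⟩ := Subgroup.mem_zpowers_iff.mp hx
  have h2 : a ^ (2 : ℤ) = 1 := by
    rw [zpow_ofNat, pow_two]
    exact haa
  rcases Int.emod_two_eq_zero_or_one n with h | h
  · left
    obtain ⟨j, rfl⟩ := Int.dvd_of_emod_eq_zero h
    rw [zpow_mul, h2, one_zpow]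
  · right
    have h3 : n = 2 * (n / 2) + 1 := by omega
    rw [h3, zpow_add, zpow_mul, h2, one_zpow, one_mul, zpow_one]

theorem map_conj_zpowers (u g : G) :
    (Subgroup.zpowers u).map (MulAut.conj g).toMonoidHom = Subgroup.zpowers (g * u * g⁻¹) := by
  rw [MonoidHom.map_zpowers]
  rfl

theorem orderOf_eq_two_of_sq {u : G} (h : u * u = 1) (h1 : u ≠ 1) : orderOf u = 2 :=
  orderOf_eq_prime (by rw [pow_two]; exact h) h1

end pairtools

section rankone

variable {G : Type*} [Group G] [Fintype G] {M : Ideal AlgInt}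

omit [Fintype G] in
theorem card_involutions_klein [Finite G] (P : Subgroup G) (hcard : Nat.card P = 4) :
    ∀ [Fintype G] [DecidableEq G] [DecidablePred (fun u : G => u ∈ P ∧ u ≠ 1)],
      (Finset.univ.filter (fun u : G => u ∈ P ∧ u ≠ 1)).card = 3 := by
  classical
  intro _ _ _
  have hJ : (Finset.univ.filter (fun u : G => u ∈ P ∧ u ≠ 1))
      = (Finset.univ.filter (fun u : G => u ∈ P)).erase 1 := by
    ext u
    simp [and_comm]
  have hcP : (Finset.univ.filter (fun u : G => u ∈ P)).card = 4 := by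
    rw [← hcard, Nat.card_eq_fintype_card, Fintype.card_subtype]
  rw [hJ, Finset.card_erase_of_mem (by simp [P.one_mem]), hcP]

/-- **Klein four defect group with trivial inertial quotient**: the block has one
irreducible Brauer character -/
theorem klein_rank_one (hM : IsPModular 2 M) {B : Set (IrrCharacter G)} {P : Subgroup G}
    {c : Set (IrrCharacter (Subgroup.centralizer (P : Set G)))}
    (hmax : IsMaximalBrauerPair 2 M B P c) (hcard : Nat.card P = 4)
    (hexp : ∀ x ∈ P, x * x = 1)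
    (hTC : ∀ t : G, t ∈ Subgroup.normalizer (P : Set G) →
      StabilizesBlock (Subgroup.centralizer (P : Set G)) c t →
        t ∈ Subgroup.centralizer (P : Set G)) :
    blockRank 2 B = 1 := by
  classical
  have : Fact (Nat.Prime 2) := ⟨Nat.prime_two⟩
  have hPe : IsBrauerPair 2 M P c := hmax.1.1
  have hB : IsPBlock M B := hmax.1.2.1
  have hab : ∀ x ∈ P, ∀ y ∈ P, x * y = y * x := fun x hx y hy =>
    commute_of_sq_eq_one P (fun z => Subtype.ext (hexp z z.2)) x y hx hy
  have hnil : IsNilpotentBlock 2 M B := (nilpotent_iff_of_abelian hM hmax hab).mpr hTC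
  have hD := isDefectGroup_of_isMaximalBrauerPair hM hmax
  have hdef : blockDefect 2 B = 2 := by
    have h1 := card_of_isDefectGroup hM B hB P hD
    rw [hcard] at h1
    have h2 : 2 ^ blockDefect 2 B = 2 ^ 2 := by
      rw [← h1]
      norm_num
    exact Nat.pow_right_injective (le_refl 2) h2
  have hk := card_block_of_defect_two hM B hB hdef
  obtain ⟨X, hX, hX1, hXrep⟩ := exists_class_reps (G := G) 2
  have hform := card_block_eq_rank_add_pairs hM B hB X hX hX1 hXrep
  have hpos := blockRank_pos (p := 2) B (isPBlock_nonempty hM hB)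
  have hJcard := card_involutions_klein P hcard
  obtain ⟨J, hJdef⟩ : ∃ J : Finset G, J = Finset.univ.filter (fun u : G => u ∈ P ∧ u ≠ 1) :=
    ⟨_, rfl⟩
  rw [← hJdef] at hJcard
  have hJmem : ∀ u ∈ J, u ∈ P ∧ u ≠ 1 := by
    intro u hu
    rw [hJdef] at hu
    exact (Finset.mem_filter.mp hu).2
  have hdata : ∀ u ∈ J, ∃ f : Set (IrrCharacter
      (Subgroup.centralizer (Subgroup.zpowers u : Set G))),
      Relation.ReflTransGen (NormalSubpairRel 2 M)
        (⟨Subgroup.zpowers u, f⟩ : BrauerPairIdx G) ⟨P, c⟩ := by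
    intro u hu
    obtain ⟨f, -, hf⟩ := exists_subpair hM P c hPe (Subgroup.zpowers u)
      (by rw [Subgroup.zpowers_le]; exact (hJmem u hu).1)
    exact ⟨f, hf⟩
  choose! f hf using hdata
  have hconj : ∀ u ∈ J, ∃ g : G, g * u * g⁻¹ ∈ X := by
    intro u hu
    obtain ⟨hu1, hu2⟩ := hJmem u hu
    obtain ⟨x, ⟨hxX, hux⟩, -⟩ := hXrep u
      ⟨1, by rw [orderOf_eq_two_of_sq (hexp u hu1) hu2, pow_one]⟩ hu2
    obtain ⟨g, hg⟩ := isConj_iff.mp hux
    exact ⟨g, by rw [hg]; exact hxX⟩
  choose! g hg using hconj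
  obtain ⟨π, hπdef⟩ : ∃ π : G → BrauerPairIdx G,
      π = fun u => conjPair (g u) ⟨Subgroup.zpowers u, f u⟩ := ⟨_, rfl⟩
  have hinj : Set.InjOn π J := by
    intro u hu u' hu' h
    obtain ⟨hu1, hu2⟩ := hJmem u hu
    obtain ⟨hu1', hu2'⟩ := hJmem u' hu'
    rw [hπdef] at h
    have h' : conjPair (g u) (⟨Subgroup.zpowers u, f u⟩ : BrauerPairIdx G)
        = conjPair (g u') ⟨Subgroup.zpowers u', f u'⟩ := h
    have h1 : conjPair ((g u')⁻¹ * g u) (⟨Subgroup.zpowers u, f u⟩ : BrauerPairIdx G)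
        = ⟨Subgroup.zpowers u', f u'⟩ := by
      rw [conjPair_mul, h', ← conjPair_mul, inv_mul_cancel, conjPair_one]
    have hlex : Relation.ReflTransGen (NormalSubpairRel 2 M)
        (conjPair ((g u')⁻¹ * g u) (⟨Subgroup.zpowers u, f u⟩ : BrauerPairIdx G)) ⟨P, c⟩ := by
      rw [h1]
      exact hf u' hu'
    obtain ⟨v, hv, hvc⟩ := fusion_control hM hnil hmax _ (Subgroup.zpowers u) (f u)
      ((g u')⁻¹ * g u) rfl (hf u hu) hlex
    have hfst : (Subgroup.zpowers u).map (MulAut.conj ((g u')⁻¹ * g u)).toMonoidHom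
        = Subgroup.zpowers u' := congrArg Sigma.fst h1
    obtain ⟨y, hy⟩ : ∃ y : G, y = (g u')⁻¹ * g u := ⟨_, rfl⟩
    rw [← hy] at hfst hvc
    have hyu : y * u * y⁻¹ = u := by
      have h2 : u * (v⁻¹ * y) = (v⁻¹ * y) * u := (mem_centralizer_zpowers_iff u _).mp hvc
      have h3 : v * u = u * v := hab v hv u hu1
      calc y * u * y⁻¹ = v * ((v⁻¹ * y) * u) * y⁻¹ := by group
        _ = v * (u * (v⁻¹ * y)) * y⁻¹ := by rw [h2]
        _ = (v * u) * v⁻¹ := by group
        _ = u := by rw [h3]; group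
    have h4 : u' ∈ (Subgroup.zpowers u).map (MulAut.conj y).toMonoidHom := by
      rw [hfst]
      exact Subgroup.mem_zpowers u'
    rw [mem_map_conj_iff] at h4
    rcases mem_zpowers_of_sq u _ (hexp u hu1) h4 with h5 | h5
    · exfalso
      apply hu2'
      calc u' = y * (y⁻¹ * u' * y) * y⁻¹ := by group
        _ = 1 := by rw [h5]; group
    · calc u = y * u * y⁻¹ := hyu.symm
        _ = y * (y⁻¹ * u' * y) * y⁻¹ := by rw [h5]
        _ = u' := by group
  have hπ : ∀ u ∈ J, ∃ x ∈ X, ∃ f' : Set (IrrCharacter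
        (Subgroup.centralizer (Subgroup.zpowers x : Set G))),
      IsBrauerPairOf 2 M B (Subgroup.zpowers x) f' ∧ π u = ⟨Subgroup.zpowers x, f'⟩ := by
    intro u hu
    refine ⟨g u * u * (g u)⁻¹, hg u hu, ?_⟩
    have h1 : (π u).1 = Subgroup.zpowers (g u * u * (g u)⁻¹) := by
      rw [hπdef]
      exact map_conj_zpowers u (g u)
    obtain ⟨f', hf'⟩ := exists_snd_of_fst_eq (π u) _ h1
    refine ⟨f', isBrauerPairOf_of_eq hf' ?_, hf'⟩
    rw [hπdef]
    have hpair : IsBrauerPairOf 2 M B (Subgroup.zpowers u) (f u) :=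
      (brauerPairOf_iff_of_le hM (hf u hu) B hB).mp hmax.1
    exact isBrauerPairOf_conj hpair (g u)
  have hsum := card_le_sum_pairs hM B X J π hinj hπ
  omega

end rankone

end Cfsg.Agent.Lib.Helper25
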