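import Mathlib
import Cfsg.Agent.Lib.Helper25.KleinBlock3

/-!
# Blocks with a Klein four defect group: inertial index three
-/

set_option autoImplicit false

namespace Cfsg.Agent.Lib.Helper25

open Cfsg Cfsg.Agent.Lib.Helper2 Cfsg.Agent.Lib.Helper8

open scoped ComplexConjugate

section kleintools

variable {G : Type*} [Group G]

theorem klein_exists_third [Finite G] (P : Subgroup G) (hcard : Nat.card P = 4) (u : G) :
    ∃ w ∈ P, w ≠ 1 ∧ w ≠ u := by
  classical
  have : Fintype G := Fintype.ofFinite G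
  have hcP : (Finset.univ.filter (fun x : G => x ∈ P)).card = 4 := by
    rw [← hcard, Nat.card_eq_fintype_card, Fintype.card_subtype]
  have h2 : ({1, u} : Finset G).card < (Finset.univ.filter (fun x : G => x ∈ P)).card := by
    rw [hcP]
    exact lt_of_le_of_lt (Finset.card_insert_le _ _) (by simp)
  obtain ⟨w, hw, hw'⟩ := Finset.exists_mem_notMem_of_card_lt_card h2
  refine ⟨w, (Finset.mem_filter.mp hw).2, ?_, ?_⟩
  · intro h
    apply hw'
    simp [h]
  · intro h
    apply hw'
    simp [h]

theorem klein_elems [Finite G] (P : Subgroup G) (hcard : Nat.card P = 4)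
    (hexp : ∀ x ∈ P, x * x = 1) (u w : G) (hu : u ∈ P) (hw : w ∈ P) (hu1 : u ≠ 1)
    (hw1 : w ≠ 1) (hwu : w ≠ u) (x : G) (hx : x ∈ P) :
    x = 1 ∨ x = u ∨ x = w ∨ x = u * w := by
  classical
  have : Fintype G := Fintype.ofFinite G
  have hcP : (Finset.univ.filter (fun x : G => x ∈ P)).card = 4 := by
    rw [← hcard, Nat.card_eq_fintype_card, Fintype.card_subtype]
  have huw1 : u * w ≠ 1 := by
    intro h
    apply hwu
    have h1 := hexp u hu
    exact mul_left_cancel (h.trans h1.symm)
  have huwu : u * w ≠ u := fun h => hw1 (by simpa using h)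
  have huww : u * w ≠ w := fun h => hu1 (by simpa using h)
  have hS : ({1, u, w, u * w} : Finset G).card = 4 := by
    rw [Finset.card_insert_of_notMem, Finset.card_insert_of_notMem,
      Finset.card_insert_of_notMem, Finset.card_singleton]
    · simp only [Finset.mem_singleton]
      exact fun h => huww h.symm
    · simp only [Finset.mem_insert, Finset.mem_singleton, not_or]
      exact ⟨fun h => hwu h.symm, fun h => huwu h.symm⟩
    · simp only [Finset.mem_insert, Finset.mem_singleton, not_or]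
      exact ⟨fun h => hu1 h.symm, fun h => hw1 h.symm, fun h => huw1 h.symm⟩
  have hsub : ({1, u, w, u * w} : Finset G) ⊆ Finset.univ.filter (fun x : G => x ∈ P) := by
    intro z hz
    simp only [Finset.mem_insert, Finset.mem_singleton] at hz
    rw [Finset.mem_filter]
    refine ⟨Finset.mem_univ _, ?_⟩
    rcases hz with h | h | h | h
    · rw [h]; exact P.one_mem
    · rw [h]; exact hu
    · rw [h]; exact hw
    · rw [h]; exact P.mul_mem hu hw
  have heq := Finset.eq_of_subset_of_card_le hsub (by rw [hS, hcP])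
  have hx' : x ∈ ({1, u, w, u * w} : Finset G) := by
    rw [heq]
    exact Finset.mem_filter.mpr ⟨Finset.mem_univ _, hx⟩
  simpa using hx'

/-- an element normalizing a Klein four group and fixing one of its involutions has its
square in the centralizer -/
theorem sq_mem_centralizer_of_fix [Finite G] (P : Subgroup G) (hcard : Nat.card P = 4)
    (hexp : ∀ x ∈ P, x * x = 1) (s : G) (hs : s ∈ Subgroup.normalizer (P : Set G)) (u : G)
    (hu : u ∈ P) (hu1 : u ≠ 1) (hfix : s * u * s⁻¹ = u) :
    s * s ∈ Subgroup.centralizer (P : Set G) := by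
  obtain ⟨w, hw, hw1, hwu⟩ := klein_exists_third P hcard u
  have hel := klein_elems P hcard hexp u w hu hw hu1 hw1 hwu
  have hsw : s * w * s⁻¹ ∈ P := (Subgroup.mem_normalizer_iff.mp hs w).mp hw
  have hsw1 : s * w * s⁻¹ ≠ 1 := fun h => hw1 (conj_eq_one_iff.mp h)
  have hswu : s * w * s⁻¹ ≠ u := by
    intro h
    apply hwu
    calc w = s⁻¹ * (s * w * s⁻¹) * s := by group
      _ = s⁻¹ * (s * u * s⁻¹) * s := by rw [h, hfix]
      _ = u := by group
  have h2 : s * u = u * s := by
    calc s * u = (s * u * s⁻¹) * s := by group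
      _ = u * s := by rw [hfix]
  have hsu : (s * s) * u = u * (s * s) := by
    calc (s * s) * u = s * (s * u) := by group
      _ = s * (u * s) := by rw [h2]
      _ = (s * u) * s := by group
      _ = (u * s) * s := by rw [h2]
      _ = u * (s * s) := by group
  have hsw' : (s * s) * w = w * (s * s) := by
    rcases hel _ hsw with h | h | h | h
    · exact absurd h hsw1
    · exact absurd h hswu
    · have h3 : s * w = w * s := by
        calc s * w = (s * w * s⁻¹) * s := by group
          _ = w * s := by rw [h]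
      calc (s * s) * w = s * (s * w) := by group
        _ = s * (w * s) := by rw [h3]
        _ = (s * w) * s := by group
        _ = (w * s) * s := by rw [h3]
        _ = w * (s * s) := by group
    · have h1 : s * w = u * w * s := by
        calc s * w = (s * w * s⁻¹) * s := by group
          _ = u * w * s := by rw [h]
      have huu := hexp u hu
      calc (s * s) * w = s * (s * w) := by group
        _ = s * (u * w * s) := by rw [h1]
        _ = (s * u) * w * s := by group
        _ = (u * s) * w * s := by rw [h2]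
        _ = u * (s * w) * s := by group
        _ = u * (u * w * s) * s := by rw [h1]
        _ = (u * u) * w * (s * s) := by group
        _ = w * (s * s) := by rw [huu, one_mul]
  rw [Subgroup.mem_centralizer_iff]
  intro x hx
  rcases hel x hx with h | h | h | h
  · rw [h]; simp
  · rw [h]; exact hsu.symm
  · rw [h]; exact hsw'.symm
  · rw [h]
    calc u * w * (s * s) = u * (w * (s * s)) := by group
      _ = u * ((s * s) * w) := by rw [hsw']
      _ = (u * (s * s)) * w := by group
      _ = ((s * s) * u) * w := by rw [hsu]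
      _ = s * s * (u * w) := by group

end kleintools

section rankthree

variable {G : Type*} [Group G] [Fintype G] {p : ℕ} {M : Ideal AlgInt}

omit [Fintype G] in
theorem blockRank_of_pair_eq {a b : BrauerPairIdx G} (h : a = b) :
    blockRank p a.2 = blockRank p b.2 := by
  subst h
  rfl

omit [Fintype G] in
theorem blockRank_of_conjPair_eq [Finite G] (g : G) (Q : Subgroup G)
    (f : Set (IrrCharacter (Subgroup.centralizer (Q : Set G)))) (Q' : Subgroup G)
    (f' : Set (IrrCharacter (Subgroup.centralizer (Q' : Set G))))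
    (h : conjPair g (⟨Q, f⟩ : BrauerPairIdx G) = ⟨Q', f'⟩) :
    blockRank p f' = blockRank p f := by
  have h1 := blockRank_of_pair_eq (p := p) h
  have h2 : blockRank p (conjBlock Q g f) = blockRank p f' := h1
  rw [← h2, blockRank_conjBlock]

omit [Fintype G] in
theorem good_aux {P : Subgroup G} {c : Set (IrrCharacter (Subgroup.centralizer (P : Set G)))}
    (Q₁ : Subgroup G) (f₁ : Set (IrrCharacter (Subgroup.centralizer (Q₁ : Set G)))) (a' : G)
    (h : Q₁ = Subgroup.zpowers a') (h1 : SubpairLE p M Q₁ f₁ P c)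
    (h2 : IsDefectGroup p M f₁ ((P ⊓ Subgroup.centralizer (Q₁ : Set G)).subgroupOf
      (Subgroup.centralizer (Q₁ : Set G)))) :
    ∃ f' : Set (IrrCharacter (Subgroup.centralizer (Subgroup.zpowers a' : Set G))),
      SubpairLE p M (Subgroup.zpowers a') f' P c ∧
      IsDefectGroup p M f' ((P ⊓ Subgroup.centralizer (Subgroup.zpowers a' : Set G)).subgroupOf
        (Subgroup.centralizer (Subgroup.zpowers a' : Set G))) := by
  subst h
  exact ⟨f₁, h1, h2⟩

/-- **Klein four defect group with a nontrivial inertial quotient**: the block has three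
irreducible Brauer characters -/
theorem klein_rank_three (hM : IsPModular 2 M) {B : Set (IrrCharacter G)} {P : Subgroup G}
    {c : Set (IrrCharacter (Subgroup.centralizer (P : Set G)))}
    (hmax : IsMaximalBrauerPair 2 M B P c) (hcard : Nat.card P = 4)
    (hexp : ∀ x ∈ P, x * x = 1) (t₀ : G) (ht₀N : t₀ ∈ Subgroup.normalizer (P : Set G))
    (ht₀S : StabilizesBlock (Subgroup.centralizer (P : Set G)) c t₀)
    (ht₀C : t₀ ∉ Subgroup.centralizer (P : Set G)) :
    blockRank 2 B = 3 := by
  classical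
  have : Fact (Nat.Prime 2) := ⟨Nat.prime_two⟩
  have hPe : IsBrauerPair 2 M P c := hmax.1.1
  have he : IsPBlock M c := hPe.2
  have hB : IsPBlock M B := hmax.1.2.1
  have hab : ∀ x ∈ P, ∀ y ∈ P, x * y = y * x := fun x hx y hy =>
    commute_of_sq_eq_one P (fun z => Subtype.ext (hexp z z.2)) x y hx hy
  have hPC : P ≤ Subgroup.centralizer (P : Set G) := by
    intro u hu
    rw [Subgroup.mem_centralizer_iff]
    intro v hv
    exact hab v hv u hu
  have hD := isDefectGroup_of_isMaximalBrauerPair hM hmax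
  have hdef : blockDefect 2 B = 2 := by
    have h1 := card_of_isDefectGroup hM B hB P hD
    rw [hcard] at h1
    have h2 : 2 ^ blockDefect 2 B = 2 ^ 2 := by
      rw [← h1]
      norm_num
    exact Nat.pow_right_injective (le_refl 2) h2
  have hk := card_block_of_defect_two hM B hB hdef
  -- the stabilizer
  have hodd := stab_relIndex_not_dvd hM hmax hPC (pairStab hM P c he) (fun y => Iff.rfl)
  have hn := centralizer_subgroupOf_normal P (pairStab hM P c he) (fun t ht => ht.1)
  have ht₀T : t₀ ∈ pairStab hM P c he := ⟨ht₀N, ht₀S⟩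
  have hF : ∀ s ∈ pairStab hM P c he, s ∉ Subgroup.centralizer (P : Set G) →
      ∀ u ∈ P, u ≠ 1 → s * u * s⁻¹ ≠ u := by
    intro s hsT hsC u hu hu1 h
    exact hsC (mem_of_sq_mem_of_odd_relIndex _ _ hn hodd s hsT
      (sq_mem_centralizer_of_fix P hcard hexp s hsT.1 u hu hu1 h))
  have htrans : ∀ u ∈ P, u ≠ 1 → ∀ v ∈ P, v ≠ 1 →
      ∃ s ∈ pairStab hM P c he, s * u * s⁻¹ = v := by
    intro u hu hu1 v hv hv1
    by_cases hvu : v = u
    · exact ⟨1, Subgroup.one_mem _, by rw [hvu]; group⟩
    have h1P : t₀ * u * t₀⁻¹ ∈ P := (Subgroup.mem_normalizer_iff.mp ht₀N u).mp hu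
    have h11 : t₀ * u * t₀⁻¹ ≠ 1 := fun h => hu1 (conj_eq_one_iff.mp h)
    have h1u : t₀ * u * t₀⁻¹ ≠ u := hF t₀ ht₀T ht₀C u hu hu1
    rcases klein_elems P hcard hexp u (t₀ * u * t₀⁻¹) hu h1P hu1 h11 h1u v hv with h | h | h | h
    · exact absurd h hv1
    · exact absurd h hvu
    · exact ⟨t₀, ht₀T, h.symm⟩
    · have ht2T : t₀ * t₀ ∈ pairStab hM P c he := Subgroup.mul_mem _ ht₀T ht₀T
      have ht2C : t₀ * t₀ ∉ Subgroup.centralizer (P : Set G) := fun hc =>
        ht₀C (mem_of_sq_mem_of_odd_relIndex _ _ hn hodd t₀ ht₀T hc)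
      have h2P : (t₀ * t₀) * u * (t₀ * t₀)⁻¹ ∈ P :=
        (Subgroup.mem_normalizer_iff.mp ht2T.1 u).mp hu
      have h21 : (t₀ * t₀) * u * (t₀ * t₀)⁻¹ ≠ 1 := fun h => hu1 (conj_eq_one_iff.mp h)
      have h2u : (t₀ * t₀) * u * (t₀ * t₀)⁻¹ ≠ u := hF _ ht2T ht2C u hu hu1
      have h2u1 : (t₀ * t₀) * u * (t₀ * t₀)⁻¹ ≠ t₀ * u * t₀⁻¹ := by
        intro h'
        apply h1u
        calc t₀ * u * t₀⁻¹ = t₀⁻¹ * ((t₀ * t₀) * u * (t₀ * t₀)⁻¹) * t₀ := by group
          _ = t₀⁻¹ * (t₀ * u * t₀⁻¹) * t₀ := by rw [h']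
          _ = u := by group
      rcases klein_elems P hcard hexp u (t₀ * u * t₀⁻¹) hu h1P hu1 h11 h1u _ h2P
        with h' | h' | h' | h'
      · exact absurd h' h21
      · exact absurd h' h2u
      · exact absurd h' h2u1
      · exact ⟨t₀ * t₀, ht2T, by rw [h', h]⟩
  -- a good involution
  obtain ⟨a, ha, ha1⟩ : ∃ a ∈ P, a ≠ 1 := by
    obtain ⟨w, hw, hw1, -⟩ := klein_exists_third P hcard 1
    exact ⟨w, hw, hw1⟩
  have haP : Subgroup.zpowers a ≤ P := by
    rw [Subgroup.zpowers_le]
    exact ha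
  obtain ⟨fa, hfa, hlea⟩ := exists_subpair hM P c hPe (Subgroup.zpowers a) haP
  obtain ⟨-, x, hlex, hDx⟩ := centralizerIn_defectGroup hM hmax haP hfa hlea
  obtain ⟨a', ha'def⟩ : ∃ a' : G, a' = x * a * x⁻¹ := ⟨_, rfl⟩
  obtain ⟨f', hle', hDq⟩ := good_aux _ _ a' ((map_conj_zpowers a x).trans (by rw [ha'def]))
    hlex hDx
  have hQP' : Subgroup.zpowers a' ≤ P := subpairLE_le hle'
  have ha'P : a' ∈ P := Subgroup.zpowers_le.mp hQP'
  have ha'1 : a' ≠ 1 := by
    rw [ha'def]
    exact fun h => ha1 (conj_eq_one_iff.mp h)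
  have hPC' : P ≤ Subgroup.centralizer (Subgroup.zpowers a' : Set G) := by
    intro v hv
    rw [mem_centralizer_zpowers_iff]
    exact hab a' ha'P v hv
  have hf' : IsPBlock M f' := by
    have h1 : IsBrauerPairOf 2 M B (Subgroup.zpowers a') f' :=
      (brauerPairOf_iff_of_le hM hle' B hB).mp hmax.1
    exact h1.1.2
  -- the rank of f'
  have hr : blockRank 2 f' = 1 := by
    obtain ⟨g', hpair'⟩ := exists_pair_centralizerIn hM hPe hQP' hle'
    let _ : Fintype ↥(Subgroup.centralizer (Subgroup.zpowers a' : Set G)) := Fintype.ofFinite _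
    have hmax' := isMaximal_of_defectGroup hM hpair' hDq
    have hcard' : Nat.card ((P ⊓ Subgroup.centralizer (Subgroup.zpowers a' : Set G)).subgroupOf
        (Subgroup.centralizer (Subgroup.zpowers a' : Set G))) = 4 := by
      rw [card_subgroupOf_eq _ _ inf_le_right, inf_eq_left.mpr hPC', hcard]
    have hexp' : ∀ z ∈ (P ⊓ Subgroup.centralizer (Subgroup.zpowers a' : Set G)).subgroupOf
        (Subgroup.centralizer (Subgroup.zpowers a' : Set G)), z * z = 1 := by
      intro z hz
      rw [Subgroup.mem_subgroupOf] at hz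
      exact Subtype.ext (hexp _ hz.1)
    have hD₀C : (P ⊓ Subgroup.centralizer (Subgroup.zpowers a' : Set G)).subgroupOf
        (Subgroup.centralizer (Subgroup.zpowers a' : Set G))
        ≤ Subgroup.centralizer (((P ⊓ Subgroup.centralizer
          (Subgroup.zpowers a' : Set G)).subgroupOf
        (Subgroup.centralizer (Subgroup.zpowers a' : Set G)) :
          Subgroup (Subgroup.centralizer (Subgroup.zpowers a' : Set G))) :
          Set (Subgroup.centralizer (Subgroup.zpowers a' : Set G))) := by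
      intro z hz
      rw [Subgroup.mem_centralizer_iff]
      intro w hw
      rw [SetLike.mem_coe] at hw
      rw [Subgroup.mem_subgroupOf] at hz hw
      exact Subtype.ext (hab _ hw.1 _ hz.1)
    have hg' : IsPBlock M g' := hpair'.1.2
    have hodd' := stab_relIndex_not_dvd hM hmax' hD₀C (pairStab hM _ g' hg') (fun y => Iff.rfl)
    have hn' := centralizer_subgroupOf_normal
      ((P ⊓ Subgroup.centralizer (Subgroup.zpowers a' : Set G)).subgroupOf
        (Subgroup.centralizer (Subgroup.zpowers a' : Set G))) (pairStab hM _ g' hg')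
      (fun t ht => ht.1)
    apply klein_rank_one hM hmax' hcard' hexp'
    intro t htN htS
    have ha'C : a' ∈ Subgroup.centralizer (Subgroup.zpowers a' : Set G) := hPC' ha'P
    have hα : (⟨a', ha'C⟩ : Subgroup.centralizer (Subgroup.zpowers a' : Set G))
        ∈ (P ⊓ Subgroup.centralizer (Subgroup.zpowers a' : Set G)).subgroupOf
        (Subgroup.centralizer (Subgroup.zpowers a' : Set G)) := by
      rw [Subgroup.mem_subgroupOf]
      exact ⟨ha'P, ha'C⟩
    have hα1 : (⟨a', ha'C⟩ : Subgroup.centralizer (Subgroup.zpowers a' : Set G)) ≠ 1 := by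
      intro h
      exact ha'1 (congrArg Subtype.val h)
    have hfix : t * (⟨a', ha'C⟩ : Subgroup.centralizer (Subgroup.zpowers a' : Set G)) * t⁻¹
        = ⟨a', ha'C⟩ := by
      apply Subtype.ext
      show (t : G) * a' * (t : G)⁻¹ = a'
      have h1 : a' * (t : G) = (t : G) * a' := (mem_centralizer_zpowers_iff a' _).mp t.2
      rw [← h1]
      group
    have hsq := sq_mem_centralizer_of_fix _ hcard' hexp' t htN _ hα hα1 hfix
    exact mem_of_sq_mem_of_odd_relIndex _ _ hn' hodd' t ⟨htN, htS⟩ hsq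
  -- the count
  obtain ⟨X, hX, hX1, hXrep⟩ := exists_class_reps (G := G) 2
  have hform := card_block_eq_rank_add_pairs hM B hB X hX hX1 hXrep
  have ha'ord : ∃ k : ℕ, orderOf a' = 2 ^ k :=
    ⟨1, by rw [orderOf_eq_two_of_sq (hexp a' ha'P) ha'1, pow_one]⟩
  obtain ⟨x₀, ⟨hx₀X, hax₀⟩, -⟩ := hXrep a' ha'ord ha'1
  obtain ⟨g₀, hg₀⟩ := isConj_iff.mp hax₀
  have hfst₀ : (conjPair g₀ (⟨Subgroup.zpowers a', f'⟩ : BrauerPairIdx G)).1
      = Subgroup.zpowers x₀ := by
    rw [← hg₀]
    exact map_conj_zpowers a' g₀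
  obtain ⟨f₀, hf₀⟩ := exists_snd_of_fst_eq _ _ hfst₀
  have hpair_a' : IsBrauerPairOf 2 M B (Subgroup.zpowers a') f' :=
    (brauerPairOf_iff_of_le hM hle' B hB).mp hmax.1
  have hpair₀ : IsBrauerPairOf 2 M B (Subgroup.zpowers x₀) f₀ :=
    isBrauerPairOf_of_eq hf₀ (isBrauerPairOf_conj hpair_a' g₀)
  have hr₀ : blockRank 2 f₀ = 1 := by
    rw [blockRank_of_conjPair_eq g₀ _ f' _ f₀ hf₀, hr]
  have hx0 : x₀ ≠ 1 := fun h' => hX1 (h' ▸ hx₀X)
  have huniq : ∀ x ∈ X, ∀ f : Set (IrrCharacter
      (Subgroup.centralizer (Subgroup.zpowers x : Set G))),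
      IsBrauerPairOf 2 M B (Subgroup.zpowers x) f →
      x = x₀ ∧ (⟨Subgroup.zpowers x, f⟩ : BrauerPairIdx G) = ⟨Subgroup.zpowers x₀, f₀⟩ := by
    intro x hxX f hf
    have hx1 : x ≠ 1 := fun h => hX1 (h ▸ hxX)
    obtain ⟨y, hy⟩ := exists_conj_le_maximal hM hmax hf
    have hy' : Relation.ReflTransGen (NormalSubpairRel 2 M)
        (conjPair y (⟨Subgroup.zpowers x, f⟩ : BrauerPairIdx G)) ⟨P, c⟩ := hy
    have huP : y * x * y⁻¹ ∈ P := by
      have h1 := subpairLE_le hy
      rw [map_conj_zpowers] at h1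
      exact Subgroup.zpowers_le.mp h1
    have hu1 : y * x * y⁻¹ ≠ 1 := fun h => hx1 (conj_eq_one_iff.mp h)
    obtain ⟨s, hsT, hs⟩ := htrans _ huP hu1 a' ha'P ha'1
    have h2 : Relation.ReflTransGen (NormalSubpairRel 2 M)
        (conjPair s (conjPair y (⟨Subgroup.zpowers x, f⟩ : BrauerPairIdx G))) ⟨P, c⟩ := by
      have h3 := subpairLE_conj (p := 2) (M := M) s hy'
      rwa [conjPair_eq_self_of_mem_pairStab hM P c he s hsT] at h3
    have hfst2 : (conjPair s (conjPair y (⟨Subgroup.zpowers x, f⟩ : BrauerPairIdx G))).1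
        = Subgroup.zpowers a' := by
      show ((Subgroup.zpowers x).map (MulAut.conj y).toMonoidHom).map
        (MulAut.conj s).toMonoidHom = _
      rw [map_conj_zpowers, map_conj_zpowers, hs]
    obtain ⟨f'', hf''⟩ := exists_snd_of_fst_eq _ _ hfst2
    rw [hf''] at h2
    have hf''eq : f'' = f' := subpair_unique hM P c hPe (Subgroup.zpowers a') f'' f' h2 hle'
    rw [hf''eq] at hf''
    obtain ⟨h, hh⟩ : ∃ h : G, h = g₀ * (s * y) := ⟨_, rfl⟩
    have h3 : conjPair h (⟨Subgroup.zpowers x, f⟩ : BrauerPairIdx G)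
        = ⟨Subgroup.zpowers x₀, f₀⟩ := by
      rw [hh, conjPair_mul, conjPair_mul, hf'', hf₀]
    have hfst3 : (Subgroup.zpowers x).map (MulAut.conj h).toMonoidHom = Subgroup.zpowers x₀ :=
      congrArg Sigma.fst h3
    rw [map_conj_zpowers] at hfst3
    have hxx : x * x = 1 := by
      have h4 := hexp _ huP
      calc x * x = y⁻¹ * ((y * x * y⁻¹) * (y * x * y⁻¹)) * y := by group
        _ = 1 := by rw [h4]; group
    have hhx : (h * x * h⁻¹) * (h * x * h⁻¹) = 1 := by
      calc (h * x * h⁻¹) * (h * x * h⁻¹) = h * (x * x) * h⁻¹ := by group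
        _ = 1 := by rw [hxx]; group
    have hx₀mem : x₀ ∈ Subgroup.zpowers (h * x * h⁻¹) := by
      rw [hfst3]
      exact Subgroup.mem_zpowers x₀
    have hx₀eq : x₀ = h * x * h⁻¹ := by
      rcases mem_zpowers_of_sq _ _ hhx hx₀mem with h' | h'
      · exact absurd h' hx0
      · exact h'
    have hxeq : x = x₀ := by
      obtain ⟨z, -, hz⟩ := hXrep x ⟨1, by rw [orderOf_eq_two_of_sq hxx hx1, pow_one]⟩ hx1
      have e1 := hz x ⟨hxX, IsConj.refl x⟩
      have e2 := hz x₀ ⟨hx₀X, isConj_iff.mpr ⟨h, hx₀eq.symm⟩⟩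
      rw [e1, e2]
    refine ⟨hxeq, ?_⟩
    have hhC : h ∈ Subgroup.centralizer (Subgroup.zpowers x : Set G) := by
      rw [mem_centralizer_zpowers_iff]
      have h5 : x = h * x * h⁻¹ := hxeq.trans hx₀eq
      calc x * h = (h * x * h⁻¹) * h := by rw [← h5]
        _ = h * x := by group
    have h4 := conjPair_eq_self_of_mem_pairStab hM (Subgroup.zpowers x) f hf.1.2 h
      (centralizer_le_pairStab hM _ f hf.1.2 hhC)
    exact h4.symm.trans h3
  have hsum : (∑ x ∈ X, ∑ᶠ f ∈ {f : Set (IrrCharacter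
          (Subgroup.centralizer (Subgroup.zpowers x : Set G))) |
        IsBrauerPairOf 2 M B (Subgroup.zpowers x) f}, blockRank 2 f) = 1 := by
    rw [Finset.sum_eq_single x₀]
    · have hset : {f : Set (IrrCharacter (Subgroup.centralizer (Subgroup.zpowers x₀ : Set G))) |
          IsBrauerPairOf 2 M B (Subgroup.zpowers x₀) f} = {f₀} := by
        ext f
        simp only [Set.mem_setOf_eq, Set.mem_singleton_iff]
        constructor
        · intro hf
          have h1 := (huniq x₀ hx₀X f hf).2
          exact eq_of_heq (Sigma.mk.inj_iff.mp h1).2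
        · rintro rfl
          exact hpair₀
      rw [hset, finsum_mem_singleton, hr₀]
    · intro x hxX hne
      have hset : {f : Set (IrrCharacter (Subgroup.centralizer (Subgroup.zpowers x : Set G))) |
          IsBrauerPairOf 2 M B (Subgroup.zpowers x) f} = ∅ := by
        ext f
        simp only [Set.mem_setOf_eq, Set.mem_empty_iff_false, iff_false]
        intro hf
        exact hne (huniq x hxX f hf).1
      rw [hset, finsum_mem_empty]
    · intro h
      exact absurd hx₀X h
  rw [hsum, hk] at hform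
  omega

end rankthree

end Cfsg.Agent.Lib.Helper25
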