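import Mathlib
import Cfsg.Agent.Lib.Helper25.InvolSums
import Cfsg.Agent.Lib.Helper25.Klein

/-!
# Brauer's order formula for groups with a Klein four Sylow `2`-subgroup
-/

set_option autoImplicit false

namespace Cfsg.Agent.Lib.Helper25

open Cfsg Cfsg.Agent.Lib.Helper2 Cfsg.Agent.Lib.Helper8

open scoped ComplexConjugate

section partone

variable {H : Type*} [Group H] [Fintype H] {p : ℕ} {M : Ideal AlgInt}

/-- the value at `1` of the principal block part of a function on a group with a normal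
`p`-complement `N` is the average of the function over `N` -/
theorem blockPart_principal_one [Fact p.Prime] (hM : IsPModular p M) (N : Subgroup H)
    [N.Normal] [DecidablePred (· ∈ N)] (hNp : ¬ p ∣ Nat.card N)
    (hreg : ∀ h : H, ¬ p ∣ orderOf h → h ∈ N) (F : H → ℂ) :
    blockPart (principalBlock M H) F 1
      = (Nat.card N : ℂ)⁻¹ * ∑ h : H, if h ∈ N then F h else 0 := by
  classical
  have hpr := isPrime_of_isPModular hM
  have : Fintype (IrrCharacter H) := Fintype.ofFinite _
  have hp : p.Prime := Fact.out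
  have hne := card_ne_zero_complex H
  have h1reg : ¬ p ∣ orderOf (1 : H) := by
    rw [orderOf_one]
    exact fun h => hp.one_lt.ne' (Nat.dvd_one.mp h)
  have hkey : ∀ h : H, ∑ θ : IrrCharacter H, (if θ ∈ principalBlock M H then
        conj ((θ : H → ℂ) h) * (θ : H → ℂ) 1 else 0)
      = if h ∈ N then ∑ θ : IrrCharacter H, (if θ ∈ principalBlock M H then
        conj ((θ : H → ℂ) 1) * (θ : H → ℂ) 1 else 0) else 0 := by
    intro h
    by_cases hh : h ∈ N
    · rw [if_pos hh]
      apply Finset.sum_congr rfl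
      intro θ _
      by_cases hθ : θ ∈ principalBlock M H
      · rw [if_pos hθ, if_pos hθ, Cfsg.Agent.S4646.principal_ker hM N hNp θ hθ h hh]
      · rw [if_neg hθ, if_neg hθ]
    · rw [if_neg hh]
      have hsing : p ∣ orderOf h := by
        by_contra hcon
        exact hh (hreg h hcon)
      have h0 := block_orth hM (principalBlock M H) (blockClosed_principal M) 1 h h1reg hsing
      refine Eq.trans ?_ h0
      apply Finset.sum_congr rfl
      intro θ _
      by_cases hθ : θ ∈ principalBlock M H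
      · rw [if_pos hθ, if_pos hθ, one_mul, mul_comm]
      · rw [if_neg hθ, if_neg hθ, zero_mul]
  have hgen : ∀ F : H → ℂ, blockPart (principalBlock M H) F 1
      = (Nat.card H : ℂ)⁻¹ * (∑ θ : IrrCharacter H, (if θ ∈ principalBlock M H then
        conj ((θ : H → ℂ) 1) * (θ : H → ℂ) 1 else 0)) * ∑ h : H, if h ∈ N then F h else 0 := by
    intro F
    rw [blockPart_eq_sum_irr]
    have e1 : ∀ θ : IrrCharacter H, (if θ ∈ principalBlock M H then
        classInner F (θ : H → ℂ) * (θ : H → ℂ) 1 else 0)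
        = ∑ h : H, (Nat.card H : ℂ)⁻¹ * F h * (if θ ∈ principalBlock M H then
            conj ((θ : H → ℂ) h) * (θ : H → ℂ) 1 else 0) := by
      intro θ
      by_cases hθ : θ ∈ principalBlock M H
      · simp only [if_pos hθ]
        rw [classInner_def, Finset.mul_sum, Finset.sum_mul]
        apply Finset.sum_congr rfl
        intro h _
        ring
      · simp only [if_neg hθ, mul_zero, Finset.sum_const_zero]
    rw [Finset.sum_congr rfl (fun θ _ => e1 θ), Finset.sum_comm]
    rw [Finset.mul_sum]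
    apply Finset.sum_congr rfl
    intro h _
    rw [← Finset.mul_sum, hkey h]
    by_cases hh : h ∈ N
    · rw [if_pos hh, if_pos hh]; ring
    · rw [if_neg hh, if_neg hh]; ring
  have htriv : (⟨fun _ => 1, isIrrCharacter_one⟩ : IrrCharacter H) ∈ principalBlock M H := by
    change SameBlock M (fun _ : H => (1 : ℂ)) (fun _ : H => (1 : ℂ))
    exact sameBlock_refl M _
  have h1 := hgen (fun _ => 1)
  have h2 := blockPart_irr (principalBlock M H)
    (⟨fun _ => 1, isIrrCharacter_one⟩ : IrrCharacter H) 1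
  rw [if_pos htriv] at h2
  have h3 : blockPart (principalBlock M H) (fun _ : H => (1 : ℂ)) 1 = 1 := h2
  rw [h3] at h1
  have hcN : (∑ h : H, if h ∈ N then (1 : ℂ) else 0) = (Nat.card N : ℂ) := by
    rw [Finset.sum_boole]
    congr 1
    rw [Nat.card_eq_fintype_card, Fintype.card_subtype]
  rw [hcN] at h1
  have hN0 : (Nat.card N : ℂ) ≠ 0 := by
    exact_mod_cast Nat.card_pos.ne'
  rw [hgen F]
  congr 1
  field_simp
  field_simp at h1
  exact h1.symm

end partone

section centstruct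

variable {G : Type*} [Group G]

/-- the centralizer of an involution in a Klein four Sylow `2`-subgroup: its normal
`2`-complement -/
theorem klein_centralizer_complement [Finite G] (P : Sylow 2 G) (hP : Nat.card P = 4)
    (hexp : ∀ x : P, x * x = 1) (u : G) (huP : u ∈ P) (hu1 : u ≠ 1) :
    ∃ N : Subgroup (Subgroup.centralizer ({u} : Set G)), N.Normal ∧
      4 * Nat.card N = Nat.card (Subgroup.centralizer ({u} : Set G)) ∧ Odd (Nat.card N) ∧
      (∀ c : Subgroup.centralizer ({u} : Set G), ¬ 2 ∣ orderOf c → c ∈ N) ∧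
      (∀ c : Subgroup.centralizer ({u} : Set G), ∃ k ∈ N, ∃ y : G, y ∈ P ∧
        (c : G) = (k : G) * y) := by
  classical
  have : Fact (Nat.Prime 2) := ⟨Nat.prime_two⟩
  have : Fintype (Subgroup.centralizer ({u} : Set G)) := Fintype.ofFinite _
  obtain ⟨P', N, hN, hcompl⟩ := hasNormalPComplement_centralizer_involution P hP hexp u huP hu1
  have hle : (P : Subgroup G) ≤ Subgroup.centralizer ({u} : Set G) := by
    intro x hx
    rw [Subgroup.mem_centralizer_singleton_iff]
    exact commute_of_sq_eq_one (P : Subgroup G) hexp x u hx huP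
  have hG0 : Nat.card G ≠ 0 := Nat.card_pos.ne'
  have hC0 : Nat.card (Subgroup.centralizer ({u} : Set G)) ≠ 0 := Nat.card_pos.ne'
  have hfG : (Nat.card G).factorization 2 = 2 := by
    have h1 := P.card_eq_multiplicity
    rw [hP] at h1
    have h2 : 2 ^ (Nat.card G).factorization 2 = 2 ^ 2 := h1.symm.trans (by norm_num)
    exact Nat.pow_right_injective (le_refl 2) h2
  have hfC : (Nat.card (Subgroup.centralizer ({u} : Set G))).factorization 2 = 2 := by
    apply le_antisymm
    · have h3 := (Nat.factorization_le_iff_dvd hC0 hG0).mpr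
        (Subgroup.card_subgroup_dvd_card (Subgroup.centralizer ({u} : Set G))) 2
      omega
    · have h4 : 2 ^ 2 ∣ Nat.card (Subgroup.centralizer ({u} : Set G)) := by
        have h5 := Subgroup.card_dvd_of_le hle
        rw [hP] at h5
        exact h5
      exact (Nat.Prime.pow_dvd_iff_le_factorization Nat.prime_two hC0).mp h4
  have hP' : Nat.card P' = 4 := by rw [P'.card_eq_multiplicity, hfC]; norm_num
  have hmul : Nat.card N * 4 = Nat.card (Subgroup.centralizer ({u} : Set G)) := by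
    rw [← hP']
    exact hcompl.card_mul_card
  have hodd : Odd (Nat.card N) := by
    by_contra hcon
    rw [Nat.not_odd_iff_even] at hcon
    obtain ⟨m, hm⟩ := hcon
    have h8 : 2 ^ 3 ∣ Nat.card (Subgroup.centralizer ({u} : Set G)) := by
      rw [← hmul, hm]
      exact ⟨m, by ring⟩
    have := (Nat.Prime.pow_dvd_iff_le_factorization Nat.prime_two hC0).mp h8
    omega
  have hidx : N.index = 2 ^ 2 := by
    have h1 := N.index_mul_card
    have hpos : 0 < Nat.card N := Nat.card_pos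
    have h2 : N.index * Nat.card N = 4 * Nat.card N := by rw [h1, ← hmul, mul_comm]
    exact Nat.eq_of_mul_eq_mul_right hpos h2
  have hPC : Nat.card ((P : Subgroup G).subgroupOf (Subgroup.centralizer ({u} : Set G))) = 4 := by
    rw [← hP]
    exact Nat.card_congr (Subgroup.subgroupOfEquivOfLe hle).toEquiv
  have hc2 : N.IsComplement' ((P : Subgroup G).subgroupOf (Subgroup.centralizer ({u} : Set G))) := by
    apply Subgroup.isComplement'_of_coprime
    · rw [hPC, hmul]
    · rw [hPC]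
      have : Nat.Coprime (Nat.card N) 2 := Nat.coprime_two_right.mpr hodd
      exact Nat.Coprime.pow_right 2 this
  refine ⟨N, hN, by omega, hodd, ?_, ?_⟩
  · intro c hc
    exact mem_of_regular_of_index N ⟨2, hidx⟩ c hc
  · intro c
    obtain ⟨⟨k, y⟩, hky⟩ := hc2.2 c
    refine ⟨k.1, k.2, (y.1 : G), ?_, ?_⟩
    · exact Subgroup.mem_subgroupOf.mp y.2
    · exact (congrArg Subtype.val hky).symm

end centstruct

section fusion

variable {G : Type*} [Group G] [Finite G]

theorem klein_sylow_card (g₀ : ℕ) (hg₀ : Odd g₀) (hG : Nat.card G = 4 * g₀) (P : Sylow 2 G) :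
    Nat.card P = 4 := by
  have : Fact (Nat.Prime 2) := ⟨Nat.prime_two⟩
  rw [P.card_eq_multiplicity, hG]
  have h4 : (4 * g₀).factorization 2 = 2 := by
    have hg0 : g₀ ≠ 0 := fun h => by
      subst h
      exact (by decide : ¬ Odd 0) hg₀
    rw [Nat.factorization_mul (by norm_num) hg0]
    have h1 : (4 : ℕ).factorization 2 = 2 := by
      have h : (4 : ℕ) = 2 ^ 2 := by norm_num
      rw [h, Nat.Prime.factorization_pow Nat.prime_two]
      simp
    have h2 : g₀.factorization 2 = 0 := Nat.factorization_eq_zero_of_not_dvd (fun h => by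
      rw [← even_iff_two_dvd] at h
      exact (Nat.not_odd_iff_even.mpr h) hg₀)
    simp [h1, h2]
  rw [h4]
  norm_num

theorem klein_not_le (g₀ : ℕ) (hg₀ : Odd g₀) (hG : Nat.card G = 4 * g₀)
    (hnc : ¬ ∃ N : Subgroup G, N.Normal ∧ Nat.card N = g₀) (P : Sylow 2 G) :
    ¬ (Subgroup.normalizer ((P : Subgroup G) : Set G)
      ≤ Subgroup.centralizer ((P : Subgroup G) : Set G)) := by
  intro hle
  have : Fact (Nat.Prime 2) := ⟨Nat.prime_two⟩
  have hc := MonoidHom.ker_transferSylow_isComplement' P hle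
  apply hnc
  refine ⟨(MonoidHom.transferSylow P hle).ker, MonoidHom.normal_ker _, ?_⟩
  have h1 := hc.card_mul_card
  rw [klein_sylow_card g₀ hg₀ hG P, hG] at h1
  omega

theorem klein_exponent (g₀ : ℕ) (hg₀ : Odd g₀) (hG : Nat.card G = 4 * g₀)
    (hnc : ¬ ∃ N : Subgroup G, N.Normal ∧ Nat.card N = g₀) (P : Sylow 2 G) :
    ∀ x : P, x * x = 1 := by
  have : Fact (Nat.Prime 2) := ⟨Nat.prime_two⟩
  have hP4 := klein_sylow_card g₀ hg₀ hG P
  by_contra hcon
  push Not at hcon
  obtain ⟨x, hx⟩ := hcon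
  have hdvd : orderOf x ∣ 4 := by
    rw [← hP4]
    exact orderOf_dvd_natCard x
  have hord : orderOf x = 4 := by
    have h1 : orderOf x ≠ 1 := fun h => hx (by rw [orderOf_eq_one_iff.mp h, mul_one])
    have h2 : orderOf x ≠ 2 := fun h => hx (by
      have h5 := pow_orderOf_eq_one x
      rw [h, pow_two] at h5
      exact h5)
    have h3 : orderOf x ∈ Nat.divisors 4 := Nat.mem_divisors.mpr ⟨hdvd, by norm_num⟩
    have h4 : Nat.divisors 4 = {1, 2, 4} := by decide
    rw [h4] at h3
    simp only [Finset.mem_insert, Finset.mem_singleton] at h3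
    omega
  have hcyc : IsCyclic P := isCyclic_of_orderOf_eq_card x (by rw [hord, hP4])
  have hmin : (Nat.card G).minFac = 2 := by
    rw [Nat.minFac_eq_two_iff, hG]
    exact ⟨2 * g₀, by ring⟩
  exact klein_not_le g₀ hg₀ hG hnc P (IsCyclic.normalizer_le_centralizer hmin hcyc)

/-- all involutions are conjugate -/
theorem klein_involutions_conj (g₀ : ℕ) (hg₀ : Odd g₀) (hG : Nat.card G = 4 * g₀)
    (hnc : ¬ ∃ N : Subgroup G, N.Normal ∧ Nat.card N = g₀) (P : Sylow 2 G) (J : G)
    (hJ : J ∈ (P : Subgroup G)) (hJ2 : orderOf J = 2) :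
    ∀ s : G, orderOf s = 2 → ∃ g : G, g * J * g⁻¹ = s := by
  classical
  have : Fact (Nat.Prime 2) := ⟨Nat.prime_two⟩
  have hP4 := klein_sylow_card g₀ hg₀ hG P
  have hexp := klein_exponent g₀ hg₀ hG hnc P
  have hcomm : ∀ x y : G, x ∈ P → y ∈ P → x * y = y * x := fun x y hx hy =>
    commute_of_sq_eq_one (P : Subgroup G) hexp x y hx hy
  have hsq : ∀ x : G, x ∈ P → x * x = 1 := fun x hx => congrArg Subtype.val (hexp ⟨x, hx⟩)
  obtain ⟨n, hnN, hnC⟩ := SetLike.not_le_iff_exists.mp (klein_not_le g₀ hg₀ hG hnc P)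
  have hnorm : ∀ z : G, z ∈ P → n * z * n⁻¹ ∈ P := fun z hz =>
    (Subgroup.mem_normalizer_iff.mp hnN z).mp hz
  have hfix : ∀ u : G, u ∈ P → u ≠ 1 → n * u * n⁻¹ ≠ u := by
    intro u huP hu1 hnu
    apply hnC
    obtain ⟨N, hN, hcard, hodd, hreg, hdec⟩ := klein_centralizer_complement P hP4 hexp u huP hu1
    have hle : (P : Subgroup G) ≤ Subgroup.centralizer ({u} : Set G) := by
      intro x hx
      rw [Subgroup.mem_centralizer_singleton_iff]
      exact hcomm x u hx huP
    have hnCu : n ∈ Subgroup.centralizer ({u} : Set G) := by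
      rw [Subgroup.mem_centralizer_singleton_iff]
      calc n * u = (n * u * n⁻¹) * n := by group
        _ = u * n := by rw [hnu]
    obtain ⟨k, hk, y, hy, hky⟩ := hdec ⟨n, hnCu⟩
    have hky' : n = (k : G) * y := hky
    rw [Subgroup.mem_centralizer_iff]
    intro z hz
    have hzP : z ∈ P := hz
    have hkz : (k : G) * z = z * (k : G) := by
      have hw : (k : G) * z * (k : G)⁻¹ ∈ P := by
        have h1 : (k : G) = n * y⁻¹ := by rw [hky']; group
        have hyz : y⁻¹ * z * y = z := by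
          rw [mul_assoc, hcomm z y hzP hy, inv_mul_cancel_left]
        have h2 : (k : G) * z * (k : G)⁻¹ = n * z * n⁻¹ := by
          rw [h1]
          calc n * y⁻¹ * z * (n * y⁻¹)⁻¹ = n * (y⁻¹ * z * y) * n⁻¹ := by group
            _ = n * z * n⁻¹ := by rw [hyz]
        rw [h2]
        exact hnorm z hzP
      have hmem : k * ((⟨z, hle hzP⟩ : Subgroup.centralizer ({u} : Set G)) * k⁻¹
          * (⟨z, hle hzP⟩ : Subgroup.centralizer ({u} : Set G))⁻¹) ∈ N :=
        N.mul_mem hk (hN.conj_mem _ (N.inv_mem hk) _)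
      have hone : k * ((⟨z, hle hzP⟩ : Subgroup.centralizer ({u} : Set G)) * k⁻¹
          * (⟨z, hle hzP⟩ : Subgroup.centralizer ({u} : Set G))⁻¹) = 1 := by
        have hsq1 : (k * ((⟨z, hle hzP⟩ : Subgroup.centralizer ({u} : Set G)) * k⁻¹
            * (⟨z, hle hzP⟩ : Subgroup.centralizer ({u} : Set G))⁻¹)) ^ 2 = 1 := by
          apply Subtype.ext
          show ((k : G) * (z * (k : G)⁻¹ * z⁻¹)) ^ 2 = 1
          have h3 : (k : G) * (z * (k : G)⁻¹ * z⁻¹) = ((k : G) * z * (k : G)⁻¹) * z⁻¹ := by group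
          rw [h3, pow_two]
          exact hsq _ (Subgroup.mul_mem _ hw (Subgroup.inv_mem _ hzP))
        have hd2 := orderOf_dvd_of_pow_eq_one hsq1
        have hdN : orderOf (k * ((⟨z, hle hzP⟩ : Subgroup.centralizer ({u} : Set G)) * k⁻¹
            * (⟨z, hle hzP⟩ : Subgroup.centralizer ({u} : Set G))⁻¹)) ∣ Nat.card N := by
          have h4 := orderOf_dvd_natCard (⟨_, hmem⟩ : N)
          rwa [Subgroup.orderOf_mk] at h4
        have hcop : Nat.Coprime 2 (Nat.card N) := Nat.coprime_two_left.mpr hodd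
        exact orderOf_eq_one_iff.mp (Nat.eq_one_of_dvd_coprimes hcop hd2 hdN)
      have hone' : (k : G) * (z * (k : G)⁻¹ * z⁻¹) = 1 := congrArg Subtype.val hone
      calc (k : G) * z = ((k : G) * (z * (k : G)⁻¹ * z⁻¹)) * z * (k : G) := by group
        _ = z * (k : G) := by rw [hone', one_mul]
    rw [hky']
    calc z * ((k : G) * y) = (z * (k : G)) * y := by group
      _ = (k : G) * z * y := by rw [hkz]
      _ = (k : G) * (z * y) := by group
      _ = (k : G) * (y * z) := by rw [hcomm z y hzP hy]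
      _ = (k : G) * y * z := by group
  have hJ1 : J ≠ 1 := fun h => by
    rw [h, orderOf_one] at hJ2
    omega
  have hJJ : J * J = 1 := hsq J hJ
  obtain ⟨u₂, hu₂⟩ : ∃ u, u = n * J * n⁻¹ := ⟨_, rfl⟩
  obtain ⟨u₃, hu₃⟩ : ∃ u, u = n * u₂ * n⁻¹ := ⟨_, rfl⟩
  have hu₂P : u₂ ∈ P := by rw [hu₂]; exact hnorm J hJ
  have hu₃P : u₃ ∈ P := by rw [hu₃]; exact hnorm u₂ hu₂P
  have hu₂1 : u₂ ≠ 1 := by
    intro h
    apply hJ1
    have e : J = n⁻¹ * u₂ * n := by rw [hu₂]; group
    rw [e, h]
    group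
  have hu₃1 : u₃ ≠ 1 := by
    intro h
    apply hu₂1
    have e : u₂ = n⁻¹ * u₃ * n := by rw [hu₃]; group
    rw [e, h]
    group
  have h21 : u₂ ≠ J := by rw [hu₂]; exact hfix J hJ hJ1
  have h32 : u₃ ≠ u₂ := by rw [hu₃]; exact hfix u₂ hu₂P hu₂1
  have h31 : u₃ ≠ J := by
    intro h
    have hJu : J * u₂ ∈ P := Subgroup.mul_mem _ hJ hu₂P
    have hJu1 : J * u₂ ≠ 1 := by
      intro h1
      apply h21
      exact mul_left_cancel (h1.trans hJJ.symm)
    apply hfix (J * u₂) hJu hJu1
    calc n * (J * u₂) * n⁻¹ = (n * J * n⁻¹) * (n * u₂ * n⁻¹) := by group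
      _ = u₂ * J := by rw [← hu₂, ← hu₃, h]
      _ = J * u₂ := hcomm u₂ J hu₂P hJ
  have hS : ∀ z : G, z ∈ P → z = 1 ∨ z = J ∨ z = u₂ ∨ z = u₃ := by
    have : Fintype (P : Subgroup G) := Fintype.ofFinite _
    obtain ⟨T, hT⟩ : ∃ T : Finset (P : Subgroup G), T =
      insert (1 : (P : Subgroup G)) (insert ⟨J, hJ⟩ (insert ⟨u₂, hu₂P⟩ {⟨u₃, hu₃P⟩})) := ⟨_, rfl⟩
    have hcardT : T.card = 4 := by
      rw [hT, Finset.card_insert_of_notMem, Finset.card_insert_of_notMem,
        Finset.card_insert_of_notMem, Finset.card_singleton]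
      · rw [Finset.mem_singleton]
        intro h
        exact h32 (congrArg Subtype.val h).symm
      · rw [Finset.mem_insert, Finset.mem_singleton]
        rintro (h | h)
        · exact h21 (congrArg Subtype.val h).symm
        · exact h31 (congrArg Subtype.val h).symm
      · rw [Finset.mem_insert, Finset.mem_insert, Finset.mem_singleton]
        rintro (h | h | h)
        · exact hJ1 (congrArg Subtype.val h).symm
        · exact hu₂1 (congrArg Subtype.val h).symm
        · exact hu₃1 (congrArg Subtype.val h).symm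
    have huniv : T = Finset.univ := by
      apply Finset.eq_univ_of_card
      rw [hcardT, ← Nat.card_eq_fintype_card]
      exact hP4.symm
    intro z hz
    have hzT : (⟨z, hz⟩ : (P : Subgroup G)) ∈ T := by
      rw [huniv]
      exact Finset.mem_univ _
    rw [hT, Finset.mem_insert, Finset.mem_insert, Finset.mem_insert, Finset.mem_singleton]
      at hzT
    rcases hzT with h | h | h | h
    · exact Or.inl (congrArg Subtype.val h)
    · exact Or.inr (Or.inl (congrArg Subtype.val h))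
    · exact Or.inr (Or.inr (Or.inl (congrArg Subtype.val h)))
    · exact Or.inr (Or.inr (Or.inr (congrArg Subtype.val h)))
  intro s hs
  have hs1 : s ≠ 1 := fun h => by
    rw [h, orderOf_one] at hs
    omega
  have hQ : IsPGroup 2 (Subgroup.zpowers s) := by
    apply IsPGroup.of_card (n := 1)
    rw [Nat.card_zpowers, hs, pow_one]
  obtain ⟨Q', hQ'⟩ := hQ.exists_le_sylow
  obtain ⟨c, hc⟩ := MulAction.exists_smul_eq G P Q'
  have hsQ : s ∈ (Q' : Subgroup G) := hQ' (Subgroup.mem_zpowers s)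
  rw [← hc, Sylow.coe_subgroup_smul, Subgroup.mem_smul_pointwise_iff_exists] at hsQ
  obtain ⟨x, hx, hxs⟩ := hsQ
  rw [MulAut.smul_def, MulAut.conj_apply] at hxs
  rcases hS x hx with h | h | h | h
  · exfalso
    apply hs1
    rw [← hxs, h]
    group
  · exact ⟨c, by rw [← hxs, h]⟩
  · refine ⟨c * n, ?_⟩
    rw [← hxs, h, hu₂]
    group
  · refine ⟨c * n * n, ?_⟩
    rw [← hxs, h, hu₃, hu₂]
    group

end fusion

section count

variable {G : Type*} [Group G]

theorem orderOf_conj_eq (c x : G) : orderOf (c * x * c⁻¹) = orderOf x :=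
  orderOf_injective (MulAut.conj c).toMonoidHom (MulAut.conj c).injective x

/-- the count of pairs of involutions of the centralizer of `J` whose product lies in a
fixed coset of the normal `2`-complement -/
theorem klein_count [Finite G] (P : Sylow 2 G) (hP4 : Nat.card P = 4)
    (hexp : ∀ x : P, x * x = 1) (J : G) (hJ : J ∈ P) (hJ1 : J ≠ 1) (K : Subgroup G)
    (hK1 : K ≤ Subgroup.centralizer ({J} : Set G))
    (hK2 : ∀ c ∈ Subgroup.centralizer ({J} : Set G), ∀ k ∈ K, c * k * c⁻¹ ∈ K)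
    (hK3 : ∀ k ∈ K, Odd (orderOf k))
    (hK5 : ∀ c ∈ Subgroup.centralizer ({J} : Set G), ∃ k ∈ K, ∃ y ∈ (P : Subgroup G),
      c = k * y) :
    ∃ r : ℕ, r * Nat.card (Subgroup.centralizer ((P : Subgroup G) : Set G))
        = Nat.card (Subgroup.centralizer ({J} : Set G)) ∧
      Nat.card {kg : G × G // kg.1 ∈ K ∧ orderOf kg.2 = 2 ∧ orderOf (kg.2 * J * kg.1) = 2}
        = 2 * r * r := by
  classical
  have : Fintype G := Fintype.ofFinite G
  have hcomm : ∀ x y : G, x ∈ P → y ∈ P → x * y = y * x := fun x y hx hy =>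
    commute_of_sq_eq_one (P : Subgroup G) hexp x y hx hy
  have hsq : ∀ x : G, x ∈ P → x * x = 1 := fun x hx => congrArg Subtype.val (hexp ⟨x, hx⟩)
  have hJJ : J * J = 1 := hsq J hJ
  have hJinv : J⁻¹ = J := inv_eq_of_mul_eq_one_left hJJ
  have hJ2 : orderOf J = 2 := orderOf_eq_prime (by rw [pow_two]; exact hJJ) hJ1
  obtain ⟨a, haP, ha1, haJ⟩ : ∃ a : G, a ∈ P ∧ a ≠ 1 ∧ a ≠ J := by
    by_contra hcon
    push Not at hcon
    have : Fintype (P : Subgroup G) := Fintype.ofFinite _
    have hsub : (Finset.univ : Finset (P : Subgroup G)) ⊆ {1, ⟨J, hJ⟩} := by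
      intro z _
      rw [Finset.mem_insert, Finset.mem_singleton]
      by_cases hz1 : (z : G) = 1
      · left; exact Subtype.ext hz1
      · right; exact Subtype.ext (hcon z z.2 hz1)
    have hle := Finset.card_le_card hsub
    have h2 : ({1, ⟨J, hJ⟩} : Finset (P : Subgroup G)).card ≤ 2 := Finset.card_le_two
    rw [Finset.card_univ, ← Nat.card_eq_fintype_card, hP4] at hle
    omega
  have haa : a * a = 1 := hsq a haP
  have hainv : a⁻¹ = a := inv_eq_of_mul_eq_one_left haa
  have haJc : a * J = J * a := hcomm a J haP hJ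
  have hJaP : J * a ∈ P := Subgroup.mul_mem _ hJ haP
  have hJa1 : J * a ≠ 1 := by
    intro h
    apply haJ
    exact mul_left_cancel (h.trans hJJ.symm)
  have hS : ∀ z : G, z ∈ P → z = 1 ∨ z = J ∨ z = a ∨ z = J * a := by
    have : Fintype (P : Subgroup G) := Fintype.ofFinite _
    obtain ⟨T, hT⟩ : ∃ T : Finset (P : Subgroup G), T =
      insert (1 : (P : Subgroup G)) (insert ⟨J, hJ⟩ (insert ⟨a, haP⟩ {⟨J * a, hJaP⟩})) := ⟨_, rfl⟩
    have hcardT : T.card = 4 := by
      rw [hT, Finset.card_insert_of_notMem, Finset.card_insert_of_notMem,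
        Finset.card_insert_of_notMem, Finset.card_singleton]
      · rw [Finset.mem_singleton]
        intro h
        have h' : a = J * a := congrArg Subtype.val h
        apply hJ1
        have h2 : 1 * a = J * a := by rw [one_mul]; exact h'
        exact (mul_right_cancel h2).symm
      · rw [Finset.mem_insert, Finset.mem_singleton]
        rintro (h | h)
        · exact haJ (congrArg Subtype.val h).symm
        · have h' : J = J * a := congrArg Subtype.val h
          apply ha1
          have h2 : J * 1 = J * a := by rw [mul_one]; exact h'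
          exact (mul_left_cancel h2).symm
      · rw [Finset.mem_insert, Finset.mem_insert, Finset.mem_singleton]
        rintro (h | h | h)
        · exact hJ1 (congrArg Subtype.val h).symm
        · exact ha1 (congrArg Subtype.val h).symm
        · exact hJa1 (congrArg Subtype.val h).symm
    have huniv : T = Finset.univ := by
      apply Finset.eq_univ_of_card
      rw [hcardT, ← Nat.card_eq_fintype_card]
      exact hP4.symm
    intro z hz
    have hzT : (⟨z, hz⟩ : (P : Subgroup G)) ∈ T := by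
      rw [huniv]
      exact Finset.mem_univ _
    rw [hT, Finset.mem_insert, Finset.mem_insert, Finset.mem_insert, Finset.mem_singleton]
      at hzT
    rcases hzT with h | h | h | h
    · exact Or.inl (congrArg Subtype.val h)
    · exact Or.inr (Or.inl (congrArg Subtype.val h))
    · exact Or.inr (Or.inr (Or.inl (congrArg Subtype.val h)))
    · exact Or.inr (Or.inr (Or.inr (congrArg Subtype.val h)))
  have hmemC : ∀ g : G, g ∈ Subgroup.centralizer ({J} : Set G) ↔ g * J = J * g := fun g =>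
    Subgroup.mem_centralizer_singleton_iff
  have hPC : ∀ y : G, y ∈ P → y ∈ Subgroup.centralizer ({J} : Set G) := fun y hy =>
    (hmemC y).mpr (hcomm y J hy hJ)
  have haC := hPC a haP
  have hJaC := hPC (J * a) hJaP
  have hkJ : ∀ k ∈ K, k * J = J * k := fun k hk => (hmemC k).mp (hK1 hk)
  have hKodd : ∀ k ∈ K, k * k = 1 → k = 1 := by
    intro k hk hkk
    have h1 : orderOf k ∣ 2 := orderOf_dvd_of_pow_eq_one (by rw [pow_two]; exact hkk)
    have h2 := hK3 k hk
    rcases (Nat.dvd_prime Nat.prime_two).mp h1 with h | h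
    · exact orderOf_eq_one_iff.mp h
    · rw [h] at h2
      exact absurd h2 (by decide)
  have hKa : ∀ c ∈ Subgroup.centralizer ({J} : Set G), ∀ k ∈ K, c⁻¹ * k * c ∈ K := by
    intro c hc k hk
    have h := hK2 c⁻¹ (Subgroup.inv_mem _ hc) k hk
    rwa [inv_inv] at h
  have haK : a ∉ K := fun h => ha1 (hKodd a h haa)
  have hJK : J ∉ K := fun h => hJ1 (hKodd J h hJJ)
  have hJaK : J * a ∉ K := fun h => hJa1 (hKodd _ h (hsq _ hJaP))
  obtain ⟨Af, hAf⟩ : ∃ s : Finset G, s = Finset.univ.filter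
    (fun x : G => x * x = 1 ∧ a⁻¹ * x ∈ K) := ⟨_, rfl⟩
  obtain ⟨Af', hAf'⟩ : ∃ s : Finset G, s = Finset.univ.filter
    (fun x : G => x * x = 1 ∧ (J * a)⁻¹ * x ∈ K) := ⟨_, rfl⟩
  obtain ⟨Cf, hCf⟩ : ∃ s : Finset G, s = Finset.univ.filter
    (fun x : G => x ∈ Subgroup.centralizer ({J} : Set G)) := ⟨_, rfl⟩
  obtain ⟨Zf, hZf⟩ : ∃ s : Finset G, s = Finset.univ.filter
    (fun x : G => x ∈ Subgroup.centralizer ((P : Subgroup G) : Set G)) := ⟨_, rfl⟩
  have hmA : ∀ x, x ∈ Af ↔ (x * x = 1 ∧ a⁻¹ * x ∈ K) := fun x => by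
    rw [hAf, Finset.mem_filter]
    exact ⟨fun h => h.2, fun h => ⟨Finset.mem_univ _, h⟩⟩
  have hmA' : ∀ x, x ∈ Af' ↔ (x * x = 1 ∧ (J * a)⁻¹ * x ∈ K) := fun x => by
    rw [hAf', Finset.mem_filter]
    exact ⟨fun h => h.2, fun h => ⟨Finset.mem_univ _, h⟩⟩
  have hmC : ∀ x, x ∈ Cf ↔ x ∈ Subgroup.centralizer ({J} : Set G) := fun x => by
    rw [hCf, Finset.mem_filter]
    exact ⟨fun h => h.2, fun h => ⟨Finset.mem_univ _, h⟩⟩
  have hmZ : ∀ x, x ∈ Zf ↔ x ∈ Subgroup.centralizer ((P : Subgroup G) : Set G) := fun x => by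
    rw [hZf, Finset.mem_filter]
    exact ⟨fun h => h.2, fun h => ⟨Finset.mem_univ _, h⟩⟩
  have hAC : ∀ x, x ∈ Af → x ∈ Subgroup.centralizer ({J} : Set G) := by
    intro x hx
    rw [hmA] at hx
    have e : x = a * (a⁻¹ * x) := by group
    rw [e]
    exact Subgroup.mul_mem _ haC (hK1 hx.2)
  have hA'C : ∀ x, x ∈ Af' → x ∈ Subgroup.centralizer ({J} : Set G) := by
    intro x hx
    rw [hmA'] at hx
    have e : x = (J * a) * ((J * a)⁻¹ * x) := by group
    rw [e]
    exact Subgroup.mul_mem _ hJaC (hK1 hx.2)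
  -- the classification of the pairs
  have hC1 : ∀ k g : G, k ∈ K → orderOf g = 2 → orderOf (g * J * k) = 2 →
      ((g ∈ Af ∧ g * J * k ∈ Af') ∨ (g ∈ Af' ∧ g * J * k ∈ Af)) := by
    intro k g hk hg hy
    have hgg : g * g = 1 := by
      have h := pow_orderOf_eq_one g
      rwa [hg, pow_two] at h
    have hyy : (g * J * k) * (g * J * k) = 1 := by
      have h := pow_orderOf_eq_one (g * J * k)
      rwa [hy, pow_two] at h
    have hginv : g⁻¹ = g := inv_eq_of_mul_eq_one_left hgg
    have hinvt : g * (J * k) * g⁻¹ = (J * k)⁻¹ := by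
      rw [hginv]
      have h1 : (g * (J * k) * g) * (J * k) = 1 := by
        calc (g * (J * k) * g) * (J * k) = (g * J * k) * (g * J * k) := by group
          _ = 1 := hyy
      exact eq_inv_of_mul_eq_one_left h1
    have : Fact (Nat.Prime 2) := ⟨Nat.prime_two⟩
    have hgJ : g * J * g⁻¹ = J⁻¹ := inverted_ppart (p := 2) J k g ⟨1, by rw [hJ2, pow_one]⟩
      (hkJ k hk).symm (by
        intro h2
        exact (Nat.not_even_iff_odd.mpr (hK3 k hk)) (even_iff_two_dvd.mpr h2)) hinvt
    have hgC : g ∈ Subgroup.centralizer ({J} : Set G) := by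
      rw [hmemC]
      calc g * J = (g * J * g⁻¹) * g := by group
        _ = J * g := by rw [hgJ, hJinv]
    obtain ⟨k₁, hk₁, p₁, hp₁, hgdec⟩ := hK5 g hgC
    rcases hS p₁ hp₁ with h | h | h | h
    · exfalso
      have hg1 : g = 1 := by
        apply hKodd g _ hgg
        rw [hgdec, h, mul_one]
        exact hk₁
      rw [hg1, orderOf_one] at hg
      omega
    · exfalso
      have hk11 : k₁ = 1 := by
        apply hKodd k₁ hk₁
        have e : g * g = k₁ * k₁ := by
          rw [hgdec, h]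
          calc k₁ * J * (k₁ * J) = k₁ * (J * k₁) * J := by group
            _ = k₁ * (k₁ * J) * J := by rw [hkJ k₁ hk₁]
            _ = k₁ * k₁ * (J * J) := by group
            _ = k₁ * k₁ := by rw [hJJ, mul_one]
        rw [← e]
        exact hgg
      have hgJ' : g = J := by rw [hgdec, h, hk11, one_mul]
      have hyk : g * J * k = k := by rw [hgJ', hJJ, one_mul]
      have hk1 : k = 1 := hKodd k hk (by rw [hyk] at hyy; exact hyy)
      rw [hyk, hk1, orderOf_one] at hy
      omega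
    · left
      rw [hmA, hmA']
      refine ⟨⟨hgg, ?_⟩, ⟨hyy, ?_⟩⟩
      · rw [hgdec, h]
        have h3 := hKa a haC k₁ hk₁
        rwa [mul_assoc] at h3
      · rw [hgdec, h]
        have h1 := K.mul_mem (hKa (J * a) hJaC k₁ hk₁) hk
        have h2 : (J * a)⁻¹ * (k₁ * a * J * k) = (J * a)⁻¹ * k₁ * (J * a) * k := by
          calc (J * a)⁻¹ * (k₁ * a * J * k) = (J * a)⁻¹ * k₁ * (a * J) * k := by group
            _ = (J * a)⁻¹ * k₁ * (J * a) * k := by rw [haJc]
        rw [h2]
        exact h1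
    · right
      rw [hmA, hmA']
      refine ⟨⟨hgg, ?_⟩, ⟨hyy, ?_⟩⟩
      · rw [hgdec, h]
        have h3 := hKa (J * a) hJaC k₁ hk₁
        rwa [mul_assoc] at h3
      · rw [hgdec, h]
        have h1 := K.mul_mem (hKa a haC k₁ hk₁) hk
        have h2 : a⁻¹ * (k₁ * (J * a) * J * k) = a⁻¹ * k₁ * a * k := by
          calc a⁻¹ * (k₁ * (J * a) * J * k) = a⁻¹ * k₁ * (J * (a * J)) * k := by group
            _ = a⁻¹ * k₁ * (J * (J * a)) * k := by rw [haJc]
            _ = a⁻¹ * k₁ * ((J * J) * a) * k := by group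
            _ = a⁻¹ * k₁ * a * k := by rw [hJJ, one_mul]
        rw [h2]
        exact h1
  have hC2a : ∀ g y : G, g ∈ Af → y ∈ Af' →
      J⁻¹ * g⁻¹ * y ∈ K ∧ orderOf g = 2 ∧ orderOf y = 2 := by
    intro g y hg hy
    have hgC := hAC g hg
    rw [hmA] at hg
    rw [hmA'] at hy
    refine ⟨?_, ?_, ?_⟩
    · have h1 := K.mul_mem (K.inv_mem hg.2) hy.2
      have h2 : (a⁻¹ * g)⁻¹ * ((J * a)⁻¹ * y) = g⁻¹ * J⁻¹ * y := by group
      have h3 : J⁻¹ * g⁻¹ = g⁻¹ * J⁻¹ := by
        rw [← mul_inv_rev, ← mul_inv_rev, (hmemC g).mp hgC]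
      rw [h3, ← h2]
      exact h1
    · apply orderOf_eq_prime (by rw [pow_two]; exact hg.1)
      intro h
      apply haK
      have h4 := hg.2
      rw [h, mul_one] at h4
      have h5 := K.inv_mem h4
      rwa [inv_inv] at h5
    · apply orderOf_eq_prime (by rw [pow_two]; exact hy.1)
      intro h
      apply hJaK
      have h4 := hy.2
      rw [h, mul_one] at h4
      have h5 := K.inv_mem h4
      rwa [inv_inv] at h5
  have hC2b : ∀ g y : G, g ∈ Af' → y ∈ Af →
      J⁻¹ * g⁻¹ * y ∈ K ∧ orderOf g = 2 ∧ orderOf y = 2 := by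
    intro g y hg hy
    have hgC := hA'C g hg
    rw [hmA'] at hg
    rw [hmA] at hy
    refine ⟨?_, ?_, ?_⟩
    · have h1 := K.mul_mem (K.inv_mem hg.2) hy.2
      have h2 : ((J * a)⁻¹ * g)⁻¹ * (a⁻¹ * y) = g⁻¹ * J * y := by group
      have h3 : J⁻¹ * g⁻¹ = g⁻¹ * J := by
        have h6 : J⁻¹ * g⁻¹ = g⁻¹ * J⁻¹ := by
          rw [← mul_inv_rev, ← mul_inv_rev, (hmemC g).mp hgC]
        rw [h6, hJinv]
      rw [h3, ← h2]
      exact h1
    · apply orderOf_eq_prime (by rw [pow_two]; exact hg.1)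
      intro h
      apply hJaK
      have h4 := hg.2
      rw [h, mul_one] at h4
      have h5 := K.inv_mem h4
      rwa [inv_inv] at h5
    · apply orderOf_eq_prime (by rw [pow_two]; exact hy.1)
      intro h
      apply haK
      have h4 := hy.2
      rw [h, mul_one] at h4
      have h5 := K.inv_mem h4
      rwa [inv_inv] at h5
  have hdisj : ∀ x, x ∈ Af → x ∈ Af' → False := by
    intro x hx hx'
    rw [hmA] at hx
    rw [hmA'] at hx'
    apply hJK
    have h1 := K.mul_mem hx.2 (K.inv_mem hx'.2)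
    have h2 : a⁻¹ * x * ((J * a)⁻¹ * x)⁻¹ = a⁻¹ * (J * a) := by group
    rw [h2, ← haJc, inv_mul_cancel_left] at h1
    exact h1
  have hJmul : ∀ x : G, x ∈ Subgroup.centralizer ({J} : Set G) → x * x = 1 →
      J * x * (J * x) = 1 := by
    intro x hxC hxx
    calc J * x * (J * x) = J * (x * J) * x := by group
      _ = J * (J * x) * x := by rw [(hmemC x).mp hxC]
      _ = (J * J) * (x * x) := by group
      _ = 1 := by rw [hJJ, hxx, one_mul]
  have hcardA' : Af.card = Af'.card := by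
    apply Finset.card_bij (fun x _ => J * x)
    · intro x hx
      have hxC := hAC x hx
      rw [hmA] at hx
      rw [hmA']
      refine ⟨hJmul x hxC hx.1, ?_⟩
      have e : (J * a)⁻¹ * (J * x) = a⁻¹ * x := by group
      rw [e]
      exact hx.2
    · intro x₁ _ x₂ _ h
      exact mul_left_cancel h
    · intro y hy
      have hyC := hA'C y hy
      rw [hmA'] at hy
      refine ⟨J * y, ?_, ?_⟩
      · rw [hmA]
        refine ⟨hJmul y hyC hy.1, ?_⟩
        have e : a⁻¹ * (J * y) = (J * a)⁻¹ * y := by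
          rw [mul_inv_rev, hJinv]
          group
        rw [e]
        exact hy.2
      · show J * (J * y) = y
        rw [← mul_assoc, hJJ, one_mul]
  have hmapsA : ∀ c : G, c ∈ Subgroup.centralizer ({J} : Set G) → c * a * c⁻¹ ∈ Af := by
    intro c hc
    rw [hmA]
    refine ⟨?_, ?_⟩
    · calc c * a * c⁻¹ * (c * a * c⁻¹) = c * (a * a) * c⁻¹ := by group
        _ = 1 := by rw [haa]; group
    · obtain ⟨k₁, hk₁, p₁, hp₁, hdec⟩ := hK5 c hc
      have h1 : c * a * c⁻¹ = k₁ * a * k₁⁻¹ := by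
        rw [hdec]
        calc k₁ * p₁ * a * (k₁ * p₁)⁻¹ = k₁ * (p₁ * a) * p₁⁻¹ * k₁⁻¹ := by group
          _ = k₁ * (a * p₁) * p₁⁻¹ * k₁⁻¹ := by rw [hcomm p₁ a hp₁ haP]
          _ = k₁ * a * k₁⁻¹ := by group
      rw [h1]
      have h2 : a⁻¹ * (k₁ * a * k₁⁻¹) = (a⁻¹ * k₁ * a) * k₁⁻¹ := by group
      rw [h2]
      exact K.mul_mem (hKa a haC k₁ hk₁) (K.inv_mem hk₁)
  have hsurjA : ∀ x ∈ Af, ∃ c ∈ Subgroup.centralizer ({J} : Set G), c * a * c⁻¹ = x := by
    intro x hx
    rw [hmA] at hx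
    obtain ⟨hxx, hxK⟩ := hx
    obtain ⟨j, hj⟩ := hK3 _ hxK
    have hxinv : x⁻¹ = x := inv_eq_of_mul_eq_one_left hxx
    have hak : a * (a⁻¹ * x) * a⁻¹ = (a⁻¹ * x)⁻¹ := by
      calc a * (a⁻¹ * x) * a⁻¹ = x * a⁻¹ := by group
        _ = x⁻¹ * a := by rw [hxinv, hainv]
        _ = (a⁻¹ * x)⁻¹ := by group
    obtain ⟨s, hs⟩ : ∃ s : G, s = (a⁻¹ * x) ^ (j + 1) := ⟨_, rfl⟩
    have hsK : s ∈ K := by
      rw [hs]
      exact K.pow_mem hxK _
    have hss : s * s = a⁻¹ * x := by
      rw [hs, ← pow_add]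
      have e : j + 1 + (j + 1) = orderOf (a⁻¹ * x) + 1 := by rw [hj]; ring
      rw [e, pow_succ, pow_orderOf_eq_one, one_mul]
    have has : a * s * a⁻¹ = s⁻¹ := by
      rw [hs, ← conj_pow, hak, inv_pow]
    have h1 : a * s = s⁻¹ * a := by
      calc a * s = (a * s * a⁻¹) * a := by group
        _ = s⁻¹ * a := by rw [has]
    refine ⟨s⁻¹, Subgroup.inv_mem _ (hK1 hsK), ?_⟩
    calc s⁻¹ * a * s⁻¹⁻¹ = (s⁻¹ * a) * s := by rw [inv_inv]
      _ = (a * s) * s := by rw [h1]
      _ = a * (s * s) := by group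
      _ = x := by rw [hss]; group
  have hfiber : ∀ x ∈ Af, (Cf.filter (fun c => c * a * c⁻¹ = x)).card = Zf.card := by
    intro x hx
    obtain ⟨c₀, hc₀, hc₀x⟩ := hsurjA x hx
    symm
    apply Finset.card_bij (fun d _ => c₀ * d)
    · intro d hd
      rw [hmZ] at hd
      have hdz : ∀ z ∈ (P : Subgroup G), z * d = d * z := fun z hz =>
        Subgroup.mem_centralizer_iff.mp hd z hz
      rw [Finset.mem_filter, hmC]
      refine ⟨?_, ?_⟩
      · exact Subgroup.mul_mem _ hc₀ ((hmemC d).mpr (hdz J hJ).symm)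
      · calc c₀ * d * a * (c₀ * d)⁻¹ = c₀ * (d * a) * d⁻¹ * c₀⁻¹ := by group
          _ = c₀ * (a * d) * d⁻¹ * c₀⁻¹ := by rw [hdz a haP]
          _ = c₀ * a * c₀⁻¹ := by group
          _ = x := hc₀x
    · intro d₁ _ d₂ _ h
      exact mul_left_cancel h
    · intro c hc
      rw [Finset.mem_filter, hmC] at hc
      obtain ⟨hcC, hcx⟩ := hc
      refine ⟨c₀⁻¹ * c, ?_, by group⟩
      rw [hmZ, Subgroup.mem_centralizer_iff]
      have hdJ : (c₀⁻¹ * c) * J = J * (c₀⁻¹ * c) :=
        (hmemC _).mp (Subgroup.mul_mem _ (Subgroup.inv_mem _ hc₀) hcC)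
      have hda : (c₀⁻¹ * c) * a = a * (c₀⁻¹ * c) := by
        have h1 : c * a * c⁻¹ = c₀ * a * c₀⁻¹ := hcx.trans hc₀x.symm
        calc c₀⁻¹ * c * a = c₀⁻¹ * (c * a * c⁻¹) * c := by group
          _ = c₀⁻¹ * (c₀ * a * c₀⁻¹) * c := by rw [h1]
          _ = a * (c₀⁻¹ * c) := by group
      intro z hz
      rcases hS z hz with h | h | h | h
      · rw [h, one_mul, mul_one]
      · rw [h]
        exact hdJ.symm
      · rw [h]
        exact hda.symm
      · rw [h]
        calc J * a * (c₀⁻¹ * c) = J * (a * (c₀⁻¹ * c)) := by group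
          _ = J * ((c₀⁻¹ * c) * a) := by rw [hda]
          _ = (J * (c₀⁻¹ * c)) * a := by group
          _ = ((c₀⁻¹ * c) * J) * a := by rw [hdJ]
          _ = c₀⁻¹ * c * (J * a) := by group
  have hcardC : Cf.card = Af.card * Zf.card := by
    rw [Finset.card_eq_sum_card_fiberwise (f := fun c => c * a * c⁻¹) (s := Cf) (t := Af)
      (fun c hc => Finset.mem_coe.mpr (hmapsA c ((hmC c).mp (Finset.mem_coe.mp hc))))]
    rw [Finset.sum_congr rfl hfiber, Finset.sum_const, smul_eq_mul]
  refine ⟨Af.card, ?_, ?_⟩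
  · have e1 : Nat.card (Subgroup.centralizer ({J} : Set G)) = Cf.card := by
      rw [Nat.card_eq_fintype_card]
      exact Fintype.card_of_subtype Cf hmC
    have e2 : Nat.card (Subgroup.centralizer ((P : Subgroup G) : Set G)) = Zf.card := by
      rw [Nat.card_eq_fintype_card]
      exact Fintype.card_of_subtype Zf hmZ
    rw [e1, e2, hcardC]
  · have e3 : Nat.card {kg : G × G // kg.1 ∈ K ∧ orderOf kg.2 = 2 ∧
        orderOf (kg.2 * J * kg.1) = 2}
        = (Finset.univ.filter (fun kg : G × G => kg.1 ∈ K ∧ orderOf kg.2 = 2 ∧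
          orderOf (kg.2 * J * kg.1) = 2)).card := by
      rw [Nat.card_eq_fintype_card]
      exact Fintype.card_of_subtype _ (fun kg => by
        rw [Finset.mem_filter]
        exact ⟨fun h => h.2, fun h => ⟨Finset.mem_univ _, h⟩⟩)
    rw [e3]
    have e4 : (Finset.univ.filter (fun kg : G × G => kg.1 ∈ K ∧ orderOf kg.2 = 2 ∧
          orderOf (kg.2 * J * kg.1) = 2)).card = ((Af ×ˢ Af') ∪ (Af' ×ˢ Af)).card := by
      apply Finset.card_bij (fun kg _ => (kg.2, kg.2 * J * kg.1))
      · intro kg hkg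
        rw [Finset.mem_filter] at hkg
        obtain ⟨-, hk, hg, hy⟩ := hkg
        rw [Finset.mem_union, Finset.mem_product, Finset.mem_product]
        exact hC1 kg.1 kg.2 hk hg hy
      · intro kg₁ _ kg₂ _ h
        have h1 : kg₁.2 = kg₂.2 := congrArg Prod.fst h
        have h2 : kg₁.2 * J * kg₁.1 = kg₂.2 * J * kg₂.1 := congrArg Prod.snd h
        rw [h1] at h2
        exact Prod.ext (mul_left_cancel h2) h1
      · intro gy hgy
        rw [Finset.mem_union, Finset.mem_product, Finset.mem_product] at hgy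
        have hy' : gy.1 * J * (J⁻¹ * gy.1⁻¹ * gy.2) = gy.2 := by group
        refine ⟨(J⁻¹ * gy.1⁻¹ * gy.2, gy.1), ?_, ?_⟩
        · rw [Finset.mem_filter]
          rcases hgy with ⟨h1, h2⟩ | ⟨h1, h2⟩
          · obtain ⟨hk, hg, hy⟩ := hC2a _ _ h1 h2
            refine ⟨Finset.mem_univ _, hk, hg, ?_⟩
            show orderOf (gy.1 * J * (J⁻¹ * gy.1⁻¹ * gy.2)) = 2
            rw [hy']
            exact hy
          · obtain ⟨hk, hg, hy⟩ := hC2b _ _ h1 h2
            refine ⟨Finset.mem_univ _, hk, hg, ?_⟩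
            show orderOf (gy.1 * J * (J⁻¹ * gy.1⁻¹ * gy.2)) = 2
            rw [hy']
            exact hy
        · exact Prod.ext rfl hy'
    rw [e4, Finset.card_union_of_disjoint, Finset.card_product, Finset.card_product, ← hcardA']
    · ring
    · rw [Finset.disjoint_left]
      intro gy h1 h2
      rw [Finset.mem_product] at h1 h2
      exact hdisj gy.1 h1.1 h2.1

end count

section main

variable {G : Type*} [Group G] [Fintype G] {M : Ideal AlgInt}

/-- a sum over a block with four members -/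
theorem sum_four_block [Fintype (IrrCharacter G)] (B : Set (IrrCharacter G))
    [DecidablePred (· ∈ B)] (χ₁ χ₂ χ₃ : IrrCharacter G)
    (hB : B = {χ : IrrCharacter G | (χ : G → ℂ) = (fun _ => 1) ∨ χ = χ₁ ∨ χ = χ₂ ∨ χ = χ₃})
    (hdist : (χ₁ : G → ℂ) ≠ (fun _ => 1) ∧ (χ₂ : G → ℂ) ≠ (fun _ => 1) ∧
      (χ₃ : G → ℂ) ≠ (fun _ => 1) ∧ χ₁ ≠ χ₂ ∧ χ₁ ≠ χ₃ ∧ χ₂ ≠ χ₃) (f : IrrCharacter G → ℂ) :
    ∑ χ : IrrCharacter G, (if χ ∈ B then f χ else 0)
      = f ⟨fun _ => 1, isIrrCharacter_one⟩ + f χ₁ + f χ₂ + f χ₃ := by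
  classical
  obtain ⟨h1, h2, h3, h12, h13, h23⟩ := hdist
  have hmem : ∀ χ : IrrCharacter G, χ ∈ B ↔ χ ∈ ({⟨fun _ => 1, isIrrCharacter_one⟩, χ₁, χ₂, χ₃} :
      Finset (IrrCharacter G)) := by
    intro χ
    rw [hB]
    simp only [Finset.mem_insert, Finset.mem_singleton]
    show ((χ : G → ℂ) = (fun _ => 1) ∨ χ = χ₁ ∨ χ = χ₂ ∨ χ = χ₃) ↔ _
    constructor
    · rintro (h | h | h | h)
      · exact Or.inl (Subtype.ext h)
      · exact Or.inr (Or.inl h)
      · exact Or.inr (Or.inr (Or.inl h))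
      · exact Or.inr (Or.inr (Or.inr h))
    · rintro (h | h | h | h)
      · exact Or.inl (congrArg Subtype.val h)
      · exact Or.inr (Or.inl h)
      · exact Or.inr (Or.inr (Or.inl h))
      · exact Or.inr (Or.inr (Or.inr h))
  have e1 : ∑ χ : IrrCharacter G, (if χ ∈ B then f χ else 0)
      = ∑ χ : IrrCharacter G, (if χ ∈ ({⟨fun _ => 1, isIrrCharacter_one⟩, χ₁, χ₂, χ₃} :
        Finset (IrrCharacter G)) then f χ else 0) := by
    apply Finset.sum_congr rfl
    intro χ _
    by_cases hχ : χ ∈ B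
    · rw [if_pos hχ, if_pos ((hmem χ).mp hχ)]
    · rw [if_neg hχ, if_neg (fun h => hχ ((hmem χ).mpr h))]
  rw [e1, Finset.sum_ite_mem_eq, Finset.sum_insert, Finset.sum_insert, Finset.sum_insert,
    Finset.sum_singleton]
  · ring
  · rw [Finset.mem_singleton]
    exact h23
  · rw [Finset.mem_insert, Finset.mem_singleton]
    rintro (h | h)
    · exact h12 h
    · exact h13 h
  · rw [Finset.mem_insert, Finset.mem_insert, Finset.mem_singleton]
    rintro (h | h | h)
    · exact h1 (congrArg Subtype.val h).symm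
    · exact h2 (congrArg Subtype.val h).symm
    · exact h3 (congrArg Subtype.val h).symm

/-- Brauer's identity for the principal `2`-block of a group with Klein four Sylow
`2`-subgroups and no normal `2`-complement -/
theorem klein_block_identity (hM : IsPModular 2 M) (g₀ : ℕ) (hg₀ : Odd g₀)
    (hG : Nat.card G = 4 * g₀) (hnc : ¬ ∃ N : Subgroup G, N.Normal ∧ Nat.card N = g₀)
    (P : Sylow 2 G) (J : G) (hJ : J ∈ (P : Subgroup G)) (hJ2 : orderOf J = 2)
    [Fintype (IrrCharacter G)] [DecidablePred (· ∈ principalBlock M G)] :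
    (Nat.card G : ℂ) * ∑ χ : IrrCharacter G, (if χ ∈ principalBlock M G then
        (χ : G → ℂ) J ^ 3 / (χ : G → ℂ) 1 else 0)
      = 8 * (Nat.card (Subgroup.centralizer ({J} : Set G)) : ℂ) ^ 3
          / (Nat.card (Subgroup.centralizer ((P : Subgroup G) : Set G)) : ℂ) ^ 2 := by
  classical
  have : Fact (Nat.Prime 2) := ⟨Nat.prime_two⟩
  have hP4 := klein_sylow_card g₀ hg₀ hG P
  have hexp := klein_exponent g₀ hg₀ hG hnc P
  have hJ1 : J ≠ 1 := fun h => by
    rw [h, orderOf_one] at hJ2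
    omega
  have hconj := klein_involutions_conj g₀ hg₀ hG hnc P J hJ hJ2
  obtain ⟨N, hN, hcardN, hodd, hreg, hdec⟩ := klein_centralizer_complement P hP4 hexp J hJ hJ1
  have hNp : ¬ 2 ∣ Nat.card N := fun h =>
    (Nat.not_even_iff_odd.mpr hodd) (even_iff_two_dvd.mpr h)
  have h1reg : ¬ 2 ∣ orderOf (1 : Subgroup.centralizer ({J} : Set G)) := by
    rw [orderOf_one]
    norm_num
  have hsec := blockPart_principal_section hM J ⟨1, by rw [hJ2, pow_one]⟩
    (fun z => conv (colFun J) (colFun J) z⁻¹) (cvt_isClassFunction J) 1 h1reg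
  rw [blockPart_principal_one hM N hNp hreg, blockPart_eq_sum_irr] at hsec
  -- the subgroup `K` of `G`
  obtain ⟨K, hK⟩ : ∃ K : Subgroup G, K = N.map (Subgroup.subtype _) := ⟨_, rfl⟩
  have hNK : ∀ c : Subgroup.centralizer ({J} : Set G), c ∈ N ↔ (c : G) ∈ K := by
    intro c
    rw [hK, Subgroup.mem_map]
    constructor
    · intro hc
      exact ⟨c, hc, rfl⟩
    · rintro ⟨y, hy, hyc⟩
      have : y = c := Subtype.ext hyc
      rw [← this]
      exact hy
  have hKC : K ≤ Subgroup.centralizer ({J} : Set G) := by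
    intro k hk
    rw [hK, Subgroup.mem_map] at hk
    obtain ⟨y, -, hyk⟩ := hk
    rw [← hyk]
    exact y.2
  have hK2 : ∀ c ∈ Subgroup.centralizer ({J} : Set G), ∀ k ∈ K, c * k * c⁻¹ ∈ K := by
    intro c hc k hk
    have hk' : (⟨k, hKC hk⟩ : Subgroup.centralizer ({J} : Set G)) ∈ N := (hNK _).mpr hk
    exact (hNK _).mp (hN.conj_mem _ hk' ⟨c, hc⟩)
  have hK3 : ∀ k ∈ K, Odd (orderOf k) := by
    intro k hk
    have hk' : (⟨k, hKC hk⟩ : Subgroup.centralizer ({J} : Set G)) ∈ N := (hNK _).mpr hk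
    have h1 := orderOf_dvd_natCard (⟨_, hk'⟩ : N)
    rw [Subgroup.orderOf_mk, Subgroup.orderOf_mk] at h1
    exact Odd.of_dvd_nat hodd h1
  have hK5 : ∀ c ∈ Subgroup.centralizer ({J} : Set G), ∃ k ∈ K, ∃ y ∈ (P : Subgroup G),
      c = k * y := by
    intro c hc
    obtain ⟨k, hk, y, hy, hky⟩ := hdec ⟨c, hc⟩
    exact ⟨(k : G), (hNK k).mp hk, y, hy, hky⟩
  obtain ⟨r, hr, hcount⟩ := klein_count P hP4 hexp J hJ hJ1 K hKC hK2 hK3 hK5
  -- the class indicator of `J`
  have hcol : ∀ g : G, colFun J g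
      = if orderOf g = 2 then (Nat.card (Subgroup.centralizer ({J} : Set G)) : ℂ) else 0 := by
    intro g
    by_cases hg : orderOf g = 2
    · obtain ⟨h, hh⟩ := hconj g hg
      rw [if_pos hg, ← hh, colFun_isClassFunction J J h, colFun_of_isConj (IsConj.refl J)]
    · rw [if_neg hg, colFun_of_not_isConj]
      intro hc
      obtain ⟨c, hc⟩ := isConj_iff.mp hc
      apply hg
      rw [← orderOf_conj_eq c g, hc, hJ2]
  have hψ : ∀ k : G, conv (colFun J) (colFun J) (J * k)⁻¹
      = (Nat.card (Subgroup.centralizer ({J} : Set G)) : ℂ) ^ 2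
        * ∑ g : G, (if orderOf g = 2 ∧ orderOf (g * J * k) = 2 then (1 : ℂ) else 0) := by
    intro k
    unfold conv
    rw [Finset.mul_sum]
    apply Finset.sum_congr rfl
    intro g _
    rw [hcol, hcol]
    have e : orderOf ((J * k)⁻¹ * g⁻¹) = orderOf (g * J * k) := by
      rw [← mul_inv_rev, orderOf_inv, mul_assoc]
    rw [e]
    by_cases h1 : orderOf g = 2 <;> by_cases h2 : orderOf (g * J * k) = 2 <;>
      simp [h1, h2] <;> ring
  have hsumK : ∀ F : G → ℂ,
      ∑ c : Subgroup.centralizer ({J} : Set G), (if c ∈ N then F (c : G) else 0)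
        = ∑ k : G, if k ∈ K then F k else 0 := by
    intro F
    have h1 : ∑ k : G, (if k ∈ K then F k else 0)
        = ∑ k ∈ Finset.univ.filter (fun k : G => k ∈ Subgroup.centralizer ({J} : Set G)),
            (if k ∈ K then F k else 0) := by
      symm
      apply Finset.sum_subset (Finset.filter_subset _ _)
      intro k _ hk
      rw [Finset.mem_filter] at hk
      rw [if_neg]
      intro hkK
      exact hk ⟨Finset.mem_univ _, hKC hkK⟩
    have h2 : ∑ c : Subgroup.centralizer ({J} : Set G), (if c ∈ N then F (c : G) else 0)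
        = ∑ c : Subgroup.centralizer ({J} : Set G), (if (c : G) ∈ K then F (c : G) else 0) := by
      apply Finset.sum_congr rfl
      intro c _
      by_cases hc : c ∈ N
      · rw [if_pos hc, if_pos ((hNK c).mp hc)]
      · rw [if_neg hc, if_neg (fun h => hc ((hNK c).mpr h))]
    rw [h2, h1]
    exact (Finset.sum_subtype
      (Finset.univ.filter (fun k : G => k ∈ Subgroup.centralizer ({J} : Set G)))
      (fun x => by rw [Finset.mem_filter]; exact ⟨fun h => h.2, fun h => ⟨Finset.mem_univ _, h⟩⟩)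
      (fun k => if k ∈ K then F k else 0)).symm
  have hcnt : ∑ k : G, (if k ∈ K then
        ∑ g : G, (if orderOf g = 2 ∧ orderOf (g * J * k) = 2 then (1 : ℂ) else 0) else 0)
      = ((2 * r * r : ℕ) : ℂ) := by
    rw [← hcount, Nat.card_eq_fintype_card, Fintype.card_subtype, Finset.natCast_card_filter,
      Fintype.sum_prod_type]
    apply Finset.sum_congr rfl
    intro k _
    by_cases hk : k ∈ K
    · rw [if_pos hk]
      apply Finset.sum_congr rfl
      intro g _
      by_cases h1 : orderOf g = 2 ∧ orderOf (g * J * k) = 2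
      · rw [if_pos h1, if_pos ⟨hk, h1⟩]
      · rw [if_neg h1, if_neg (fun h => h1 h.2)]
    · rw [if_neg hk]
      symm
      apply Finset.sum_eq_zero
      intro g _
      rw [if_neg (fun h => hk h.1)]
  have hRHS : ∑ c : Subgroup.centralizer ({J} : Set G),
      (if c ∈ N then conv (colFun J) (colFun J) (J * (c : G))⁻¹ else 0)
      = (Nat.card (Subgroup.centralizer ({J} : Set G)) : ℂ) ^ 2 * ((2 * r * r : ℕ) : ℂ) := by
    rw [hsumK (fun k => conv (colFun J) (colFun J) (J * k)⁻¹), ← hcnt, Finset.mul_sum]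
    apply Finset.sum_congr rfl
    intro k _
    by_cases hk : k ∈ K
    · rw [if_pos hk, if_pos hk, hψ k]
    · rw [if_neg hk, if_neg hk, mul_zero]
  rw [hRHS] at hsec
  have hLHS : ∑ ψ : IrrCharacter G, (if ψ ∈ principalBlock M G then
        classInner (fun z => conv (colFun J) (colFun J) z⁻¹) (ψ : G → ℂ)
          * (ψ : G → ℂ) (J * ((1 : Subgroup.centralizer ({J} : Set G)) : G)) else 0)
      = (Nat.card G : ℂ) * ∑ χ : IrrCharacter G, (if χ ∈ principalBlock M G then
        (χ : G → ℂ) J ^ 3 / (χ : G → ℂ) 1 else 0) := by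
    rw [Finset.mul_sum]
    apply Finset.sum_congr rfl
    intro χ _
    by_cases hχ : χ ∈ principalBlock M G
    · rw [if_pos hχ, if_pos hχ, classInner_cvt, Subgroup.coe_one, mul_one]
      ring
    · rw [if_neg hχ, if_neg hχ, mul_zero]
  rw [hLHS] at hsec
  rw [hsec]
  have hcJ0 : (Nat.card (Subgroup.centralizer ({J} : Set G)) : ℂ) ≠ 0 := by
    exact_mod_cast Nat.card_pos.ne'
  have hcP0 : (Nat.card (Subgroup.centralizer ((P : Subgroup G) : Set G)) : ℂ) ≠ 0 := by
    exact_mod_cast Nat.card_pos.ne'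
  have hN0 : (Nat.card N : ℂ) ≠ 0 := by
    exact_mod_cast Nat.card_pos.ne'
  have hNc : (4 : ℂ) * (Nat.card N : ℂ) = (Nat.card (Subgroup.centralizer ({J} : Set G)) : ℂ) := by
    exact_mod_cast hcardN
  have hrc : (r : ℂ) * (Nat.card (Subgroup.centralizer ((P : Subgroup G) : Set G)) : ℂ)
      = (Nat.card (Subgroup.centralizer ({J} : Set G)) : ℂ) := by
    exact_mod_cast hr
  have hr' : (r : ℂ) = 4 * (Nat.card N : ℂ)
      / (Nat.card (Subgroup.centralizer ((P : Subgroup G) : Set G)) : ℂ) := by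
    rw [hNc, ← hrc]
    field_simp
  rw [← hNc]
  push_cast
  rw [hr']
  field_simp
  ring

end main

end Cfsg.Agent.Lib.Helper25
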