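import Mathlib
import Cfsg.Agent.Lib.Helper25.KleinOrder

/-!
# Brauer's order formula for groups with a Klein four Sylow `2`-subgroup: the algebra
-/

set_option autoImplicit false

namespace Cfsg.Agent.Lib.Helper25

open Cfsg Cfsg.Agent.Lib.Helper2 Cfsg.Agent.Lib.Helper8

open scoped ComplexConjugate

theorem klein_algebra (g cJ cP d₁ d₂ d₃ : ℕ) (ε₁ ε₂ ε₃ : ℤ) (hg : 0 < g) (hcJ : 0 < cJ)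
    (hcP : 0 < cP) (h1 : 0 < d₁) (h2 : 0 < d₂) (h3 : 0 < d₃)
    (hε : (ε₁ = 1 ∨ ε₁ = -1) ∧ (ε₂ = 1 ∨ ε₂ = -1) ∧ (ε₃ = 1 ∨ ε₃ = -1))
    (hid : (g : ℂ) * (1 ^ 3 / 1 + (ε₁ : ℂ) ^ 3 / d₁ + (ε₂ : ℂ) ^ 3 / d₂ + (ε₃ : ℂ) ^ 3 / d₃)
      = 8 * (cJ : ℂ) ^ 3 / (cP : ℂ) ^ 2)
    (horth : (1 : ℂ) * (starRingEnd ℂ) 1 + d₁ * (starRingEnd ℂ) ε₁ + d₂ * (starRingEnd ℂ) ε₂
      + d₃ * (starRingEnd ℂ) ε₃ = 0) :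
    (1 : ℚ) + d₁ * ε₁ + d₂ * ε₂ + d₃ * ε₃ = 0 ∧
    ((d₁ : ℚ) + ε₁) * (d₂ + ε₂) * (d₃ + ε₃) ≠ 0 ∧
    (g : ℚ) * (((d₁ : ℚ) + ε₁) * (d₂ + ε₂) * (d₃ + ε₃))
      = d₁ * d₂ * d₃ * (8 * (cJ : ℚ) ^ 3 / (cP : ℚ) ^ 2) ∧
    (g : ℚ) = 8 * (((d₁ : ℚ) * d₂ * d₃) / (((d₁ : ℚ) + ε₁) * (d₂ + ε₂) * (d₃ + ε₃)))
      * (cJ : ℚ) ^ 3 / (cP : ℚ) ^ 2 := by
  have e1 : (ε₁ : ℚ) ^ 2 = 1 := by
    rcases hε.1 with h | h <;> rw [h] <;> norm_num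
  have e2 : (ε₂ : ℚ) ^ 2 = 1 := by
    rcases hε.2.1 with h | h <;> rw [h] <;> norm_num
  have e3 : (ε₃ : ℚ) ^ 2 = 1 := by
    rcases hε.2.2 with h | h <;> rw [h] <;> norm_num
  have hoQ : (1 : ℚ) + d₁ * ε₁ + d₂ * ε₂ + d₃ * ε₃ = 0 := by
    apply (Rat.cast_injective (α := ℂ))
    push_cast
    have h := horth
    simp only [map_one, map_intCast, one_mul] at h
    exact h
  have hidQ : (g : ℚ) * (1 + (ε₁ : ℚ) ^ 3 / d₁ + (ε₂ : ℚ) ^ 3 / d₂ + (ε₃ : ℚ) ^ 3 / d₃)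
      = 8 * (cJ : ℚ) ^ 3 / (cP : ℚ) ^ 2 := by
    apply (Rat.cast_injective (α := ℂ))
    push_cast
    linear_combination hid
  have hgQ : (0 : ℚ) < g := by exact_mod_cast hg
  have hcJQ : (0 : ℚ) < cJ := by exact_mod_cast hcJ
  have hcPQ : (0 : ℚ) < cP := by exact_mod_cast hcP
  have hd1 : (0 : ℚ) < d₁ := by exact_mod_cast h1
  have hd2 : (0 : ℚ) < d₂ := by exact_mod_cast h2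
  have hd3 : (0 : ℚ) < d₃ := by exact_mod_cast h3
  have hR : (0 : ℚ) < 8 * (cJ : ℚ) ^ 3 / (cP : ℚ) ^ 2 := by positivity
  have hmul : (g : ℚ) * ((d₁ : ℚ) * d₂ * d₃ + (ε₁ : ℚ) ^ 3 * d₂ * d₃ + (ε₂ : ℚ) ^ 3 * d₁ * d₃
      + (ε₃ : ℚ) ^ 3 * d₁ * d₂) = d₁ * d₂ * d₃ * (8 * (cJ : ℚ) ^ 3 / (cP : ℚ) ^ 2) := by
    rw [← hidQ]
    field_simp
  have key : (g : ℚ) * (((d₁ : ℚ) + ε₁) * (d₂ + ε₂) * (d₃ + ε₃))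
      = d₁ * d₂ * d₃ * (8 * (cJ : ℚ) ^ 3 / (cP : ℚ) ^ 2) := by
    linear_combination hmul + (g : ℚ) * ε₁ * ε₂ * ε₃ * hoQ
      - (g : ℚ) * (ε₁ * d₂ * d₃ + ε₂ * ε₃ * d₁) * e1
      - (g : ℚ) * (ε₂ * d₁ * d₃ + ε₁ * ε₃ * d₂) * e2
      - (g : ℚ) * (ε₃ * d₁ * d₂ + ε₁ * ε₂ * d₃) * e3
  have hWne : ((d₁ : ℚ) + ε₁) * (d₂ + ε₂) * (d₃ + ε₃) ≠ 0 := by
    intro h0
    rw [h0, mul_zero] at key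
    have : (0 : ℚ) < d₁ * d₂ * d₃ * (8 * (cJ : ℚ) ^ 3 / (cP : ℚ) ^ 2) := by positivity
    rw [← key] at this
    exact lt_irrefl _ this
  refine ⟨hoQ, hWne, key, ?_⟩
  have h4 : (g : ℚ) = d₁ * d₂ * d₃ * (8 * (cJ : ℚ) ^ 3 / (cP : ℚ) ^ 2)
      / (((d₁ : ℚ) + ε₁) * (d₂ + ε₂) * (d₃ + ε₃)) := eq_div_of_mul_eq hWne key
  rw [h4]
  ring

end Cfsg.Agent.Lib.Helper25
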