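import Mathlib
import Cfsg.Agent.Lib.Helper25.KleinOrder2
import Cfsg.Agent.Lib.Helper12.GaloisTwist
import Cfsg.Agent.Lib.Helper12.ConjAux
import Cfsg.Agent.Lib.Helper8.DefectNum
import Cfsg.Agent.Lib.Helper2.CharFS
import Cfsg.Agent.S0895

/-!
# Brauer's order formula for groups with a Klein four Sylow `2`-subgroup: the `PSL` shape
-/

set_option autoImplicit false

namespace Cfsg.Agent.Lib.Helper25

open Cfsg Cfsg.Agent.Lib.Helper2 Cfsg.Agent.Lib.Helper8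

open scoped ComplexConjugate

section regsq

variable {G : Type*} [Group G] [Finite G]

/-- squares are `2`-regular when the Sylow `2`-subgroups have exponent two -/
theorem klein_sq_regular (P : Sylow 2 G) (hexp : ∀ x : P, x * x = 1) (g : G) :
    ¬ 2 ∣ orderOf (g * g) := by
  classical
  have : Fact (Nat.Prime 2) := ⟨Nat.prime_two⟩
  have hsq : ∀ x : G, x ∈ P → x * x = 1 := fun x hx => congrArg Subtype.val (hexp ⟨x, hx⟩)
  obtain ⟨a, m, hmodd, hord⟩ := Nat.exists_eq_two_pow_mul_odd (orderOf_pos g).ne'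
  have hQ : IsPGroup 2 (Subgroup.zpowers (g ^ m)) := by
    have h1 : (g ^ m) ^ (2 ^ a) = 1 := by
      rw [← pow_mul, mul_comm, ← hord, pow_orderOf_eq_one]
    intro y
    obtain ⟨y, hy⟩ := y
    obtain ⟨j, rfl⟩ := Subgroup.mem_zpowers_iff.mp hy
    refine ⟨a, Subtype.ext ?_⟩
    show ((g ^ m) ^ j) ^ (2 ^ a) = 1
    rw [← zpow_natCast, ← zpow_mul, mul_comm, zpow_mul, zpow_natCast, h1, one_zpow]
  obtain ⟨Q', hQ'⟩ := hQ.exists_le_sylow
  obtain ⟨c, hc⟩ := MulAction.exists_smul_eq G P Q'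
  have hgQ : g ^ m ∈ (Q' : Subgroup G) := hQ' (Subgroup.mem_zpowers _)
  rw [← hc, Sylow.coe_subgroup_smul, Subgroup.mem_smul_pointwise_iff_exists] at hgQ
  obtain ⟨x, hx, hxg⟩ := hgQ
  rw [MulAut.smul_def, MulAut.conj_apply] at hxg
  have h2 : (g ^ m) * (g ^ m) = 1 := by
    rw [← hxg]
    calc c * x * c⁻¹ * (c * x * c⁻¹) = c * (x * x) * c⁻¹ := by group
      _ = 1 := by rw [hsq x hx]; group
  have h3 : (g * g) ^ m = 1 := by
    rw [← pow_two, ← pow_mul, mul_comm, pow_mul, pow_two]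
    exact h2
  have h4 : orderOf (g * g) ∣ m := orderOf_dvd_of_pow_eq_one h3
  intro h5
  have h6 : 2 ∣ m := dvd_trans h5 h4
  exact (Nat.not_even_iff_odd.mpr hmodd) (even_iff_two_dvd.mpr h6)

end regsq

section parity

variable {G : Type*} [Group G] [Fintype G] {M : Ideal AlgInt}

/-- a character with value `±1` at an involution has odd degree -/
theorem odd_degree_of_involution (hM : IsPModular 2 M) (χ : IrrCharacter G) (J : G)
    (hJJ : J * J = 1) (d : ℕ) (hd : (χ : G → ℂ) 1 = d) (ε : ℤ) (hε : ε = 1 ∨ ε = -1)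
    (hv : (χ : G → ℂ) J = ε) : Odd d := by
  have : Fact (Nat.Prime 2) := ⟨Nat.prime_two⟩
  have hpr := isPrime_of_isPModular hM
  have h := char_mul_sub_mem hM χ J 1 1 (by rw [pow_one, pow_two]; exact hJJ)
    (by rw [mul_one, one_mul])
  rw [mul_one, hd, hv] at h
  by_contra hodd
  rw [Nat.not_odd_iff_even] at hodd
  have h2 : MemLocalIdeal M ((d : ℕ) : ℂ) :=
    (memLocalIdeal_natCast_iff hM d).mpr (even_iff_two_dvd.mp hodd)
  have h3 := MemLocalIdeal.add M h h2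
  rcases hε with rfl | rfl
  · have e : ((1 : ℤ) : ℂ) - (d : ℂ) + (d : ℂ) = 1 := by push_cast; ring
    rw [e] at h3
    exact not_memLocalIdeal_one M h3
  · have e : (((-1 : ℤ)) : ℂ) - (d : ℂ) + (d : ℂ) = -1 := by push_cast; ring
    rw [e] at h3
    have h4 := MemLocalIdeal.neg M h3
    rw [neg_neg] at h4
    exact not_memLocalIdeal_one M h4

/-- the complex conjugate of an irreducible character is irreducible -/
theorem irr_conj_isIrr (χ : IrrCharacter G) :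
    IsIrrCharacter G (fun g => conj ((χ : G → ℂ) g)) := by
  have h1 : IsCharacter G ((starRingEnd ℂ : ℂ →+* ℂ) ∘ (χ : G → ℂ)) :=
    Cfsg.Agent.Lib.Helper12.isCharacter_comp_ringHom (isCharacter_of_isIrrCharacter χ.2)
      (starRingEnd ℂ)
  have h2 := Cfsg.Agent.Lib.Helper12.classInner_conjFun_conjFun (χ : G → ℂ) (χ : G → ℂ)
  rw [classInner_irr_self χ.2, map_one] at h2
  exact isIrrCharacter_of_norm_one h1 h2

/-- the principal block is closed under complex conjugation -/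
theorem principal_conj_mem {p : ℕ} [Fact p.Prime] (hM : IsPModular p M) (χ : IrrCharacter G)
    (hχ : χ ∈ principalBlock M G) :
    (⟨fun g => conj ((χ : G → ℂ) g), irr_conj_isIrr χ⟩ : IrrCharacter G)
      ∈ principalBlock M G := by
  have hpr := isPrime_of_isPModular hM
  by_contra hcon
  have h0 := omegaFun_regInd_eq_zero hM _ hcon
  have h1 : omegaFun (fun g => conj ((χ : G → ℂ) g)) (regInd p G)
      = conj (omegaFun (χ : G → ℂ) (regInd p G)) := by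
    unfold omegaFun
    rw [map_div₀, map_sum]
    congr 1
    apply Finset.sum_congr rfl
    intro g _
    rw [map_mul]
    congr 1
    unfold regInd
    split_ifs
    · rw [map_zero]
    · rw [map_one]
  have h2 : omegaFun (χ : G → ℂ) (regInd p G) = 0 := by
    have h3 : conj (omegaFun (χ : G → ℂ) (regInd p G)) = 0 := by
      rw [← h1]
      exact h0
    have h4 := congrArg conj h3
    rw [Complex.conj_conj, map_zero] at h4
    exact h4
  apply omegaFun_regInd_not_mem hM χ hχ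
  rw [h2]
  exact memLocalIdeal_zero M

/-- the Frobenius–Schur indicator of an irreducible character -/
theorem fs_indicator (χ : IrrCharacter G) :
    ((Nat.card G : ℂ)⁻¹ * ∑ s : G, (χ : G → ℂ) (s * s) = 0
      ∨ (Nat.card G : ℂ)⁻¹ * ∑ s : G, (χ : G → ℂ) (s * s) = 1
      ∨ (Nat.card G : ℂ)⁻¹ * ∑ s : G, (χ : G → ℂ) (s * s) = -1)
    ∧ ((Nat.card G : ℂ)⁻¹ * ∑ s : G, (χ : G → ℂ) (s * s) = 0
      ↔ ∃ s : G, ((χ : G → ℂ) s).im ≠ 0) := by
  obtain ⟨n, ρ, hρ, hχ⟩ := χ.2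
  have := hρ
  have h := frobenius_schur ρ
  rw [hχ] at h
  exact h

end parity

section arith

theorem klein_arith (g cJ cP x r i : ℕ) (hx : 0 < x) (hcP : 0 < cP) (hr : 0 < r)
    (h1 : cJ = r * cP) (h2 : g = i * cJ)
    (h3 : g * (x + 1) ^ 2 * cP ^ 2 = 4 * x * (2 * x + 1) * cJ ^ 3) :
    ∃ m : ℕ, 4 * cJ = m * cP * ((2 * x + 1) + 1) ∧
      8 * g = m ^ 3 * cP * ((2 * x + 1) ^ 3 - (2 * x + 1)) := by
  subst h2
  subst h1
  have h4 : (r * cP ^ 3) * (i * (x + 1) ^ 2) = (r * cP ^ 3) * (4 * x * (2 * x + 1) * r ^ 2) := by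
    calc (r * cP ^ 3) * (i * (x + 1) ^ 2) = i * (r * cP) * (x + 1) ^ 2 * cP ^ 2 := by ring
      _ = 4 * x * (2 * x + 1) * (r * cP) ^ 3 := h3
      _ = (r * cP ^ 3) * (4 * x * (2 * x + 1) * r ^ 2) := by ring
  have hpos : 0 < r * cP ^ 3 := by positivity
  have h5 : i * (x + 1) ^ 2 = 4 * x * (2 * x + 1) * r ^ 2 := Nat.eq_of_mul_eq_mul_left hpos h4
  have hc1 : Nat.Coprime (x + 1) x := by
    rw [Nat.coprime_comm]
    exact (Nat.coprime_self_add_right).mpr (Nat.coprime_one_right x)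
  have hc2 : Nat.Coprime (x + 1) (2 * x + 1) := by
    have e : 2 * x + 1 = x + 1 + x := by ring
    rw [e]
    exact (Nat.coprime_self_add_right).mpr hc1
  have hc3 : Nat.Coprime ((x + 1) ^ 2) (x * (2 * x + 1)) :=
    Nat.Coprime.pow_left 2 (Nat.Coprime.mul_right hc1 hc2)
  have h6 : (x + 1) ^ 2 ∣ (x * (2 * x + 1)) * (2 * r) ^ 2 := by
    refine ⟨i, ?_⟩
    calc x * (2 * x + 1) * (2 * r) ^ 2 = 4 * x * (2 * x + 1) * r ^ 2 := by ring
      _ = i * (x + 1) ^ 2 := h5.symm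
      _ = (x + 1) ^ 2 * i := by ring
  have h7 : (x + 1) ^ 2 ∣ (2 * r) ^ 2 := hc3.dvd_of_dvd_mul_left h6
  have h8 : (x + 1) ∣ 2 * r := (Nat.pow_dvd_pow_iff (by norm_num)).mp h7
  obtain ⟨m, hm⟩ := h8
  have h9 : i = x * (2 * x + 1) * m ^ 2 := by
    have hpos2 : 0 < (x + 1) ^ 2 := by positivity
    apply Nat.eq_of_mul_eq_mul_right hpos2
    calc i * (x + 1) ^ 2 = 4 * x * (2 * x + 1) * r ^ 2 := h5
      _ = x * (2 * x + 1) * (2 * r) ^ 2 := by ring
      _ = x * (2 * x + 1) * ((x + 1) * m) ^ 2 := by rw [hm]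
      _ = x * (2 * x + 1) * m ^ 2 * (x + 1) ^ 2 := by ring
  have h10 : (2 * x + 1) ^ 3 - (2 * x + 1) = 4 * x * (x + 1) * (2 * x + 1) := by
    apply Nat.sub_eq_of_eq_add
    ring
  refine ⟨m, ?_, ?_⟩
  · calc 4 * (r * cP) = 2 * (2 * r) * cP := by ring
      _ = 2 * ((x + 1) * m) * cP := by rw [hm]
      _ = m * cP * (2 * x + 1 + 1) := by ring
  · rw [h10, h9]
    calc 8 * (x * (2 * x + 1) * m ^ 2 * (r * cP))
        = 4 * x * (2 * x + 1) * m ^ 2 * (2 * r) * cP := by ring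
      _ = 4 * x * (2 * x + 1) * m ^ 2 * ((x + 1) * m) * cP := by rw [hm]
      _ = m ^ 3 * cP * (4 * x * (x + 1) * (2 * x + 1)) := by ring

end arith

section degrees

variable {G : Type*} [Group G] [Fintype G] {M : Ideal AlgInt}

theorem tri_aux (a b c : ℂ) (hb : b = 0 ∨ b = 1 ∨ b = -1) (hc : c = 0 ∨ c = 1 ∨ c = -1)
    (h : c = 1 + a + b) (ha : a = 1) : b = -1 := by
  rcases hb with hb | hb | hb
  · exfalso
    rw [ha, hb] at h
    rcases hc with hc | hc | hc <;> rw [hc] at h <;> norm_num at h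
  · exfalso
    rw [ha, hb] at h
    rcases hc with hc | hc | hc <;> rw [hc] at h <;> norm_num at h
  · exact hb

/-- in the `PSL` shape the two characters with value `1` at the involution are complex
conjugates; in particular they have the same degree -/
theorem klein_degrees (hM : IsPModular 2 M) (g₀ : ℕ) (hg₀ : Odd g₀)
    (hG : Nat.card G = 4 * g₀) (hnc : ¬ ∃ N : Subgroup G, N.Normal ∧ Nat.card N = g₀)
    (P : Sylow 2 G) (J : G) (hJ : J ∈ (P : Subgroup G)) (hJ2 : orderOf J = 2)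
    (χ₁ χ₂ χ₃ : IrrCharacter G)
    (hB : principalBlock M G = {χ : IrrCharacter G | (χ : G → ℂ) = (fun _ => 1) ∨ χ = χ₁ ∨
      χ = χ₂ ∨ χ = χ₃})
    (hdist : (χ₁ : G → ℂ) ≠ (fun _ => 1) ∧ (χ₂ : G → ℂ) ≠ (fun _ => 1) ∧
      (χ₃ : G → ℂ) ≠ (fun _ => 1) ∧ χ₁ ≠ χ₂ ∧ χ₁ ≠ χ₃ ∧ χ₂ ≠ χ₃)
    (hv1 : (χ₁ : G → ℂ) J = 1) (hv2 : (χ₂ : G → ℂ) J = 1) (hv3 : (χ₃ : G → ℂ) J = -1) :
    (χ₁ : G → ℂ) 1 = (χ₂ : G → ℂ) 1 := by
  classical
  have : Fintype (IrrCharacter G) := Fintype.ofFinite _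
  have : Fact (Nat.Prime 2) := ⟨Nat.prime_two⟩
  have hpr := isPrime_of_isPModular hM
  have hexp := klein_exponent g₀ hg₀ hG hnc P
  have hJJ : J * J = 1 := congrArg Subtype.val (hexp ⟨J, hJ⟩)
  have hJsing : 2 ∣ orderOf J := by rw [hJ2]
  have hrel : ∀ ρ : G, ¬ 2 ∣ orderOf ρ →
      (χ₃ : G → ℂ) ρ = 1 + (χ₁ : G → ℂ) ρ + (χ₂ : G → ℂ) ρ := by
    intro ρ hρ
    have horth := block_orth hM (principalBlock M G) (blockClosed_principal M) ρ J hρ hJsing
    have horth' : ∑ χ : IrrCharacter G, (if χ ∈ principalBlock M G then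
        (χ : G → ℂ) ρ * (starRingEnd ℂ) ((χ : G → ℂ) J) else 0) = 0 := by
      refine Eq.trans ?_ horth
      apply Finset.sum_congr rfl
      intro χ _
      by_cases hχ : χ ∈ principalBlock M G
      · rw [if_pos hχ, if_pos hχ, one_mul]
      · rw [if_neg hχ, if_neg hχ, zero_mul]
    rw [sum_four_block (principalBlock M G) χ₁ χ₂ χ₃ hB hdist] at horth'
    simp only [hv1, hv2, hv3, map_one, map_neg, mul_one] at horth'
    linear_combination -horth'
  have hne := card_ne_zero_complex G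
  have hν : (Nat.card G : ℂ)⁻¹ * ∑ s : G, (χ₃ : G → ℂ) (s * s)
      = 1 + (Nat.card G : ℂ)⁻¹ * ∑ s : G, (χ₁ : G → ℂ) (s * s)
        + (Nat.card G : ℂ)⁻¹ * ∑ s : G, (χ₂ : G → ℂ) (s * s) := by
    have h1 : ∀ s : G, (χ₃ : G → ℂ) (s * s)
        = 1 + (χ₁ : G → ℂ) (s * s) + (χ₂ : G → ℂ) (s * s) :=
      fun s => hrel _ (klein_sq_regular P hexp s)
    rw [Finset.sum_congr rfl (fun s _ => h1 s), Finset.sum_add_distrib, Finset.sum_add_distrib,
      Finset.sum_const, Finset.card_univ, nsmul_eq_mul, mul_one, ← Nat.card_eq_fintype_card]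
    field_simp
  obtain ⟨d₁, hd₁, -, -, -⟩ := irr_degree χ₁
  obtain ⟨d₂, hd₂, -, -, -⟩ := irr_degree χ₂
  obtain ⟨d₃, hd₃, -, -, -⟩ := irr_degree χ₃
  have hodd₁ : Odd d₁ := odd_degree_of_involution hM χ₁ J hJJ d₁ hd₁ 1 (Or.inl rfl)
    (by rw [hv1]; norm_num)
  have hodd₂ : Odd d₂ := odd_degree_of_involution hM χ₂ J hJJ d₂ hd₂ 1 (Or.inl rfl)
    (by rw [hv2]; norm_num)
  have hodd₃ : Odd d₃ := odd_degree_of_involution hM χ₃ J hJJ d₃ hd₃ (-1) (Or.inr rfl)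
    (by rw [hv3]; norm_num)
  obtain ⟨ht₁, hz₁⟩ := fs_indicator χ₁
  obtain ⟨ht₂, hz₂⟩ := fs_indicator χ₂
  obtain ⟨ht₃, hz₃⟩ := fs_indicator χ₃
  have hr₁ : (∀ s : G, ((χ₁ : G → ℂ) s).im = 0) →
      (Nat.card G : ℂ)⁻¹ * ∑ s : G, (χ₁ : G → ℂ) (s * s) = 1 := fun h =>
    Cfsg.Agent.S0895.result (χ₁ : G → ℂ) χ₁.2 h d₁ hd₁ hodd₁
  have hr₂ : (∀ s : G, ((χ₂ : G → ℂ) s).im = 0) →
      (Nat.card G : ℂ)⁻¹ * ∑ s : G, (χ₂ : G → ℂ) (s * s) = 1 := fun h =>
    Cfsg.Agent.S0895.result (χ₂ : G → ℂ) χ₂.2 h d₂ hd₂ hodd₂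
  -- `χ₁` is not real
  have hA : ¬ ∀ s : G, ((χ₁ : G → ℂ) s).im = 0 := by
    intro hreal
    have h1 := hr₁ hreal
    have h2 := tri_aux _ _ _ ht₂ ht₃ hν h1
    have h3 : ∀ s : G, ((χ₂ : G → ℂ) s).im = 0 := by
      by_contra hcon
      push Not at hcon
      have h4 := hz₂.mpr hcon
      rw [h4] at h2
      norm_num at h2
    have h5 := hr₂ h3
    rw [h5] at h2
    norm_num at h2
  have hB' : ¬ ∀ s : G, ((χ₂ : G → ℂ) s).im = 0 := by
    intro hreal
    have h1 := hr₂ hreal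
    have hν' : (Nat.card G : ℂ)⁻¹ * ∑ s : G, (χ₃ : G → ℂ) (s * s)
      = 1 + (Nat.card G : ℂ)⁻¹ * ∑ s : G, (χ₂ : G → ℂ) (s * s)
        + (Nat.card G : ℂ)⁻¹ * ∑ s : G, (χ₁ : G → ℂ) (s * s) := by
      rw [hν]; ring
    have h2 := tri_aux _ _ _ ht₁ ht₃ hν' h1
    have h3 : ∀ s : G, ((χ₁ : G → ℂ) s).im = 0 := by
      by_contra hcon
      push Not at hcon
      have h4 := hz₁.mpr hcon
      rw [h4] at h2
      norm_num at h2
    exact hA h3
  have hz1 : (Nat.card G : ℂ)⁻¹ * ∑ s : G, (χ₁ : G → ℂ) (s * s) = 0 := by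
    apply hz₁.mpr
    by_contra hcon
    push Not at hcon
    exact hA hcon
  have hz2 : (Nat.card G : ℂ)⁻¹ * ∑ s : G, (χ₂ : G → ℂ) (s * s) = 0 := by
    apply hz₂.mpr
    by_contra hcon
    push Not at hcon
    exact hB' hcon
  have hreal₃ : ∀ s : G, ((χ₃ : G → ℂ) s).im = 0 := by
    by_contra hcon
    push Not at hcon
    have h4 := hz₃.mpr hcon
    rw [h4, hz1, hz2] at hν
    norm_num at hν
  -- the conjugate of `χ₁`
  have hmem := principal_conj_mem hM χ₁ (by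
    rw [hB]
    exact Or.inr (Or.inl rfl))
  rw [hB] at hmem
  rcases hmem with h | h | h | h
  · exfalso
    apply hdist.1
    funext s
    have h1 := congrFun h s
    have h2 : conj ((χ₁ : G → ℂ) s) = 1 := h1
    have h3 := congrArg conj h2
    rw [Complex.conj_conj, map_one] at h3
    exact h3
  · exfalso
    apply hA
    intro s
    have h1 : conj ((χ₁ : G → ℂ) s) = (χ₁ : G → ℂ) s := congrFun (congrArg Subtype.val h) s
    exact Complex.conj_eq_iff_im.mp h1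
  · have h1 : conj ((χ₁ : G → ℂ) 1) = (χ₂ : G → ℂ) 1 := congrFun (congrArg Subtype.val h) 1
    rw [hd₁, Complex.conj_natCast] at h1
    rw [hd₁]
    exact h1
  · exfalso
    apply hdist.2.2.2.2.1
    apply Subtype.ext
    funext s
    have h1 : conj ((χ₁ : G → ℂ) s) = (χ₃ : G → ℂ) s := congrFun (congrArg Subtype.val h) s
    have h2 : conj ((χ₃ : G → ℂ) s) = (χ₃ : G → ℂ) s := Complex.conj_eq_iff_im.mpr (hreal₃ s)
    have h3 := congrArg conj h1
    rw [Complex.conj_conj, h2] at h3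
    exact h3

end degrees

end Cfsg.Agent.Lib.Helper25
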