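import Mathlib
import Cfsg.Prelude
import Cfsg.Agent.Lib.Helper25.NormCompl1
import Cfsg.Agent.Lib.Helper25.KerPd2
import Cfsg.Agent.Lib.Helper25.KerPd3
import Cfsg.Agent.Lib.Helper25.KerPd4
import Cfsg.Agent.Lib.Helper25.AlpIso1
import Cfsg.Agent.Lib.Helper26.TwoClass
import Cfsg.Agent.Lib.Helper2.PResSquares
import Cfsg.Agent.Lib.Helper2.GlaubOverAux

set_option autoImplicit false

/-!
Normal complements, part 2 (characters): if every irreducible character of degree prime to `p`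
of the normalizer `N` of a Sylow `p`-subgroup `P` extends to the whole group, then `N` has a normal
complement; conversely every irreducible character of a subgroup with a normal complement
extends.
-/

namespace Cfsg.Agent.Lib.Helper25

open Cfsg Cfsg.Agent.Lib.Helper2
open scoped ComplexConjugate
open scoped commutatorElement

universe u

/-- an element outside a normal subgroup `L` is not in the kernel of some irreducible character
that is trivial on `L` and whose degree divides the index of `L` -/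
theorem nc_exists_irr_ne {Y : Type u} [Group Y] [Fintype Y] (L : Subgroup Y) [hL : L.Normal]
    (x : Y) (hx : x ∉ L) :
    ∃ θ : Y → ℂ, IsIrrCharacter Y θ ∧ (∀ u ∈ L, θ u = θ 1) ∧ θ x ≠ θ 1 ∧
      ∃ d : ℕ, θ 1 = (d : ℂ) ∧ d ∣ L.index := by
  classical
  have : Fintype L := Fintype.ofFinite L
  have := Fintype.ofFinite (IrrCharacter Y)
  obtain ⟨Θ, hΘdef⟩ : ∃ Θ : Y → ℂ, Θ = indFun L (fun _ => (1 : ℂ)) := ⟨_, rfl⟩
  have hΘchar : IsCharacter Y Θ := by
    rw [hΘdef]
    exact indFun_isCharacter L (isCharacter_of_isIrrCharacter (isIrrCharacter_one (G := L)))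
  have hΘx : Θ x = 0 := by
    rw [hΘdef, indFun_apply]
    have h0 : ∀ z : Y, extendByZero L (fun _ => (1 : ℂ)) (z⁻¹ * x * z) = 0 := by
      intro z
      unfold extendByZero
      apply Function.extend_apply'
      rintro ⟨a, ha⟩
      apply hx
      have h1 : z⁻¹ * x * z ∈ L := ha ▸ a.2
      have h2 := hL.conj_mem _ h1 z
      have e : z * (z⁻¹ * x * z) * z⁻¹ = x := by group
      rw [e] at h2
      exact h2
    simp [h0]
  have hΘ1 : Θ 1 = (L.index : ℂ) := by
    rw [hΘdef, indFun_apply_one]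
    simp
  have hidx : (L.index : ℂ) ≠ 0 := by
    exact_mod_cast (Subgroup.index_ne_zero_of_finite (H := L))
  have hex : ∃ θ : IrrCharacter Y, classInner Θ θ ≠ 0 ∧ (θ : Y → ℂ) x ≠ (θ : Y → ℂ) 1 := by
    by_contra hno
    push Not at hno
    have hexp := class_fun_expand Θ (isClassFunction_of_isCharacter hΘchar)
    have h1 := congrFun hexp x
    have h2 := congrFun hexp 1
    rw [Finset.sum_apply] at h1 h2
    have h3 : Θ x = Θ 1 := by
      rw [h1, h2]
      apply Finset.sum_congr rfl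
      intro θ _
      simp only [Pi.smul_apply, smul_eq_mul]
      by_cases h0 : classInner Θ θ = 0
      · rw [h0, zero_mul, zero_mul]
      · rw [hno θ h0]
    rw [hΘx, hΘ1] at h3
    exact hidx h3.symm
  obtain ⟨θ, hne, hθx⟩ := hex
  have hfr : classInner (fun _ : L => (1 : ℂ)) (fun h : L => (θ : Y → ℂ) h) ≠ 0 := by
    rw [← frobenius_reciprocity L _ _ (isClassFunction_of_isIrrCharacter θ.2), ← hΘdef]
    exact hne
  have hcon : classInner (fun k : L => (θ : Y → ℂ) k) (fun _ => (1 : ℂ)) ≠ 0 := by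
    rw [← classInner_conj_symm]
    intro h0
    apply hfr
    have h1 := congrArg conj h0
    rw [Complex.conj_conj, map_zero] at h1
    exact h1
  have htriv := kerpd_clifford_ker L θ.2 hcon
  obtain ⟨d, hdpos, hd⟩ := irr_apply_one θ.2
  refine ⟨θ, θ.2, htriv, hθx, d, hd, ?_⟩
  have he : classInner (fun n : L => (θ : Y → ℂ) n) (fun _ : L => (1 : ℂ)) = (d : ℂ) := by
    rw [classInner_def]
    have h1 : ∀ n : L, (θ : Y → ℂ) n = (d : ℂ) := fun n => by rw [htriv n n.2, hd]
    simp only [h1, map_one, mul_one, Finset.sum_const, Finset.card_univ, nsmul_eq_mul]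
    rw [Nat.card_eq_fintype_card]
    have hc : (Fintype.card L : ℂ) ≠ 0 := by
      exact_mod_cast Fintype.card_ne_zero
    field_simp
  exact mult_dvd_index L θ.2 (isIrrCharacter_one (G := L)) d he hdpos.ne'

set_option maxHeartbeats 1600000 in
/-- if every irreducible character of degree prime to `p` of `N = N_G(P)` extends to `G` then
`N` has a normal complement -/
theorem nc_forward {G : Type u} [Group G] [Fintype G] (p : ℕ) [hp : Fact p.Prime]
    (P : Sylow p G) (N : Subgroup G)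
    (hNdef : N = Subgroup.normalizer ((P : Subgroup G) : Set G))
    (hext : ∀ θ : IrrCharacter ↥N, ¬ p ∣ charDegree (θ : ↥N → ℂ) →
      ∃ χ : IrrCharacter G, ∀ x : ↥N, (χ : G → ℂ) x = (θ : ↥N → ℂ) x) :
    ∃ K : Subgroup G, K.Normal ∧ K ⊔ N = ⊤ ∧ K ⊓ N = ⊥ := by
  classical
  have : Fintype N := Fintype.ofFinite N
  have hPN : (P : Subgroup G) ≤ N := hNdef ▸ Subgroup.le_normalizer
  obtain ⟨PN, hPNdef⟩ : ∃ PN : Sylow p N, PN = P.subtype hPN := ⟨_, rfl⟩
  have hPNmem : ∀ n : N, n ∈ (PN : Subgroup N) ↔ (n : G) ∈ (P : Subgroup G) := by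
    intro n
    rw [hPNdef, Sylow.coe_subtype, Subgroup.mem_subgroupOf]
  have hPNn : (PN : Subgroup N).Normal := by
    constructor
    intro n hn g
    rw [hPNmem] at hn ⊢
    have hg : (g : G) ∈ Subgroup.normalizer ((P : Subgroup G) : Set G) := hNdef ▸ g.2
    have h1 := (Subgroup.mem_normalizer_iff.mp hg (n : G)).mp hn
    simpa using h1
  have hext' : ∀ θ : N → ℂ, IsIrrCharacter N θ → ∀ d : ℕ, θ 1 = (d : ℂ) → ¬ p ∣ d →
      ∃ χ : G → ℂ, IsIrrCharacter G χ ∧ ∀ x : N, χ x = θ x := by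
    intro θ hθ d hd hpd
    obtain ⟨χ, hχ⟩ := hext ⟨θ, hθ⟩ (by
      rw [charDegree_eq_of_apply_one θ d hd]
      exact hpd)
    exact ⟨χ, χ.2, hχ⟩
  -- the intersection `M` of the kernels of the irreducible characters trivial on `P`
  let M : Subgroup G :=
    { carrier := {g | ∀ χ : IrrCharacter G,
          (∀ u ∈ (P : Subgroup G), (χ : G → ℂ) u = (χ : G → ℂ) 1) →
          (χ : G → ℂ) g = (χ : G → ℂ) 1}
      one_mem' := fun _ _ => rfl
      mul_mem' := by
        intro a b ha hb χ hχ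
        show (χ : G → ℂ) (a * b) = (χ : G → ℂ) 1
        rw [Cfsg.Agent.Lib.Helper26.char_mul_of_eq_one
          (isCharacter_of_isIrrCharacter χ.2) (hb χ hχ)]
        exact ha χ hχ
      inv_mem' := by
        intro a ha χ hχ
        exact Cfsg.Agent.Lib.Helper26.char_inv_of_eq_one
          (isCharacter_of_isIrrCharacter χ.2) (ha χ hχ) }
  have hMn : M.Normal := by
    constructor
    intro n hn x χ hχ
    show (χ : G → ℂ) (x * n * x⁻¹) = (χ : G → ℂ) 1
    rw [isClassFunction_of_isIrrCharacter χ.2 n x]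
    exact hn χ hχ
  have hPM : (P : Subgroup G) ≤ M := fun u hu χ hχ => hχ u hu
  have hself : M ⊓ Subgroup.normalizer ((P : Subgroup G) : Set G) ≤ (P : Subgroup G) := by
    intro x hx
    obtain ⟨hxM, hxN⟩ := Subgroup.mem_inf.mp hx
    rw [← hNdef] at hxN
    by_contra hxP
    have hx' : (⟨x, hxN⟩ : N) ∉ (PN : Subgroup N) := by
      rw [hPNmem]
      exact hxP
    obtain ⟨θ, hθ, htriv, hθx, d, hd, hdvd⟩ :=
      nc_exists_irr_ne (PN : Subgroup N) ⟨x, hxN⟩ hx'
    have hpd : ¬ p ∣ d := fun h => PN.not_dvd_index (dvd_trans h hdvd)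
    obtain ⟨χ, hχ, hχθ⟩ := hext' θ hθ d hd hpd
    apply hθx
    have h3 : χ 1 = θ 1 := hχθ 1
    have h1 : χ x = χ 1 := by
      apply hxM ⟨χ, hχ⟩
      intro u hu
      show χ u = χ 1
      have h2 : χ u = θ ⟨u, hPN hu⟩ := hχθ ⟨u, hPN hu⟩
      rw [h2, h3]
      exact htriv ⟨u, hPN hu⟩ ((hPNmem _).mpr hu)
    have h2 : χ x = θ ⟨x, hxN⟩ := hχθ ⟨x, hxN⟩
    rw [← h2, ← h3]
    exact h1
  -- the intersection `D` of the kernels of the extensions of the characters of `N` of degree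
  -- prime to `p`
  let D : Subgroup G :=
    { carrier := {g | ∀ χ : IrrCharacter G,
          (IsIrrCharacter N (fun n : N => (χ : G → ℂ) n) ∧
            ∃ d : ℕ, (χ : G → ℂ) 1 = (d : ℂ) ∧ ¬ p ∣ d) →
          (χ : G → ℂ) g = (χ : G → ℂ) 1}
      one_mem' := fun _ _ => rfl
      mul_mem' := by
        intro a b ha hb χ hχ
        show (χ : G → ℂ) (a * b) = (χ : G → ℂ) 1
        rw [Cfsg.Agent.Lib.Helper26.char_mul_of_eq_one
          (isCharacter_of_isIrrCharacter χ.2) (hb χ hχ)]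
        exact ha χ hχ
      inv_mem' := by
        intro a ha χ hχ
        exact Cfsg.Agent.Lib.Helper26.char_inv_of_eq_one
          (isCharacter_of_isIrrCharacter χ.2) (ha χ hχ) }
  have hDn : D.Normal := by
    constructor
    intro n hn x χ hχ
    show (χ : G → ℂ) (x * n * x⁻¹) = (χ : G → ℂ) 1
    rw [isClassFunction_of_isIrrCharacter χ.2 n x]
    exact hn χ hχ
  have hmap : (⁅(PN : Subgroup N), (PN : Subgroup N)⁆).map N.subtype
      = ⁅(P : Subgroup G), (P : Subgroup G)⁆ := by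
    rw [Subgroup.map_commutator]
    have e : (PN : Subgroup N).map N.subtype = (P : Subgroup G) := by
      rw [hPNdef, Sylow.coe_subtype, Subgroup.subgroupOf_map_subtype, inf_of_le_left hPN]
    rw [e]
  have hPD : ⁅(P : Subgroup G), (P : Subgroup G)⁆ ≤ D := by
    intro x hx χ hχ
    obtain ⟨hirr, d, hd, hpd⟩ := hχ
    show (χ : G → ℂ) x = (χ : G → ℂ) 1
    rw [← hmap] at hx
    obtain ⟨x', hx', rfl⟩ := hx
    have hbotC : (⊥ : Subgroup N) ⊓ Subgroup.centralizer ((PN : Subgroup N) : Set N) = ⊥ :=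
      bot_inf_eq _
    have h1 := kerpd_ge p PN (⊥ : Subgroup N) hbotC (fun n : N => (χ : G → ℂ) n) hirr d
      (by simpa using hd) hpd
    have hnc : x' ∈
        ((⊥ : Subgroup N) ⊔ ⁅(PN : Subgroup N), (PN : Subgroup N)⁆).normalCore := by
      rw [bot_sup_eq, Subgroup.normalCore_eq_self]
      exact hx'
    have h2 := h1 x' hnc
    simpa using h2
  have hDP : D ⊓ (P : Subgroup G) ≤ ⁅(P : Subgroup G), (P : Subgroup G)⁆ := by
    intro x hx
    obtain ⟨hxD, hxP⟩ := Subgroup.mem_inf.mp hx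
    have h1 := kerpd_mem_commutator p PN ⟨x, hPN hxP⟩ ((hPNmem _).mpr hxP) (by
      intro θ hθ d hd hpd
      obtain ⟨χ, hχ, hχθ⟩ := hext' θ hθ d hd hpd
      have hres : (fun n : N => χ n) = θ := funext hχθ
      have h3 : χ 1 = θ 1 := hχθ 1
      have h5 : χ 1 = (d : ℂ) := by rw [h3, hd]
      have h2 : χ x = χ 1 :=
        hxD ⟨χ, hχ⟩ ⟨by rw [hres]; exact hθ, d, h5, hpd⟩
      have h4 : χ x = θ ⟨x, hPN hxP⟩ := hχθ ⟨x, hPN hxP⟩
      rw [← h4, ← h3]
      exact h2)
    have h2 : (⟨x, hPN hxP⟩ : N) ∈ ⁅(PN : Subgroup N), (PN : Subgroup N)⁆ := by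
      rw [← Subgroup.map_subtype_commutator]
      exact ⟨_, h1, rfl⟩
    rw [← hmap]
    exact ⟨_, h2, rfl⟩
  have hfus : ∀ x ∈ (P : Subgroup G), ∀ u ∈ M, u * x * u⁻¹ ∈ (P : Subgroup G) →
      x⁻¹ * (u * x * u⁻¹) ∈ ⁅(P : Subgroup G), (P : Subgroup G)⁆ :=
    fun x hx u hu hy => nc_fusion P M D hPM hPD hDP hself x u hx hu hy
  obtain ⟨K, hKn, hKM, hKP, hMK⟩ := nc_complement P M hPM hfus
  refine ⟨K, hKn, ?_, ?_⟩
  · have h1 := Sylow.normalizer_sup_eq_top' P hPM
    have h1' : N ⊔ M = ⊤ := by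
      rw [hNdef]
      exact h1
    apply top_le_iff.mp
    rw [← h1']
    apply sup_le le_sup_right
    exact le_trans hMK (sup_le_sup_left hPN K)
  · apply le_antisymm _ bot_le
    intro x hx
    obtain ⟨hxK, hxN⟩ := Subgroup.mem_inf.mp hx
    rw [← hKP]
    exact Subgroup.mem_inf.mpr
      ⟨hxK, hself (Subgroup.mem_inf.mpr ⟨hKM hxK, hNdef ▸ hxN⟩)⟩

/-- every irreducible character of a subgroup with a normal complement extends -/
theorem nc_backward {G : Type u} [Group G] [Fintype G] (N K : Subgroup G) [hK : K.Normal]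
    (hsup : K ⊔ N = ⊤) (hinf : K ⊓ N = ⊥) (θ : N → ℂ) (hθ : IsIrrCharacter N θ) :
    ∃ χ : G → ℂ, IsIrrCharacter G χ ∧ ∀ x : N, χ x = θ x := by
  classical
  have : Fintype N := Fintype.ofFinite N
  obtain ⟨φ, hφdef⟩ : ∃ φ : N →* G ⧸ K, φ = (QuotientGroup.mk' K).comp N.subtype := ⟨_, rfl⟩
  have hφ : ∀ n : N, φ n = QuotientGroup.mk' K (n : G) := fun n => by rw [hφdef]; rfl
  have hinj : Function.Injective φ := by
    rw [← MonoidHom.ker_eq_bot_iff]
    apply le_antisymm _ bot_le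
    intro n hn
    rw [MonoidHom.mem_ker, hφ, QuotientGroup.mk'_apply, QuotientGroup.eq_one_iff] at hn
    have h1 : (n : G) ∈ K ⊓ N := Subgroup.mem_inf.mpr ⟨hn, n.2⟩
    rw [hinf, Subgroup.mem_bot] at h1
    rw [Subgroup.mem_bot]
    exact Subtype.ext h1
  have hsurj : Function.Surjective φ := by
    intro q
    obtain ⟨g, rfl⟩ := QuotientGroup.mk'_surjective K q
    have hg : g ∈ K ⊔ N := by
      rw [hsup]
      exact Subgroup.mem_top g
    obtain ⟨k, hk, n, hn, rfl⟩ := Subgroup.mem_sup_of_normal_left.mp hg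
    refine ⟨⟨n, hn⟩, ?_⟩
    rw [hφ, QuotientGroup.mk'_apply, QuotientGroup.mk'_apply, QuotientGroup.eq]
    have e : n⁻¹ * (k * n) = n⁻¹ * k * n := by group
    rw [e]
    exact hK.conj_mem' k hk n
  obtain ⟨e, he⟩ : ∃ e : N ≃* G ⧸ K, ∀ n, e n = φ n :=
    ⟨MulEquiv.ofBijective φ ⟨hinj, hsurj⟩, fun n => rfl⟩
  obtain ⟨r, hrdef⟩ : ∃ r : G →* N, r = e.symm.toMonoidHom.comp (QuotientGroup.mk' K) :=
    ⟨_, rfl⟩
  have hr : ∀ n : N, r n = n := by
    intro n
    rw [hrdef]
    show e.symm (QuotientGroup.mk' K (n : G)) = n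
    rw [MulEquiv.symm_apply_eq, he, hφ]
  refine ⟨θ ∘ r, ?_, fun x => by simp [hr]⟩
  apply isIrr_of_comp_irr N.subtype (IsCharacter.comp_hom (isCharacter_of_isIrrCharacter hθ) r)
  have e2 : (θ ∘ r) ∘ N.subtype = θ := by
    funext n
    simp [hr]
  rw [e2]
  exact hθ

end Cfsg.Agent.Lib.Helper25
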