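import Mathlib
import Cfsg.Prelude
import Cfsg.Agent.Lib.Helper25.PrincipalCover
import Cfsg.Agent.Lib.Helper25.KerPd2
import Cfsg.Agent.Lib.Helper25.Defect0
import Cfsg.Agent.Lib.Helper25.BlockIdem

/-!
# Characters of degree prime to `p` in the principal block lying over a given character

Through the expansion of the characteristic function of the `p`-regular elements in the
principal block: a character of degree prime to `p` of the principal block of a normal subgroup
`N` that extends to `N P` lies under a character of degree prime to `p` of the principal block.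
-/

set_option autoImplicit false

namespace Cfsg.Agent.Lib.Helper25

open Cfsg Cfsg.Agent.Lib.Helper2 Cfsg.Agent.Lib.Helper8

open scoped ComplexConjugate

section regind

variable {K : Type*} [Group K] {p : ℕ} {M : Ideal AlgInt}

/-- the characteristic function of the `p`-regular elements -/
noncomputable def regInd (p : ℕ) (K : Type*) [Group K] : K → ℂ :=
  fun g => if p ∣ orderOf g then 0 else 1

theorem regInd_isClassFunction : IsClassFunction K (regInd p K) := by
  intro g h
  show (if p ∣ orderOf (h * g * h⁻¹) then (0 : ℂ) else 1) = if p ∣ orderOf g then 0 else 1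
  have e := orderOf_injective (MulAut.conj h).toMonoidHom (MulAut.conj h).injective g
  have e' : orderOf (h * g * h⁻¹) = orderOf g := e
  rw [e']

theorem regInd_memLocalRing (M : Ideal AlgInt) [M.IsPrime] (g : K) :
    MemLocalRing M (regInd p K g) := by
  show MemLocalRing M (if p ∣ orderOf g then (0 : ℂ) else 1)
  split_ifs
  · exact memLocalRing_zero M
  · exact memLocalRing_one M

theorem regInd_inv (g : K) : regInd p K g⁻¹ = regInd p K g := by
  show (if p ∣ orderOf g⁻¹ then (0 : ℂ) else 1) = if p ∣ orderOf g then 0 else 1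
  rw [orderOf_inv]

theorem regInd_coe (H : Subgroup K) (h : H) : regInd p K (h : K) = regInd p H h := by
  show (if p ∣ orderOf (h : K) then (0 : ℂ) else 1) = if p ∣ orderOf h then 0 else 1
  rw [Subgroup.orderOf_coe]

variable [Fintype K]

/-- the inner product with the characteristic function of the `p`-regular elements -/
theorem classInner_regInd (χ : IrrCharacter K) :
    classInner (regInd p K) (χ : K → ℂ)
      = (Nat.card K : ℂ)⁻¹ * ((χ : K → ℂ) 1 * omegaFun (χ : K → ℂ) (regInd p K)) := by
  obtain ⟨d, hd1, hdpos, -, -⟩ := irr_degree χ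
  have hne : (χ : K → ℂ) 1 ≠ 0 := by
    rw [hd1]
    exact_mod_cast hdpos.ne'
  rw [classInner_def]
  congr 1
  unfold omegaFun
  rw [mul_div_cancel₀ _ hne]
  rw [← Equiv.sum_comp (Equiv.inv K)]
  apply Finset.sum_congr rfl
  intro g _
  rw [irr_conj_eq_inv]
  simp only [Equiv.inv_apply, inv_inv]
  rw [regInd_inv]

/-- for a character of the principal block, the central character at the sum of the
`p`-regular elements is a unit of the local ring -/
theorem omegaFun_regInd [Fact p.Prime] (hM : IsPModular p M) (χ : IrrCharacter K)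
    (hχ : χ ∈ principalBlock M K) :
    MemLocalRing M (omegaFun (χ : K → ℂ) (regInd p K)) ∧
      ¬ MemLocalIdeal M (omegaFun (χ : K → ℂ) (regInd p K)) := by
  classical
  have hpr := isPrime_of_isPModular hM
  have hr := regInd_isClassFunction (p := p) (K := K)
  have hR : ∀ g, MemLocalRing M (regInd p K g) := regInd_memLocalRing M
  refine ⟨omegaFun_memLocalRing hM χ _ hr hR, ?_⟩
  have h1 := omegaFun_sub_mem hM (⟨fun _ => 1, isIrrCharacter_one⟩ : IrrCharacter K) χ hχ
    _ hr hR
  have h2 : omegaFun (fun _ : K => (1 : ℂ)) (regInd p K)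
      = (Nat.card {g : K // ¬ p ∣ orderOf g} : ℂ) := by
    unfold omegaFun
    rw [div_one, Nat.card_eq_fintype_card, Fintype.card_subtype, Finset.card_filter]
    push_cast
    apply Finset.sum_congr rfl
    intro g _
    rw [mul_one]
    show (if p ∣ orderOf g then (0 : ℂ) else 1) = if ¬ p ∣ orderOf g then 1 else 0
    split_ifs <;> rfl
  intro h0
  have h4 : MemLocalIdeal M ((Nat.card {g : K // ¬ p ∣ orderOf g} : ℕ) : ℂ) := by
    have h5 : (omegaFun (fun _ : K => (1 : ℂ)) (regInd p K)
          - omegaFun (χ : K → ℂ) (regInd p K)) + omegaFun (χ : K → ℂ) (regInd p K)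
        = ((Nat.card {g : K // ¬ p ∣ orderOf g} : ℕ) : ℂ) := by
      rw [sub_add_cancel, h2]
    rw [← h5]
    exact MemLocalIdeal.add M h1 h0
  exact not_dvd_card_regular p ((memLocalIdeal_natCast_iff hM _).mp h4)

end regind

/-- the `p`-regular elements of `N P` lie in `N` -/
theorem mem_normal_of_regular {G : Type*} [Group G] [Finite G] {p : ℕ} [hp : Fact p.Prime]
    (N : Subgroup G) [N.Normal] (P : Sylow p G) {h : G} (hh : h ∈ N ⊔ (P : Subgroup G))
    (hreg : ¬ p ∣ orderOf h) : h ∈ N := by
  obtain ⟨n, hn, u, hu, rfl⟩ := Subgroup.mem_sup_of_normal_left.mp hh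
  have h1 : (QuotientGroup.mk' N) (n * u) = (QuotientGroup.mk' N) u := by
    rw [map_mul, QuotientGroup.mk'_apply, (QuotientGroup.eq_one_iff n).mpr hn, one_mul]
  have h2 : orderOf ((QuotientGroup.mk' N) u) ∣ orderOf u := orderOf_map_dvd _ u
  obtain ⟨k, hk⟩ := P.isPGroup' ⟨u, hu⟩
  have h3 : orderOf u ∣ p ^ k := by
    apply orderOf_dvd_of_pow_eq_one
    have := congrArg Subtype.val hk
    simpa using this
  have h4 : orderOf ((QuotientGroup.mk' N) (n * u)) ∣ orderOf (n * u) := orderOf_map_dvd _ _
  have h5 : (orderOf (n * u)).Coprime (p ^ k) :=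
    Nat.Coprime.pow_right k ((Nat.Prime.coprime_iff_not_dvd hp.out).mpr hreg).symm
  have h6 : orderOf ((QuotientGroup.mk' N) (n * u)) = 1 :=
    Nat.eq_one_of_dvd_coprimes h5 h4 (h1 ▸ h2.trans h3)
  have h7 := orderOf_eq_one_iff.mp h6
  exact (QuotientGroup.eq_one_iff _).mp h7

section main

variable {G : Type*} [Group G] [Fintype G] {p : ℕ} {M : Ideal AlgInt}

set_option maxHeartbeats 1600000 in
/-- a character of degree prime to `p` of the principal block of the normal subgroup `N` that
extends to `N P` lies under a character of degree prime to `p` of the principal block -/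
theorem exists_pprime_principal_over [hp : Fact p.Prime] (hM : IsPModular p M)
    (N : Subgroup G) [hN : N.Normal] [Fintype N] (P : Sylow p G)
    (θ : IrrCharacter N) (hθ : θ ∈ principalBlock M N)
    (hdeg : ¬ p ∣ charDegree (θ : N → ℂ))
    (H : Subgroup G) (hH : H = N ⊔ (P : Subgroup G)) [Fintype H] (hNH : N ≤ H)
    (η : IrrCharacter H)
    (hη : ∀ n : N, (η : H → ℂ) (Subgroup.inclusion hNH n) = (θ : N → ℂ) n) :
    ∃ χ : IrrCharacter G, χ ∈ principalBlock M G ∧ ¬ p ∣ charDegree (χ : G → ℂ) ∧
      classInner (fun n : N => (χ : G → ℂ) n) (θ : N → ℂ) ≠ 0 := by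
  classical
  have hpr := isPrime_of_isPModular hM
  have : Fintype (IrrCharacter G) := Fintype.ofFinite _
  have hr := regInd_isClassFunction (p := p) (K := G)
  have hexp := class_fun_expand (regInd p G) hr
  have hzero : ∀ χ : IrrCharacter G, χ ∉ principalBlock M G →
      classInner (regInd p G) (χ : G → ℂ) = 0 := by
    intro χ hχ
    have h := sum_regular_conj_mul_eq_zero hM (principalBlock M G) (blockClosed_principal M)
      χ hχ ⟨fun _ => 1, isIrrCharacter_one⟩ (sameBlock_refl M _)
    rw [classInner_def]
    have h' : ∑ g : G, regInd p G g * conj ((χ : G → ℂ) g) = 0 := by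
      refine Eq.trans (Finset.sum_congr rfl ?_) h
      intro g _
      show _ * _ = _ * (_ * (1 : ℂ))
      rw [mul_one]
      rfl
    rw [h', mul_zero]
  have hres : classInner (fun h : H => regInd p G h) (η : H → ℂ)
      = ∑ χ : IrrCharacter G, classInner (regInd p G) (χ : G → ℂ)
        * classInner (fun h : H => (χ : G → ℂ) h) (η : H → ℂ) := by
    have e : (fun h : H => regInd p G h) = fun h : H => ∑ χ : IrrCharacter G,
        classInner (regInd p G) (χ : G → ℂ) * (χ : G → ℂ) h := by
      funext h
      have h1 := congrFun hexp (h : G)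
      rw [Finset.sum_apply] at h1
      exact h1
    rw [e]
    exact classInner_sum_mul Finset.univ _ (fun (χ : IrrCharacter G) (h : H) => (χ : G → ℂ) h) _
  -- the left side
  have hηd := irr_degree η
  obtain ⟨dη, hdη1, hdηpos, -, -⟩ := hηd
  have hηne : (η : H → ℂ) 1 ≠ 0 := by
    rw [hdη1]
    exact_mod_cast hdηpos.ne'
  obtain ⟨dθ, hdθ1, hdθpos, -, hdθc⟩ := irr_degree θ
  have hθne : (θ : N → ℂ) 1 ≠ 0 := by
    rw [hdθ1]
    exact_mod_cast hdθpos.ne'
  have hsum : ∑ h : H, regInd p H h * (η : H → ℂ) h
      = ∑ n : N, regInd p N n * (θ : N → ℂ) n := by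
    symm
    apply Finset.sum_of_injOn (Subgroup.inclusion hNH)
    · intro a _ b _ hab
      exact Subgroup.inclusion_injective hNH hab
    · intro a _
      exact Finset.mem_coe.mpr (Finset.mem_univ _)
    · intro h _ hnot
      have hnN : (h : G) ∉ N := by
        intro hmem
        apply hnot
        exact ⟨⟨(h : G), hmem⟩, Finset.mem_coe.mpr (Finset.mem_univ _), Subtype.ext rfl⟩
      have hdvd : p ∣ orderOf h := by
        by_contra hreg
        apply hnN
        apply mem_normal_of_regular N P (hH ▸ h.2)
        rw [Subgroup.orderOf_coe]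
        exact hreg
      show (if p ∣ orderOf h then (0 : ℂ) else 1) * _ = 0
      rw [if_pos hdvd, zero_mul]
    · intro n _
      rw [hη n]
      congr 1
      rw [← regInd_coe, ← regInd_coe]
      rfl
  have hL : classInner (fun h : H => regInd p G h) (η : H → ℂ)
      = (Nat.card H : ℂ)⁻¹ * ((θ : N → ℂ) 1 * omegaFun (θ : N → ℂ) (regInd p N)) := by
    have e1 : (fun h : H => regInd p G h) = regInd p H := by
      funext h
      exact regInd_coe H h
    rw [e1, classInner_regInd]
    congr 1
    unfold omegaFun
    rw [mul_div_cancel₀ _ hηne, mul_div_cancel₀ _ hθne]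
    exact hsum
  have hcard : (Nat.card G : ℂ) = (Nat.card H : ℂ) * (H.index : ℂ) := by
    exact_mod_cast (Subgroup.card_mul_index H).symm
  have hHne : (Nat.card H : ℂ) ≠ 0 := card_ne_zero_complex H
  have hGne : (Nat.card G : ℂ) ≠ 0 := card_ne_zero_complex G
  have hkey : (H.index : ℂ) * ((θ : N → ℂ) 1 * omegaFun (θ : N → ℂ) (regInd p N))
      = ∑ χ : IrrCharacter G, ((χ : G → ℂ) 1 * omegaFun (χ : G → ℂ) (regInd p G))
        * classInner (fun h : H => (χ : G → ℂ) h) (η : H → ℂ) := by
    have h1 : (H.index : ℂ) * ((θ : N → ℂ) 1 * omegaFun (θ : N → ℂ) (regInd p N))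
        = (Nat.card G : ℂ) * classInner (fun h : H => regInd p G h) (η : H → ℂ) := by
      rw [hL, hcard]
      field_simp
    rw [h1, hres, Finset.mul_sum]
    apply Finset.sum_congr rfl
    intro χ _
    rw [classInner_regInd]
    field_simp
  by_contra hcon
  push Not at hcon
  -- the right side lies in the ideal
  have hRI : MemLocalIdeal M (∑ χ : IrrCharacter G,
      ((χ : G → ℂ) 1 * omegaFun (χ : G → ℂ) (regInd p G))
        * classInner (fun h : H => (χ : G → ℂ) h) (η : H → ℂ)) := by
    apply memLocalIdeal_sum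
    intro χ _
    by_cases hχB : χ ∈ principalBlock M G
    · obtain ⟨m, hm⟩ := classInner_isCharacter_nat
        (IsCharacter.restrict (isCharacter_of_isIrrCharacter χ.2) H)
        (isCharacter_of_isIrrCharacter η.2)
      by_cases hm0 : m = 0
      · rw [hm, hm0, Nat.cast_zero, mul_zero]
        exact memLocalIdeal_zero M
      · have hpd : p ∣ charDegree (χ : G → ℂ) := by
          by_contra hnd
          have h0 := hcon χ hχB hnd
          have h1 : classInner ((χ : G → ℂ) ∘ H.subtype) (η : H → ℂ) ≠ 0 := by
            have e : ((χ : G → ℂ) ∘ H.subtype) = fun h : H => (χ : G → ℂ) h := rfl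
            rw [e, hm]
            exact_mod_cast hm0
          have h2 : classInner ((η : H → ℂ) ∘ Subgroup.inclusion hNH) (θ : N → ℂ) ≠ 0 := by
            have e : ((η : H → ℂ) ∘ Subgroup.inclusion hNH) = (θ : N → ℂ) := funext hη
            rw [e, classInner_irr_self θ.2]
            exact one_ne_zero
          exact kerpd_over_trans H.subtype (Subgroup.inclusion hNH)
            (isCharacter_of_isIrrCharacter χ.2) η.2 θ.2 h1 h2 h0
        obtain ⟨d, hd1, -, -, hcd⟩ := irr_degree χ
        rw [hd1, hm]
        have hdI : MemLocalIdeal M (d : ℂ) := (memLocalIdeal_natCast_iff hM d).mpr (hcd ▸ hpd)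
        exact MemLocalIdeal.mul_right M
          (MemLocalIdeal.mul_right M hdI (omegaFun_regInd hM χ hχB).1) (memLocalRing_natCast M m)
    · have h1 : (χ : G → ℂ) 1 * omegaFun (χ : G → ℂ) (regInd p G) = 0 := by
        have h2 := hzero χ hχB
        rw [classInner_regInd] at h2
        rcases mul_eq_zero.mp h2 with h3 | h3
        · exact absurd (inv_eq_zero.mp h3) hGne
        · exact h3
      rw [h1, zero_mul]
      exact memLocalIdeal_zero M
  rw [← hkey] at hRI
  obtain ⟨hΩ1, hΩ2⟩ := omegaFun_regInd hM θ hθ
  have hθR : MemLocalRing M ((θ : N → ℂ) 1) := by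
    rw [hdθ1]
    exact memLocalRing_natCast M dθ
  rcases MemLocalIdeal.of_mul M (memLocalRing_natCast M _) (MemLocalRing.mul M hθR hΩ1) hRI
    with h1 | h1
  · have h2 : p ∣ H.index := (memLocalIdeal_natCast_iff hM _).mp h1
    have hPH : (P : Subgroup G) ≤ H := hH ▸ le_sup_right
    exact P.not_dvd_index (h2.trans (Subgroup.index_dvd_of_le hPH))
  · rcases MemLocalIdeal.of_mul M hθR hΩ1 h1 with h2 | h2
    · rw [hdθ1] at h2
      exact hdeg (hdθc ▸ (memLocalIdeal_natCast_iff hM _).mp h2)
    · exact hΩ2 h2

end main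

end Cfsg.Agent.Lib.Helper25
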