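import Mathlib
import Cfsg.Prelude
import Cfsg.Agent.Lib.Helper25.PrimeOver

/-!
# Counting Galois-fixed characters over the `p`-residual, part 1: general lemmas

The principal block is detected by the sum over the `p`-regular elements; power maps that act
as `g ↦ g ^ (1 + p)` on `p`-elements and trivially on `p`-regular elements have exponent prime
to the group order; the homomorphisms to the units of `ℂ` of exponent `p` trivial on a normal
subgroup with nontrivial cyclic quotient of `p`-power order.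
-/

set_option autoImplicit false

namespace Cfsg.Agent.Lib.Helper25

open Cfsg Cfsg.Agent.Lib.Helper2 Cfsg.Agent.Lib.Helper8

open scoped ComplexConjugate

/-- a character with nonzero sum over the `p`-regular elements lies in the principal block -/
theorem principal_of_regsum_ne_zero {K : Type*} [Group K] [Fintype K] {p : ℕ}
    {M : Ideal AlgInt} [Fact p.Prime] (hM : IsPModular p M) (χ : IrrCharacter K)
    (h : ∑ g : K, regInd p K g * (χ : K → ℂ) g ≠ 0) : χ ∈ principalBlock M K := by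
  classical
  have hpr := isPrime_of_isPModular hM
  by_contra hχ
  apply h
  have h1 := sum_regular_conj_mul_eq_zero hM (principalBlock M K) (blockClosed_principal M) χ hχ
    ⟨fun _ => 1, isIrrCharacter_one⟩ (sameBlock_refl M _)
  have h2 := congrArg conj h1
  rw [map_sum, map_zero] at h2
  refine Eq.trans (Finset.sum_congr rfl ?_) h2
  intro y _
  rw [map_mul, map_mul, Complex.conj_conj]
  show (if p ∣ orderOf y then (0 : ℂ) else 1) * _
    = conj (if p ∣ orderOf y then (0 : ℂ) else 1) * (_ * conj (1 : ℂ))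
  split_ifs <;> simp

/-- a character of the principal block has nonzero sum over the `p`-regular elements -/
theorem regsum_ne_zero_of_principal {K : Type*} [Group K] [Fintype K] {p : ℕ}
    {M : Ideal AlgInt} [Fact p.Prime] (hM : IsPModular p M) (χ : IrrCharacter K)
    (hχ : χ ∈ principalBlock M K) : ∑ g : K, regInd p K g * (χ : K → ℂ) g ≠ 0 :=
  sum_regular_ne_zero hM χ hχ

/-- the sum over the `p`-regular elements, computed in a subgroup containing them -/
theorem regsum_restrict {G : Type*} [Group G] [Fintype G] (p : ℕ) (N : Subgroup G) [Fintype N]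
    (hreg : ∀ g : G, ¬ p ∣ orderOf g → g ∈ N) (χ : G → ℂ) :
    ∑ g : G, regInd p G g * χ g = ∑ n : N, regInd p N n * χ n := by
  symm
  apply Finset.sum_of_injOn (fun n : N => (n : G))
  · intro a _ b _ hab
    exact Subtype.ext hab
  · intro a _
    exact Finset.mem_coe.mpr (Finset.mem_univ _)
  · intro g _ hnot
    have hgN : g ∉ N := fun hmem =>
      hnot ⟨⟨g, hmem⟩, Finset.mem_coe.mpr (Finset.mem_univ _), rfl⟩
    have hdvd : p ∣ orderOf g := by
      by_contra h
      exact hgN (hreg g h)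
    show (if p ∣ orderOf g then (0 : ℂ) else 1) * _ = 0
    rw [if_pos hdvd, zero_mul]
  · intro n _
    rw [regInd_coe]

/-- the exponent of a power map acting as `g ↦ g ^ (1 + p)` on the `p`-elements and trivially
on the `p`-regular elements is prime to the group order -/
theorem coprime_card_of_pow_maps {G : Type*} [Group G] [Finite G] (p : ℕ) [hp : Fact p.Prime]
    (k : ℕ) (hk₁ : ∀ g : G, (∃ j : ℕ, orderOf g = p ^ j) → g ^ k = g ^ (1 + p))
    (hk₂ : ∀ g : G, Nat.Coprime (orderOf g) p → g ^ k = g) : k.Coprime (Nat.card G) := by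
  by_contra hcon
  obtain ⟨q, hq, hqd⟩ := Nat.exists_prime_and_dvd hcon
  have hqk : q ∣ k := hqd.trans (Nat.gcd_dvd_left _ _)
  have hqG : q ∣ Nat.card G := hqd.trans (Nat.gcd_dvd_right _ _)
  have : Fact q.Prime := ⟨hq⟩
  obtain ⟨g, hg⟩ := exists_prime_orderOf_dvd_card' q hqG
  have hgk : g ^ k = 1 := by
    rw [← orderOf_dvd_iff_pow_eq_one, hg]
    exact hqk
  by_cases hqp : q = p
  · have h1 := hk₁ g ⟨1, by rw [hg, hqp, pow_one]⟩
    rw [hgk] at h1
    have h2 : orderOf g ∣ 1 + p := orderOf_dvd_of_pow_eq_one h1.symm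
    rw [hg, hqp] at h2
    have h3 : p ∣ 1 := (Nat.dvd_add_left (dvd_refl p)).mp h2
    exact hp.out.one_lt.ne' (Nat.dvd_one.mp h3)
  · have hcop : Nat.Coprime (orderOf g) p := by
      rw [hg]
      exact (Nat.coprime_primes hq hp.out).mpr hqp
    have h1 := hk₂ g hcop
    rw [hgk] at h1
    rw [← h1, orderOf_one] at hg
    exact hq.one_lt.ne' hg.symm

/-- the homomorphisms to the units of `ℂ` of exponent `p` trivial on a normal subgroup with
nontrivial cyclic quotient of `p`-power order: there are `p` of them -/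
theorem card_hom_ptorsion {G : Type*} [Group G] [Finite G] (p : ℕ) [hp : Fact p.Prime]
    (N : Subgroup G) [hN : N.Normal] (hcyc : IsCyclic (G ⧸ N)) (a : ℕ) (ha : 0 < a)
    (hidx : N.index = p ^ a) :
    Nat.card {Λ : G →* ℂˣ // N ≤ Λ.ker ∧ ∀ g, Λ g ^ p = 1} = p := by
  classical
  obtain ⟨c, hc⟩ := hcyc.exists_generator
  obtain ⟨c₀, rfl⟩ := QuotientGroup.mk_surjective c
  have hord : orderOf (c₀ : G ⧸ N) = p ^ a := by
    rw [orderOf_eq_card_of_forall_mem_zpowers hc, ← Subgroup.index_eq_card, hidx]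
  have : NeZero p := ⟨hp.out.ne_zero⟩
  have key : Nat.card {Λ : G →* ℂˣ // N ≤ Λ.ker ∧ ∀ g, Λ g ^ p = 1}
      = Nat.card (rootsOfUnity p ℂ) := by
    apply Nat.card_congr
    refine Equiv.ofBijective
      (fun Λ => ⟨Λ.1 c₀, by rw [mem_rootsOfUnity]; exact Λ.2.2 c₀⟩) ⟨?_, ?_⟩
    · intro Λ₁ Λ₂ h
      have h' : Λ₁.1 c₀ = Λ₂.1 c₀ := congrArg Subtype.val h
      apply Subtype.ext
      apply MonoidHom.ext
      intro g
      obtain ⟨i, hi⟩ := Subgroup.mem_zpowers_iff.mp (hc (g : G ⧸ N))
      have hmem : (c₀ ^ i)⁻¹ * g ∈ N := by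
        rw [← QuotientGroup.eq]
        exact hi
      have h1 : Λ₁.1 ((c₀ ^ i)⁻¹ * g) = 1 := MonoidHom.mem_ker.mp (Λ₁.2.1 hmem)
      have h2 : Λ₂.1 ((c₀ ^ i)⁻¹ * g) = 1 := MonoidHom.mem_ker.mp (Λ₂.2.1 hmem)
      rw [map_mul, map_inv] at h1 h2
      have e1 : Λ₁.1 g = Λ₁.1 (c₀ ^ i) := (inv_mul_eq_one.mp h1).symm
      have e2 : Λ₂.1 g = Λ₂.1 (c₀ ^ i) := (inv_mul_eq_one.mp h2).symm
      rw [e1, e2, map_zpow, map_zpow, h']
    · intro ζ
      have hζ : (ζ : ℂˣ) ^ p = 1 := (mem_rootsOfUnity _ _).mp ζ.2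
      have hdvd : orderOf (ζ : ℂˣ) ∣ orderOf (c₀ : G ⧸ N) := by
        rw [hord]
        exact (orderOf_dvd_of_pow_eq_one hζ).trans (dvd_pow_self p ha.ne')
      obtain ⟨μ, hμ⟩ : ∃ μ : G ⧸ N →* ℂˣ, μ = monoidHomOfForallMemZpowers hc hdvd := ⟨_, rfl⟩
      have hμc : μ (c₀ : G ⧸ N) = ζ := by
        rw [hμ]
        exact monoidHomOfForallMemZpowers_apply_gen hc hdvd
      refine ⟨⟨μ.comp (QuotientGroup.mk' N), ?_, ?_⟩, ?_⟩
      · intro n hn
        rw [MonoidHom.mem_ker, MonoidHom.comp_apply, QuotientGroup.mk'_apply,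
          (QuotientGroup.eq_one_iff n).mpr hn, map_one]
      · intro g
        rw [MonoidHom.comp_apply]
        obtain ⟨i, hi⟩ := Subgroup.mem_zpowers_iff.mp (hc (QuotientGroup.mk' N g))
        rw [← hi, map_zpow, hμc, ← zpow_natCast, ← zpow_mul, mul_comm, zpow_mul, zpow_natCast,
          hζ, one_zpow]
      · apply Subtype.ext
        exact hμc
  rw [key]
  exact (Complex.isPrimitiveRoot_exp p hp.out.ne_zero).card_rootsOfUnity

end Cfsg.Agent.Lib.Helper25
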