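import Mathlib
import Cfsg.Prelude
import Cfsg.Agent.Lib.Helper25.PResCount1
import Cfsg.Agent.Lib.Helper25.KerPd2
import Cfsg.Agent.Lib.Helper2.PResSquares
import Cfsg.Agent.Lib.Helper2.CycCanon
import Cfsg.Agent.Lib.Helper12.GaloisTwist
import Cfsg.Agent.Lib.Helper14.Residual
import Cfsg.Agent.S0856

/-!
# Counting Galois-fixed characters over the `p`-residual, part 2

If `G / O^p(G)` is cyclic and nontrivial, the characters of degree prime to `p` in the principal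
block of `G` fixed by the Galois automorphism `σ` (raising `p`-power roots of unity to the power
`1 + p`) are the products of the canonical extensions of the `σ`-fixed invariant characters of
degree prime to `p` in the principal block of `O^p(G)` with the `p` linear characters of
`G / O^p(G)` of order dividing `p`.
-/

set_option autoImplicit false

namespace Cfsg.Agent.Lib.Helper25

open Cfsg Cfsg.Agent.Lib.Helper2 Cfsg.Agent.Lib.Helper8

open scoped ComplexConjugate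

universe u

set_option maxHeartbeats 3200000 in
theorem pres_count {G : Type u} [Group G] [Finite G] (p : ℕ) [hp : Fact p.Prime]
    (M : Ideal AlgInt) (hM : IsPModular p M) (P : Sylow p G) (N : Subgroup G) [hN : N.Normal]
    (hNres : N = pResidual p G) (hcyc : IsCyclic (G ⧸ N)) (hnt : N ≠ ⊤) (k : ℕ)
    (hk₁ : ∀ g : G, (∃ j : ℕ, orderOf g = p ^ j) → g ^ k = g ^ (1 + p))
    (hk₂ : ∀ g : G, Nat.Coprime (orderOf g) p → g ^ k = g) :
    Nat.card {χ : IrrCharacter G // χ ∈ principalBlock M G ∧ ¬ p ∣ charDegree (χ : G → ℂ) ∧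
        ∀ g : G, (χ : G → ℂ) (g ^ k) = (χ : G → ℂ) g}
      = p * Nat.card {θ : IrrCharacter ↥N // θ ∈ principalBlock M ↥N ∧
          ¬ p ∣ charDegree (θ : ↥N → ℂ) ∧
          (∀ x ∈ (P : Subgroup G), ∀ n : ↥N,
            (θ : ↥N → ℂ) ⟨x * n * x⁻¹, hN.conj_mem n n.2 x⟩ = (θ : ↥N → ℂ) n) ∧
          ∀ n : ↥N, (θ : ↥N → ℂ) (n ^ k) = (θ : ↥N → ℂ) n} := by
  classical
  have hpr : p.Prime := hp.out
  have : Fintype G := Fintype.ofFinite G
  have : Fintype N := Fintype.ofFinite N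
  obtain ⟨a, ha⟩ : ∃ a : ℕ, N.index = p ^ a := by
    subst hNres
    exact Cfsg.Agent.Lib.Helper14.exists_index_pResidual p
  have hapos : 0 < a := by
    rcases Nat.eq_zero_or_pos a with h0 | h0
    · exfalso
      apply hnt
      rw [← Subgroup.index_eq_one, ha, h0, pow_zero]
    · exact h0
  have hkcop := coprime_card_of_pow_maps p k hk₁ hk₂
  -- `G = N P`
  have hsup : N ⊔ (P : Subgroup G) = ⊤ := by
    rw [← Subgroup.index_eq_one]
    have h1 : (N ⊔ (P : Subgroup G)).index ∣ p ^ a := ha ▸ Subgroup.index_dvd_of_le le_sup_left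
    have h2 : (N ⊔ (P : Subgroup G)).index ∣ (P : Subgroup G).index :=
      Subgroup.index_dvd_of_le le_sup_right
    obtain ⟨j, -, hj⟩ := (Nat.dvd_prime_pow hpr).mp h1
    rcases Nat.eq_zero_or_pos j with h0 | h0
    · rw [hj, h0, pow_zero]
    · exfalso
      apply P.not_dvd_index
      refine Dvd.dvd.trans ?_ h2
      rw [hj]
      exact dvd_pow_self p h0.ne'
  have hdecomp : ∀ g : G, ∃ n ∈ N, ∃ u ∈ (P : Subgroup G), n * u = g := fun g =>
    Subgroup.mem_sup_of_normal_left.mp (hsup ▸ Subgroup.mem_top g)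
  have hreg : ∀ g : G, ¬ p ∣ orderOf g → g ∈ N := fun g hg =>
    mem_normal_of_regular N P (hsup ▸ Subgroup.mem_top g) hg
  have hkP : ∀ u ∈ (P : Subgroup G), u ^ k = u ^ (1 + p) := by
    intro u hu
    apply hk₁
    obtain ⟨j, hj⟩ := P.isPGroup' ⟨u, hu⟩
    have h1 : u ^ p ^ j = 1 := by
      have := congrArg Subtype.val hj
      simpa using this
    obtain ⟨i, -, hi⟩ := (Nat.dvd_prime_pow hpr).mp (orderOf_dvd_of_pow_eq_one h1)
    exact ⟨i, hi⟩
  have hΛk : ∀ Λ : G →* ℂˣ, N ≤ Λ.ker → ∀ g : G, ∃ u ∈ (P : Subgroup G), Λ g = Λ u := by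
    intro Λ hΛ g
    obtain ⟨n, hn, u, hu, rfl⟩ := hdecomp g
    exact ⟨u, hu, by rw [map_mul, MonoidHom.mem_ker.mp (hΛ hn), one_mul]⟩
  -- the canonical extension
  have hcanon : ∀ θ : N → ℂ, IsIrrCharacter N θ →
      (∀ (g : G) (n : N), θ ⟨g * n * g⁻¹, hN.conj_mem (n : G) n.2 g⟩ = θ n) →
      ¬ p ∣ charDegree θ →
      ∃ χ : G → ℂ, IsIrrCharacter G χ ∧ (∀ n : N, χ n = θ n) ∧ ¬ p ∣ detOrder χ ∧
        ∀ χ' : G → ℂ, IsIrrCharacter G χ' → (∀ n : N, χ' n = θ n) →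
          ¬ p ∣ detOrder χ' → χ' = χ := by
    subst hNres
    intro θ hθ hinv hpd
    exact exists_unique_ext_pResidual p hθ hinv hpd
  have hcanonσ : ∀ θ : N → ℂ, IsIrrCharacter N θ →
      (∀ (g : G) (n : N), θ ⟨g * n * g⁻¹, hN.conj_mem (n : G) n.2 g⟩ = θ n) →
      ¬ p ∣ charDegree θ → (∀ n : N, θ (n ^ k) = θ n) →
      ∃ χ : G → ℂ, IsIrrCharacter G χ ∧ (∀ n : N, χ n = θ n) ∧ ∀ g, χ (g ^ k) = χ g := by
    intro θ hθ hinv hpd hσ
    obtain ⟨χ, hχ, hext, hdet, huniq⟩ := hcanon θ hθ hinv hpd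
    refine ⟨χ, hχ, hext, ?_⟩
    obtain ⟨τ, hτ⟩ := Cfsg.Agent.Lib.Helper12.exists_galois_twist G k hkcop
    have hχc := isCharacter_of_isIrrCharacter hχ
    have hψeq : (τ ∘ χ) = fun g => χ (g ^ k) := by
      funext g
      exact hτ χ hχc g
    have hψirr : IsIrrCharacter G (fun g => χ (g ^ k)) :=
      Cfsg.Agent.Lib.Helper12.isIrrCharacter_pow_coprime k hkcop hχ
    have hψext : ∀ n : N, (fun g => χ (g ^ k)) n = θ n := by
      intro n
      show χ ((n : G) ^ k) = θ n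
      have e : ((n ^ k : N) : G) = (n : G) ^ k := Subgroup.coe_pow N n k
      rw [← e, hext, hσ]
    have hψdet : ¬ p ∣ detOrder (fun g => χ (g ^ k)) := by
      rw [← hψeq, detOrder_comp_ringEquiv hχc τ]
      exact hdet
    have e := huniq _ hψirr hψext hψdet
    intro g
    exact congrFun e g
  have hGinv : ∀ θ : N → ℂ, IsIrrCharacter N θ →
      (∀ x ∈ (P : Subgroup G), ∀ n : N, θ ⟨x * n * x⁻¹, hN.conj_mem n n.2 x⟩ = θ n) →
      ∀ (g : G) (n : N), θ ⟨g * n * g⁻¹, hN.conj_mem (n : G) n.2 g⟩ = θ n := by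
    intro θ hθ hP g n
    obtain ⟨m, hm, u, hu, rfl⟩ := hdecomp g
    have h1 := hP u hu n
    have h2 := isClassFunction_of_isIrrCharacter hθ
      (⟨u * n * u⁻¹, hN.conj_mem n n.2 u⟩ : N) ⟨m, hm⟩
    rw [← h1, ← h2]
    congr 1
    apply Subtype.ext
    simp only [Subgroup.coe_mul, Subgroup.coe_inv]
    group
  -- the three index sets
  let PB : IrrCharacter ↥N → Prop := fun θ => θ ∈ principalBlock M ↥N ∧
    ¬ p ∣ charDegree (θ : ↥N → ℂ) ∧
    (∀ x ∈ (P : Subgroup G), ∀ n : ↥N,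
      (θ : ↥N → ℂ) ⟨x * n * x⁻¹, hN.conj_mem n n.2 x⟩ = (θ : ↥N → ℂ) n) ∧
    ∀ n : ↥N, (θ : ↥N → ℂ) (n ^ k) = (θ : ↥N → ℂ) n
  let PA : IrrCharacter G → Prop := fun χ => χ ∈ principalBlock M G ∧
    ¬ p ∣ charDegree (χ : G → ℂ) ∧ ∀ g : G, (χ : G → ℂ) (g ^ k) = (χ : G → ℂ) g
  show Nat.card {χ : IrrCharacter G // PA χ} = p * Nat.card {θ : IrrCharacter ↥N // PB θ}
  have hT : Nat.card {Λ : G →* ℂˣ // N ≤ Λ.ker ∧ ∀ g, Λ g ^ p = 1} = p :=
    card_hom_ptorsion p N hcyc a hapos ha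
  have hex : ∀ θ : {θ : IrrCharacter ↥N // PB θ}, ∃ χ : G → ℂ, IsIrrCharacter G χ ∧
      (∀ n : N, χ n = (θ.1 : N → ℂ) n) ∧ ∀ g, χ (g ^ k) = χ g :=
    fun θ => hcanonσ θ.1.1 θ.1.2 (hGinv θ.1.1 θ.1.2 θ.2.2.2.1) θ.2.2.1 θ.2.2.2.2
  choose ext hext_irr hext hextσ using hex
  -- twists by linear characters of exponent `p`
  have hΛfix : ∀ Λ : G →* ℂˣ, N ≤ Λ.ker → (∀ g, Λ g ^ p = 1) → ∀ g, Λ (g ^ k) = Λ g := by
    intro Λ hΛN hΛp g
    obtain ⟨u, hu, hgu⟩ := hΛk Λ hΛN g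
    rw [map_pow, hgu, ← map_pow, hkP u hu, map_pow, pow_add, pow_one, hΛp u, mul_one]
  have hFmem : ∀ (θ : {θ : IrrCharacter ↥N // PB θ})
      (Λ : {Λ : G →* ℂˣ // N ≤ Λ.ker ∧ ∀ g, Λ g ^ p = 1}),
      PA ⟨(fun g => ((Λ.1 g : ℂˣ) : ℂ)) * ext θ, isIrrCharacter_hom_mul Λ.1 (hext_irr θ)⟩ := by
    intro θ Λ
    refine ⟨?_, ?_, ?_⟩
    · apply principal_of_regsum_ne_zero hM
      rw [regsum_restrict p N hreg]
      have e : (∑ n : N, regInd p N n * ((fun g => ((Λ.1 g : ℂˣ) : ℂ)) * ext θ) n)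
          = ∑ n : N, regInd p N n * (θ.1 : N → ℂ) n := by
        apply Finset.sum_congr rfl
        intro n _
        rw [Pi.mul_apply, MonoidHom.mem_ker.mp (Λ.2.1 n.2), Units.val_one, one_mul, hext]
      exact e ▸ regsum_ne_zero_of_principal hM θ.1 θ.2.1
    · obtain ⟨d, hdpos, hd⟩ := irr_apply_one θ.1.2
      have h1 : ((fun g => ((Λ.1 g : ℂˣ) : ℂ)) * ext θ) 1 = (d : ℂ) := by
        rw [Pi.mul_apply, map_one, Units.val_one, one_mul, ← hd]
        exact hext θ 1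
      have h2 : charDegree ((fun g => ((Λ.1 g : ℂˣ) : ℂ)) * ext θ) = d :=
        charDegree_eq_of_apply_one _ d h1
      have h3 : charDegree (θ.1 : N → ℂ) = d := charDegree_eq_of_apply_one _ d hd
      show ¬ p ∣ charDegree ((fun g => ((Λ.1 g : ℂˣ) : ℂ)) * ext θ)
      rw [h2, ← h3]
      exact θ.2.2.1
    · intro g
      show ((Λ.1 (g ^ k) : ℂˣ) : ℂ) * ext θ (g ^ k) = ((Λ.1 g : ℂˣ) : ℂ) * ext θ g
      rw [hΛfix Λ.1 Λ.2.1 Λ.2.2 g, hextσ θ g]
  let F : {θ : IrrCharacter ↥N // PB θ} × {Λ : G →* ℂˣ // N ≤ Λ.ker ∧ ∀ g, Λ g ^ p = 1} →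
      {χ : IrrCharacter G // PA χ} :=
    fun x => ⟨⟨(fun g => ((x.2.1 g : ℂˣ) : ℂ)) * ext x.1,
      isIrrCharacter_hom_mul x.2.1 (hext_irr x.1)⟩, hFmem x.1 x.2⟩
  have hone : IsIrrCharacter N (fun _ => (1 : ℂ)) := isIrrCharacter_one
  have hsrc : ∀ Λ : G →* ℂˣ, N ≤ Λ.ker →
      (fun g => ((Λ g : ℂˣ) : ℂ)) ∈ {β : G → ℂ | IsIrrCharacter G β ∧
        classInner (indFun N (fun _ => (1 : ℂ))) β ≠ 0} := by
    intro Λ hΛN
    refine ⟨isIrrCharacter_of_hom Λ, ?_⟩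
    rw [frobenius_reciprocity N _ _
      (isClassFunction_of_isIrrCharacter (isIrrCharacter_of_hom Λ))]
    have h1 : (fun h : N => ((Λ (h : G) : ℂˣ) : ℂ)) = fun _ => (1 : ℂ) := by
      funext h
      have h2 := hΛN h.2
      rw [MonoidHom.mem_ker] at h2
      rw [h2]
      rfl
    rw [h1, classInner_irr_self hone]
    exact one_ne_zero
  have hmul1 : ∀ θ : N → ℂ, (fun _ => (1 : ℂ)) * θ = θ := by
    intro θ
    funext n
    simp
  have hgal : ∀ θ : {θ : IrrCharacter ↥N // PB θ},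
      Set.BijOn (fun β : G → ℂ => β * ext θ)
        {β : G → ℂ | IsIrrCharacter G β ∧
          classInner (indFun N (fun _ => (1 : ℂ))) β ≠ 0}
        {ψ : G → ℂ | IsIrrCharacter G ψ ∧
          classInner (indFun N ((fun _ => (1 : ℂ)) * (θ.1 : N → ℂ))) ψ ≠ 0} :=
    fun θ => Cfsg.Agent.S0856.result N (fun _ => (1 : ℂ)) (θ.1 : N → ℂ) hone θ.1.2
      (fun _ _ => rfl) (hGinv θ.1.1 θ.1.2 θ.2.2.2.1) (by rw [hmul1]; exact θ.1.2)
      (ext θ) (hext_irr θ) (hext θ)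
  have hinj : Function.Injective F := by
    rintro ⟨θ₁, Λ₁⟩ ⟨θ₂, Λ₂⟩ h
    have hv : (fun g => ((Λ₁.1 g : ℂˣ) : ℂ)) * ext θ₁
        = (fun g => ((Λ₂.1 g : ℂˣ) : ℂ)) * ext θ₂ :=
      congrArg (fun x => (x.1 : G → ℂ)) h
    have hθ : θ₁ = θ₂ := by
      apply Subtype.ext
      apply Subtype.ext
      funext n
      have h1 := congrFun hv n
      rw [Pi.mul_apply, Pi.mul_apply] at h1
      have e1 : Λ₁.1 (n : G) = 1 := MonoidHom.mem_ker.mp (Λ₁.2.1 n.2)
      have e2 : Λ₂.1 (n : G) = 1 := MonoidHom.mem_ker.mp (Λ₂.2.1 n.2)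
      rw [e1, e2, Units.val_one, one_mul, one_mul, hext, hext] at h1
      exact h1
    subst hθ
    have hΛ := (hgal θ₁).injOn (hsrc Λ₁.1 Λ₁.2.1) (hsrc Λ₂.1 Λ₂.2.1) hv
    have hΛ' : Λ₁ = Λ₂ := by
      apply Subtype.ext
      ext g
      exact congrFun hΛ g
    rw [hΛ']
  have hsurj : Function.Surjective F := by
    rintro ⟨χ, hχP, hχd, hχσ⟩
    have hχcf := isClassFunction_of_isIrrCharacter χ.2
    have hθirr : IsIrrCharacter N (fun n : N => (χ : G → ℂ) n) :=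
      restrict_irr_of_ppow_index N ha χ.2 hχd
    obtain ⟨D, hDpos, hD⟩ := irr_apply_one χ.2
    have hDne : (D : ℂ) ≠ 0 := by exact_mod_cast hDpos.ne'
    have hPB : PB ⟨fun n : N => (χ : G → ℂ) n, hθirr⟩ := by
      refine ⟨?_, ?_, ?_, ?_⟩
      · apply principal_of_regsum_ne_zero hM
        have e := regsum_restrict p N hreg (χ : G → ℂ)
        exact e ▸ regsum_ne_zero_of_principal hM χ hχP
      · have h1 : charDegree (fun n : N => (χ : G → ℂ) n) = D :=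
          charDegree_eq_of_apply_one _ D hD
        have h2 : charDegree (χ : G → ℂ) = D := charDegree_eq_of_apply_one _ D hD
        show ¬ p ∣ charDegree (fun n : N => (χ : G → ℂ) n)
        rw [h1, ← h2]
        exact hχd
      · intro x _ n
        exact hχcf (n : G) x
      · intro n
        show (χ : G → ℂ) ((n ^ k : N) : G) = (χ : G → ℂ) n
        rw [Subgroup.coe_pow]
        exact hχσ n
    obtain ⟨θ', hθ'⟩ : ∃ θ' : {θ : IrrCharacter ↥N // PB θ},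
        θ' = ⟨⟨fun n : N => (χ : G → ℂ) n, hθirr⟩, hPB⟩ := ⟨_, rfl⟩
    have hθ'val : (θ'.1 : N → ℂ) = fun n : N => (χ : G → ℂ) n := by rw [hθ']
    have hχmem : (χ : G → ℂ) ∈ {ψ : G → ℂ | IsIrrCharacter G ψ ∧
        classInner (indFun N ((fun _ => (1 : ℂ)) * (θ'.1 : N → ℂ))) ψ ≠ 0} := by
      refine ⟨χ.2, ?_⟩
      rw [hmul1, frobenius_reciprocity N _ _ hχcf, hθ'val, classInner_irr_self hθirr]
      exact one_ne_zero
    obtain ⟨β, ⟨hβirr, hβne⟩, hβχ⟩ := (hgal θ').surjOn hχmem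
    have hβχ' : β * ext θ' = (χ : G → ℂ) := hβχ
    have hext1 : ext θ' 1 = (D : ℂ) := by
      have h1 := hext θ' 1
      rw [hθ'val] at h1
      rw [← hD]
      exact h1
    have hβ1 : β 1 = 1 := by
      have h1 := congrFun hβχ' 1
      rw [Pi.mul_apply, hext1, hD] at h1
      exact mul_right_cancel₀ hDne (by rw [h1, one_mul])
    obtain ⟨Λ, hΛ⟩ := hom_of_irr_deg_one hβirr hβ1
    have hΛN : N ≤ Λ.ker := by
      rw [frobenius_reciprocity N _ _ (isClassFunction_of_isIrrCharacter hβirr)] at hβne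
      have hres : IsIrrCharacter N (fun h : N => β h) := by
        rw [hΛ]
        exact isIrrCharacter_of_hom (Λ.comp N.subtype)
      have heq : (fun _ : N => (1 : ℂ)) = fun h : N => β h := by
        by_contra hne
        exact hβne (classInner_irr_ne hone hres hne)
      intro n hn
      rw [MonoidHom.mem_ker]
      apply Units.ext
      have h1 := congrFun heq ⟨n, hn⟩
      rw [hΛ] at h1
      exact h1.symm
    have hΛpow : ∀ g, Λ g ^ k = Λ g := by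
      obtain ⟨Λk, hΛkdef⟩ : ∃ Λk : G →* ℂˣ, Λk = (powMonoidHom k).comp Λ := ⟨_, rfl⟩
      have hΛkN : N ≤ Λk.ker := by
        intro n hn
        rw [MonoidHom.mem_ker, hΛkdef, MonoidHom.comp_apply, MonoidHom.mem_ker.mp (hΛN hn),
          map_one]
      have hv : (fun g => ((Λk g : ℂˣ) : ℂ)) * ext θ' = (fun g => ((Λ g : ℂˣ) : ℂ)) * ext θ' := by
        funext g
        have h1 := hχσ g
        rw [← hβχ', Pi.mul_apply, Pi.mul_apply, hextσ θ' g, hΛ] at h1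
        rw [Pi.mul_apply, Pi.mul_apply, ← h1, hΛkdef]
        show ((Λ g ^ k : ℂˣ) : ℂ) * _ = ((Λ (g ^ k) : ℂˣ) : ℂ) * _
        rw [map_pow]
      have hΛ2 := (hgal θ').injOn (hsrc Λk hΛkN) (hsrc Λ hΛN) hv
      intro g
      apply Units.ext
      have h2 := congrFun hΛ2 g
      rw [hΛkdef] at h2
      exact h2
    have hΛp : ∀ g, Λ g ^ p = 1 := by
      intro g
      obtain ⟨u, hu, hgu⟩ := hΛk Λ hΛN g
      have h1 := hΛpow u
      rw [← map_pow, hkP u hu, map_pow, pow_add, pow_one] at h1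
      rw [hgu]
      exact mul_left_cancel (a := Λ u) (by rw [h1, mul_one])
    refine ⟨(θ', ⟨Λ, hΛN, hΛp⟩), ?_⟩
    apply Subtype.ext
    apply Subtype.ext
    show (fun g => ((Λ g : ℂˣ) : ℂ)) * ext θ' = (χ : G → ℂ)
    rw [← hΛ]
    exact hβχ'
  have hcard := Nat.card_congr (Equiv.ofBijective F ⟨hinj, hsurj⟩)
  rw [← hcard, Nat.card_prod, hT, mul_comm]

end Cfsg.Agent.Lib.Helper25
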