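import Mathlib
import Cfsg.Agent.Lib.Helper25.PIndex2
import Cfsg.Agent.S4491
import Cfsg.Agent.Lib.Helper2.SplitMain

set_option autoImplicit false

/-!
A `2`-block of full defect whose idempotent is invariant under inversion on the elements of odd
order is the principal block.
-/

namespace Cfsg.Agent.Lib.Helper25

open Cfsg Cfsg.Agent.Lib.Helper2 Cfsg.Agent.Lib.Helper8

open scoped ComplexConjugate

section realblock

variable {G : Type*} [Group G] [Fintype G] {M : Ideal AlgInt}

/-- a sum over the group of a function invariant under inversion and vanishing at the elements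
equal to their inverses lies in the local ideal over `2` -/
theorem memLocalIdeal_sum_of_inv (hM : IsPModular 2 M) (F : G → ℂ) (ha : ∀ g, F g⁻¹ = F g)
    (hb : ∀ g : G, g⁻¹ = g → F g = 0) (hc : ∀ g, MemLocalRing M (F g)) :
    MemLocalIdeal M (∑ g, F g) := by
  classical
  have hpr := isPrime_of_isPModular hM
  let e := Fintype.equivFin G
  have hsplit : ∑ g, F g = ∑ g, (if e g < e g⁻¹ then F g else 0)
      + ∑ g, (if e g⁻¹ < e g then F g else 0) := by
    rw [← Finset.sum_add_distrib]
    apply Finset.sum_congr rfl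
    intro g _
    rcases lt_trichotomy (e g) (e g⁻¹) with h | h | h
    · rw [if_pos h, if_neg (not_lt.mpr h.le), add_zero]
    · have h1 : g⁻¹ = g := (e.injective h).symm
      rw [if_neg (by rw [h]; exact lt_irrefl _), if_neg (by rw [h]; exact lt_irrefl _), add_zero,
        hb g h1]
    · rw [if_neg (not_lt.mpr h.le), if_pos h, zero_add]
  have hswap : ∑ g, (if e g⁻¹ < e g then F g else 0)
      = ∑ g, (if e g < e g⁻¹ then F g else 0) := by
    apply Fintype.sum_equiv (Equiv.inv G)
    intro g
    simp only [Equiv.inv_apply, inv_inv, ha]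
  rw [hsplit, hswap, ← two_mul]
  apply MemLocalIdeal.mul_right M
  · have := (memLocalIdeal_natCast_iff hM 2).mpr (dvd_refl 2)
    exact_mod_cast this
  · apply memLocalRing_sum
    intro g _
    split_ifs
    · exact hc g
    · exact memLocalRing_zero M

/-- the idempotent of a set of characters stable under composition with a permutation of the
group fixing `1` is invariant under the permutation -/
theorem blockCoeff_perm_of_stable (B : Set (IrrCharacter G)) (π : G ≃ G) (h1 : π 1 = 1)
    (hstab : ∀ χ ∈ B, ∃ ψ ∈ B, ∀ g : G, (ψ : G → ℂ) g = (χ : G → ℂ) (π g)) (g : G) :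
    blockCoeff B (π g) = blockCoeff B g := by
  classical
  have : Fintype (IrrCharacter G) := Fintype.ofFinite _
  have hex : ∀ χ : ↥B, ∃ ψ : ↥B, ∀ g, (ψ.1 : G → ℂ) g = (χ.1 : G → ℂ) (π g) := fun χ =>
    let ⟨ψ, hψ, h⟩ := hstab χ.1 χ.2
    ⟨⟨ψ, hψ⟩, h⟩
  choose τ hτ using hex
  have hinj : Function.Injective τ := by
    intro χ₁ χ₂ h
    apply Subtype.ext
    apply Subtype.ext
    funext x
    have e1 := hτ χ₁ (π.symm x)
    have e2 := hτ χ₂ (π.symm x)
    rw [π.apply_symm_apply] at e1 e2
    rw [← e1, ← e2, h]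
  have hbij := Finite.injective_iff_bijective.mp hinj
  let τe : ↥B ≃ ↥B := Equiv.ofBijective τ hbij
  have key : ∀ x : G, blockCoeff B x = (Nat.card G : ℂ)⁻¹
      * ∑ χ : ↥B, (χ.1 : G → ℂ) 1 * conj ((χ.1 : G → ℂ) x) := by
    intro x
    unfold blockCoeff
    rw [← finsum_set_coe_eq_finsum_mem, finsum_eq_sum_of_fintype]
  rw [key, key]
  congr 1
  rw [← Equiv.sum_comp τe (fun χ : ↥B => (χ.1 : G → ℂ) 1 * conj ((χ.1 : G → ℂ) g))]
  apply Finset.sum_congr rfl
  intro χ _
  change _ = ((τ χ).1 : G → ℂ) 1 * conj (((τ χ).1 : G → ℂ) g)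
  rw [hτ χ 1, hτ χ g, h1]

/-- **real blocks of full defect.**  A `2`-block of full defect whose idempotent is invariant
under inversion on the elements of odd order is the principal block -/
theorem eq_principal_of_real_full (hM : IsPModular 2 M) (B : Set (IrrCharacter G))
    (hB : IsPBlock M B) (hdef : blockDefect 2 B = (Nat.card G).factorization 2)
    (hinv : ∀ g : G, Odd (orderOf g) → blockCoeff B g⁻¹ = blockCoeff B g) :
    B = principalBlock M G := by
  classical
  have hp2 : Fact (Nat.Prime 2) := ⟨Nat.prime_two⟩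
  have hpr := isPrime_of_isPModular hM
  have : Fintype (IrrCharacter G) := Fintype.ofFinite _
  have hcl := blockClosed_of_isPBlock M hB
  have hR := blockCoeff_memLocalRing hM B hcl
  suffices ht : Cfsg.Agent.Lib.Helper8.trivIrr G ∈ B from
    isPBlock_eq_of_mem hM hB ⟨Cfsg.Agent.Lib.Helper8.trivIrr G, rfl⟩ ht (sameBlock_refl M _)
  by_contra ht
  have h0 : omegaFun (Cfsg.Agent.Lib.Helper8.trivIrr G : G → ℂ) (blockCoeff B) = 0 := by
    rw [Cfsg.Agent.Lib.Helper25.omegaFun_blockCoeff B _, if_neg ht]
  have hsum0 : ∑ g, blockCoeff B g = 0 := by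
    unfold omegaFun at h0
    have e : (Cfsg.Agent.Lib.Helper8.trivIrr G : G → ℂ) = fun _ => 1 := rfl
    rw [e] at h0
    simpa using h0
  let F : G → ℂ := fun g => if g = 1 then 0 else blockCoeff B g
  have hF : ∑ g, blockCoeff B g = blockCoeff B 1 + ∑ g, F g := by
    have e : ∀ g : G, blockCoeff B g = (if g = 1 then blockCoeff B 1 else 0) + F g := by
      intro g
      by_cases hg : g = 1
      · simp [F, hg]
      · simp [F, hg]
    rw [Finset.sum_congr rfl (fun g _ => e g), Finset.sum_add_distrib, Finset.sum_ite_eq']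
    simp
  have hFa : ∀ g, F g⁻¹ = F g := by
    intro g
    by_cases hg : g = 1
    · subst hg
      simp
    · have hg' : g⁻¹ ≠ 1 := by simpa using hg
      simp only [F, if_neg hg, if_neg hg']
      by_cases ho : 2 ∣ orderOf g
      · rw [blockCoeff_eq_zero_of_singular hM B hcl g ho,
          blockCoeff_eq_zero_of_singular hM B hcl g⁻¹ (by rwa [orderOf_inv])]
      · exact hinv g (Nat.not_even_iff_odd.mp (fun h => ho (even_iff_two_dvd.mp h)))
  have hFb : ∀ g : G, g⁻¹ = g → F g = 0 := by
    intro g hg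
    by_cases h1 : g = 1
    · simp [F, h1]
    · simp only [F, if_neg h1]
      apply blockCoeff_eq_zero_of_singular hM B hcl g
      have h2 : g ^ 2 = 1 := by
        rw [pow_two]
        nth_rewrite 1 [← hg]
        exact inv_mul_cancel g
      rw [orderOf_eq_prime h2 h1]
  have hFc : ∀ g, MemLocalRing M (F g) := by
    intro g
    simp only [F]
    split_ifs
    · exact memLocalRing_zero M
    · exact hR g
  have hI := memLocalIdeal_sum_of_inv hM F hFa hFb hFc
  have hε1 : MemLocalIdeal M (blockCoeff B 1) := by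
    have e : blockCoeff B 1 = - ∑ g, F g := by
      rw [hF] at hsum0
      linear_combination hsum0
    rw [e]
    exact MemLocalIdeal.neg M hI
  -- the sum of the squares of the degrees
  have hS := Cfsg.Agent.S4491.result 2 M hM B hB
  rw [hdef] at hS
  obtain ⟨S, hSdef⟩ : ∃ S : ℕ, S = ∑ᶠ χ ∈ B, charDegree (χ : G → ℂ) ^ 2 := ⟨_, rfl⟩
  rw [← hSdef] at hS
  have hSa : S.factorization 2 = (Nat.card G).factorization 2 := by omega
  have hcardne : (Nat.card G : ℂ) ≠ 0 := card_ne_zero_complex G
  have hSC : (S : ℂ) = (Nat.card G : ℂ) * blockCoeff B 1 := by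
    rw [blockCoeff_eq_sum, ← mul_assoc, mul_inv_cancel₀ hcardne, one_mul, hSdef,
      finsum_mem_eq_sum_indicator]
    push_cast
    apply Finset.sum_congr rfl
    intro χ _
    rw [Set.indicator_apply]
    obtain ⟨d, hd1, -, -, hd⟩ := irr_degree χ
    split_ifs with h
    · rw [one_mul, hd1, hd]
      simp
      ring
    · simp
  have hS0 : S ≠ 0 := by
    obtain ⟨χ₀, hχ₀⟩ := isPBlock_nonempty hM hB
    rw [hSdef, finsum_mem_eq_sum_indicator]
    have h1 : B.indicator (fun χ : IrrCharacter G => charDegree (χ : G → ℂ) ^ 2) χ₀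
        ≤ ∑ χ : IrrCharacter G,
          B.indicator (fun χ : IrrCharacter G => charDegree (χ : G → ℂ) ^ 2) χ :=
      Finset.single_le_sum (fun _ _ => Nat.zero_le _) (Finset.mem_univ χ₀)
    rw [Set.indicator_of_mem hχ₀] at h1
    obtain ⟨d, -, hd0, -, hd⟩ := irr_degree χ₀
    rw [hd] at h1
    have : 0 < d ^ 2 := by positivity
    omega
  have hG0 : Nat.card G ≠ 0 := Nat.card_pos.ne'
  have e1 := Nat.ordProj_mul_ordCompl_eq_self S 2
  have e2 := Nat.ordProj_mul_ordCompl_eq_self (Nat.card G) 2
  rw [hSa] at e1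
  have hs : ¬ 2 ∣ S / 2 ^ (Nat.card G).factorization 2 := by
    have := Nat.not_dvd_ordCompl Nat.prime_two hS0
    rwa [hSa] at this
  have hpow : ((2 : ℕ) ^ (Nat.card G).factorization 2 : ℂ) ≠ 0 := by
    have : (2 : ℂ) ≠ 0 := two_ne_zero
    exact_mod_cast pow_ne_zero _ this
  have hkey : ((S / 2 ^ (Nat.card G).factorization 2 : ℕ) : ℂ)
      = ((Nat.card G / 2 ^ (Nat.card G).factorization 2 : ℕ) : ℂ) * blockCoeff B 1 := by
    have h3 : ((2 ^ (Nat.card G).factorization 2 * (S / 2 ^ (Nat.card G).factorization 2) : ℕ) : ℂ)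
        = ((2 ^ (Nat.card G).factorization 2
          * (Nat.card G / 2 ^ (Nat.card G).factorization 2) : ℕ) : ℂ) * blockCoeff B 1 := by
      rw [e1, e2]
      exact hSC
    push_cast at h3
    rw [mul_assoc] at h3
    have h4 := mul_left_cancel₀ (by exact_mod_cast hpow) h3
    exact h4
  apply hs
  rw [← memLocalIdeal_natCast_iff hM, hkey]
  exact MemLocalIdeal.mul_left M (memLocalRing_natCast M _) hε1

omit [Fintype G] in
theorem centralizer_singleton_inv (g : G) :
    Subgroup.centralizer ({g⁻¹} : Set G) = Subgroup.centralizer ({g} : Set G) := by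
  ext x
  rw [Subgroup.mem_centralizer_singleton_iff, Subgroup.mem_centralizer_singleton_iff]
  exact (Commute.inv_right_iff : Commute x g⁻¹ ↔ Commute x g)

/-- a real-valued irreducible character of odd degree lies in the principal `2`-block -/
theorem real_odd_mem_principal (hM : IsPModular 2 M) (χ : IrrCharacter G)
    (hreal : ∀ g : G, ((χ : G → ℂ) g).im = 0) (hodd : Odd (charDegree (χ : G → ℂ))) :
    χ ∈ principalBlock M G := by
  classical
  have hp2 : Fact (Nat.Prime 2) := ⟨Nat.prime_two⟩
  have hpr := isPrime_of_isPModular hM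
  have hχinv : ∀ g : G, (χ : G → ℂ) g⁻¹ = (χ : G → ℂ) g := by
    intro g
    rw [irr_inv_eq_conj (isCharacter_of_isIrrCharacter χ.2) g]
    exact Complex.conj_eq_iff_im.mpr (hreal g)
  have hBeq : blockOf M (χ : G → ℂ) = principalBlock M G := by
    apply eq_principal_of_real_full hM _ ⟨χ, rfl⟩
    · unfold blockDefect
      have h0 : sInf ((fun ψ : IrrCharacter G => (charDegree (ψ : G → ℂ)).factorization 2)
          '' blockOf M (χ : G → ℂ)) = 0 := by
        apply Nat.sInf_eq_zero.mpr
        left
        refine ⟨χ, sameBlock_refl M _, ?_⟩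
        apply Nat.factorization_eq_zero_of_not_dvd
        intro h
        obtain ⟨r, hr⟩ := hodd
        omega
      rw [h0, Nat.sub_zero]
    · intro g _
      have h := blockCoeff_perm_of_stable (blockOf M (χ : G → ℂ)) (Equiv.inv G) (by simp) ?_ g
      · simpa using h
      · intro ψ hψ
        refine ⟨⟨(ψ : G → ℂ) ∘ (fun g => g⁻¹), isIrrCharacter_comp_inv ψ.2⟩, ?_, fun g => rfl⟩
        intro g
        have h1 := hψ g⁻¹
        have e1 : centralChar (χ : G → ℂ) g⁻¹ = centralChar (χ : G → ℂ) g := by
          unfold centralChar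
          rw [centralizer_singleton_inv, hχinv g]
        have e2 : centralChar ((ψ : G → ℂ) ∘ fun g => g⁻¹) g = centralChar (ψ : G → ℂ) g⁻¹ := by
          unfold centralChar
          rw [centralizer_singleton_inv]
          simp
        rw [e1] at h1
        change MemLocalIdeal M (centralChar (χ : G → ℂ) g
          - centralChar ((ψ : G → ℂ) ∘ fun g => g⁻¹) g)
        rw [e2]
        exact h1
  rw [← hBeq]
  exact sameBlock_refl M _

end realblock

end Cfsg.Agent.Lib.Helper25
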