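import Mathlib
import Cfsg.Agent.Lib.Helper25.RealBlock
import Cfsg.Agent.Lib.Helper26.IndStab
import Cfsg.Agent.Lib.Helper2.CharCover2

set_option autoImplicit false

/-!
A real-valued irreducible character of odd degree of a normal subgroup that extends to the
group has an extension in the principal `2`-block.
-/

namespace Cfsg.Agent.Lib.Helper25

open Cfsg Cfsg.Agent.Lib.Helper2 Cfsg.Agent.Lib.Helper8 Cfsg.Agent.Lib.Helper26

open scoped ComplexConjugate

section realext

variable {G : Type*} [Group G] [Fintype G] {M : Ideal AlgInt}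

/-- a real-valued irreducible character of odd degree of a normal subgroup which extends to
the group has an extension in the principal `2`-block -/
theorem exists_extension_principal (hM : IsPModular 2 M) (N : Subgroup G) [hN : N.Normal]
    (θ : IrrCharacter N) (hreal : ∀ n : N, ((θ : N → ℂ) n).im = 0)
    (hodd : Odd (charDegree (θ : N → ℂ)))
    (hext : ∃ η : IrrCharacter G, ∀ n : N, (η : G → ℂ) n = (θ : N → ℂ) n) :
    ∃ η : IrrCharacter G, (∀ n : N, (η : G → ℂ) n = (θ : N → ℂ) n) ∧ η ∈ principalBlock M G := by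
  classical
  have : Fintype N := Fintype.ofFinite N
  have hp2 : Fact (Nat.Prime 2) := ⟨Nat.prime_two⟩
  have hpr := isPrime_of_isPModular hM
  obtain ⟨η, hη⟩ := hext
  have hθinv : ∀ n : N, (θ : N → ℂ) n⁻¹ = (θ : N → ℂ) n := by
    intro n
    rw [irr_inv_eq_conj (isCharacter_of_isIrrCharacter θ.2) n]
    exact Complex.conj_eq_iff_im.mpr (hreal n)
  have hηbar : IsIrrCharacter G ((η : G → ℂ) ∘ fun g => g⁻¹) := isIrrCharacter_comp_inv η.2
  have hcon : classInner (fun n : N => ((η : G → ℂ) ∘ fun g => g⁻¹) (N.subtype n))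
      (θ : N → ℂ) ≠ 0 := by
    have e : (fun n : N => ((η : G → ℂ) ∘ fun g => g⁻¹) (N.subtype n)) = (θ : N → ℂ) := by
      funext n
      change (η : G → ℂ) ((n : G)⁻¹) = _
      have h1 := hη n⁻¹
      rw [Subgroup.coe_inv] at h1
      rw [h1, hθinv]
    rw [e, classInner_irr_self θ.2]
    exact one_ne_zero
  have hnorm : (N.subtype).range.Normal := by
    rw [Subgroup.range_subtype]
    exact hN
  obtain ⟨β, hβirr, hβN, hβmul⟩ := gallagher_cover N.subtype (Subgroup.subtype_injective N)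
    hnorm θ.2 η.2 (fun n => hη n) hηbar hcon
  have hη1 : (η : G → ℂ) 1 ≠ 0 := irr_one_ne_zero η.2
  have hβ1 : β 1 = 1 := by
    have h1 := congrFun hβmul 1
    simp only [Pi.mul_apply, Function.comp_apply, inv_one] at h1
    exact mul_right_cancel₀ hη1 (by rw [h1, one_mul])
  have hdeg : charDegree β = 1 := by
    unfold charDegree
    rw [hβ1]
    simp
  obtain ⟨lam, hlam⟩ := hom_of_charDegree_one (⟨β, hβirr⟩ : IrrCharacter G) hdeg
  have hlam' : ∀ g : G, β g = ((lam g : ℂˣ) : ℂ) := fun g => congrFun hlam g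
  have hlamN : ∀ n : N, lam (n : G) = 1 := by
    intro n
    apply Units.ext
    rw [← hlam' (n : G)]
    have h1 := hβN n
    rw [hβ1] at h1
    exact h1
  have hcard : 2 ^ (Nat.card G).factorization 2 * (Nat.card G / 2 ^ (Nat.card G).factorization 2)
      = Nat.card G := Nat.ordProj_mul_ordCompl_eq_self (Nat.card G) 2
  have hg₀odd : ¬ 2 ∣ Nat.card G / 2 ^ (Nat.card G).factorization 2 :=
    Nat.not_dvd_ordCompl Nat.prime_two Nat.card_pos.ne'
  obtain ⟨g₀, hg₀⟩ : ∃ g₀ : ℕ, g₀ = Nat.card G / 2 ^ (Nat.card G).factorization 2 := ⟨_, rfl⟩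
  rw [← hg₀] at hcard hg₀odd
  obtain ⟨t, ht⟩ : ∃ t : ℕ, g₀ + 1 = 2 * t := ⟨(g₀ + 1) / 2, by omega⟩
  have hlampow : ∀ g : G, lam g ^ Nat.card G = 1 := by
    intro g
    rw [← map_pow, pow_card_eq_one', map_one]
  obtain ⟨χ, hχdef⟩ : ∃ χ : IrrCharacter G,
      (χ : G → ℂ) = (fun g => (((lam ^ t) g : ℂˣ) : ℂ)) * (η : G → ℂ) :=
    ⟨⟨_, Cfsg.Agent.Lib.Helper26.isIrrCharacter_hom_mul (lam ^ t) η.2⟩, rfl⟩
  have hχval : ∀ g : G, (χ : G → ℂ) g = ((lam g : ℂˣ) : ℂ) ^ t * (η : G → ℂ) g := by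
    intro g
    rw [hχdef]
    simp
  have hχN : ∀ n : N, (χ : G → ℂ) n = (θ : N → ℂ) n := by
    intro n
    rw [hχval, hlamN n, hη n]
    simp
  have hχbar : ∀ g : G, (χ : G → ℂ) g⁻¹
      = (((lam g : ℂˣ) : ℂ)⁻¹) ^ g₀ * (χ : G → ℂ) g := by
    intro g
    have h1 := congrFun hβmul g
    simp only [Pi.mul_apply, Function.comp_apply] at h1
    rw [hχval, hχval, ← h1, hlam' g, map_inv]
    have hx : ((lam g : ℂˣ) : ℂ) ≠ 0 := Units.ne_zero _
    rw [Units.val_inv_eq_inv_val]
    have e : ((lam g : ℂˣ) : ℂ) ^ (g₀ + 1) = ((lam g : ℂˣ) : ℂ) ^ t * ((lam g : ℂˣ) : ℂ) ^ t := by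
      rw [ht, two_mul, pow_add]
    rw [pow_succ] at e
    rw [inv_pow, inv_pow]
    have hxt : ((lam g : ℂˣ) : ℂ) ^ t ≠ 0 := pow_ne_zero _ hx
    have hxg : ((lam g : ℂˣ) : ℂ) ^ g₀ ≠ 0 := pow_ne_zero _ hx
    field_simp
    linear_combination (η : G → ℂ) g * e
  have hw : ∀ g : G, ((((lam g : ℂˣ) : ℂ)⁻¹) ^ g₀) ^ (2 ^ (Nat.card G).factorization 2) = 1 := by
    intro g
    rw [← pow_mul, mul_comm, hcard, inv_pow]
    have h1 := congrArg Units.val (hlampow g)
    rw [Units.val_pow_eq_pow_val, Units.val_one] at h1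
    rw [h1, inv_one]
  have hBeq : blockOf M (χ : G → ℂ) = principalBlock M G := by
    apply eq_principal_of_real_full hM _ ⟨χ, rfl⟩
    · unfold blockDefect
      have h0 : sInf ((fun ψ : IrrCharacter G => (charDegree (ψ : G → ℂ)).factorization 2)
          '' blockOf M (χ : G → ℂ)) = 0 := by
        apply Nat.sInf_eq_zero.mpr
        left
        refine ⟨χ, sameBlock_refl M _, ?_⟩
        apply Nat.factorization_eq_zero_of_not_dvd
        have hdegeq : charDegree (χ : G → ℂ) = charDegree (θ : N → ℂ) := by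
          unfold charDegree
          have := hχN 1
          rw [Subgroup.coe_one] at this
          rw [this]
        rw [hdegeq]
        intro h
        obtain ⟨r, hr⟩ := hodd
        omega
      rw [h0, Nat.sub_zero]
    · intro g _
      have h := blockCoeff_perm_of_stable (blockOf M (χ : G → ℂ)) (Equiv.inv G) (by simp) ?_ g
      · simpa using h
      · intro ψ hψ
        refine ⟨⟨(ψ : G → ℂ) ∘ (fun g => g⁻¹), isIrrCharacter_comp_inv ψ.2⟩, ?_, fun g => rfl⟩
        intro g
        have h1 := hψ g⁻¹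
        have e2 : centralChar ((ψ : G → ℂ) ∘ fun g => g⁻¹) g = centralChar (ψ : G → ℂ) g⁻¹ := by
          unfold centralChar
          rw [centralizer_singleton_inv]
          simp
        have e3 : centralChar (χ : G → ℂ) g⁻¹
            = (((lam g : ℂˣ) : ℂ)⁻¹) ^ g₀ * centralChar (χ : G → ℂ) g := by
          unfold centralChar
          rw [centralizer_singleton_inv, hχbar g]
          ring
        have h3 : MemLocalIdeal M (centralChar (χ : G → ℂ) g - centralChar (χ : G → ℂ) g⁻¹) := by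
          rw [e3]
          have e4 : centralChar (χ : G → ℂ) g
              - (((lam g : ℂˣ) : ℂ)⁻¹) ^ g₀ * centralChar (χ : G → ℂ) g
              = -(((((lam g : ℂˣ) : ℂ)⁻¹) ^ g₀ - 1) * centralChar (χ : G → ℂ) g) := by ring
          rw [e4]
          exact MemLocalIdeal.neg M (MemLocalIdeal.mul_right M
            (memLocalIdeal_sub_one_of_pow hM (hw g))
            (memLocalRing_of_isIntegral M (centralChar_isIntegral χ g)))
        have e5 : centralChar (χ : G → ℂ) g - centralChar ((ψ : G → ℂ) ∘ fun g => g⁻¹) g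
            = (centralChar (χ : G → ℂ) g - centralChar (χ : G → ℂ) g⁻¹)
              + (centralChar (χ : G → ℂ) g⁻¹ - centralChar (ψ : G → ℂ) g⁻¹) := by
          rw [e2]
          ring
        change MemLocalIdeal M (centralChar (χ : G → ℂ) g
          - centralChar ((ψ : G → ℂ) ∘ fun g => g⁻¹) g)
        rw [e5]
        exact MemLocalIdeal.add M h3 h1
  refine ⟨χ, hχN, ?_⟩
  rw [← hBeq]
  exact sameBlock_refl M _

end realext

end Cfsg.Agent.Lib.Helper25
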