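import Mathlib
import Cfsg.Prelude
import Cfsg.Agent.Lib.Helper26.OddIndex
import Cfsg.Agent.Lib.Helper2.GlaubOverAux
import Cfsg.Agent.Lib.Helper2.WeightedFix
import Cfsg.Agent.Lib.Helper2.CharMore
import Cfsg.Agent.Lib.Helper12.GaloisTwist

set_option autoImplicit false

/-!
Characters fixed by a Galois automorphism `σ` of 2-power order inverting the odd-order roots of
unity (`χ ↦ (g ↦ χ (g ^ k))`), over a normal subgroup of odd index, part 1: parity of the inner
product of restrictions, uniqueness and existence of a `σ`-fixed character over a `σ`-fixed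
character of the normal subgroup.
-/

namespace Cfsg.Agent.Lib.Helper25

open Cfsg Cfsg.Agent.Lib.Helper2 Cfsg.Agent.Lib.Helper26 Cfsg.Agent.Lib.Helper12
open scoped ComplexConjugate

universe u

/-- in the quotient by a normal subgroup of odd index, the `k`-th power is inversion -/
theorem sig_quot_inv {G : Type*} [Group G] [Finite G] (N : Subgroup G) [N.Normal]
    (hodd : Odd N.index) (k : ℕ) (hk₂ : ∀ g : G, Odd (orderOf g) → g ^ k = g⁻¹)
    (q : G ⧸ N) : q ^ k = q⁻¹ := by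
  obtain ⟨g, rfl⟩ := QuotientGroup.mk_surjective q
  have hpos : orderOf g ≠ 0 := (orderOf_pos g).ne'
  obtain ⟨s, m, hm, hsm⟩ := Nat.exists_eq_two_pow_mul_odd hpos
  have h1 : orderOf (g ^ 2 ^ s) = m := by
    rw [orderOf_pow_of_dvd (by positivity) ⟨m, hsm⟩, hsm]
    exact Nat.mul_div_cancel_left m (by positivity)
  have h2 := hk₂ (g ^ 2 ^ s) (h1 ▸ hm)
  have h3 : g ^ (2 ^ s * (k + 1)) = 1 := by
    rw [mul_add, mul_one, pow_add, pow_mul, h2, inv_mul_cancel]
  have h4 : ((g : G ⧸ N)) ^ (2 ^ s * (k + 1)) = 1 := by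
    rw [← QuotientGroup.mk_pow, h3]
    rfl
  have h5 : orderOf (g : G ⧸ N) ∣ 2 ^ s * (k + 1) := orderOf_dvd_of_pow_eq_one h4
  have h6 : orderOf (g : G ⧸ N) ∣ N.index := by
    rw [Subgroup.index_eq_card]
    exact orderOf_dvd_natCard _
  have h7 : Nat.Coprime (orderOf (g : G ⧸ N)) (2 ^ s) := by
    apply Nat.Coprime.pow_right
    exact Nat.Coprime.coprime_dvd_left h6 (Nat.coprime_two_right.mpr hodd)
  have h8 : orderOf (g : G ⧸ N) ∣ k + 1 := h7.dvd_of_dvd_mul_left h5
  have h9 : (g : G ⧸ N) ^ (k + 1) = 1 := orderOf_dvd_iff_pow_eq_one.mp h8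
  rw [pow_succ] at h9
  exact eq_inv_of_mul_eq_one_left h9

section sig

variable {G : Type u} [Group G] [Fintype G]

/-- for `σ`-fixed irreducible characters of `G` and a normal subgroup of odd index, the inner
product of the restrictions is a natural number, odd exactly when the characters agree -/
theorem sig_restrict_inner_parity (N : Subgroup G) [N.Normal] [Fintype N] (hodd : Odd N.index)
    (k : ℕ) (hcop : (Nat.card G).Coprime k) (hq : ∀ q : G ⧸ N, q ^ k = q⁻¹)
    (χ₁ χ₂ : IrrCharacter G) (h₁ : ∀ g, (χ₁ : G → ℂ) (g ^ k) = (χ₁ : G → ℂ) g)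
    (h₂ : ∀ g, (χ₂ : G → ℂ) (g ^ k) = (χ₂ : G → ℂ) g) :
    ∃ A : ℕ, classInner (fun n : N => (χ₁ : G → ℂ) n) (fun n : N => (χ₂ : G → ℂ) n) = A ∧
      ((A : ZMod 2) = if χ₁ = χ₂ then 1 else 0) := by
  classical
  have : Fintype (G ⧸ N) := Fintype.ofFinite _
  have : Fintype (IrrCharacter (G ⧸ N)) := Fintype.ofFinite _
  have hm : ∀ β : IrrCharacter (G ⧸ N), ∃ m : ℕ,
      classInner (fun g : G => (χ₁ : G → ℂ) g * (β : G ⧸ N → ℂ) (g : G ⧸ N)) (χ₂ : G → ℂ)
        = m := by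
    intro β
    have hc : IsCharacter G ((χ₁ : G → ℂ) * (fun g : G => (β : G ⧸ N → ℂ) (g : G ⧸ N))) :=
      IsCharacter.mul (isCharacter_of_isIrrCharacter χ₁.2)
        (isCharacter_of_isIrrCharacter (inflate_irr N β.2))
    exact classInner_isCharacter_nat hc (isCharacter_of_isIrrCharacter χ₂.2)
  choose m hm using hm
  have hd : ∀ β : IrrCharacter (G ⧸ N), ∃ d : ℕ, (β : G ⧸ N → ℂ) 1 = d := fun β => by
    obtain ⟨n, _, hn⟩ := irr_apply_one β.2
    exact ⟨n, hn⟩
  choose d hd using hd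
  refine ⟨∑ β, d β * m β, ?_, ?_⟩
  · rw [classInner_restrict_eq_sum N, Nat.cast_sum]
    apply Finset.sum_congr rfl
    intro β _
    rw [hd β, hm β, Nat.cast_mul]
  · obtain ⟨β₀, hβ₀⟩ : ∃ β₀ : IrrCharacter (G ⧸ N), β₀ = ⟨fun _ => 1, isIrrCharacter_one⟩ :=
      ⟨_, rfl⟩
    have hmσ : ∀ β, m (conjIrr β) = m β := by
      intro β
      apply Nat.cast_injective (R := ℂ)
      rw [← hm, ← hm, classInner_def, classInner_def]
      congr 1
      refine Fintype.sum_equiv (powCoprime hcop) _ _ (fun g => ?_)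
      rw [powCoprime_apply, h₁, h₂]
      have e1 : (conjIrr β : G ⧸ N → ℂ) (g : G ⧸ N) = (β : G ⧸ N → ℂ) ((g : G ⧸ N)⁻¹) := rfl
      have e2 : ((g ^ k : G) : G ⧸ N) = (g : G ⧸ N) ^ k := rfl
      rw [e1, e2, hq]
    have hdσ : ∀ β, d (conjIrr β) = d β := by
      intro β
      apply Nat.cast_injective (R := ℂ)
      rw [← hd, ← hd]
      show (β : G ⧸ N → ℂ) (1 : G ⧸ N)⁻¹ = _
      rw [inv_one]
    have hfix : ∀ β, conjIrr β = β → β = β₀ := by
      intro β hβ
      rw [hβ₀]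
      apply Subtype.ext
      have h1 : (β : G ⧸ N → ℂ) ∘ (fun g : G ⧸ N => g⁻¹) = (β : G ⧸ N → ℂ) :=
        congrArg Subtype.val hβ
      have hoddQ : Odd (Nat.card (G ⧸ N)) := by
        rw [← Subgroup.index_eq_card]
        exact hodd
      exact real_irr_of_odd hoddQ β h1
    have hb0 : conjIrr β₀ = β₀ := by
      rw [hβ₀]
      apply Subtype.ext
      funext x
      rfl
    rw [Nat.cast_sum, ← Finset.add_sum_erase Finset.univ _ (Finset.mem_univ β₀)]
    have hz : ∑ β ∈ Finset.univ.erase β₀, ((d β * m β : ℕ) : ZMod 2) = 0 := by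
      refine Finset.sum_involution (fun β _ => conjIrr β) ?_ ?_ ?_ ?_
      · intro β _
        rw [hdσ, hmσ]
        exact CharTwo.add_self_eq_zero _
      · intro β hβ _ hfixed
        exact (Finset.ne_of_mem_erase hβ) (hfix β hfixed)
      · intro β hβ
        rw [Finset.mem_erase]
        refine ⟨?_, Finset.mem_univ _⟩
        intro h
        have h5 : β = conjIrr β₀ := by rw [← h, conjIrr_conjIrr]
        exact (Finset.ne_of_mem_erase hβ) (by rw [h5, hb0])
      · intro β _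
        exact conjIrr_conjIrr β
    rw [hz, add_zero]
    have hd0 : d β₀ = 1 := by
      apply Nat.cast_injective (R := ℂ)
      rw [← hd, Nat.cast_one, hβ₀]
    have hm0 : (m β₀ : ℂ) = if (χ₁ : G → ℂ) = (χ₂ : G → ℂ) then 1 else 0 := by
      rw [← hm]
      have h6 : (fun g : G => (χ₁ : G → ℂ) g * (β₀ : G ⧸ N → ℂ) (g : G ⧸ N))
          = (χ₁ : G → ℂ) := by
        funext g
        rw [hβ₀]
        show (χ₁ : G → ℂ) g * 1 = _
        rw [mul_one]
      rw [h6, classInner_irr χ₁.2 χ₂.2]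
    rw [hd0, one_mul]
    by_cases h12 : χ₁ = χ₂
    · rw [if_pos h12]
      rw [if_pos (congrArg Subtype.val h12)] at hm0
      have h7 : m β₀ = 1 := by exact_mod_cast hm0
      rw [h7, Nat.cast_one]
    · rw [if_neg h12]
      rw [if_neg (fun h => h12 (Subtype.ext h))] at hm0
      have h7 : m β₀ = 0 := by exact_mod_cast hm0
      rw [h7, Nat.cast_zero]

/-- over an irreducible character of a normal subgroup of odd index there is at most one
`σ`-fixed irreducible character -/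
theorem sig_over_unique (N : Subgroup G) [N.Normal] [Fintype N] (hodd : Odd N.index)
    (k : ℕ) (hcop : (Nat.card G).Coprime k) (hq : ∀ q : G ⧸ N, q ^ k = q⁻¹)
    (φ : IrrCharacter N) (χ₁ χ₂ : IrrCharacter G)
    (h₁ : ∀ g, (χ₁ : G → ℂ) (g ^ k) = (χ₁ : G → ℂ) g)
    (h₂ : ∀ g, (χ₂ : G → ℂ) (g ^ k) = (χ₂ : G → ℂ) g)
    (ho₁ : classInner (fun n : N => (χ₁ : G → ℂ) n) (φ : N → ℂ) ≠ 0)
    (ho₂ : classInner (fun n : N => (χ₂ : G → ℂ) n) (φ : N → ℂ) ≠ 0) : χ₁ = χ₂ := by
  obtain ⟨e₁, he₁⟩ := classInner_isCharacter_nat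
    (IsCharacter.restrict (isCharacter_of_isIrrCharacter χ₁.2) N)
    (isCharacter_of_isIrrCharacter φ.2)
  obtain ⟨e₂, he₂⟩ := classInner_isCharacter_nat
    (IsCharacter.restrict (isCharacter_of_isIrrCharacter χ₂.2) N)
    (isCharacter_of_isIrrCharacter φ.2)
  have h1 : e₁ ≠ 0 := by
    rintro rfl
    exact ho₁ (by rw [he₁]; simp)
  have h2 : e₂ ≠ 0 := by
    rintro rfl
    exact ho₂ (by rw [he₂]; simp)
  obtain ⟨A11, hA11, hp11⟩ := sig_restrict_inner_parity N hodd k hcop hq χ₁ χ₁ h₁ h₁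
  obtain ⟨A22, hA22, hp22⟩ := sig_restrict_inner_parity N hodd k hcop hq χ₂ χ₂ h₂ h₂
  obtain ⟨A12, hA12, hp12⟩ := sig_restrict_inner_parity N hodd k hcop hq χ₁ χ₂ h₁ h₂
  rw [restrict_inner_orbit N φ χ₁ χ₁ e₁ e₁ he₁ he₁ h1] at hA11
  rw [restrict_inner_orbit N φ χ₂ χ₂ e₂ e₂ he₂ he₂ h2] at hA22
  rw [restrict_inner_orbit N φ χ₁ χ₂ e₁ e₂ he₁ he₂ h1] at hA12
  have e11 := Nat.cast_injective (R := ℂ) hA11
  have e22 := Nat.cast_injective (R := ℂ) hA22
  have e12 := Nat.cast_injective (R := ℂ) hA12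
  rw [← e11, if_pos rfl] at hp11
  rw [← e22, if_pos rfl] at hp22
  rw [← e12] at hp12
  by_contra hne
  rw [if_neg hne] at hp12
  push_cast at hp11 hp22 hp12
  have key : ∀ a b c : ZMod 2, a * b * b = 1 → a * c * c = 1 → a * b * c = 0 → False := by
    decide
  exact key _ _ _ hp11 hp22 hp12

/-- Clifford: the degree of a character over `φ` with multiplicity `e` -/
theorem sig_clifford_deg (L : Subgroup G) [hL : L.Normal] [Fintype L] [DecidableEq (L → ℂ)]
    {θ : G → ℂ} (hθ : IsIrrCharacter G θ) {φ : L → ℂ} (hφ : IsIrrCharacter L φ) (e : ℕ)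
    (he : classInner (fun n : L => θ n) φ = (e : ℂ)) (he0 : e ≠ 0) :
    θ 1 = (e : ℂ) * ((Finset.univ.image (fun k : G => Helper2.conjFun L φ k)).card : ℂ)
      * φ 1 := by
  have hcon : classInner (fun n : L => θ n) φ ≠ 0 := by
    rw [he]
    exact_mod_cast he0
  obtain ⟨e', he'0, hsum⟩ := clifford_sum L hθ hφ hcon
  have hmem : φ ∈ Finset.univ.image (fun k : G => Helper2.conjFun L φ k) :=
    Finset.mem_image.mpr ⟨1, Finset.mem_univ _,
      conjFun_of_mem L (isClassFunction_of_isIrrCharacter hφ) L.one_mem⟩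
  have hirr : ∀ ψ ∈ Finset.univ.image (fun k : G => Helper2.conjFun L φ k),
      IsIrrCharacter L ψ := by
    intro ψ hψ
    obtain ⟨k, -, rfl⟩ := Finset.mem_image.mp hψ
    exact conjFun_irr L hφ k
  have hee : e' = e := by
    have h1 : classInner (fun n : L => θ n) φ = (e' : ℂ) := by
      rw [hsum, classInner_smul_left, classInner_sum_left, Finset.sum_eq_single φ]
      · rw [classInner_irr_self hφ, mul_one]
      · intro ψ hψ hne
        exact classInner_irr_ne (hirr ψ hψ) hφ hne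
      · intro h
        exact absurd hmem h
    rw [he] at h1
    exact_mod_cast h1.symm
  have h3 := congrFun hsum 1
  simp only [Pi.smul_apply, Finset.sum_apply, smul_eq_mul] at h3
  have h4 : ∀ ψ ∈ Finset.univ.image (fun k : G => Helper2.conjFun L φ k), ψ 1 = φ 1 := by
    intro ψ hψ
    obtain ⟨k, -, rfl⟩ := Finset.mem_image.mp hψ
    rw [conjFun_apply]
    congr 1
    apply Subtype.ext
    simp
  rw [Finset.sum_congr rfl h4, Finset.sum_const, nsmul_eq_mul] at h3
  have h5 : θ ((1 : L) : G) = θ 1 := rfl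
  rw [← h5, h3, hee]
  ring

/-- the index of a normal subgroup in terms of the multiplicities of `θ` in the irreducible
characters of the group -/
theorem sig_index_eq (N : Subgroup G) [hN : N.Normal] [Fintype N]
    [Fintype (IrrCharacter G)] (θ : IrrCharacter N)
    (ev : IrrCharacter G → ℕ)
    (hev : ∀ χ : IrrCharacter G, classInner (fun n : N => (χ : G → ℂ) n) (θ : N → ℂ) = ev χ) :
    ∃ t : ℕ, N.index = t * ∑ χ : IrrCharacter G, ev χ ^ 2 := by
  classical
  obtain ⟨t, htdef⟩ : ∃ t : ℕ,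
      t = (Finset.univ.image (fun k : G => Helper2.conjFun N (θ : N → ℂ) k)).card := ⟨_, rfl⟩
  refine ⟨t, ?_⟩
  obtain ⟨d, hd0, hd⟩ := irr_apply_one θ.2
  have hΘ : IsCharacter G (indFun N (θ : N → ℂ)) :=
    indFun_isCharacter N (isCharacter_of_isIrrCharacter θ.2)
  have h1 := char_apply_one_eq_sum hΘ
  rw [indFun_apply_one, hd] at h1
  have h2 : ∀ χ : IrrCharacter G,
      classInner (indFun N (θ : N → ℂ)) (χ : G → ℂ) * (χ : G → ℂ) 1
        = ((ev χ ^ 2 * t * d : ℕ) : ℂ) := by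
    intro χ
    have h3 : classInner (indFun N (θ : N → ℂ)) (χ : G → ℂ) = (ev χ : ℂ) := by
      rw [frobenius_reciprocity N _ _ (isClassFunction_of_isIrrCharacter χ.2),
        ← classInner_conj_symm, hev]
      exact Complex.conj_natCast _
    rw [h3]
    by_cases h0 : ev χ = 0
    · rw [h0]
      simp
    · rw [sig_clifford_deg N χ.2 θ.2 (ev χ) (hev χ) h0, ← htdef, hd]
      push_cast
      ring
  rw [Finset.sum_congr rfl (fun χ _ => h2 χ), ← Nat.cast_sum, ← Nat.cast_mul] at h1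
  have h4 : N.index * d = ∑ χ : IrrCharacter G, ev χ ^ 2 * t * d := by exact_mod_cast h1
  have h5 : ∑ χ : IrrCharacter G, ev χ ^ 2 * t * d
      = (t * ∑ χ : IrrCharacter G, ev χ ^ 2) * d := by
    rw [Finset.mul_sum, Finset.sum_mul]
    apply Finset.sum_congr rfl
    intro χ _
    ring
  rw [h5] at h4
  exact Nat.eq_of_mul_eq_mul_right hd0 h4

set_option maxHeartbeats 1000000 in
/-- existence of a `σ`-fixed irreducible character over a `σ`-fixed irreducible character of a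
normal subgroup of odd index -/
theorem sig_over_exists (N : Subgroup G) [hN : N.Normal] [Fintype N]
    (hodd : Odd N.index) (k e : ℕ) (hcop : k.Coprime (Nat.card G))
    (hke : ∀ g : G, g ^ (k ^ (2 ^ e)) = g) (θ : IrrCharacter N)
    (hθ : ∀ n : N, (θ : N → ℂ) (n ^ k) = (θ : N → ℂ) n) :
    ∃ χ : IrrCharacter G, (∀ g : G, (χ : G → ℂ) (g ^ k) = (χ : G → ℂ) g) ∧
      classInner (fun n : N => (χ : G → ℂ) n) (θ : N → ℂ) ≠ 0 := by
  classical
  have := Fintype.ofFinite (IrrCharacter G)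
  obtain ⟨tw, htw⟩ : ∃ tw : IrrCharacter G → IrrCharacter G,
      ∀ χ g, (tw χ : G → ℂ) g = (χ : G → ℂ) (g ^ k) :=
    ⟨fun χ => ⟨fun g => (χ : G → ℂ) (g ^ k), isIrrCharacter_pow_coprime k hcop χ.2⟩,
      fun χ g => rfl⟩
  have hiter : ∀ (j : ℕ) (χ : IrrCharacter G) (g : G),
      ((tw^[j] χ : IrrCharacter G) : G → ℂ) g = (χ : G → ℂ) (g ^ (k ^ j)) := by
    intro j
    induction j with
    | zero =>
      intro χ g
      simp
    | succ j ih =>
      intro χ g
      rw [Function.iterate_succ_apply', htw, ih, ← pow_mul, pow_succ, mul_comm]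
  have hper : ∀ χ, tw^[2 ^ e] χ = χ := fun χ =>
    Subtype.ext (funext fun g => by rw [hiter, hke])
  obtain ⟨m, hm⟩ : ∃ m, 2 ^ e = m + 1 := Nat.exists_eq_succ_of_ne_zero (by positivity)
  obtain ⟨π, hπ⟩ : ∃ π : Equiv.Perm (IrrCharacter G), ∀ χ, π χ = tw χ := by
    refine ⟨⟨tw, tw^[m], ?_, ?_⟩, fun χ => rfl⟩
    · intro χ
      have h := hper χ
      rw [hm, Function.iterate_succ_apply] at h
      exact h
    · intro χ
      have h := hper χ
      rw [hm, Function.iterate_succ_apply'] at h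
      exact h
  have hπfun : (π : IrrCharacter G → IrrCharacter G) = tw := funext hπ
  have hπpow : π ^ 2 ^ e = 1 := by
    apply Equiv.ext
    intro χ
    rw [← Equiv.Perm.iterate_eq_pow, hπfun, hper]
    rfl
  have hP : IsPGroup 2 (Subgroup.zpowers π) := by
    rintro ⟨q, hq⟩
    obtain ⟨i, rfl⟩ := Subgroup.mem_zpowers_iff.mp hq
    refine ⟨e, Subtype.ext ?_⟩
    show (π ^ i) ^ 2 ^ e = 1
    rw [← zpow_natCast, ← zpow_mul, mul_comm, zpow_mul, zpow_natCast, hπpow, one_zpow]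
  -- multiplicities
  have hex : ∀ χ : IrrCharacter G, ∃ a : ℕ,
      classInner (fun n : N => (χ : G → ℂ) n) (θ : N → ℂ) = a := fun χ =>
    classInner_isCharacter_nat (IsCharacter.restrict (isCharacter_of_isIrrCharacter χ.2) N)
      (isCharacter_of_isIrrCharacter θ.2)
  choose ev hev using hex
  have hcopN : (Nat.card N).Coprime k :=
    (Nat.Coprime.coprime_dvd_right (Subgroup.card_subgroup_dvd_card N) hcop).symm
  have hevtw : ∀ χ, ev (π χ) = ev χ := by
    intro χ
    apply Nat.cast_injective (R := ℂ)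
    rw [← hev, ← hev, classInner_def, classInner_def]
    congr 1
    refine Fintype.sum_equiv (powCoprime hcopN) _ _ (fun n => ?_)
    rw [powCoprime_apply, hθ, hπ, htw]
    rfl
  have hevpow : ∀ (j : ℕ) χ, ev ((π ^ j) χ) = ev χ := by
    intro j
    induction j with
    | zero =>
      intro χ
      simp
    | succ j ih =>
      intro χ
      rw [pow_succ, Equiv.Perm.mul_apply, ih, hevtw]
  have hf : ∀ (q : Subgroup.zpowers π) (χ : IrrCharacter G),
      ev (q • χ) ^ 2 = ev χ ^ 2 := by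
    rintro ⟨q, hq⟩ χ
    have hq' := (mem_powers_iff_mem_zpowers).mpr hq
    obtain ⟨j, rfl⟩ := (Submonoid.mem_powers_iff q π).mp hq'
    show ev ((π ^ j) χ) ^ 2 = ev χ ^ 2
    rw [hevpow]
  have hmod := sum_modEq_sum_fixed hP (fun χ => ev χ ^ 2) hf
  obtain ⟨t, ht⟩ := sig_index_eq N θ ev hev
  have hsodd : Odd (∑ χ : IrrCharacter G, ev χ ^ 2) := by
    rw [ht] at hodd
    exact (Nat.odd_mul.mp hodd).2
  have hne : (∑ χ ∈ Finset.univ.filter
      (fun χ : IrrCharacter G => ∀ q : Subgroup.zpowers π, q • χ = χ), ev χ ^ 2) ≠ 0 := by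
    intro h0
    rw [h0] at hmod
    have h1 : (∑ χ : IrrCharacter G, ev χ ^ 2) % 2 = 1 := Nat.odd_iff.mp hsodd
    have h2 : (∑ χ : IrrCharacter G, ev χ ^ 2) % 2 = 0 % 2 := hmod
    omega
  obtain ⟨χ, hχmem, hχne⟩ := Finset.exists_ne_zero_of_sum_ne_zero hne
  have hfixed := (Finset.mem_filter.mp hχmem).2
  have h1 : π χ = χ := hfixed ⟨π, Subgroup.mem_zpowers π⟩
  refine ⟨χ, fun g => ?_, ?_⟩
  · rw [← htw, ← hπ, h1]
  · rw [hev]
    have h2 : ev χ ≠ 0 := fun h0 => hχne (by rw [h0]; rfl)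
    exact_mod_cast h2

end sig

end Cfsg.Agent.Lib.Helper25
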