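import Mathlib
import Cfsg.Prelude
import Cfsg.Agent.Lib.Helper25.SigOdd1
import Cfsg.Agent.Lib.Helper25.AlpIso5
import Cfsg.Agent.S0886

set_option autoImplicit false

/-!
Characters fixed by a Galois automorphism `σ` of 2-power order inverting the odd-order roots of
unity, over a normal subgroup of odd index, part 2: an invariant `σ`-fixed character of a normal
subgroup of odd index with solvable quotient has a `σ`-fixed extension.
-/

namespace Cfsg.Agent.Lib.Helper25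

open Cfsg Cfsg.Agent.Lib.Helper2 Cfsg.Agent.Lib.Helper26 Cfsg.Agent.Lib.Helper12
open scoped ComplexConjugate

universe u

set_option maxHeartbeats 1000000 in
/-- a normal subgroup of odd prime index: an invariant `σ`-fixed character has a `σ`-fixed
extension -/
theorem sig_ext_prime {Γ : Type u} [Group Γ] [Fintype Γ] (Γ₁ : Subgroup Γ) [hΓ₁ : Γ₁.Normal]
    [Fintype Γ₁] (q : ℕ) (hq : q.Prime) (hidx : Γ₁.index = q) (hodd : Odd Γ₁.index)
    (k e : ℕ) (hcop : k.Coprime (Nat.card Γ)) (hke : ∀ g : Γ, g ^ (k ^ (2 ^ e)) = g)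
    (ψ₁ : IrrCharacter Γ₁) (hψ₁σ : ∀ x : Γ₁, (ψ₁ : Γ₁ → ℂ) (x ^ k) = (ψ₁ : Γ₁ → ℂ) x)
    (hψ₁inv : ∀ g : Γ, Helper2.conjFun Γ₁ (ψ₁ : Γ₁ → ℂ) g = (ψ₁ : Γ₁ → ℂ)) :
    ∃ χ : IrrCharacter Γ, (∀ g : Γ, (χ : Γ → ℂ) (g ^ k) = (χ : Γ → ℂ) g) ∧
      ∀ x : Γ₁, (χ : Γ → ℂ) x = (ψ₁ : Γ₁ → ℂ) x := by
  classical
  have := Fintype.ofFinite (IrrCharacter Γ)
  obtain ⟨χ, hχσ, hne⟩ := sig_over_exists Γ₁ hodd k e hcop hke ψ₁ hψ₁σ
  have hex : ∀ χ' : IrrCharacter Γ, ∃ a : ℕ,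
      classInner (fun n : Γ₁ => (χ' : Γ → ℂ) n) (ψ₁ : Γ₁ → ℂ) = a := fun χ' =>
    classInner_isCharacter_nat (IsCharacter.restrict (isCharacter_of_isIrrCharacter χ'.2) Γ₁)
      (isCharacter_of_isIrrCharacter ψ₁.2)
  choose ev hev using hex
  have ha0 : ev χ ≠ 0 := by
    intro h0
    apply hne
    rw [hev, h0]
    simp
  have hdvd : ev χ ∣ q := by
    rw [← hidx]
    exact mult_dvd_index Γ₁ χ.2 ψ₁.2 (ev χ) (hev χ) ha0
  obtain ⟨t, ht⟩ := sig_index_eq Γ₁ ψ₁ ev hev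
  have hle : ev χ ^ 2 ≤ q := by
    have h1 : ev χ ^ 2 ≤ ∑ χ' : IrrCharacter Γ, ev χ' ^ 2 :=
      Finset.single_le_sum (f := fun χ' => ev χ' ^ 2) (fun _ _ => Nat.zero_le _)
        (Finset.mem_univ χ)
    have ht0 : t ≠ 0 := by
      rintro rfl
      rw [zero_mul] at ht
      rw [ht] at hidx
      exact hq.ne_zero hidx.symm
    rw [← hidx, ht]
    exact h1.trans (Nat.le_mul_of_pos_left _ (Nat.pos_of_ne_zero ht0))
  have ha1 : ev χ = 1 := by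
    rcases (Nat.dvd_prime hq).mp hdvd with h | h
    · exact h
    · rw [h] at hle
      have := hq.two_le
      nlinarith
  obtain ⟨e', he'0, hsum⟩ := clifford_sum Γ₁ χ.2 ψ₁.2 hne
  have himg : Finset.univ.image (fun g : Γ => Helper2.conjFun Γ₁ (ψ₁ : Γ₁ → ℂ) g)
      = {(ψ₁ : Γ₁ → ℂ)} := by
    ext ψ
    simp only [Finset.mem_image, Finset.mem_univ, true_and, Finset.mem_singleton]
    constructor
    · rintro ⟨g, rfl⟩
      exact hψ₁inv g
    · intro h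
      exact ⟨1, by rw [h]; exact hψ₁inv 1⟩
  rw [himg, Finset.sum_singleton] at hsum
  have he' : e' = 1 := by
    have h1 : classInner (fun n : Γ₁ => (χ : Γ → ℂ) n) (ψ₁ : Γ₁ → ℂ) = (e' : ℂ) := by
      rw [hsum, classInner_smul_left, classInner_irr_self ψ₁.2, mul_one]
    rw [hev, ha1] at h1
    exact_mod_cast h1.symm
  refine ⟨χ, hχσ, fun x => ?_⟩
  have h2 := congrFun hsum x
  rw [he'] at h2
  simpa using h2

set_option maxHeartbeats 4000000 in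
/-- solvable quotient of odd order: an invariant `σ`-fixed character has a `σ`-fixed
extension -/
theorem sig_ext_solvable (k e : ℕ) :
    ∀ (n : ℕ) (Γ : Type u) [Group Γ] [Finite Γ], Nat.card Γ ≤ n →
    ∀ (R : Subgroup Γ) [hR : R.Normal], Odd R.index →
    ∀ (S : Type u) [Group S] [Group.IsSolvable S] (φ : Γ →* S), φ.ker = R →
    k.Coprime (Nat.card Γ) → (∀ g : Γ, g ^ (k ^ (2 ^ e)) = g) →
    (∀ g : Γ, Odd (orderOf g) → g ^ k = g⁻¹) →
    ∀ θ : IrrCharacter R, (∀ r : R, (θ : R → ℂ) (r ^ k) = (θ : R → ℂ) r) →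
    (∀ (g : Γ) (r : R), (θ : R → ℂ) ⟨g * r * g⁻¹, hR.conj_mem (r : Γ) r.2 g⟩
      = (θ : R → ℂ) r) →
    ∃ χ : IrrCharacter Γ, (∀ g : Γ, (χ : Γ → ℂ) (g ^ k) = (χ : Γ → ℂ) g) ∧
      ∀ r : R, (χ : Γ → ℂ) r = (θ : R → ℂ) r := by
  intro n
  induction n with
  | zero =>
    intro Γ _ _ hcard
    have := Nat.card_pos (α := Γ)
    omega
  | succ n ih =>
    intro Γ _ _ hcard R hR hodd S _ _ φ hker hcop hke hk₂ θ hθσ hθinv
    classical
    have := Fintype.ofFinite Γ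
    have := Fintype.ofFinite R
    by_cases hRtop : R = ⊤
    · have hcyc : IsCyclic (Γ ⧸ R) := by
        have hsub : Subsingleton (Γ ⧸ R) := by
          rw [hRtop]
          exact QuotientGroup.subsingleton_quotient_top
        exact isCyclic_of_subsingleton
      obtain ⟨χ, hχ, hχθ⟩ := Cfsg.Agent.S0886.result R hcyc (θ : R → ℂ) θ.2 hθinv
      refine ⟨⟨χ, hχ⟩, fun g => ?_, hχθ⟩
      have hg : g ∈ R := by
        rw [hRtop]
        trivial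
      have h1 : χ g = (θ : R → ℂ) ⟨g, hg⟩ := hχθ ⟨g, hg⟩
      have h2 : χ (g ^ k) = (θ : R → ℂ) (⟨g, hg⟩ ^ k) := hχθ (⟨g, hg⟩ ^ k)
      show χ (g ^ k) = χ g
      rw [h2, h1, hθσ]
    -- a nontrivial linear character of the quotient
    obtain ⟨x₁, hx₁⟩ : ∃ x₁ : Γ, x₁ ∉ R := by
      by_contra hcon
      push Not at hcon
      exact hRtop (eq_top_iff.mpr (fun x _ => hcon x))
    have hnt : Nontrivial φ.range := by
      refine ⟨⟨φ.rangeRestrict x₁, 1, ?_⟩⟩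
      intro h
      apply hx₁
      rw [← hker, MonoidHom.mem_ker]
      have h2 := congrArg Subtype.val h
      exact h2
    have hlt := Group.IsSolvable.commutator_lt_top_of_nontrivial φ.range
    obtain ⟨y, hy⟩ : ∃ y : φ.range, y ∉ commutator φ.range := by
      by_contra hcon
      push Not at hcon
      exact hlt.ne (eq_top_iff.mpr (fun x _ => hcon x))
    have hfinA : Finite (Abelianization φ.range) := by
      have hfin : Finite φ.range := Finite.of_surjective φ.rangeRestrict φ.rangeRestrict_surjective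
      exact Finite.of_surjective (Abelianization.of (G := φ.range))
        (fun a => QuotientGroup.mk_surjective a)
    have hy1 : (Abelianization.of (G := φ.range)) y ∉ (⊥ : Subgroup (Abelianization φ.range)) := by
      rw [Subgroup.mem_bot]
      intro h
      apply hy
      exact (QuotientGroup.eq_one_iff y).mp h
    obtain ⟨ν, -, hν⟩ := exists_hom_trivial_on' (C := Abelianization φ.range)
      (fun a b => mul_comm a b) ⊥ hy1
    obtain ⟨μ, hμdef⟩ : ∃ μ : Γ →* ℂˣ,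
        μ = ν.comp ((Abelianization.of (G := φ.range)).comp φ.rangeRestrict) := ⟨_, rfl⟩
    have hμR : ∀ r ∈ R, μ r = 1 := by
      intro r hr
      rw [← hker, MonoidHom.mem_ker] at hr
      have h1 : φ.rangeRestrict r = 1 := Subtype.ext hr
      rw [hμdef]
      simp only [MonoidHom.comp_apply]
      rw [h1, map_one, map_one]
    obtain ⟨x₀, hx₀⟩ := φ.rangeRestrict_surjective y
    have hμx₀ : μ x₀ ≠ 1 := by
      rw [hμdef]
      simp only [MonoidHom.comp_apply]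
      rw [hx₀]
      exact hν
    -- refine to a character of prime order
    have hfinr : Finite μ.range := Finite.of_surjective μ.rangeRestrict μ.rangeRestrict_surjective
    have hcycr : IsCyclic μ.range := inferInstance
    obtain ⟨u, hu⟩ := hcycr.exists_generator
    obtain ⟨g₀, hg₀⟩ := μ.rangeRestrict_surjective u
    have hμg₀ : μ g₀ = (u : ℂˣ) := congrArg Subtype.val hg₀
    have hval : ∀ x : Γ, ∃ i : ℤ, (u : ℂˣ) ^ i = μ x := by
      intro x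
      obtain ⟨i, hi⟩ := Subgroup.mem_zpowers_iff.mp (hu (μ.rangeRestrict x))
      refine ⟨i, ?_⟩
      have h1 := congrArg Subtype.val hi
      simpa using h1
    have hu1 : (u : ℂˣ) ≠ 1 := by
      intro h
      apply hμx₀
      obtain ⟨i, hi⟩ := hval x₀
      rw [← hi, h, one_zpow]
    obtain ⟨m, hm⟩ : ∃ m, m = orderOf (u : ℂˣ) := ⟨_, rfl⟩
    have hmpos : 0 < m := by
      rw [hm, Subgroup.orderOf_coe]
      exact orderOf_pos u
    have hm1 : m ≠ 1 := by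
      intro h1
      rw [hm] at h1
      exact hu1 (orderOf_eq_one_iff.mp h1)
    obtain ⟨q, hqdef⟩ : ∃ q, q = m.minFac := ⟨_, rfl⟩
    have hq : q.Prime := hqdef ▸ Nat.minFac_prime hm1
    have hqm : q ∣ m := hqdef ▸ Nat.minFac_dvd m
    obtain ⟨c, hc⟩ : ∃ c, m = c * q := ⟨m / q, (Nat.div_mul_cancel hqm).symm⟩
    have hc0 : c ≠ 0 := by
      rintro rfl
      rw [zero_mul] at hc
      omega
    obtain ⟨μ', hμ'def⟩ : ∃ μ' : Γ →* ℂˣ, μ' = (powMonoidHom c).comp μ := ⟨_, rfl⟩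
    have hμ' : ∀ x : Γ, μ' x = μ x ^ c := fun x => by
      rw [hμ'def]
      rfl
    obtain ⟨Γ₁, hΓ₁⟩ : ∃ Γ₁ : Subgroup Γ, Γ₁ = μ'.ker := ⟨_, rfl⟩
    have hΓ₁n : Γ₁.Normal := by
      rw [hΓ₁]
      infer_instance
    have hmemΓ₁ : ∀ x : Γ, x ∈ Γ₁ ↔ μ' x = 1 := by
      intro x
      rw [hΓ₁, MonoidHom.mem_ker]
    have hRΓ₁ : R ≤ Γ₁ := fun r hr => (hmemΓ₁ r).mpr (by rw [hμ', hμR r hr, one_pow])
    have hrange : μ'.range = Subgroup.zpowers ((u : ℂˣ) ^ c) := by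
      ext z
      constructor
      · rintro ⟨x, rfl⟩
        obtain ⟨i, hi⟩ := hval x
        refine Subgroup.mem_zpowers_iff.mpr ⟨i, ?_⟩
        rw [hμ', ← hi, ← zpow_natCast, ← zpow_natCast, ← zpow_mul, ← zpow_mul, mul_comm]
      · intro hz
        obtain ⟨i, rfl⟩ := Subgroup.mem_zpowers_iff.mp hz
        refine ⟨g₀ ^ i, ?_⟩
        rw [hμ', map_zpow, hμg₀, ← zpow_natCast, ← zpow_natCast, ← zpow_mul, ← zpow_mul,
          mul_comm]
    have hidxΓ₁ : Γ₁.index = q := by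
      rw [hΓ₁, Subgroup.index_ker, hrange, Nat.card_zpowers,
        orderOf_pow_of_dvd hc0 ⟨q, by rw [← hm, hc]⟩, ← hm, hc]
      exact Nat.mul_div_cancel_left q (Nat.pos_of_ne_zero hc0)
    have hΓ₁ne : Γ₁ ≠ ⊤ := by
      intro h
      rw [h, Subgroup.index_top] at hidxΓ₁
      exact hq.one_lt.ne hidxΓ₁
    have hoddΓ₁ : Odd Γ₁.index :=
      Odd.of_dvd_nat hodd (Subgroup.index_dvd_of_le hRΓ₁)
    -- the induction hypothesis for `Γ₁`
    have hcard₁ : Nat.card Γ₁ ≤ n := by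
      have h1 := Subgroup.card_mul_index Γ₁
      have h2 : 1 < Γ₁.index := Subgroup.one_lt_index_of_ne_top hΓ₁ne
      have h3 : 0 < Nat.card Γ₁ := Nat.card_pos
      nlinarith
    have hodd₁ : Odd (R.subgroupOf Γ₁).index := by
      have h1 : (R.subgroupOf Γ₁).index = R.relIndex Γ₁ := rfl
      rw [h1]
      exact Odd.of_dvd_nat hodd (Subgroup.relIndex_dvd_index_of_normal R Γ₁)
    have hker₁ : (φ.comp Γ₁.subtype).ker = R.subgroupOf Γ₁ := by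
      ext x
      rw [MonoidHom.mem_ker, Subgroup.mem_subgroupOf, ← hker, MonoidHom.mem_ker]
      rfl
    have hcop₁ : k.Coprime (Nat.card Γ₁) :=
      Nat.Coprime.coprime_dvd_right (Subgroup.card_subgroup_dvd_card Γ₁) hcop
    have hke₁ : ∀ g : Γ₁, g ^ (k ^ (2 ^ e)) = g := fun g =>
      Subtype.ext (by rw [Subgroup.coe_pow]; exact hke (g : Γ))
    have hk₂₁ : ∀ g : Γ₁, Odd (orderOf g) → g ^ k = g⁻¹ := fun g hg =>
      Subtype.ext (by
        rw [Subgroup.coe_pow, Subgroup.coe_inv]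
        exact hk₂ (g : Γ) (by rw [Subgroup.orderOf_coe]; exact hg))
    have := Fintype.ofFinite (R.subgroupOf Γ₁)
    have := Fintype.ofFinite Γ₁
    obtain ⟨ε, hεdef⟩ : ∃ ε : R.subgroupOf Γ₁ ≃* R, ε = Subgroup.subgroupOfEquivOfLe hRΓ₁ :=
      ⟨_, rfl⟩
    have hεval : ∀ r : R.subgroupOf Γ₁, ((ε r : R) : Γ) = ((r : Γ₁) : Γ) := by
      intro r
      rw [hεdef]
      rfl
    obtain ⟨θ₁, hθ₁def⟩ : ∃ θ₁ : IrrCharacter (R.subgroupOf Γ₁), θ₁ = isoIrr ε.symm θ :=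
      ⟨_, rfl⟩
    have hθ₁val : ∀ r : R.subgroupOf Γ₁,
        (θ₁ : R.subgroupOf Γ₁ → ℂ) r = (θ : R → ℂ) (ε r) := by
      intro r
      rw [hθ₁def, isoIrr_apply]
      rfl
    have hθ₁σ : ∀ r : R.subgroupOf Γ₁,
        (θ₁ : R.subgroupOf Γ₁ → ℂ) (r ^ k) = (θ₁ : R.subgroupOf Γ₁ → ℂ) r := by
      intro r
      rw [hθ₁val, hθ₁val, map_pow, hθσ]
    have hR₁n : (R.subgroupOf Γ₁).Normal := inferInstance
    have hθ₁conj : ∀ (g : Γ) (r : R.subgroupOf Γ₁) (hmem : g * ((r : Γ₁) : Γ) * g⁻¹ ∈ Γ₁)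
        (hmem' : (⟨g * ((r : Γ₁) : Γ) * g⁻¹, hmem⟩ : Γ₁) ∈ R.subgroupOf Γ₁),
        (θ₁ : R.subgroupOf Γ₁ → ℂ) ⟨⟨g * ((r : Γ₁) : Γ) * g⁻¹, hmem⟩, hmem'⟩
          = (θ₁ : R.subgroupOf Γ₁ → ℂ) r := by
      intro g r hmem hmem'
      rw [hθ₁val, hθ₁val]
      have e1 : ε ⟨⟨g * ((r : Γ₁) : Γ) * g⁻¹, hmem⟩, hmem'⟩
          = ⟨g * ((ε r : R) : Γ) * g⁻¹, hR.conj_mem _ (ε r).2 g⟩ := by
        apply Subtype.ext
        rw [hεval]
        show g * ((r : Γ₁) : Γ) * g⁻¹ = g * ((ε r : R) : Γ) * g⁻¹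
        rw [hεval]
      rw [e1]
      exact hθinv g (ε r)
    have hθ₁inv : ∀ (g : Γ₁) (r : R.subgroupOf Γ₁),
        (θ₁ : R.subgroupOf Γ₁ → ℂ) ⟨g * r * g⁻¹, hR₁n.conj_mem (r : Γ₁) r.2 g⟩
          = (θ₁ : R.subgroupOf Γ₁ → ℂ) r := by
      intro g r
      exact hθ₁conj (g : Γ) r (Γ₁.mul_mem (Γ₁.mul_mem g.2 (r : Γ₁).2) (Γ₁.inv_mem g.2))
        (hR₁n.conj_mem (r : Γ₁) r.2 g)
    obtain ⟨ψ₁, hψ₁σ, hψ₁θ₁⟩ := ih Γ₁ hcard₁ (R.subgroupOf Γ₁) hodd₁ S (φ.comp Γ₁.subtype) hker₁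
      hcop₁ hke₁ hk₂₁ θ₁ hθ₁σ hθ₁inv
    -- `ψ₁` is invariant
    have hψ₁inv : ∀ g : Γ, Helper2.conjFun Γ₁ (ψ₁ : Γ₁ → ℂ) g = (ψ₁ : Γ₁ → ℂ) := by
      intro g
      have hq₁ := sig_quot_inv (R.subgroupOf Γ₁) hodd₁ k hk₂₁
      have hres₂ : (fun r : R.subgroupOf Γ₁ => (ψ₁ : Γ₁ → ℂ) r)
          = (θ₁ : R.subgroupOf Γ₁ → ℂ) := funext hψ₁θ₁
      have hres₁ : (fun r : R.subgroupOf Γ₁ => Helper2.conjFun Γ₁ (ψ₁ : Γ₁ → ℂ) g r)
          = (θ₁ : R.subgroupOf Γ₁ → ℂ) := by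
        funext r
        rw [conjFun_apply]
        have hmem : g * ((r : Γ₁) : Γ) * g⁻¹ ∈ Γ₁ := hΓ₁n.conj_mem _ (r : Γ₁).2 g
        have hmem' : (⟨g * ((r : Γ₁) : Γ) * g⁻¹, hmem⟩ : Γ₁) ∈ R.subgroupOf Γ₁ := by
          rw [Subgroup.mem_subgroupOf]
          exact hR.conj_mem _ (Subgroup.mem_subgroupOf.mp r.2) g
        have h1 := hψ₁θ₁ ⟨⟨g * ((r : Γ₁) : Γ) * g⁻¹, hmem⟩, hmem'⟩
        exact h1.trans (hθ₁conj g r hmem hmem')
      have key := sig_over_unique (R.subgroupOf Γ₁) hodd₁ k hcop₁.symm hq₁ θ₁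
        ⟨Helper2.conjFun Γ₁ (ψ₁ : Γ₁ → ℂ) g, conjFun_irr Γ₁ ψ₁.2 g⟩ ψ₁
        (by
          intro x
          show Helper2.conjFun Γ₁ (ψ₁ : Γ₁ → ℂ) g (x ^ k)
            = Helper2.conjFun Γ₁ (ψ₁ : Γ₁ → ℂ) g x
          rw [conjFun_apply, conjFun_apply]
          have e1 : (⟨g * ((x ^ k : Γ₁) : Γ) * g⁻¹, hΓ₁n.conj_mem _ (x ^ k).2 g⟩ : Γ₁)
              = (⟨g * (x : Γ) * g⁻¹, hΓ₁n.conj_mem _ x.2 g⟩ : Γ₁) ^ k := by
            apply Subtype.ext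
            show g * ((x : Γ) ^ k) * g⁻¹ = (g * (x : Γ) * g⁻¹) ^ k
            rw [conj_pow]
          rw [e1, hψ₁σ])
        hψ₁σ
        (by
          show classInner (fun r : R.subgroupOf Γ₁ =>
            Helper2.conjFun Γ₁ (ψ₁ : Γ₁ → ℂ) g r) (θ₁ : R.subgroupOf Γ₁ → ℂ) ≠ 0
          rw [hres₁, classInner_irr_self θ₁.2]
          exact one_ne_zero)
        (by
          rw [hres₂, classInner_irr_self θ₁.2]
          exact one_ne_zero)
      exact congrArg Subtype.val key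
    obtain ⟨χ, hχσ, hχψ₁⟩ := sig_ext_prime Γ₁ q hq hidxΓ₁ hoddΓ₁ k e hcop hke ψ₁ hψ₁σ hψ₁inv
    refine ⟨χ, hχσ, fun r => ?_⟩
    have h1 := hχψ₁ ⟨(r : Γ), hRΓ₁ r.2⟩
    have h2 := hψ₁θ₁ ⟨⟨(r : Γ), hRΓ₁ r.2⟩, Subgroup.mem_subgroupOf.mpr r.2⟩
    rw [hθ₁val] at h2
    have h3 : ε ⟨⟨(r : Γ), hRΓ₁ r.2⟩, Subgroup.mem_subgroupOf.mpr r.2⟩ = r := by
      apply Subtype.ext
      rw [hεval]
    rw [h3] at h2
    exact h1.trans h2

end Cfsg.Agent.Lib.Helper25
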