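import Mathlib
import Cfsg.Prelude
import Cfsg.Agent.Lib.Helper25.SigOdd2

set_option autoImplicit false

/-!
Characters fixed by a Galois automorphism `σ` of 2-power order inverting the odd-order roots of
unity, over a normal subgroup of odd index, part 3: an invariant `σ`-fixed character of a normal
subgroup of odd index has a `σ`-fixed extension.  The extension is glued from the `σ`-fixed
extensions to the subgroups `N⟨x⟩` by Brauer's characterization of characters.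
-/

namespace Cfsg.Agent.Lib.Helper25

open Cfsg Cfsg.Agent.Lib.Helper2 Cfsg.Agent.Lib.Helper26 Cfsg.Agent.Lib.Helper12
open scoped ComplexConjugate

universe u

section sig3

variable {G : Type u} [Group G] [Fintype G]

/-- `ψ` is a `σ`-fixed character of `H` extending `θ` -/
def SigExt (k : ℕ) (N : Subgroup G) (θ : IrrCharacter N) (H : Subgroup G)
    (ψ : IrrCharacter H) : Prop :=
  (∀ h : H, (ψ : H → ℂ) (h ^ k) = (ψ : H → ℂ) h) ∧
    ∀ (n : N) (hn : (n : G) ∈ H), (ψ : H → ℂ) ⟨(n : G), hn⟩ = (θ : N → ℂ) n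

set_option maxHeartbeats 1000000 in
/-- two `σ`-fixed extensions to nested intermediate subgroups agree -/
theorem sig_ext_agree (N : Subgroup G) [hN : N.Normal] (hodd : Odd N.index) (k : ℕ)
    (hcop : k.Coprime (Nat.card G)) (hk₂ : ∀ g : G, Odd (orderOf g) → g ^ k = g⁻¹)
    (θ : IrrCharacter N) (H₁ H₂ : Subgroup G) (hNH₁ : N ≤ H₁) (h12 : H₁ ≤ H₂)
    (ψ₁ : IrrCharacter H₁) (ψ₂ : IrrCharacter H₂) (h1 : SigExt k N θ H₁ ψ₁)
    (h2 : SigExt k N θ H₂ ψ₂) (y : G) (hy : y ∈ H₁) :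
    (ψ₂ : H₂ → ℂ) ⟨y, h12 hy⟩ = (ψ₁ : H₁ → ℂ) ⟨y, hy⟩ := by
  classical
  have := Fintype.ofFinite H₁
  have := Fintype.ofFinite (N.subgroupOf H₁)
  have hodd₁ : Odd (N.subgroupOf H₁).index := by
    have e : (N.subgroupOf H₁).index = N.relIndex H₁ := rfl
    rw [e]
    exact Odd.of_dvd_nat hodd (Subgroup.relIndex_dvd_index_of_normal N H₁)
  have hcop₁ : (Nat.card H₁).Coprime k :=
    (Nat.Coprime.coprime_dvd_right (Subgroup.card_subgroup_dvd_card H₁) hcop).symm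
  have hk₂₁ : ∀ g : H₁, Odd (orderOf g) → g ^ k = g⁻¹ := fun g hg =>
    Subtype.ext (by
      rw [Subgroup.coe_pow, Subgroup.coe_inv]
      exact hk₂ (g : G) (by rw [Subgroup.orderOf_coe]; exact hg))
  have hq₁ := sig_quot_inv (N.subgroupOf H₁) hodd₁ k hk₂₁
  have hθe : IsIrrCharacter (N.subgroupOf H₁)
      ((θ : N → ℂ) ∘ (Subgroup.subgroupOfEquivOfLe hNH₁)) :=
    Cfsg.Agent.S1489.isIrrCharacter_comp_iso θ.2 (Subgroup.subgroupOfEquivOfLe hNH₁)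
  have hres₁ : (fun r : N.subgroupOf H₁ => (ψ₁ : H₁ → ℂ) r)
      = (θ : N → ℂ) ∘ (Subgroup.subgroupOfEquivOfLe hNH₁) := by
    funext r
    exact h1.2 (Subgroup.subgroupOfEquivOfLe hNH₁ r) (r : H₁).2
  have hres₂ : (fun r : N.subgroupOf H₁ => (ψ₂ : H₂ → ℂ) (Subgroup.inclusion h12 (r : H₁)))
      = (θ : N → ℂ) ∘ (Subgroup.subgroupOfEquivOfLe hNH₁) := by
    funext r
    exact h2.2 (Subgroup.subgroupOfEquivOfLe hNH₁ r) (h12 (r : H₁).2)
  have hχchar : IsCharacter H₁ ((ψ₂ : H₂ → ℂ) ∘ Subgroup.inclusion h12) :=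
    isCharacter_comp_hom (isCharacter_of_isIrrCharacter ψ₂.2) (Subgroup.inclusion h12)
  have hχ : IsIrrCharacter H₁ ((ψ₂ : H₂ → ℂ) ∘ Subgroup.inclusion h12) := by
    apply isIrr_of_comp_irr (N.subgroupOf H₁).subtype hχchar
    have h3 : ((ψ₂ : H₂ → ℂ) ∘ Subgroup.inclusion h12) ∘ (N.subgroupOf H₁).subtype
        = (θ : N → ℂ) ∘ (Subgroup.subgroupOfEquivOfLe hNH₁) := hres₂
    rw [h3]
    exact hθe
  have hσ₂ : ∀ g : H₁, ((ψ₂ : H₂ → ℂ) ∘ Subgroup.inclusion h12) (g ^ k)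
      = ((ψ₂ : H₂ → ℂ) ∘ Subgroup.inclusion h12) g := by
    intro g
    show (ψ₂ : H₂ → ℂ) (Subgroup.inclusion h12 (g ^ k))
      = (ψ₂ : H₂ → ℂ) (Subgroup.inclusion h12 g)
    rw [map_pow]
    exact h2.1 _
  have ho₂ : classInner (fun r : N.subgroupOf H₁ =>
        ((ψ₂ : H₂ → ℂ) ∘ Subgroup.inclusion h12) (r : H₁))
      ((θ : N → ℂ) ∘ (Subgroup.subgroupOfEquivOfLe hNH₁)) ≠ 0 := by
    have h6 : (fun r : N.subgroupOf H₁ => ((ψ₂ : H₂ → ℂ) ∘ Subgroup.inclusion h12) (r : H₁))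
        = (θ : N → ℂ) ∘ (Subgroup.subgroupOfEquivOfLe hNH₁) := hres₂
    rw [h6, classInner_irr_self hθe]
    exact one_ne_zero
  have ho₁ : classInner (fun r : N.subgroupOf H₁ => (ψ₁ : H₁ → ℂ) r)
      ((θ : N → ℂ) ∘ (Subgroup.subgroupOfEquivOfLe hNH₁)) ≠ 0 := by
    rw [hres₁, classInner_irr_self hθe]
    exact one_ne_zero
  have key := sig_over_unique (N.subgroupOf H₁) hodd₁ k hcop₁ hq₁ ⟨_, hθe⟩ ⟨_, hχ⟩ ψ₁
    hσ₂ h1.1 ho₂ ho₁
  exact congrFun (congrArg Subtype.val key) ⟨y, hy⟩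

set_option maxHeartbeats 1000000 in
/-- `σ`-fixed extensions exist for `N K` with `K` solvable -/
theorem sig_ext_exists_of_solvable (N : Subgroup G) [hN : N.Normal] (hodd : Odd N.index)
    (k e : ℕ) (hcop : k.Coprime (Nat.card G)) (hke : ∀ g : G, g ^ (k ^ (2 ^ e)) = g)
    (hk₂ : ∀ g : G, Odd (orderOf g) → g ^ k = g⁻¹)
    (θ : IrrCharacter N) (hθσ : ∀ n : N, (θ : N → ℂ) (n ^ k) = (θ : N → ℂ) n)
    (hθinv : ∀ (g : G) (n : N),
      (θ : N → ℂ) ⟨g * n * g⁻¹, hN.conj_mem (n : G) n.2 g⟩ = (θ : N → ℂ) n)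
    (K : Subgroup G) [hK : Group.IsSolvable K] :
    ∃ ψ : IrrCharacter ↥(N ⊔ K), SigExt k N θ (N ⊔ K) ψ := by
  classical
  have hNH : N ≤ N ⊔ K := le_sup_left
  have hsolS : Group.IsSolvable (K.map (QuotientGroup.mk' N)) :=
    Group.isSolvable_of_surjective (f := (QuotientGroup.mk' N).subgroupMap K)
      (MonoidHom.subgroupMap_surjective _ _)
  have hmem : ∀ y : ↥(N ⊔ K),
      ((QuotientGroup.mk' N).comp (N ⊔ K).subtype) y ∈ K.map (QuotientGroup.mk' N) := by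
    intro y
    have hy : (y : G) ∈ ((N ⊔ K : Subgroup G) : Set G) := y.2
    rw [Subgroup.normal_mul] at hy
    obtain ⟨n, hn, k', hk', hnk⟩ := Set.mem_mul.mp hy
    have h1 : ((QuotientGroup.mk' N).comp (N ⊔ K).subtype) y = QuotientGroup.mk' N k' := by
      show QuotientGroup.mk' N (y : G) = _
      rw [← hnk, map_mul]
      have h2 : QuotientGroup.mk' N n = 1 := (QuotientGroup.eq_one_iff n).mpr hn
      rw [h2, one_mul]
    rw [h1]
    exact Subgroup.mem_map_of_mem _ hk'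
  obtain ⟨φ, hφ⟩ : ∃ φ : ↥(N ⊔ K) →* ↥(K.map (QuotientGroup.mk' N)),
      ∀ y, ((φ y : ↥(K.map (QuotientGroup.mk' N))) : G ⧸ N) = QuotientGroup.mk' N (y : G) :=
    ⟨((QuotientGroup.mk' N).comp (N ⊔ K).subtype).codRestrict _ hmem, fun y => rfl⟩
  have hker : φ.ker = N.subgroupOf (N ⊔ K) := by
    ext y
    rw [MonoidHom.mem_ker, Subgroup.mem_subgroupOf]
    constructor
    · intro h
      have h1 := congrArg Subtype.val h
      rw [hφ] at h1
      exact (QuotientGroup.eq_one_iff (y : G)).mp h1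
    · intro h
      apply Subtype.ext
      rw [hφ]
      exact (QuotientGroup.eq_one_iff (y : G)).mpr h
  have := Fintype.ofFinite (N.subgroupOf (N ⊔ K))
  have hodd₁ : Odd (N.subgroupOf (N ⊔ K)).index := by
    have e1 : (N.subgroupOf (N ⊔ K)).index = N.relIndex (N ⊔ K) := rfl
    rw [e1]
    exact Odd.of_dvd_nat hodd (Subgroup.relIndex_dvd_index_of_normal N (N ⊔ K))
  have hcop₁ : k.Coprime (Nat.card ↥(N ⊔ K)) :=
    Nat.Coprime.coprime_dvd_right (Subgroup.card_subgroup_dvd_card (N ⊔ K)) hcop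
  have hke₁ : ∀ g : ↥(N ⊔ K), g ^ (k ^ (2 ^ e)) = g := fun g =>
    Subtype.ext (by rw [Subgroup.coe_pow]; exact hke (g : G))
  have hk₂₁ : ∀ g : ↥(N ⊔ K), Odd (orderOf g) → g ^ k = g⁻¹ := fun g hg =>
    Subtype.ext (by
      rw [Subgroup.coe_pow, Subgroup.coe_inv]
      exact hk₂ (g : G) (by rw [Subgroup.orderOf_coe]; exact hg))
  obtain ⟨ε, hεdef⟩ : ∃ ε : N.subgroupOf (N ⊔ K) ≃* N, ε = Subgroup.subgroupOfEquivOfLe hNH :=
    ⟨_, rfl⟩
  have hεval : ∀ r : N.subgroupOf (N ⊔ K), ((ε r : N) : G) = ((r : ↥(N ⊔ K)) : G) := by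
    intro r
    rw [hεdef]
    rfl
  obtain ⟨θ₁, hθ₁def⟩ : ∃ θ₁ : IrrCharacter (N.subgroupOf (N ⊔ K)), θ₁ = isoIrr ε.symm θ :=
    ⟨_, rfl⟩
  have hθ₁val : ∀ r : N.subgroupOf (N ⊔ K),
      (θ₁ : N.subgroupOf (N ⊔ K) → ℂ) r = (θ : N → ℂ) (ε r) := by
    intro r
    rw [hθ₁def, isoIrr_apply]
    rfl
  have hθ₁σ : ∀ r : N.subgroupOf (N ⊔ K),
      (θ₁ : N.subgroupOf (N ⊔ K) → ℂ) (r ^ k) = (θ₁ : N.subgroupOf (N ⊔ K) → ℂ) r := by
    intro r
    rw [hθ₁val, hθ₁val, map_pow, hθσ]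
  have hR₁n : (N.subgroupOf (N ⊔ K)).Normal := inferInstance
  have hθ₁inv : ∀ (g : ↥(N ⊔ K)) (r : N.subgroupOf (N ⊔ K)),
      (θ₁ : N.subgroupOf (N ⊔ K) → ℂ) ⟨g * r * g⁻¹, hR₁n.conj_mem (r : ↥(N ⊔ K)) r.2 g⟩
        = (θ₁ : N.subgroupOf (N ⊔ K) → ℂ) r := by
    intro g r
    rw [hθ₁val, hθ₁val]
    have e1 : ε ⟨g * r * g⁻¹, hR₁n.conj_mem (r : ↥(N ⊔ K)) r.2 g⟩
        = ⟨(g : G) * ((ε r : N) : G) * (g : G)⁻¹, hN.conj_mem _ (ε r).2 (g : G)⟩ := by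
      apply Subtype.ext
      rw [hεval]
      show (g : G) * ((r : ↥(N ⊔ K)) : G) * (g : G)⁻¹ = (g : G) * ((ε r : N) : G) * (g : G)⁻¹
      rw [hεval]
    rw [e1]
    exact hθinv (g : G) (ε r)
  obtain ⟨ψ, hψσ, hψθ⟩ := sig_ext_solvable k e (Nat.card ↥(N ⊔ K)) ↥(N ⊔ K) le_rfl
    (N.subgroupOf (N ⊔ K)) hodd₁ ↥(K.map (QuotientGroup.mk' N)) φ hker hcop₁ hke₁ hk₂₁
    θ₁ hθ₁σ hθ₁inv
  refine ⟨ψ, hψσ, fun n hn => ?_⟩
  have h2 := hψθ ⟨⟨(n : G), hn⟩, Subgroup.mem_subgroupOf.mpr n.2⟩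
  rw [hθ₁val] at h2
  have h3 : ε ⟨⟨(n : G), hn⟩, Subgroup.mem_subgroupOf.mpr n.2⟩ = n := by
    apply Subtype.ext
    rw [hεval]
  rw [h3] at h2
  exact h2

set_option maxHeartbeats 4000000 in
/-- an invariant `σ`-fixed irreducible character of a normal subgroup of odd index has a
`σ`-fixed extension -/
theorem sig_ext_general (N : Subgroup G) [hN : N.Normal] (hodd : Odd N.index)
    (k e : ℕ) (hcop : k.Coprime (Nat.card G)) (hke : ∀ g : G, g ^ (k ^ (2 ^ e)) = g)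
    (hk₂ : ∀ g : G, Odd (orderOf g) → g ^ k = g⁻¹)
    (θ : IrrCharacter N) (hθσ : ∀ n : N, (θ : N → ℂ) (n ^ k) = (θ : N → ℂ) n)
    (hinv : ∀ (g : G) (n : N),
      (θ : N → ℂ) ⟨g * n * g⁻¹, hN.conj_mem (n : G) n.2 g⟩ = (θ : N → ℂ) n) :
    ∃ χ : IrrCharacter G, (∀ g : G, (χ : G → ℂ) (g ^ k) = (χ : G → ℂ) g) ∧
      ∀ n : N, (χ : G → ℂ) n = (θ : N → ℂ) n := by
  classical
  have := Fintype.ofFinite N
  have hzsol : ∀ x : G, Group.IsSolvable (Subgroup.zpowers x) := by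
    intro x
    apply Group.isSolvable_of_comm
    intro a b
    apply Subtype.ext
    obtain ⟨i, hi⟩ := Subgroup.mem_zpowers_iff.mp a.2
    obtain ⟨j, hj⟩ := Subgroup.mem_zpowers_iff.mp b.2
    simp only [Subgroup.coe_mul]
    rw [← hi, ← hj, ← zpow_add, ← zpow_add, add_comm]
  have hex : ∀ x : G, ∃ ψ : IrrCharacter ↥(N ⊔ Subgroup.zpowers x),
      SigExt k N θ (N ⊔ Subgroup.zpowers x) ψ := by
    intro x
    have := hzsol x
    exact sig_ext_exists_of_solvable N hodd k e hcop hke hk₂ θ hθσ hinv (Subgroup.zpowers x)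
  choose Ψ hΨ using hex
  have hxmem : ∀ x : G, x ∈ N ⊔ Subgroup.zpowers x :=
    fun x => Subgroup.mem_sup_right (Subgroup.mem_zpowers x)
  obtain ⟨Θ, hΘdef⟩ : ∃ Θ : G → ℂ,
      ∀ x, Θ x = (Ψ x : ↥(N ⊔ Subgroup.zpowers x) → ℂ) ⟨x, hxmem x⟩ :=
    ⟨fun x => (Ψ x : ↥(N ⊔ Subgroup.zpowers x) → ℂ) ⟨x, hxmem x⟩, fun x => rfl⟩
  -- the key property: every `σ`-fixed extension agrees with `Θ`
  have KP : ∀ (H : Subgroup G) (_ : N ≤ H) (ψ : IrrCharacter H), SigExt k N θ H ψ →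
      ∀ (x : G) (hx : x ∈ H), (ψ : H → ℂ) ⟨x, hx⟩ = Θ x := by
    intro H hNH ψ hψ x hx
    have h12 : N ⊔ Subgroup.zpowers x ≤ H := sup_le hNH (Subgroup.zpowers_le.mpr hx)
    rw [hΘdef]
    exact sig_ext_agree N hodd k hcop hk₂ θ _ H le_sup_left h12 (Ψ x) ψ (hΨ x) hψ x (hxmem x)
  have hΘN : ∀ n : N, Θ n = (θ : N → ℂ) n := by
    intro n
    rw [hΘdef]
    exact (hΨ (n : G)).2 n (hxmem (n : G))
  -- `Θ` is a class function
  have hΘcf : IsClassFunction G Θ := by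
    intro x y
    have hf : Function.Injective (MulAut.conj y).toMonoidHom := (MulAut.conj y).injective
    have hNH' : N ≤ (N ⊔ Subgroup.zpowers x).map (MulAut.conj y).toMonoidHom := by
      intro n hn
      refine Subgroup.mem_map.mpr ⟨y⁻¹ * n * y⁻¹⁻¹,
        Subgroup.mem_sup_left (hN.conj_mem n hn y⁻¹), ?_⟩
      show y * (y⁻¹ * n * y⁻¹⁻¹) * y⁻¹ = n
      group
    have hψ' : SigExt k N θ ((N ⊔ Subgroup.zpowers x).map (MulAut.conj y).toMonoidHom)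
        (isoIrr (Subgroup.equivMapOfInjective (N ⊔ Subgroup.zpowers x)
          (MulAut.conj y).toMonoidHom hf) (Ψ x)) := by
      refine ⟨fun h => ?_, fun n hn => ?_⟩
      · rw [isoIrr_apply, isoIrr_apply, map_pow]
        exact (hΨ x).1 _
      · rw [isoIrr_apply]
        have hm : y⁻¹ * (n : G) * y⁻¹⁻¹ ∈ N ⊔ Subgroup.zpowers x :=
          Subgroup.mem_sup_left (hN.conj_mem (n : G) n.2 y⁻¹)
        have hsymm : (Subgroup.equivMapOfInjective (N ⊔ Subgroup.zpowers x)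
            (MulAut.conj y).toMonoidHom hf).symm ⟨(n : G), hn⟩
            = ⟨y⁻¹ * (n : G) * y⁻¹⁻¹, hm⟩ := by
          rw [MulEquiv.symm_apply_eq]
          apply Subtype.ext
          rw [Subgroup.coe_equivMapOfInjective_apply]
          show (n : G) = y * (y⁻¹ * (n : G) * y⁻¹⁻¹) * y⁻¹
          group
        rw [hsymm]
        have h1 := (hΨ x).2 ⟨y⁻¹ * (n : G) * y⁻¹⁻¹, hN.conj_mem (n : G) n.2 y⁻¹⟩ hm
        rw [h1]
        exact hinv y⁻¹ n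
    have hz : y * x * y⁻¹ ∈ (N ⊔ Subgroup.zpowers x).map (MulAut.conj y).toMonoidHom :=
      Subgroup.mem_map.mpr ⟨x, hxmem x, rfl⟩
    have h2 := KP _ hNH' _ hψ' (y * x * y⁻¹) hz
    rw [← h2, isoIrr_apply]
    have hsymm : (Subgroup.equivMapOfInjective (N ⊔ Subgroup.zpowers x)
        (MulAut.conj y).toMonoidHom hf).symm ⟨y * x * y⁻¹, hz⟩ = ⟨x, hxmem x⟩ := by
      rw [MulEquiv.symm_apply_eq]
      apply Subtype.ext
      rw [Subgroup.coe_equivMapOfInjective_apply]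
      rfl
    rw [hsymm, hΘdef]
  -- `Θ` is a generalized character
  have hΘgen : IsGeneralizedCharacter G Θ := by
    apply Cfsg.Agent.S0164.result Θ hΘcf
    intro E q hq hE
    have hEs : Group.IsSolvable E := isSolvable_of_isElementary hq hE
    obtain ⟨ψ, hψ⟩ := sig_ext_exists_of_solvable N hodd k e hcop hke hk₂ θ hθσ hinv E
    have h1 : (fun e : E => Θ e)
        = (ψ : ↥(N ⊔ E) → ℂ) ∘ Subgroup.inclusion (le_sup_right : E ≤ N ⊔ E) := by
      funext e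
      exact (KP (N ⊔ E) le_sup_left ψ hψ (e : G) (Subgroup.mem_sup_right e.2)).symm
    rw [h1]
    exact ⟨(ψ : ↥(N ⊔ E) → ℂ) ∘ Subgroup.inclusion (le_sup_right : E ≤ N ⊔ E), 0,
      isCharacter_comp_hom (isCharacter_of_isIrrCharacter ψ.2) _, IsCharacter.zero,
      (sub_zero _).symm⟩
  -- `Θ` has norm one
  have hnorm : classInner Θ Θ = 1 := by
    have hloc : ∀ g : G, ∑ x ∈ Finset.univ.filter (fun x => x ∈ N ⊔ Subgroup.zpowers g),
        (Θ x * conj (Θ x) - 1) = 0 := by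
      intro g
      have := Fintype.ofFinite ↥(N ⊔ Subgroup.zpowers g)
      have e1 : ∑ x ∈ Finset.univ.filter (fun x => x ∈ N ⊔ Subgroup.zpowers g),
          (Θ x * conj (Θ x) - 1)
          = ∑ a : ↥(N ⊔ Subgroup.zpowers g), (Θ (a : G) * conj (Θ (a : G)) - 1) :=
        Finset.sum_subtype _ (fun x => by simp) _
      rw [e1]
      have h1 := classInner_irr_self (Ψ g).2
      rw [classInner_def] at h1
      have h2 : ∀ a : ↥(N ⊔ Subgroup.zpowers g),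
          Θ (a : G) = (Ψ g : ↥(N ⊔ Subgroup.zpowers g) → ℂ) a :=
        fun a => (KP _ le_sup_left (Ψ g) (hΨ g) (a : G) a.2).symm
      simp only [h2]
      rw [Finset.sum_sub_distrib]
      have hc := card_ne_zero_complex ↥(N ⊔ Subgroup.zpowers g)
      have h3 : ∑ a : ↥(N ⊔ Subgroup.zpowers g), (Ψ g : ↥(N ⊔ Subgroup.zpowers g) → ℂ) a
          * conj ((Ψ g : ↥(N ⊔ Subgroup.zpowers g) → ℂ) a)
          = (Nat.card ↥(N ⊔ Subgroup.zpowers g) : ℂ) := by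
        rw [inv_mul_eq_iff_eq_mul₀ hc] at h1
        rw [h1, mul_one]
      rw [h3]
      simp [Nat.card_eq_fintype_card]
    have hsum := sum_eq_zero_of_local
      (fun g => Finset.univ.filter (fun x => x ∈ N ⊔ Subgroup.zpowers g))
      (fun x => Θ x * conj (Θ x) - 1) (fun x => by simp [hxmem x])
      (fun x y hy => by
        intro z hz
        simp only [Finset.mem_filter, Finset.mem_univ, true_and] at hy hz ⊢
        exact (sup_le le_sup_left (Subgroup.zpowers_le.mpr hy)) hz) hloc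
    rw [Finset.sum_sub_distrib] at hsum
    simp only [Finset.sum_const, Finset.card_univ, nsmul_eq_mul, mul_one] at hsum
    rw [classInner_def, sub_eq_zero.mp hsum, Nat.card_eq_fintype_card]
    have hc : (Fintype.card G : ℂ) ≠ 0 := by
      exact_mod_cast Fintype.card_ne_zero
    exact inv_mul_cancel₀ hc
  -- `Θ` is irreducible
  obtain ⟨d, hd0, hd⟩ := irr_apply_one θ.2
  have hΘ1 : Θ 1 = d := by
    have h1 := hΘN 1
    rw [← hd, ← h1]
    rfl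
  have hΘirr : IsIrrCharacter G Θ := genChar_irr_of_norm_one hΘgen hnorm ⟨d, hd0, hΘ1⟩
  refine ⟨⟨Θ, hΘirr⟩, fun g => ?_, hΘN⟩
  show Θ (g ^ k) = Θ g
  have hgk : g ^ k ∈ N ⊔ Subgroup.zpowers g :=
    Subgroup.mem_sup_right (Subgroup.pow_mem _ (Subgroup.mem_zpowers g) k)
  have h1 := KP _ le_sup_left (Ψ g) (hΨ g) (g ^ k) hgk
  rw [← h1, hΘdef g]
  exact (hΨ g).1 ⟨g, hxmem g⟩

end sig3

end Cfsg.Agent.Lib.Helper25
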